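import Mathlib
import Groth.Agent.Lib.Helper8.Gor7
import Groth.Agent.Lib.Helper8.LCArt2
import Groth.Agent.Lib.Helper20.GorFlat3

/-!
# Gorenstein local rings of dimension zero via the socle; socle length along flat local maps
(helper12)
-/

set_option autoImplicit false
set_option linter.unusedSectionVars false
set_option linter.style.haveILetI false
universe u

namespace Groth.Agent.Helper12.GorFlatLoc

open TensorProduct IsLocalRing Groth.Agent.Helper8.LC Groth.Agent.Helper8.Gor
  Groth.Agent.Helper8.Uniq

section Soc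

variable (R : Type u) [CommRing R] [IsLocalRing R]

/-- the socle of a module over a local ring -/
abbrev soc (M : Type u) [AddCommGroup M] [Module R M] : Submodule R M :=
  Submodule.torsionBySet R M (maximalIdeal R : Set R)

variable [IsNoetherianRing R]

/-- a Noetherian local ring of dimension zero is Gorenstein iff its socle has length one. -/
theorem gorenstein_iff_of_dim_zero (hdim : ringKrullDim R = 0) :
    LocCoh.IsGorensteinLocalRing R ↔ Module.length R (soc R R) = 1 := by
  rw [Module.length_eq_one_iff, gorenstein_iff_socle]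
  have hsd : Module.supportDim R R ≤ ((0 : ℕ) : WithBot ℕ∞) := by
    rw [Module.supportDim_self_eq_ringKrullDim, hdim]; rfl
  have hgam : gam (maximalIdeal R) R = ⊤ := gam_eq_top_of_supportDim_le_zero R hsd
  let e0 : H (maximalIdeal R) 0 R ≃ₗ[R] R :=
    (H0Equiv (maximalIdeal R) R) ≪≫ₗ LinearEquiv.ofEq _ _ hgam ≪≫ₗ Submodule.topEquiv
  have e1 := torsionBySetCongr e0 (maximalIdeal R : Set R)
  constructor
  · rintro ⟨d, hvan, hs⟩
    have hd : ringKrullDim R = d := ringKrullDim_eq_of_vanishing R d hvan
    have hd0 : d = 0 := by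
      rw [hdim] at hd
      exact_mod_cast hd.symm
    subst hd0
    exact (e1.isSimpleModule_iff).mp hs
  · intro hs
    refine ⟨0, fun i hi => H_subsingleton_of_supportDim_lt _ R i ?_, (e1.isSimpleModule_iff).mpr hs⟩
    refine lt_of_le_of_lt hsd ?_
    exact_mod_cast Nat.pos_of_ne_zero hi

end Soc

section Lin

variable (A : Type u) [CommRing A] [IsLocalRing A]

/-- a finite module killed by the maximal ideal is a finite power of the residue field. -/
theorem exists_equiv_pi_of_torsion (V : Type u) [AddCommGroup V] [Module A V] [Module.Finite A V]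
    (hV : Module.IsTorsionBySet A V (maximalIdeal A : Set A)) :
    ∃ t : ℕ, Nonempty (V ≃ₗ[A] (Fin t → A ⧸ maximalIdeal A)) := by
  letI : Field (A ⧸ maximalIdeal A) := Ideal.Quotient.field _
  letI : Module (A ⧸ maximalIdeal A) V := hV.module
  haveI : IsScalarTower A (A ⧸ maximalIdeal A) V := hV.isScalarTower
  haveI : Module.Finite (A ⧸ maximalIdeal A) V := Module.Finite.of_restrictScalars_finite A _ V
  let b := Module.finBasis (A ⧸ maximalIdeal A) V
  exact ⟨_, ⟨(b.equivFun).restrictScalars A⟩⟩

theorem length_residue : Module.length A (A ⧸ maximalIdeal A) = 1 := by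
  rw [Module.length_eq_one_iff]
  exact isSimpleModule_iff_quot_maximal.mpr ⟨maximalIdeal A, inferInstance, ⟨LinearEquiv.refl _ _⟩⟩

/-- torsion of a finite power -/
noncomputable def torsionPiEquiv (S : Type u) [CommRing S] (N : Type u) [AddCommGroup N]
    [Module S N] (t : ℕ) (s : Set S) :
    Submodule.torsionBySet S (Fin t → N) s ≃ₗ[S] (Fin t → Submodule.torsionBySet S N s) where
  toFun x i := ⟨x.1 i, by
    rw [Submodule.mem_torsionBySet_iff]
    intro a
    exact congrFun ((Submodule.mem_torsionBySet_iff _ _).mp x.2 a) i⟩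
  map_add' _ _ := rfl
  map_smul' _ _ := rfl
  invFun y := ⟨fun i => (y i).1, by
    rw [Submodule.mem_torsionBySet_iff]
    intro a
    funext i
    exact (Submodule.mem_torsionBySet_iff _ _).mp (y i).2 a⟩
  left_inv _ := rfl
  right_inv _ := rfl

end Lin

section Formula

variable (A : Type u) [CommRing A] [IsLocalRing A] [IsNoetherianRing A]
  (B : Type u) [CommRing B] [IsLocalRing B] [IsNoetherianRing B]
  [Algebra A B] [IsLocalHom (algebraMap A B)] [Module.Flat A B]

theorem map_le_maximalIdeal :
    (maximalIdeal A).map (algebraMap A B) ≤ maximalIdeal B := by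
  rw [Ideal.map_le_iff_le_comap]
  intro a ha
  exact Groth.Agent.Lead.Depth.algebraMap_mem_maximalIdeal ha

/-- the `B`-socle of the closed fibre is its socle as a ring. -/
theorem length_soc_fibre [IsLocalRing (B ⧸ (maximalIdeal A).map (algebraMap A B))] :
    Module.length B (soc B (B ⧸ (maximalIdeal A).map (algebraMap A B))) =
      Module.length (B ⧸ (maximalIdeal A).map (algebraMap A B))
        (soc (B ⧸ (maximalIdeal A).map (algebraMap A B))
          (B ⧸ (maximalIdeal A).map (algebraMap A B))) := by
  set J := (maximalIdeal A).map (algebraMap A B) with hJ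
  have hsurj : Function.Surjective (algebraMap B (B ⧸ J)) := Ideal.Quotient.mk_surjective
  rw [← Module.length_eq_of_surjective (S := B) (R := B ⧸ J) (M := soc (B ⧸ J) (B ⧸ J)) hsurj]
  refine LinearEquiv.length_eq ?_
  refine
    { toFun := fun x => ⟨x.1, ?_⟩
      map_add' := fun _ _ => rfl
      map_smul' := fun _ _ => rfl
      invFun := fun y => ⟨y.1, ?_⟩
      left_inv := fun _ => rfl
      right_inv := fun _ => rfl }
  · rw [Submodule.mem_torsionBySet_iff]
    rintro ⟨a, ha⟩
    obtain ⟨b, rfl⟩ := Ideal.Quotient.mk_surjective a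
    have hb : b ∈ maximalIdeal B := by
      by_contra hb
      have hu : IsUnit b := IsLocalRing.notMem_maximalIdeal.mp hb
      exact (IsLocalRing.mem_maximalIdeal _).mp ha (hu.map (Ideal.Quotient.mk J))
    have := (Submodule.mem_torsionBySet_iff _ _).mp x.2 ⟨b, hb⟩
    exact this
  · rw [Submodule.mem_torsionBySet_iff]
    rintro ⟨b, hb⟩
    have hmem : Ideal.Quotient.mk J b ∈ maximalIdeal (B ⧸ J) := by
      rw [IsLocalRing.mem_maximalIdeal, mem_nonunits_iff]
      intro hu
      haveI : IsLocalHom (Ideal.Quotient.mk J) :=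
        IsLocalHom.of_surjective _ Ideal.Quotient.mk_surjective
      exact (IsLocalRing.mem_maximalIdeal _).mp hb (isUnit_of_map_unit (Ideal.Quotient.mk J) b hu)
    have := (Submodule.mem_torsionBySet_iff _ _).mp y.2 ⟨_, hmem⟩
    exact this

open Groth.Agent.Helper20.GorFlat in
/-- **socle length formula** for a flat local homomorphism. -/
theorem length_soc_eq [IsLocalRing (B ⧸ (maximalIdeal A).map (algebraMap A B))] :
    Module.length B (soc B B) = Module.length A (soc A A) *
      Module.length (B ⧸ (maximalIdeal A).map (algebraMap A B))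
        (soc (B ⧸ (maximalIdeal A).map (algebraMap A B))
          (B ⧸ (maximalIdeal A).map (algebraMap A B))) := by
  classical
  set J := (maximalIdeal A).map (algebraMap A B) with hJ
  rw [← length_soc_fibre A B]
  obtain ⟨t, ⟨eV⟩⟩ := exists_equiv_pi_of_torsion A (soc A A)
    (Submodule.torsionBySet_isTorsionBySet _)
  have hlenA : Module.length A (soc A A) = t := by
    rw [eV.length_eq, Module.length_pi, length_residue]
    simp
  obtain ⟨e2⟩ := nonempty_torsion_baseChange (B := B) (maximalIdeal A) A
  let e3 : B ⊗[A] A ≃ₗ[B] B := TensorProduct.AlgebraTensorModule.rid A B B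
  let eF : (B ⧸ J • (⊤ : Submodule B B)) ≃ₗ[B] (B ⧸ J) :=
    Submodule.quotEquivOfEq _ _ (by rw [smul_eq_mul, Ideal.mul_top])
  let e : Submodule.torsionBySet B B (J : Set B) ≃ₗ[B] (Fin t → B ⧸ J) :=
    torsionBySetCongr e3.symm (J : Set B) ≪≫ₗ e2.symm ≪≫ₗ
      Groth.Agent.Helper8.LC.equivBaseChange B eV ≪≫ₗ
      TensorProduct.piRight A B B (fun _ : Fin t => A ⧸ maximalIdeal A) ≪≫ₗ
      LinearEquiv.piCongrRight (fun _ : Fin t =>
        (Groth.Agent.Lead.FlatDepth.fibreEquiv (S := B) (maximalIdeal A) B).symm ≪≫ₗ eF)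
  have hsub : ((J : Ideal B) : Set B) ⊆ (maximalIdeal B : Set B) := map_le_maximalIdeal A B
  let e' : soc B B ≃ₗ[B] (Fin t → soc B (B ⧸ J)) :=
    torsionTorsionEquiv B (J : Set B) (maximalIdeal B : Set B) hsub ≪≫ₗ
      torsionBySetCongr e (maximalIdeal B : Set B) ≪≫ₗ
      torsionPiEquiv B (B ⧸ J) t (maximalIdeal B : Set B)
  rw [e'.length_eq, Module.length_pi, hlenA]
  simp only [ENat.card_eq_coe_fintype_card, Fintype.card_fin]
  rfl

theorem isLocalRing_quot (I : Ideal B) (hI : I ≤ maximalIdeal B) : IsLocalRing (B ⧸ I) := by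
  haveI : Nontrivial (B ⧸ I) := Ideal.Quotient.nontrivial_iff.mpr (fun h =>
    (maximalIdeal.isMaximal B).ne_top (top_le_iff.mp (h ▸ hI)))
  exact IsLocalRing.of_surjective' (Ideal.Quotient.mk _) Ideal.Quotient.mk_surjective

theorem isLocalHom_quot (I : Ideal B) [IsLocalRing (B ⧸ I)] :
    IsLocalHom (algebraMap A (B ⧸ I)) := by
  haveI : IsLocalHom (Ideal.Quotient.mk I) :=
    IsLocalHom.of_surjective _ Ideal.Quotient.mk_surjective
  have : algebraMap A (B ⧸ I) = (Ideal.Quotient.mk I).comp (algebraMap A B) := rfl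
  rw [this]
  infer_instance

/-- the dimension zero case. -/
theorem gorenstein_iff_of_dim_zero_flat (hA : ringKrullDim A = 0) (hB : ringKrullDim B = 0)
    (hF : ringKrullDim (B ⧸ (maximalIdeal A).map (algebraMap A B)) = 0) :
    LocCoh.IsGorensteinLocalRing B ↔ LocCoh.IsGorensteinLocalRing A ∧
      LocCoh.IsGorensteinLocalRing (B ⧸ (maximalIdeal A).map (algebraMap A B)) := by
  haveI := isLocalRing_quot B _ (map_le_maximalIdeal A B)
  rw [gorenstein_iff_of_dim_zero B hB, gorenstein_iff_of_dim_zero A hA,
    gorenstein_iff_of_dim_zero _ hF, length_soc_eq A B, mul_eq_one]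

end Formula

end Groth.Agent.Helper12.GorFlatLoc
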