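import Mathlib
import Groth.Agent.Lib.Helper12.GorArt
import Groth.Agent.Lib.Lead.Fib1
import Groth.Agent.Lib.Lead.Bass3
import Groth.Agent.Lib.Helper14.RegHomTFAE
import Groth.Agent.S0343

/-!
# Gorenstein property along flat local homomorphisms (helper12)

`B` Gorenstein iff `A` and `B / m_A B` Gorenstein, for `A → B` flat local.
-/

set_option autoImplicit false
set_option linter.unusedSectionVars false
set_option linter.style.haveILetI false
universe u

namespace Groth.Agent.Helper12.GorFlatLoc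

open TensorProduct IsLocalRing Groth.Agent.Lead.Depth

section Base

variable (A : Type u) [CommRing A] [IsLocalRing A] [IsNoetherianRing A]
  (B : Type u) [CommRing B] [IsLocalRing B] [IsNoetherianRing B]
  [Algebra A B] [IsLocalHom (algebraMap A B)] [Module.Flat A B]

theorem dim_zero_of_cm_depth_zero (R : Type u) [CommRing R]
    [hCM : LocCoh.IsCohenMacaulayLocalRing R] (h0 : LocCoh.depth R R = 0) :
    ringKrullDim R = 0 := by
  have := hCM.supportDim_eq_depth
  rw [Module.supportDim_self_eq_ringKrullDim, h0] at this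
  exact this

/-- the depth zero case. -/
theorem main_depth_zero (h0 : LocCoh.depth B B = 0) :
    LocCoh.IsGorensteinLocalRing B ↔ LocCoh.IsGorensteinLocalRing A ∧
      LocCoh.IsGorensteinLocalRing (B ⧸ (maximalIdeal A).map (algebraMap A B)) := by
  set J := (maximalIdeal A).map (algebraMap A B) with hJ
  haveI hlocF := isLocalRing_quot B J (map_le_maximalIdeal A B)
  have hdepth := Groth.Agent.Lead.Fib.depth_eq_add_fibre (R := A) (S := B) J rfl
  have hdim := Groth.Agent.Helper14.RegHomTFAE.dim_eq_of_flat (A := A) (B := B)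
  have hAnn : 0 ≤ ringKrullDim A := ringKrullDim_nonneg_of_nontrivial
  have hFnn : 0 ≤ ringKrullDim (B ⧸ J) := ringKrullDim_nonneg_of_nontrivial
  constructor
  · intro hG
    haveI := hG
    haveI hCM := isCohenMacaulayLocalRing_of_isGorensteinLocalRing B
    have hB : ringKrullDim B = 0 := dim_zero_of_cm_depth_zero B h0
    rw [hB] at hdim
    obtain ⟨hA, hF⟩ := (add_eq_zero_iff_of_nonneg hAnn hFnn).mp hdim.symm
    exact (gorenstein_iff_of_dim_zero_flat A B hA hB hF).mp hG
  · rintro ⟨hGA, hGF⟩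
    haveI := hGA
    haveI := hGF
    haveI hCMA := isCohenMacaulayLocalRing_of_isGorensteinLocalRing A
    haveI hCMF := isCohenMacaulayLocalRing_of_isGorensteinLocalRing (B ⧸ J)
    rw [h0] at hdepth
    obtain ⟨hdA, hdF⟩ := add_eq_zero.mp hdepth.symm
    have hA : ringKrullDim A = 0 := dim_zero_of_cm_depth_zero A hdA
    have hF : ringKrullDim (B ⧸ J) = 0 := dim_zero_of_cm_depth_zero (B ⧸ J) hdF
    have hB : ringKrullDim B = 0 := by rw [hdim, hA, hF, add_zero]
    exact (gorenstein_iff_of_dim_zero_flat A B hA hB hF).mpr ⟨hGA, hGF⟩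

end Base

section Steps

variable (A : Type u) [CommRing A] [IsLocalRing A] [IsNoetherianRing A]
  (B : Type u) [CommRing B] [IsLocalRing B] [IsNoetherianRing B]
  [Algebra A B] [IsLocalHom (algebraMap A B)] [Module.Flat A B]

open Groth.Agent.Helper20.GorFlat

theorem gor_iff_of_ringEquiv {R S : Type u} [CommRing R] [CommRing S] (e : R ≃+* S) :
    LocCoh.IsGorensteinLocalRing R ↔ LocCoh.IsGorensteinLocalRing S :=
  ⟨fun h => isGorensteinLocalRing_of_ringEquiv e (hA := h),
    fun h => isGorensteinLocalRing_of_ringEquiv e.symm (hA := h)⟩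

/-- depth of the quotient ring by a regular element. -/
theorem depth_quot_add_one (R : Type u) [CommRing R] [IsLocalRing R] [IsNoetherianRing R] (y : R)
    (hy : y ∈ maximalIdeal R) (hreg : IsSMulRegular R y) [IsLocalRing (R ⧸ Ideal.span {y})] :
    LocCoh.depth (R ⧸ Ideal.span {y}) (R ⧸ Ideal.span {y}) + 1 = LocCoh.depth R R := by
  rw [← depth_eq_of_surjective (R₁ := R) (R₂ := R ⧸ Ideal.span {y}) Ideal.Quotient.mk_surjective
    (R ⧸ Ideal.span {y})]
  exact idealDepth_quotient_span_singleton_self_add_one (maximalIdeal R)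
    (IsLocalRing.maximalIdeal.isMaximal R).ne_top y hy hreg

theorem fibre_step (y : B) (hy : y ∈ maximalIdeal B)
    (hreg : IsSMulRegular (B ⧸ (maximalIdeal A).map (algebraMap A B))
      (Ideal.Quotient.mk ((maximalIdeal A).map (algebraMap A B)) y))
    (IH : ∀ (B' : Type u) [CommRing B'] [IsLocalRing B'] [IsNoetherianRing B'] [Algebra A B']
      [IsLocalHom (algebraMap A B')] [Module.Flat A B'],
      LocCoh.depth B' B' + 1 = LocCoh.depth B B →
      (LocCoh.IsGorensteinLocalRing B' ↔ LocCoh.IsGorensteinLocalRing A ∧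
        LocCoh.IsGorensteinLocalRing (B' ⧸ (maximalIdeal A).map (algebraMap A B')))) :
    LocCoh.IsGorensteinLocalRing B ↔ LocCoh.IsGorensteinLocalRing A ∧
      LocCoh.IsGorensteinLocalRing (B ⧸ (maximalIdeal A).map (algebraMap A B)) := by
  set J := (maximalIdeal A).map (algebraMap A B) with hJ
  haveI hlocF : IsLocalRing (B ⧸ J) := isLocalRing_quot B J (map_le_maximalIdeal A B)
  have hy' : IsSMulRegular (B ⊗[A] (A ⧸ maximalIdeal A)) y := by
    let eF : (B ⧸ J) ≃ₗ[B] B ⊗[A] (A ⧸ maximalIdeal A) :=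
      (Submodule.quotEquivOfEq (J • (⊤ : Submodule B B)) J
        (by rw [smul_eq_mul, Ideal.mul_top])).symm ≪≫ₗ
        Groth.Agent.Lead.FlatDepth.fibreEquiv (S := B) (maximalIdeal A) B
    have h1 : IsSMulRegular (B ⧸ J) y := by
      intro a b hab
      apply hreg
      exact hab
    exact (eF.isSMulRegular_congr y).mp h1
  obtain ⟨hregB, hflat⟩ :=
    Groth.Agent.Lead.FlatDepth.isSMulRegular_and_flat_of_fibre (R := A) (S := B) B y hy'
  have hyle : Ideal.span {y} ≤ maximalIdeal B := (Ideal.span_singleton_le_iff_mem _).mpr hy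
  haveI : IsLocalRing (B ⧸ Ideal.span {y}) := isLocalRing_quot B _ hyle
  haveI : IsLocalHom (algebraMap A (B ⧸ Ideal.span {y})) := isLocalHom_quot A B _
  haveI : Module.Flat A (B ⧸ Ideal.span {y}) :=
    Module.Flat.of_linearEquiv ((quotSpanSelfEquiv y).restrictScalars A)
  have hd := depth_quot_add_one B y hy hregB
  have ih := IH (B ⧸ Ideal.span {y}) hd
  have h1 := Groth.Agent.S0343.result B y hy hregB
  have hybar : Ideal.Quotient.mk J y ∈ maximalIdeal (B ⧸ J) := by
    have hmm := IsLocalRing.map_maximalIdeal_of_surjective (Ideal.Quotient.mk J)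
      Ideal.Quotient.mk_surjective
    rw [← hmm]
    exact Ideal.mem_map_of_mem _ hy
  have h2 := Groth.Agent.S0343.result (B ⧸ J) (Ideal.Quotient.mk J y) hybar hreg
  have heq1 : (maximalIdeal A).map (algebraMap A (B ⧸ Ideal.span {y})) =
      J.map (Ideal.Quotient.mk (Ideal.span {y})) := by
    rw [hJ, Ideal.map_map]
    rfl
  have heq2 : (Ideal.span {y}).map (Ideal.Quotient.mk J) =
      Ideal.span {Ideal.Quotient.mk J y} := by
    rw [Ideal.map_span, Set.image_singleton]
  let e : ((B ⧸ Ideal.span {y}) ⧸ (maximalIdeal A).map (algebraMap A (B ⧸ Ideal.span {y}))) ≃+*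
      ((B ⧸ J) ⧸ Ideal.span {Ideal.Quotient.mk J y}) :=
    (Ideal.quotEquivOfEq heq1).trans
      ((DoubleQuot.quotQuotEquivComm (Ideal.span {y}) J).trans (Ideal.quotEquivOfEq heq2))
  rw [h1, ih, gor_iff_of_ringEquiv e, ← h2]

theorem base_step (x : A) (hx : x ∈ maximalIdeal A) (hreg : IsSMulRegular A x)
    (IH : ∀ (A' B' : Type u) [CommRing A'] [IsLocalRing A'] [IsNoetherianRing A'] [CommRing B']
      [IsLocalRing B'] [IsNoetherianRing B'] [Algebra A' B']
      [IsLocalHom (algebraMap A' B')] [Module.Flat A' B'],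
      LocCoh.depth B' B' + 1 = LocCoh.depth B B →
      (LocCoh.IsGorensteinLocalRing B' ↔ LocCoh.IsGorensteinLocalRing A' ∧
        LocCoh.IsGorensteinLocalRing (B' ⧸ (maximalIdeal A').map (algebraMap A' B')))) :
    LocCoh.IsGorensteinLocalRing B ↔ LocCoh.IsGorensteinLocalRing A ∧
      LocCoh.IsGorensteinLocalRing (B ⧸ (maximalIdeal A).map (algebraMap A B)) := by
  set J := (maximalIdeal A).map (algebraMap A B) with hJ
  set I : Ideal A := Ideal.span {x} with hI
  have hIle : I ≤ maximalIdeal A := (Ideal.span_singleton_le_iff_mem _).mpr hx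
  have hIB : I.map (algebraMap A B) ≤ J := Ideal.map_mono hIle
  have hIBm : I.map (algebraMap A B) ≤ maximalIdeal B := hIB.trans (map_le_maximalIdeal A B)
  haveI : IsLocalRing (A ⧸ I) := isLocalRing_quot A I hIle
  haveI : IsLocalRing (B ⧸ I.map (algebraMap A B)) := isLocalRing_quot B _ hIBm
  haveI : IsLocalHom (algebraMap (A ⧸ I) (B ⧸ I.map (algebraMap A B))) := by
    constructor
    intro a' ha'
    obtain ⟨a, rfl⟩ := Ideal.Quotient.mk_surjective a'
    have h1 : algebraMap (A ⧸ I) (B ⧸ I.map (algebraMap A B)) (Ideal.Quotient.mk I a) =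
        Ideal.Quotient.mk (I.map (algebraMap A B)) (algebraMap A B a) := rfl
    rw [h1] at ha'
    haveI : IsLocalHom (Ideal.Quotient.mk (I.map (algebraMap A B))) :=
      IsLocalHom.of_surjective _ Ideal.Quotient.mk_surjective
    have h2 : IsUnit (algebraMap A B a) := isUnit_of_map_unit _ _ ha'
    have h3 : IsUnit a := isUnit_of_map_unit (algebraMap A B) a h2
    exact h3.map _
  haveI : Module.Flat (A ⧸ I) (B ⧸ I.map (algebraMap A B)) :=
    Module.Flat.of_linearEquiv
      (Algebra.TensorProduct.quotIdealMapEquivQuotTensor B I).toLinearEquiv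
  have hφx : algebraMap A B x ∈ maximalIdeal B := algebraMap_mem_maximalIdeal hx
  have hregB : IsSMulRegular B (algebraMap A B x) := hreg.of_flat
  have hmap : I.map (algebraMap A B) = Ideal.span {algebraMap A B x} := by
    rw [hI, Ideal.map_span, Set.image_singleton]
  haveI : IsLocalRing (B ⧸ Ideal.span {algebraMap A B x}) :=
    isLocalRing_quot B _ ((Ideal.span_singleton_le_iff_mem _).mpr hφx)
  let eB : (B ⧸ I.map (algebraMap A B)) ≃+* (B ⧸ Ideal.span {algebraMap A B x}) :=
    Ideal.quotEquivOfEq hmap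
  have hdB : LocCoh.depth (B ⧸ I.map (algebraMap A B)) (B ⧸ I.map (algebraMap A B)) + 1 =
      LocCoh.depth B B := by
    rw [depth_self_eq_of_ringEquiv eB]
    exact depth_quot_add_one B _ hφx hregB
  have ih := IH (A ⧸ I) (B ⧸ I.map (algebraMap A B)) hdB
  have h1 := Groth.Agent.S0343.result A x hx hreg
  have h2 := Groth.Agent.S0343.result B _ hφx hregB
  have heq : (maximalIdeal (A ⧸ I)).map (algebraMap (A ⧸ I) (B ⧸ I.map (algebraMap A B))) =
      J.map (Ideal.Quotient.mk (I.map (algebraMap A B))) := by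
    rw [← IsLocalRing.map_maximalIdeal_of_surjective (Ideal.Quotient.mk I)
      Ideal.Quotient.mk_surjective, hJ, Ideal.map_map, Ideal.map_map]
    rfl
  let eF : ((B ⧸ I.map (algebraMap A B)) ⧸
      (maximalIdeal (A ⧸ I)).map (algebraMap (A ⧸ I) (B ⧸ I.map (algebraMap A B)))) ≃+* (B ⧸ J) :=
    (Ideal.quotEquivOfEq heq).trans (DoubleQuot.quotQuotEquivQuotOfLE hIB)
  rw [h2, ← gor_iff_of_ringEquiv eB, ih, gor_iff_of_ringEquiv eF, ← h1]

end Steps

section Main

open RingTheory.Sequence

theorem enat_cancel_one {d : ℕ∞} {n : ℕ} {D : ℕ∞} (h1 : d + 1 = D) (h2 : D = ((n + 1 : ℕ) : ℕ∞)) :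
    d = n := by
  rw [h2] at h1
  have h3 : d + 1 = (n : ℕ∞) + 1 := by rw [h1]; push_cast; rfl
  exact WithTop.add_right_cancel ENat.one_ne_top h3

theorem main_aux : ∀ (n : ℕ) (A B : Type u) [CommRing A] [IsLocalRing A] [IsNoetherianRing A]
    [CommRing B] [IsLocalRing B] [IsNoetherianRing B] [Algebra A B]
    [IsLocalHom (algebraMap A B)] [Module.Flat A B], LocCoh.depth B B = n →
    (LocCoh.IsGorensteinLocalRing B ↔ LocCoh.IsGorensteinLocalRing A ∧
      LocCoh.IsGorensteinLocalRing (B ⧸ (maximalIdeal A).map (algebraMap A B))) := by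
  intro n
  induction n with
  | zero =>
    intro A B _ _ _ _ _ _ _ _ _ h0
    exact main_depth_zero A B (by simpa using h0)
  | succ n ih =>
    intro A B _ _ _ _ _ _ _ _ _ hn
    set J := (maximalIdeal A).map (algebraMap A B) with hJ
    haveI hlocF : IsLocalRing (B ⧸ J) := isLocalRing_quot B J (map_le_maximalIdeal A B)
    have hdepth := Groth.Agent.Lead.Fib.depth_eq_add_fibre (R := A) (S := B) J rfl
    by_cases hF0 : LocCoh.depth (B ⧸ J) (B ⧸ J) = 0
    · have hA1 : ((1 : ℕ) : ℕ∞) ≤ LocCoh.depth A A := by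
        rw [hn, hF0, add_zero] at hdepth
        rw [← hdepth]
        exact_mod_cast Nat.succ_le_succ (Nat.zero_le n)
      obtain ⟨rs, hlen, hrs, hmem⟩ := exists_of_le_idealDepth (maximalIdeal A) A
        (maximalIdeal_smul_top_ne_top A) 1 hA1
      obtain ⟨x, rfl⟩ := List.length_eq_one_iff.mp hlen
      have hx : x ∈ maximalIdeal A := hmem x (by simp)
      have hxreg : IsSMulRegular A x := ((isWeaklyRegular_cons_iff A x []).mp hrs).1
      apply base_step A B x hx hxreg
      intro A' B' _ _ _ _ _ _ _ _ _ hd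
      exact ih A' B' (enat_cancel_one hd hn)
    · have hF1 : ((1 : ℕ) : ℕ∞) ≤ LocCoh.depth (B ⧸ J) (B ⧸ J) := by
        rw [Nat.cast_one]
        exact Order.one_le_iff_pos.mpr (pos_iff_ne_zero.mpr hF0)
      obtain ⟨rs, hlen, hrs, hmem⟩ := exists_of_le_idealDepth (maximalIdeal (B ⧸ J)) (B ⧸ J)
        (maximalIdeal_smul_top_ne_top (B ⧸ J)) 1 hF1
      obtain ⟨ybar, rfl⟩ := List.length_eq_one_iff.mp hlen
      have hybar : ybar ∈ maximalIdeal (B ⧸ J) := hmem ybar (by simp)
      have hyreg : IsSMulRegular (B ⧸ J) ybar := ((isWeaklyRegular_cons_iff (B ⧸ J) ybar []).mp hrs).1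
      obtain ⟨y, rfl⟩ := Ideal.Quotient.mk_surjective ybar
      have hy : y ∈ maximalIdeal B := by
        by_contra hcon
        have hu : IsUnit y := IsLocalRing.notMem_maximalIdeal.mp hcon
        exact (IsLocalRing.mem_maximalIdeal _).mp hybar (hu.map (Ideal.Quotient.mk J))
      apply fibre_step A B y hy hyreg
      intro B' _ _ _ _ _ _ hd
      exact ih A B' (enat_cancel_one hd hn)

/-- **Gorenstein along flat local homomorphisms.** -/
theorem main (A B : Type u) [CommRing A] [IsLocalRing A] [IsNoetherianRing A]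
    [CommRing B] [IsLocalRing B] [IsNoetherianRing B] [Algebra A B]
    [IsLocalHom (algebraMap A B)] [Module.Flat A B] :
    LocCoh.IsGorensteinLocalRing B ↔ LocCoh.IsGorensteinLocalRing A ∧
      LocCoh.IsGorensteinLocalRing (B ⧸ (maximalIdeal A).map (algebraMap A B)) := by
  obtain ⟨n, hn⟩ := ENat.ne_top_iff_exists.mp (depth_ne_top (R := B) B)
  exact main_aux n A B hn.symm

end Main

end Groth.Agent.Helper12.GorFlatLoc
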