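import Mathlib
import Groth.Agent.Lib.Helper12.GorFlatMain
import Groth.Agent.Lib.Helper16.Sch.FibStalk
import Groth.Prelude.Def_Dual3

/-!
# Gorenstein local rings of schemes along flat morphisms (helper12)
-/

set_option autoImplicit false
set_option linter.style.haveILetI false
universe u

open AlgebraicGeometry CategoryTheory Limits IsLocalRing

namespace Groth.Agent.Helper12.GorSch

open Groth.Agent.Helper16.FibStalk Groth.Agent.Helper12.GorFlatLoc

variable {X Y : Scheme.{u}}

/-- for `f` flat at `x` between Noetherian local rings: `𝒪_{X,x}` is Gorenstein iff `𝒪_{Y,f x}` and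
the local ring of the fibre at `x` are. -/
theorem gor_stalk_iff (f : X ⟶ Y) (x : X) [IsNoetherianRing (Y.presheaf.stalk (f x))]
    [IsNoetherianRing (X.presheaf.stalk x)] (hflat : (f.stalkMap x).hom.Flat) :
    LocCoh.IsGorensteinLocalRing (X.presheaf.stalk x) ↔
      LocCoh.IsGorensteinLocalRing (Y.presheaf.stalk (f x)) ∧
        LocCoh.IsGorensteinLocalRing ((f.fiber (f x)).presheaf.stalk (f.asFiber x)) := by
  letI : Algebra (Y.presheaf.stalk (f x)) (X.presheaf.stalk x) := (f.stalkMap x).hom.toAlgebra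
  haveI : IsLocalHom (algebraMap (Y.presheaf.stalk (f x)) (X.presheaf.stalk x)) :=
    inferInstanceAs (IsLocalHom (f.stalkMap x).hom)
  haveI : Module.Flat (Y.presheaf.stalk (f x)) (X.presheaf.stalk x) := hflat
  have h := main (Y.presheaf.stalk (f x)) (X.presheaf.stalk x)
  rw [h]
  have e := fibStalkEquiv f x
  have h2 : LocCoh.IsGorensteinLocalRing (X.presheaf.stalk x ⧸ fibIdeal f x) ↔
      LocCoh.IsGorensteinLocalRing ((f.fiber (f x)).presheaf.stalk (f.asFiber x)) :=
    gor_iff_of_ringEquiv e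
  rw [← h2]
  rfl

/-- `f` is Gorenstein at `x` iff flat at `x` with `𝒪_{X,x}`... (one direction): if `𝒪_{X,x}` is
Gorenstein and `f` is flat at `x`, then `f` is Gorenstein at `x` and `𝒪_{Y, f x}` is Gorenstein. -/
theorem isGorensteinAt_of_gor_stalk (f : X ⟶ Y) (x : X)
    [IsNoetherianRing (Y.presheaf.stalk (f x))]
    (hflat : (f.stalkMap x).hom.Flat) (hG : LocCoh.IsGorensteinLocalRing (X.presheaf.stalk x)) :
    Dual3.IsGorensteinAt f x ∧ LocCoh.IsGorensteinLocalRing (Y.presheaf.stalk (f x)) := by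
  haveI := hG
  haveI : IsNoetherianRing (X.presheaf.stalk x) := inferInstance
  obtain ⟨h1, h2⟩ := (gor_stalk_iff f x hflat).mp hG
  exact ⟨⟨hflat, h2⟩, h1⟩

end Groth.Agent.Helper12.GorSch
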