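import Mathlib
import Groth.Agent.Lib.Helper12.GorFlatMain

/-!
# Gorenstein fibres: transitivity (helper12)

For `B → A` flat local and `I ≤ m_B` with `B/I`, `A/IA` Noetherian:
`A/IA` Gorenstein iff `B/I` and `A/m_B A` Gorenstein.
-/

set_option autoImplicit false
set_option linter.unusedSectionVars false
set_option linter.style.haveILetI false
universe u

namespace Groth.Agent.Helper12.GorFlatLoc

open TensorProduct IsLocalRing

section Quot

variable (B A : Type u) [CommRing B] [IsLocalRing B] [CommRing A] [IsLocalRing A]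
  [Algebra B A] [IsLocalHom (algebraMap B A)]

theorem isLocalRing_quot' (R : Type u) [CommRing R] [IsLocalRing R] (I : Ideal R)
    (hI : I ≤ maximalIdeal R) : IsLocalRing (R ⧸ I) := by
  haveI : Nontrivial (R ⧸ I) := Ideal.Quotient.nontrivial_iff.mpr (fun h =>
    (maximalIdeal.isMaximal R).ne_top (top_le_iff.mp (h ▸ hI)))
  exact IsLocalRing.of_surjective' (Ideal.Quotient.mk _) Ideal.Quotient.mk_surjective

theorem map_le_maximalIdeal' :
    (maximalIdeal B).map (algebraMap B A) ≤ maximalIdeal A :=
  IsLocalRing.map_maximalIdeal_le (algebraMap B A)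

theorem gor_quot_iff [Module.Flat B A] (I : Ideal B) (hI : I ≤ maximalIdeal B)
    [IsNoetherianRing (B ⧸ I)] [IsNoetherianRing (A ⧸ I.map (algebraMap B A))] :
    LocCoh.IsGorensteinLocalRing (A ⧸ I.map (algebraMap B A)) ↔
      LocCoh.IsGorensteinLocalRing (B ⧸ I) ∧
        LocCoh.IsGorensteinLocalRing (A ⧸ (maximalIdeal B).map (algebraMap B A)) := by
  set J := (maximalIdeal B).map (algebraMap B A) with hJ
  have hIA : I.map (algebraMap B A) ≤ J := Ideal.map_mono hI
  have hIAm : I.map (algebraMap B A) ≤ maximalIdeal A := hIA.trans (map_le_maximalIdeal' B A)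
  haveI : IsLocalRing (B ⧸ I) := isLocalRing_quot' B I hI
  haveI : IsLocalRing (A ⧸ I.map (algebraMap B A)) := isLocalRing_quot' A _ hIAm
  haveI : IsLocalHom (algebraMap (B ⧸ I) (A ⧸ I.map (algebraMap B A))) := by
    constructor
    intro a' ha'
    obtain ⟨a, rfl⟩ := Ideal.Quotient.mk_surjective a'
    have h1 : algebraMap (B ⧸ I) (A ⧸ I.map (algebraMap B A)) (Ideal.Quotient.mk I a) =
        Ideal.Quotient.mk (I.map (algebraMap B A)) (algebraMap B A a) := rfl
    rw [h1] at ha'
    haveI : IsLocalHom (Ideal.Quotient.mk (I.map (algebraMap B A))) :=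
      IsLocalHom.of_surjective _ Ideal.Quotient.mk_surjective
    have h2 : IsUnit (algebraMap B A a) := isUnit_of_map_unit _ _ ha'
    have h3 : IsUnit a := isUnit_of_map_unit (algebraMap B A) a h2
    exact h3.map _
  haveI : Module.Flat (B ⧸ I) (A ⧸ I.map (algebraMap B A)) :=
    Module.Flat.of_linearEquiv
      (Algebra.TensorProduct.quotIdealMapEquivQuotTensor A I).toLinearEquiv
  have hm := main (B ⧸ I) (A ⧸ I.map (algebraMap B A))
  have heq : (maximalIdeal (B ⧸ I)).map (algebraMap (B ⧸ I) (A ⧸ I.map (algebraMap B A))) =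
      J.map (Ideal.Quotient.mk (I.map (algebraMap B A))) := by
    rw [← IsLocalRing.map_maximalIdeal_of_surjective (Ideal.Quotient.mk I)
      Ideal.Quotient.mk_surjective, hJ, Ideal.map_map, Ideal.map_map]
    rfl
  let eF : ((A ⧸ I.map (algebraMap B A)) ⧸
      (maximalIdeal (B ⧸ I)).map (algebraMap (B ⧸ I) (A ⧸ I.map (algebraMap B A)))) ≃+* (A ⧸ J) :=
    (Ideal.quotEquivOfEq heq).trans (DoubleQuot.quotQuotEquivQuotOfLE hIA)
  rw [hm, gor_iff_of_ringEquiv eF]

end Quot

section Tower

variable (C B A : Type u) [CommRing C] [IsLocalRing C] [CommRing B] [IsLocalRing B]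
  [CommRing A] [IsLocalRing A] [Algebra C B] [Algebra B A] [Algebra C A] [IsScalarTower C B A]
  [IsLocalHom (algebraMap C B)] [IsLocalHom (algebraMap B A)]

/-- transitivity of Gorenstein fibres: for `C → B → A` local with `B → A` flat, the fibre ring
`A / m_C A` is Gorenstein iff `B / m_C B` and `A / m_B A` are. -/
theorem gor_fibre_tower [Module.Flat B A]
    [IsNoetherianRing (B ⧸ (maximalIdeal C).map (algebraMap C B))]
    [IsNoetherianRing (A ⧸ (maximalIdeal C).map (algebraMap C A))] :
    LocCoh.IsGorensteinLocalRing (A ⧸ (maximalIdeal C).map (algebraMap C A)) ↔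
      LocCoh.IsGorensteinLocalRing (B ⧸ (maximalIdeal C).map (algebraMap C B)) ∧
        LocCoh.IsGorensteinLocalRing (A ⧸ (maximalIdeal B).map (algebraMap B A)) := by
  set I := (maximalIdeal C).map (algebraMap C B) with hI
  have hIle : I ≤ maximalIdeal B := IsLocalRing.map_maximalIdeal_le (algebraMap C B)
  have heq : (maximalIdeal C).map (algebraMap C A) = I.map (algebraMap B A) := by
    rw [hI, Ideal.map_map, IsScalarTower.algebraMap_eq C B A]
  let e : (A ⧸ (maximalIdeal C).map (algebraMap C A)) ≃+* (A ⧸ I.map (algebraMap B A)) :=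
    Ideal.quotEquivOfEq heq
  haveI : IsNoetherianRing (A ⧸ I.map (algebraMap B A)) :=
    isNoetherianRing_of_ringEquiv _ e
  rw [gor_iff_of_ringEquiv e]
  exact gor_quot_iff B A I hIle

end Tower

end Groth.Agent.Helper12.GorFlatLoc
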