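import Mathlib
import Groth.Agent.Lib.Helper12.GorFlatQuot
import Groth.Agent.Lib.Lead.Fib1
import Groth.Agent.Lib.Lead.Depth2

/-!
# Gorenstein rings along flat maps: fibres (helper12)
-/

set_option autoImplicit false
set_option linter.unusedSectionVars false
set_option linter.style.haveILetI false
universe u

namespace Groth.Agent.Helper12.GorFib

open TensorProduct IsLocalRing Groth.Agent.Lead.Fib Groth.Agent.Helper12.GorFlatLoc

section Loc

variable {R S : Type u} [CommRing R] [CommRing S] [Algebra R S]

/-- `S_r` is Gorenstein iff `R_p` and the fibre local ring `S_r / p S_r` are. -/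
theorem gor_localization_iff [IsNoetherianRing R] [IsNoetherianRing S] [Module.Flat R S]
    (p : Ideal R) [p.IsPrime] (r : Ideal S) [r.IsPrime] [r.LiesOver p] :
    LocCoh.IsGorensteinLocalRing (Localization.AtPrime r) ↔
      LocCoh.IsGorensteinLocalRing (Localization.AtPrime p) ∧
        LocCoh.IsGorensteinLocalRing (FL p r) := by
  letI : Algebra (Localization.AtPrime p) (Localization.AtPrime r) :=
    Localization.AtPrime.algebraOfLiesOver p r
  haveI : IsLocalHom (algebraMap (Localization.AtPrime p) (Localization.AtPrime r)) :=
    Localization.isLocalHom_localRingHom _ _ _ _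
  have hmap : p.map (algebraMap R (Localization.AtPrime r)) =
      (maximalIdeal (Localization.AtPrime p)).map
        (algebraMap (Localization.AtPrime p) (Localization.AtPrime r)) := by
    rw [← Localization.AtPrime.map_eq_maximalIdeal, Ideal.map_map, ← IsScalarTower.algebraMap_eq]
  rw [main (Localization.AtPrime p) (Localization.AtPrime r),
    gor_iff_of_ringEquiv (Ideal.quotEquivOfEq hmap.symm)]

/-- Gorenstein fibre rings in terms of the fibre local rings. -/
theorem isGorensteinRing_fiber_iff [IsNoetherianRing S] (p : Ideal R) [p.IsPrime] :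
    LocCoh.IsGorensteinRing (p.Fiber S) ↔
      ∀ (r : Ideal S) [r.IsPrime] [r.LiesOver p], LocCoh.IsGorensteinLocalRing (FL p r) := by
  haveI := isNoetherianRing_fiber (S := S) p
  have conv : ∀ (q : Ideal (p.Fiber S)) [q.IsPrime],
      LocCoh.IsGorensteinLocalRing (Localization.AtPrime q) ↔
      LocCoh.IsGorensteinLocalRing (FL p (q.comap
        (Algebra.TensorProduct.includeRight : S →ₐ[R] p.Fiber S))) := by
    intro q _
    exact gor_iff_of_ringEquiv (fiberLocEquiv (S := S) p q)
  constructor
  · intro hG r _ _
    obtain ⟨q, hq⟩ := exists_fiber_prime p r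
    have key : ∀ (r' : Ideal S) [r'.IsPrime] [r'.LiesOver p], r' = r →
        LocCoh.IsGorensteinLocalRing (FL p r') → LocCoh.IsGorensteinLocalRing (FL p r) := by
      intro r' _ _ h
      subst h
      exact id
    haveI : q.asIdeal.IsPrime := q.isPrime
    exact key _ hq ((conv q.asIdeal).mp (hG.isGorensteinLocalRing_localization q.asIdeal))
  · intro h
    exact { isGorensteinLocalRing_localization := fun q _ => (conv q).mpr (h _) }

/-- the Gorenstein property ascends along flat maps with Gorenstein fibres. -/
theorem isGorensteinRing_of_flat_of_fibres [IsNoetherianRing R] [IsNoetherianRing S]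
    [Module.Flat R S] (hR : LocCoh.IsGorensteinRing R)
    (hfib : ∀ (p : Ideal R) [p.IsPrime], LocCoh.IsGorensteinRing (p.Fiber S)) :
    LocCoh.IsGorensteinRing S := by
  refine { isGorensteinLocalRing_localization := fun r _ => ?_ }
  haveI : r.LiesOver (r.under R) := ⟨rfl⟩
  rw [gor_localization_iff (r.under R) r]
  exact ⟨hR.isGorensteinLocalRing_localization _,
    (isGorensteinRing_fiber_iff (r.under R)).mp (hfib _) r⟩

/-- the Gorenstein property descends along faithfully flat maps, and then the fibres are
Gorenstein. -/
theorem isGorensteinRing_of_faithfullyFlat [IsNoetherianRing R] [IsNoetherianRing S]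
    [Module.FaithfullyFlat R S] (hS : LocCoh.IsGorensteinRing S) :
    LocCoh.IsGorensteinRing R := by
  refine { isGorensteinLocalRing_localization := fun p _ => ?_ }
  obtain ⟨r, hr⟩ := PrimeSpectrum.comap_surjective_of_faithfullyFlat (A := R) (B := S)
    ⟨p, inferInstance⟩
  haveI : r.asIdeal.IsPrime := r.isPrime
  haveI : r.asIdeal.LiesOver p := ⟨(congrArg PrimeSpectrum.asIdeal hr).symm⟩
  exact ((gor_localization_iff p r.asIdeal).mp
    (hS.isGorensteinLocalRing_localization r.asIdeal)).1

/-- a regular ring is Gorenstein. -/
theorem isGorensteinRing_of_isRegularRing (T : Type u) [CommRing T] [IsRegularRing T] :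
    LocCoh.IsGorensteinRing T :=
  { isGorensteinLocalRing_localization := fun p _ =>
      Groth.Agent.Lead.Depth.isGorensteinLocalRing_of_isRegularLocalRing _ }

end Loc

end Groth.Agent.Helper12.GorFib
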