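import Mathlib
import Groth.Agent.Lib.Helper12.GorFib
import Groth.Agent.Lib.Helper7.FieldCM

/-!
# Tensor products of fields (one finitely generated) are Gorenstein (helper12)
-/

set_option autoImplicit false
set_option linter.unusedSectionVars false
set_option linter.style.haveILetI false
universe u

namespace Groth.Agent.Helper12.GorField

open TensorProduct IsLocalRing Polynomial Groth.Agent.Helper12.GorFlatLoc
  Groth.Agent.Helper12.GorFib

section Basic

/-- the Gorenstein property of rings is invariant under ring isomorphisms. -/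
theorem isGorensteinRing_of_ringEquiv {R S : Type u} [CommRing R] [CommRing S] (e : R ≃+* S)
    (hR : LocCoh.IsGorensteinRing R) : LocCoh.IsGorensteinRing S := by
  haveI := hR
  haveI : IsNoetherianRing R := inferInstance
  haveI : IsNoetherianRing S := isNoetherianRing_of_ringEquiv R e
  refine { isGorensteinLocalRing_localization := fun p _ => ?_ }
  let f : Localization.AtPrime (p.comap e) ≃+* Localization.AtPrime p :=
    IsLocalization.ringEquivOfRingEquiv
      (Localization.AtPrime (p.comap e)) (Localization.AtPrime p) e (e.map_primeCompl_comap_eq p)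
  exact (gor_iff_of_ringEquiv f).mp (hR.isGorensteinLocalRing_localization _)

/-- localization of a quotient = quotient of the localization. -/
noncomputable def locQuotEquiv {R : Type u} [CommRing R] (I : Ideal R) (Pbar : Ideal (R ⧸ I))
    [Pbar.IsPrime] :
    Localization.AtPrime Pbar ≃+*
      (Localization.AtPrime (Pbar.comap (Ideal.Quotient.mk I)) ⧸
        I.map (algebraMap R (Localization.AtPrime (Pbar.comap (Ideal.Quotient.mk I))))) := by
  have hsub : Algebra.algebraMapSubmonoid (R ⧸ I) (Pbar.comap (Ideal.Quotient.mk I)).primeCompl =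
      Pbar.primeCompl := by
    ext x
    constructor
    · rintro ⟨y, hy, rfl⟩
      exact hy
    · intro hx
      obtain ⟨y, rfl⟩ := Ideal.Quotient.mk_surjective x
      exact ⟨y, hx, rfl⟩
  haveI hloc : IsLocalization.AtPrime
      (Localization.AtPrime (Pbar.comap (Ideal.Quotient.mk I)) ⧸
        I.map (algebraMap R (Localization.AtPrime (Pbar.comap (Ideal.Quotient.mk I))))) Pbar := by
    have := (inferInstance : IsLocalization (Algebra.algebraMapSubmonoid (R ⧸ I)
      (Pbar.comap (Ideal.Quotient.mk I)).primeCompl)
      (Localization.AtPrime (Pbar.comap (Ideal.Quotient.mk I)) ⧸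
        I.map (algebraMap R (Localization.AtPrime (Pbar.comap (Ideal.Quotient.mk I))))))
    rw [hsub] at this
    exact this
  exact (IsLocalization.algEquiv Pbar.primeCompl (Localization.AtPrime Pbar)
      (Localization.AtPrime (Pbar.comap (Ideal.Quotient.mk I)) ⧸
        I.map (algebraMap R (Localization.AtPrime (Pbar.comap (Ideal.Quotient.mk I)))))).toRingEquiv

theorem gor_loc_quot_of_regular (R : Type u) [CommRing R]
    (hR : LocCoh.IsGorensteinRing R) (f : R) (hf : IsSMulRegular R f) (P : Ideal R) [P.IsPrime]
    (hfP : f ∈ P) :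
    LocCoh.IsGorensteinLocalRing (Localization.AtPrime P ⧸
      (Ideal.span {f}).map (algebraMap R (Localization.AtPrime P))) := by
  haveI := hR
  haveI : IsNoetherianRing R := inferInstance
  haveI hGP := hR.isGorensteinLocalRing_localization P
  have hfm : algebraMap R (Localization.AtPrime P) f ∈ maximalIdeal (Localization.AtPrime P) :=
    (IsLocalization.AtPrime.to_map_mem_maximal_iff (Localization.AtPrime P) P f).mpr hfP
  have hfreg : IsSMulRegular (Localization.AtPrime P) (algebraMap R (Localization.AtPrime P) f) :=
    hf.of_flat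
  have h1 := (Groth.Agent.S0343.result (Localization.AtPrime P) _ hfm hfreg).mp hGP
  have hmap : (Ideal.span {f}).map (algebraMap R (Localization.AtPrime P)) =
      Ideal.span {algebraMap R (Localization.AtPrime P) f} := by
    rw [Ideal.map_span, Set.image_singleton]
  rw [gor_iff_of_ringEquiv (Ideal.quotEquivOfEq hmap)]
  exact h1

/-- the quotient of a Gorenstein ring by a nonzerodivisor is Gorenstein. -/
theorem isGorensteinRing_quotient_of_regular (R : Type u) [CommRing R]
    (hR : LocCoh.IsGorensteinRing R) (f : R) (hf : IsSMulRegular R f) :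
    LocCoh.IsGorensteinRing (R ⧸ Ideal.span {f}) := by
  haveI := hR
  haveI : IsNoetherianRing R := inferInstance
  refine { isGorensteinLocalRing_localization := fun Pbar _ => ?_ }
  have hfP : f ∈ Pbar.comap (Ideal.Quotient.mk (Ideal.span {f})) := by
    rw [Ideal.mem_comap]
    have : Ideal.Quotient.mk (Ideal.span {f}) f = 0 :=
      Ideal.Quotient.eq_zero_iff_mem.mpr (Ideal.mem_span_singleton_self f)
    rw [this]
    exact Pbar.zero_mem
  rw [gor_iff_of_ringEquiv (locQuotEquiv (Ideal.span {f}) Pbar)]
  exact gor_loc_quot_of_regular R hR f hf _ hfP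

end Basic

section Monogenic

variable (E M : Type u) [Field E] [Field M] [Algebra E M]

/-- `M ⊗_E E[X]/(p)` is Gorenstein for `p` monic. -/
theorem isGorensteinRing_tensor_adjoinRoot (p : E[X]) (hp : p.Monic) :
    LocCoh.IsGorensteinRing (M ⊗[E] AdjoinRoot p) := by
  have e2 := AdjoinRoot.tensorAlgEquiv (R := E) (S := E) (T := M) p
    (p.map (Algebra.TensorProduct.includeRight : E →ₐ[E] M ⊗[E] E).toRingHom) rfl
  let e0 : M ≃+* M ⊗[E] E := (Algebra.TensorProduct.rid E M M).symm.toRingEquiv
  haveI : IsRegularRing (M ⊗[E] E)[X] := IsRegularRing.of_ringEquiv (Polynomial.mapEquiv e0)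
  have hG : LocCoh.IsGorensteinRing (M ⊗[E] E)[X] := isGorensteinRing_of_isRegularRing _
  haveI : Nontrivial (M ⊗[E] E) := e0.injective.nontrivial
  have hqm : (p.map (Algebra.TensorProduct.includeRight : E →ₐ[E] M ⊗[E] E).toRingHom).Monic :=
    hp.map _
  have hqreg : IsSMulRegular (M ⊗[E] E)[X]
      (p.map (Algebra.TensorProduct.includeRight : E →ₐ[E] M ⊗[E] E).toRingHom) :=
    hqm.isRegular.left.isSMulRegular
  have h := isGorensteinRing_quotient_of_regular _ hG _ hqreg
  exact isGorensteinRing_of_ringEquiv e2.symm.toRingEquiv h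

open IntermediateField in
/-- `M ⊗_E E(a)` is Gorenstein for `a` algebraic. -/
theorem isGorensteinRing_tensor_adjoin_simple {K : Type u} [Field K] [Algebra E K] (a : K)
    (ha : IsIntegral E a) : LocCoh.IsGorensteinRing (M ⊗[E] E⟮a⟯) := by
  have e := IntermediateField.adjoinRootEquivAdjoin E ha
  have h := isGorensteinRing_tensor_adjoinRoot E M (minpoly E a) (minpoly.monic ha)
  exact isGorensteinRing_of_ringEquiv
    (Algebra.TensorProduct.congr (AlgEquiv.refl (R := E) (A₁ := M)) e).toRingEquiv h

end Monogenic

section Finite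

open IntermediateField

/-- tower step: `E ⊆ E' ⊆ K` with `K/E'` finite. -/
theorem isGorensteinRing_tensor_tower (E E' K M : Type u) [Field E] [Field E'] [Field K] [Field M]
    [Algebra E E'] [Algebra E' K] [Algebra E K] [IsScalarTower E E' K] [Algebra E M]
    [FiniteDimensional E' K] (hR1 : LocCoh.IsGorensteinRing (M ⊗[E] E'))
    (hfib : ∀ (L : Type u) [Field L] [Algebra E' L], LocCoh.IsGorensteinRing (L ⊗[E'] K)) :
    LocCoh.IsGorensteinRing (M ⊗[E] K) := by
  have hR1' : LocCoh.IsGorensteinRing (E' ⊗[E] M) :=
    isGorensteinRing_of_ringEquiv (Algebra.TensorProduct.comm E M E').toRingEquiv hR1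
  haveI := hR1'
  haveI hN0 : IsNoetherianRing (E' ⊗[E] M) := inferInstance
  haveI hN : IsNoetherianRing ((E' ⊗[E] M) ⊗[E'] K) :=
    IsNoetherianRing.of_finite (E' ⊗[E] M) _
  have h1 : LocCoh.IsGorensteinRing ((E' ⊗[E] M) ⊗[E'] K) := by
    apply isGorensteinRing_of_flat_of_fibres (R := E' ⊗[E] M) hR1'
    intro q _
    have hq := hfib q.ResidueField
    exact isGorensteinRing_of_ringEquiv
      (Algebra.TensorProduct.cancelBaseChange E' (E' ⊗[E] M) (E' ⊗[E] M)
        q.ResidueField K).symm.toRingEquiv hq
  let e : ((E' ⊗[E] M) ⊗[E'] K) ≃+* M ⊗[E] K :=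
    ((Algebra.TensorProduct.comm E' (E' ⊗[E] M) K).toRingEquiv.trans
      (Algebra.TensorProduct.cancelBaseChange E E' E' K M).toRingEquiv).trans
      (Algebra.TensorProduct.comm E K M).toRingEquiv
  exact isGorensteinRing_of_ringEquiv e h1

/-- `M ⊗_E K` is Gorenstein for `K/E` a finite field extension. -/
theorem isGorensteinRing_tensor_finite_aux : ∀ (n : ℕ) (E K M : Type u) [Field E] [Field K]
    [Field M] [Algebra E K] [Algebra E M] [FiniteDimensional E K], Module.finrank E K = n →
    LocCoh.IsGorensteinRing (M ⊗[E] K) := by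
  intro n
  induction n using Nat.strong_induction_on with
  | _ n ih =>
    intro E K M _ _ _ _ _ _ hn
    by_cases hbot : ∀ a : K, a ∈ (⊥ : IntermediateField E K)
    · have hsurj : Function.Surjective (algebraMap E K) := fun a => by
        have := hbot a
        rwa [IntermediateField.mem_bot] at this
      let e : E ≃ₐ[E] K :=
        AlgEquiv.ofBijective (Algebra.ofId E K) ⟨(algebraMap E K).injective, hsurj⟩
      have hM : LocCoh.IsGorensteinRing M := isGorensteinRing_of_isRegularRing M
      exact isGorensteinRing_of_ringEquiv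
        ((Algebra.TensorProduct.rid E M M).symm.toRingEquiv.trans
          (Algebra.TensorProduct.congr (AlgEquiv.refl (R := E) (A₁ := M)) e).toRingEquiv) hM
    · push Not at hbot
      obtain ⟨a, ha⟩ := hbot
      have haint : IsIntegral E a := Algebra.IsIntegral.isIntegral a
      have hlt : Module.finrank E⟮a⟯ K < n := by
        have hmul := Module.finrank_mul_finrank E E⟮a⟯ K
        have h0 : 0 < Module.finrank E E⟮a⟯ := Module.finrank_pos
        have h0' : 0 < Module.finrank E⟮a⟯ K := Module.finrank_pos
        have h1 : Module.finrank E E⟮a⟯ ≠ 1 := fun h =>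
          ha (IntermediateField.finrank_adjoin_simple_eq_one_iff.mp h)
        rw [hn] at hmul
        have h2 : 2 ≤ Module.finrank E E⟮a⟯ := by omega
        nlinarith
      exact isGorensteinRing_tensor_tower E E⟮a⟯ K M
        (isGorensteinRing_tensor_adjoin_simple E M a haint)
        (fun L _ _ => ih _ hlt E⟮a⟯ K L rfl)

theorem isGorensteinRing_tensor_finite (E K M : Type u) [Field E] [Field K]
    [Field M] [Algebra E K] [Algebra E M] [FiniteDimensional E K] :
    LocCoh.IsGorensteinRing (M ⊗[E] K) :=
  isGorensteinRing_tensor_finite_aux _ E K M rfl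

end Finite

section FG

open scoped IntermediateField.algebraAdjoinAdjoin

/-- `L ⊗_k K` is a Gorenstein ring when `K` is a finitely generated field extension of `k`. -/
theorem isGorensteinRing_tensor_fields (k K L : Type u) [Field k] [Field K] [Field L] [Algebra k K]
    [Algebra k L] [Algebra.EssFiniteType k K] : LocCoh.IsGorensteinRing (L ⊗[k] K) := by
  obtain ⟨s, hs⟩ := exists_isTranscendenceBasis k K
  have hfin : Finite s := finite_of_isTranscendenceBasis hs
  have halg : Algebra.IsAlgebraic (IntermediateField.adjoin k (Set.range ((↑) : s → K))) K :=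
    hs.isAlgebraic_field
  have hess : Algebra.EssFiniteType (IntermediateField.adjoin k (Set.range ((↑) : s → K))) K :=
    Algebra.EssFiniteType.of_comp k _ K
  haveI hfinK : Module.Finite (IntermediateField.adjoin k (Set.range ((↑) : s → K))) K :=
    Algebra.finite_of_essFiniteType_of_isAlgebraic
  haveI hreg0 : IsRegularRing (L ⊗[k] (IntermediateField.adjoin k (Set.range ((↑) : s → K)))) :=
    Groth.Agent.Helper7.FieldCM.isRegularRing_tensor_purelyTranscendental k L K
      ((↑) : s → K) hs.1
  exact isGorensteinRing_tensor_tower k (IntermediateField.adjoin k (Set.range ((↑) : s → K))) K L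
    (isGorensteinRing_of_isRegularRing _)
    (fun L' _ _ => isGorensteinRing_tensor_finite _ K L')

end FG

section BaseChange

variable (k S k' : Type u) [Field k] [CommRing S] [Algebra k S] [Field k'] [Algebra k k']

/-- the fibre rings of `S → S ⊗_k k'` are Gorenstein (one side finitely generated). -/
theorem isGorensteinRing_fiber_tensor
    (hft : Algebra.FiniteType k S ∨ Algebra.EssFiniteType k k') (p : Ideal S) [p.IsPrime] :
    LocCoh.IsGorensteinRing (p.Fiber (S ⊗[k] k')) := by
  let e : p.Fiber (S ⊗[k] k') ≃+* p.ResidueField ⊗[k] k' :=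
    (Algebra.TensorProduct.cancelBaseChange k S S p.ResidueField k').toRingEquiv
  rcases hft with h | h
  · haveI : Algebra.EssFiniteType k p.ResidueField := Algebra.EssFiniteType.comp k S _
    exact isGorensteinRing_of_ringEquiv
      ((Algebra.TensorProduct.comm k k' p.ResidueField).toRingEquiv.trans e.symm)
      (isGorensteinRing_tensor_fields k p.ResidueField k')
  · exact isGorensteinRing_of_ringEquiv e.symm (isGorensteinRing_tensor_fields k k' p.ResidueField)

/-- Gorenstein-ness of localizations of `S ⊗_k k'` versus `S`. -/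
theorem gor_localization_tensor_iff [IsNoetherianRing S] [IsNoetherianRing (S ⊗[k] k')]
    (hft : Algebra.FiniteType k S ∨ Algebra.EssFiniteType k k')
    (p : Ideal S) [p.IsPrime] (q : Ideal (S ⊗[k] k')) [q.IsPrime] [q.LiesOver p] :
    LocCoh.IsGorensteinLocalRing (Localization.AtPrime q) ↔
      LocCoh.IsGorensteinLocalRing (Localization.AtPrime p) := by
  rw [gor_localization_iff p q]
  exact and_iff_left
    ((isGorensteinRing_fiber_iff p).mp (isGorensteinRing_fiber_tensor k S k' hft p) q)

/-- base change of Gorenstein rings along a field extension (one side finitely generated). -/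
theorem isGorensteinRing_tensor [IsNoetherianRing (S ⊗[k] k')]
    (hft : Algebra.FiniteType k S ∨ Algebra.EssFiniteType k k')
    (hS : LocCoh.IsGorensteinRing S) : LocCoh.IsGorensteinRing (S ⊗[k] k') := by
  haveI := hS
  haveI : IsNoetherianRing S := inferInstance
  exact isGorensteinRing_of_flat_of_fibres hS
    (fun p _ => isGorensteinRing_fiber_tensor k S k' hft p)

end BaseChange

end Groth.Agent.Helper12.GorField
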