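import Mathlib
import Groth.Agent.Lib.Helper12.GorFlatQuot
import Groth.Agent.Lib.Helper12.GorSch

/-!
# Gorenstein morphisms: composition (helper12)
-/

set_option autoImplicit false
set_option linter.style.haveILetI false
universe u

open AlgebraicGeometry CategoryTheory Limits IsLocalRing

namespace Groth.Agent.Helper12.GorSch

open Groth.Agent.Helper16.FibStalk Groth.Agent.Helper12.GorFlatLoc

variable {X Y Z : Scheme.{u}}

/-- Gorenstein-ness of the local ring of the fibre, in terms of the quotient of the stalk. -/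
theorem gor_fibre_iff (f : X ⟶ Y) (x : X) :
    LocCoh.IsGorensteinLocalRing ((f.fiber (f x)).presheaf.stalk (f.asFiber x)) ↔
      LocCoh.IsGorensteinLocalRing (X.presheaf.stalk x ⧸ fibIdeal f x) :=
  (gor_iff_of_ringEquiv (fibStalkEquiv f x)).symm

theorem isNoetherianRing_quot_fibIdeal (f : X ⟶ Y) (x : X)
    [IsLocallyNoetherian (f.fiber (f x))] :
    IsNoetherianRing (X.presheaf.stalk x ⧸ fibIdeal f x) :=
  isNoetherianRing_of_ringEquiv _ (fibStalkEquiv f x).symm

theorem comp (f : X ⟶ Y) (g : Y ⟶ Z) (hfibg : ∀ y, IsLocallyNoetherian (g.fiber y))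
    (hfibfg : ∀ z, IsLocallyNoetherian ((f ≫ g).fiber z)) (x : X) :
    (Dual3.IsGorensteinAt f x → Dual3.IsGorensteinAt g (f x) →
        Dual3.IsGorensteinAt (f ≫ g) x) ∧
      (Dual3.IsGorensteinAt (f ≫ g) x → (f.stalkMap x).hom.Flat →
        Dual3.IsGorensteinAt f x ∧ Dual3.IsGorensteinAt g (f x)) := by
  letI algCB : Algebra (Z.presheaf.stalk (g (f x))) (Y.presheaf.stalk (f x)) :=
    (g.stalkMap (f x)).hom.toAlgebra
  letI algBA : Algebra (Y.presheaf.stalk (f x)) (X.presheaf.stalk x) :=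
    (f.stalkMap x).hom.toAlgebra
  letI algCA : Algebra (Z.presheaf.stalk (g (f x))) (X.presheaf.stalk x) :=
    ((f ≫ g).stalkMap x).hom.toAlgebra
  have hcomp : ((f ≫ g).stalkMap x).hom = (f.stalkMap x).hom.comp (g.stalkMap (f x)).hom := by
    rw [Scheme.Hom.stalkMap_comp]
    rfl
  haveI : IsScalarTower (Z.presheaf.stalk (g (f x))) (Y.presheaf.stalk (f x))
      (X.presheaf.stalk x) := IsScalarTower.of_algebraMap_eq (fun c => by
    change ((f ≫ g).stalkMap x).hom c = (f.stalkMap x).hom ((g.stalkMap (f x)).hom c)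
    rw [hcomp]
    rfl)
  haveI : IsLocalHom (algebraMap (Z.presheaf.stalk (g (f x))) (Y.presheaf.stalk (f x))) :=
    inferInstanceAs (IsLocalHom (g.stalkMap (f x)).hom)
  haveI : IsLocalHom (algebraMap (Y.presheaf.stalk (f x)) (X.presheaf.stalk x)) :=
    inferInstanceAs (IsLocalHom (f.stalkMap x).hom)
  haveI := hfibg (g (f x))
  haveI := hfibfg ((f ≫ g) x)
  haveI hN1 : IsNoetherianRing (Y.presheaf.stalk (f x) ⧸
      (maximalIdeal (Z.presheaf.stalk (g (f x)))).map
        (algebraMap (Z.presheaf.stalk (g (f x))) (Y.presheaf.stalk (f x)))) :=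
    isNoetherianRing_quot_fibIdeal g (f x)
  haveI hN2 : IsNoetherianRing (X.presheaf.stalk x ⧸
      (maximalIdeal (Z.presheaf.stalk (g (f x)))).map
        (algebraMap (Z.presheaf.stalk (g (f x))) (X.presheaf.stalk x))) :=
    isNoetherianRing_quot_fibIdeal (f ≫ g) x
  have key : Module.Flat (Y.presheaf.stalk (f x)) (X.presheaf.stalk x) →
      (LocCoh.IsGorensteinLocalRing (X.presheaf.stalk x ⧸ fibIdeal (f ≫ g) x) ↔
        LocCoh.IsGorensteinLocalRing (Y.presheaf.stalk (f x) ⧸ fibIdeal g (f x)) ∧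
          LocCoh.IsGorensteinLocalRing (X.presheaf.stalk x ⧸ fibIdeal f x)) := by
    intro hfl
    haveI := hfl
    exact gor_fibre_tower (Z.presheaf.stalk (g (f x))) (Y.presheaf.stalk (f x))
      (X.presheaf.stalk x)
  constructor
  · rintro ⟨hf1, hf2⟩ ⟨hg1, hg2⟩
    refine ⟨?_, ?_⟩
    · rw [hcomp]
      exact RingHom.Flat.comp hg1 hf1
    · rw [gor_fibre_iff] at hf2 hg2 ⊢
      exact (key hf1).mpr ⟨hg2, hf2⟩
  · rintro ⟨hfg1, hfg2⟩ hf1
    rw [gor_fibre_iff] at hfg2
    obtain ⟨h1, h2⟩ := (key hf1).mp hfg2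
    refine ⟨⟨hf1, (gor_fibre_iff f x).mpr h2⟩, ⟨?_, (gor_fibre_iff g (f x)).mpr h1⟩⟩
    haveI : Module.Flat (Y.presheaf.stalk (f x)) (X.presheaf.stalk x) := hf1
    haveI : Module.FaithfullyFlat (Y.presheaf.stalk (f x)) (X.presheaf.stalk x) :=
      Module.FaithfullyFlat.of_flat_of_isLocalHom
    haveI : Module.Flat (Z.presheaf.stalk (g (f x))) (X.presheaf.stalk x) := hfg1
    exact Groth.Agent.Helper7.flat_of_flat_of_faithfullyFlat (Z.presheaf.stalk (g (f x)))
      (Y.presheaf.stalk (f x)) (X.presheaf.stalk x)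

end Groth.Agent.Helper12.GorSch
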