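import Mathlib
import Groth.Agent.Lib.Helper12.GorSch
import Groth.Agent.Lib.Helper12.GorSchComp
import Groth.Agent.Lib.Helper12.GorField
import Groth.Prelude.Def_Dual3

/-!
# Gorenstein fibres under base change (helper12)
-/

set_option autoImplicit false
set_option linter.style.haveILetI false
universe u

open AlgebraicGeometry CategoryTheory Limits IsLocalRing TensorProduct

namespace Groth.Agent.Helper12.GorBC

open Groth.Agent.Helper16.FibStalk Groth.Agent.Helper12.GorFlatLoc Groth.Agent.Helper12.GorField

/-- the stalks of a scheme isomorphic to `Spec T`, `T` a Gorenstein ring, are Gorenstein. -/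
theorem gor_stalk_of_iso_Spec {W : Scheme.{u}} (T : Type u) [CommRing T]
    (e : W ≅ Spec (.of T)) (hT : LocCoh.IsGorensteinRing T) (w : W) :
    LocCoh.IsGorensteinLocalRing (W.presheaf.stalk w) := by
  let p : PrimeSpectrum T := e.hom w
  have e1 : (Spec (.of T)).presheaf.stalk (e.hom w) ≃+* W.presheaf.stalk w :=
    (asIso (e.hom.stalkMap w)).commRingCatIsoToRingEquiv
  have e2 : Localization.AtPrime p.asIdeal ≃+* (Spec (.of T)).presheaf.stalk (e.hom w) :=
    (IsLocalization.algEquiv p.asIdeal.primeCompl (Localization.AtPrime p.asIdeal)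
      ((Spec.structureSheaf T).presheaf.stalk p)).toRingEquiv
  have h := hT.isGorensteinLocalRing_localization p.asIdeal
  exact (gor_iff_of_ringEquiv (e2.trans e1)).mp h

/-- If `h : F' ⟶ F` is a base change of `Spec K ⟶ Spec k` for a field extension `K/k`, then the
fibres of `h` have Gorenstein local rings, provided that `K` or the residue field at the point is
essentially of finite type over `k`. -/
theorem gor_fibre_of_field_baseChange {F F' : Scheme.{u}} {k K : Type u} [Field k] [Field K]
    (h : F' ⟶ F) (π' : F' ⟶ Spec (.of K)) (π : F ⟶ Spec (.of k)) (φ : k →+* K)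
    (sq : IsPullback h π' π (Spec.map (CommRingCat.ofHom φ))) (z : F)
    (ψ : k →+* F.residueField z)
    (hψ : Spec.map (CommRingCat.ofHom ψ) = F.fromSpecResidueField z ≫ π)
    (hfin : φ.EssFiniteType ∨ ψ.EssFiniteType) (w : h.fiber z) :
    LocCoh.IsGorensteinLocalRing ((h.fiber z).presheaf.stalk w) := by
  letI := φ.toAlgebra
  letI := ψ.toAlgebra
  have sq1 : IsPullback (h.fiberι z) (h.fiberToSpecResidueField z) h
      (F.fromSpecResidueField z) := IsPullback.of_hasPullback _ _
  have sq2 := (sq1.flip.paste_vert sq).flip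
  rw [← hψ] at sq2
  let e : h.fiber z ≅ Spec (.of (K ⊗[k] F.residueField z)) :=
    sq2.isoPullback ≪≫ pullbackSpecIso k K (F.residueField z)
  have hT : LocCoh.IsGorensteinRing (K ⊗[k] F.residueField z) := by
    rcases hfin with h1 | h2
    · haveI : Algebra.EssFiniteType k K := h1
      exact isGorensteinRing_of_ringEquiv
        (Algebra.TensorProduct.comm k (F.residueField z) K).toRingEquiv
        (isGorensteinRing_tensor_fields k K (F.residueField z))
    · haveI : Algebra.EssFiniteType k (F.residueField z) := h2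
      exact isGorensteinRing_tensor_fields k (F.residueField z) K
  exact gor_stalk_of_iso_Spec _ e hT w

/-- the structure map `k → κ(z)` of a point of a `k`-scheme, essentially of finite type when the
scheme is locally of finite type. -/
theorem exists_residueField_hom {F : Scheme.{u}} {k : Type u} [Field k]
    (π : F ⟶ Spec (.of k)) (z : F) :
    ∃ ψ : k →+* F.residueField z,
      Spec.map (CommRingCat.ofHom ψ) = F.fromSpecResidueField z ≫ π ∧
        (LocallyOfFiniteType π → ψ.EssFiniteType) := by
  let p : Spec (.of k) := π z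
  let ψ0 : CommRingCat.of k ⟶ F.residueField z :=
    CommRingCat.ofHom (algebraMap k p.asIdeal.ResidueField) ≫
      (Scheme.Spec.residueFieldIso (.of k) p).inv ≫ π.residueFieldMap z
  refine ⟨ψ0.hom, ?_, ?_⟩
  · rw [CommRingCat.ofHom_hom, ← Scheme.Hom.SpecMap_residueFieldMap_fromSpecResidueField,
      ← Scheme.Spec.map_residueFieldIso_inv_eq_fromSpecResidueField]
    simp only [ψ0, Spec.map_comp, Category.assoc]
    rfl
  · intro hft
    have h1 : (algebraMap k p.asIdeal.ResidueField).EssFiniteType := by
      rw [RingHom.essFiniteType_algebraMap]; infer_instance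
    have h2 : ((Scheme.Spec.residueFieldIso (.of k) p).inv).hom.EssFiniteType :=
      (RingHom.FiniteType.of_surjective _
        (Scheme.Spec.residueFieldIso (.of k) p).symm.commRingCatIsoToRingEquiv.surjective).essFiniteType
    have h3 : (π.residueFieldMap z).hom.EssFiniteType :=
      RingHom.EssFiniteType.residueFieldMap (LocallyOfFiniteType.stalkMap π z)
    exact (h1.comp h2).comp h3

/-- Gorenstein-ness of the local ring of a fibre at a point in terms of `𝒪_{X,x} ⧸ 𝔪_y 𝒪_{X,x}`. -/
theorem gor_fibre_stalk_iff_quot {X Y : Scheme.{u}} (f : X ⟶ Y) (y : Y) (z : f.fiber y) (x : X)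
    (hx : f.fiberι y z = x) :
    LocCoh.IsGorensteinLocalRing ((f.fiber y).presheaf.stalk z) ↔
      LocCoh.IsGorensteinLocalRing (X.presheaf.stalk x ⧸ fibIdeal f x) :=
  (gor_iff_of_ringEquiv (quotEquivStalkFiberOfEq f y z x hx)).symm

theorem isNoetherianRing_fibre_stalk_iff_quot {X Y : Scheme.{u}} (f : X ⟶ Y) (y : Y)
    (z : f.fiber y) (x : X) (hx : f.fiberι y z = x) :
    IsNoetherianRing ((f.fiber y).presheaf.stalk z) ↔
      IsNoetherianRing (X.presheaf.stalk x ⧸ fibIdeal f x) :=
  ⟨fun _ => isNoetherianRing_of_ringEquiv _ (quotEquivStalkFiberOfEq f y z x hx).symm,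
    fun _ => isNoetherianRing_of_ringEquiv _ (quotEquivStalkFiberOfEq f y z x hx)⟩

section BC

variable {X Y X' Y' : Scheme.{u}} {f : X ⟶ Y} {g : Y' ⟶ Y} {f' : X' ⟶ Y'} {g' : X' ⟶ X}

/-- **Base change of the Gorenstein property of fibre local rings.** -/
theorem gor_fibre_baseChange_iff (hsq : IsPullback g' f' f g) (x' : X')
    (hN' : IsNoetherianRing ((f'.fiber (f' x')).presheaf.stalk (f'.asFiber x')))
    (hN : IsNoetherianRing ((f.fiber (f (g' x'))).presheaf.stalk (f.asFiber (g' x'))))
    (hfin : (g.residueFieldMap (f' x')).hom.EssFiniteType ∨ LocallyOfFiniteType f) :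
    LocCoh.IsGorensteinLocalRing ((f'.fiber (f' x')).presheaf.stalk (f'.asFiber x')) ↔
      LocCoh.IsGorensteinLocalRing ((f.fiber (f (g' x'))).presheaf.stalk (f.asFiber (g' x'))) := by
  set y' := f' x' with hy'
  let h : f'.fiber y' ⟶ f.fiber (g y') :=
    pullback.map _ _ _ _ g' (Spec.map (g.residueFieldMap y')) g hsq.w.symm (by simp)
  have sqh : IsPullback h (f'.fiberToSpecResidueField y') (f.fiberToSpecResidueField (g y'))
      (Spec.map (g.residueFieldMap y')) := isPullback_fiberToSpecResidueField_of_isPullback hsq y'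
  let z' : f'.fiber y' := f'.asFiber x'
  have hcomp : h ≫ f.fiberι (g y') = f'.fiberι y' ≫ g' := pullback.lift_fst _ _ _
  have hz : f.fiberι (g y') (h z') = g' x' := by
    rw [← Scheme.Hom.comp_apply, hcomp, Scheme.Hom.comp_apply]
    exact congrArg g' (f'.fiberι_asFiber x')
  -- Noetherianity
  haveI : IsNoetherianRing ((f'.fiber y').presheaf.stalk z') := hN'
  haveI : IsNoetherianRing ((f.fiber (g y')).presheaf.stalk (h z')) := by
    rw [isNoetherianRing_fibre_stalk_iff_quot f (g y') (h z') (g' x') hz,
      ← isNoetherianRing_fibre_stalk_iff_quot f (f (g' x')) (f.asFiber (g' x')) (g' x')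
        (f.fiberι_asFiber _)]
    exact hN
  -- flatness of `h`
  haveI hflat : Flat h := by
    have h0 : Flat (Spec.map (g.residueFieldMap y')) := by
      rw [Flat.SpecMap_iff]
      letI := (g.residueFieldMap y').hom.toAlgebra
      exact RingHom.flat_algebraMap_iff.mpr inferInstance
    exact MorphismProperty.of_isPullback sqh.flip h0
  rw [GorSch.gor_stalk_iff h z' (Flat.stalkMap h z')]
  rw [gor_fibre_stalk_iff_quot f (g y') (h z') (g' x') hz,
    ← gor_fibre_stalk_iff_quot f (f (g' x')) (f.asFiber (g' x')) (g' x') (f.fiberι_asFiber _)]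
  refine and_iff_left ?_
  obtain ⟨ψ, hψ1, hψ2⟩ := exists_residueField_hom (k := Y.residueField (g y'))
    (f.fiberToSpecResidueField (g y')) (h z')
  refine gor_fibre_of_field_baseChange (k := Y.residueField (g y')) (K := Y'.residueField y') h
    (f'.fiberToSpecResidueField y') (f.fiberToSpecResidueField (g y'))
    (g.residueFieldMap y').hom sqh (h z') ψ hψ1 ?_ _
  rcases hfin with h1 | h2
  · exact Or.inl h1
  · refine Or.inr (hψ2 ?_)
    exact MorphismProperty.pullback_snd _ _ h2

end BC

end Groth.Agent.Helper12.GorBC
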