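import Mathlib
import Groth.Agent.Lib.Helper12.GorBC
import Groth.Agent.Lib.Helper16.AlgSp.FlatSrc
import Groth.Agent.Lib.Helper16.Sch.SmoothLocusBC3

/-!
# Flatness at a point under base change; Gorenstein morphisms under base change (helper12)
-/

set_option autoImplicit false
set_option linter.style.haveILetI false
universe u

open AlgebraicGeometry CategoryTheory Limits IsLocalRing TensorProduct

namespace Groth.Agent.Helper12.FlatPt

open Groth.Agent.Helper16.SmoothLocusBC

/-- descent of flatness at a point along a morphism flat at the point -/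
theorem flat_stalkMap_of_comp {P Q S : Scheme.{u}} (a : P ⟶ Q) (b : Q ⟶ S) (p : P)
    (ha : (a.stalkMap p).hom.Flat) (hab : ((a ≫ b).stalkMap p).hom.Flat) :
    (b.stalkMap (a p)).hom.Flat := by
  rw [Scheme.Hom.stalkMap_comp] at hab
  have h1' : ((a.stalkMap p).hom.comp (b.stalkMap (a p)).hom).Flat := hab
  refine Groth.Agent.Helper16.AS.RingHom.Flat.of_comp_faithfullyFlat _ (a.stalkMap p).hom ?_ h1'
  algebraize [(a.stalkMap p).hom]
  haveI : IsLocalHom (algebraMap (Q.presheaf.stalk (a p)) (P.presheaf.stalk p)) :=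
    (inferInstance : IsLocalHom (a.stalkMap p).hom)
  exact Module.FaithfullyFlat.of_flat_of_isLocalHom

theorem flat_stalkMap_comp {P Q S : Scheme.{u}} (a : P ⟶ Q) (b : Q ⟶ S) (p : P)
    (ha : (a.stalkMap p).hom.Flat) (hb : (b.stalkMap (a p)).hom.Flat) :
    ((a ≫ b).stalkMap p).hom.Flat := by
  rw [Scheme.Hom.stalkMap_comp]
  exact RingHom.Flat.comp hb ha

variable {X Y X' Y' : Scheme.{u}} {f : X ⟶ Y} {g : Y' ⟶ Y} {f' : X' ⟶ Y'} {g' : X' ⟶ X}

/-- flatness at a point is stable under base change. -/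
theorem flat_stalkMap_baseChange (hsq : IsPullback g' f' f g) (x' : X')
    (hf : (f.stalkMap (g' x')).hom.Flat) : (f'.stalkMap x').hom.Flat := by
  let ι := X.fromSpecStalk (g' x')
  haveI : Flat ι := flat_fromSpecStalk X (g' x')
  haveI : Flat (ι ≫ f) := flat_fromSpecStalk_comp f (g' x') hf
  have sq1 : IsPullback (pullback.fst g' ι) (pullback.snd g' ι) g' ι := IsPullback.of_hasPullback _ _
  have sq2 : IsPullback (pullback.snd g' ι) (pullback.fst g' ι ≫ f') (ι ≫ f) g :=
    sq1.flip.paste_vert hsq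
  haveI : Flat (pullback.fst g' ι ≫ f') := MorphismProperty.of_isPullback sq2 ‹Flat (ι ≫ f)›
  obtain ⟨x'', hx1, hx2⟩ := Scheme.Pullback.exists_preimage_pullback (f := g') (g := ι) x'
    (IsLocalRing.closedPoint _) (Scheme.fromSpecStalk_closedPoint).symm
  have := flat_stalkMap_of_comp (pullback.fst g' ι) f' x'' (Flat.stalkMap _ x'')
    (Flat.stalkMap (pullback.fst g' ι ≫ f') x'')
  rwa [hx1] at this

/-- descent of flatness at a point along a base change flat at the image point. -/
theorem flat_stalkMap_of_baseChange (hsq : IsPullback g' f' f g) (x' : X')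
    (hg : (g.stalkMap (f' x')).hom.Flat) (hf' : (f'.stalkMap x').hom.Flat) :
    (f.stalkMap (g' x')).hom.Flat := by
  let j := Y'.fromSpecStalk (f' x')
  haveI : Flat j := flat_fromSpecStalk Y' (f' x')
  haveI : Flat (j ≫ g) := flat_fromSpecStalk_comp g (f' x') hg
  have sq1 : IsPullback (pullback.fst f' j) (pullback.snd f' j) f' j := IsPullback.of_hasPullback _ _
  have sq2 : IsPullback (pullback.fst f' j ≫ g') (pullback.snd f' j) f (j ≫ g) :=
    sq1.paste_horiz hsq
  haveI : Flat (pullback.fst f' j ≫ g') := MorphismProperty.of_isPullback sq2.flip ‹Flat (j ≫ g)›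
  obtain ⟨x'', hx1, hx2⟩ := Scheme.Pullback.exists_preimage_pullback (f := f') (g := j) x'
    (IsLocalRing.closedPoint _) (Scheme.fromSpecStalk_closedPoint).symm
  have hc : ((pullback.snd f' j).stalkMap x'').hom.Flat :=
    flat_stalkMap_baseChange sq1 x'' (by rw [hx1]; exact hf')
  have key : ∀ m : pullback f' j ⟶ Y, m = pullback.snd f' j ≫ (j ≫ g) →
      (m.stalkMap x'').hom.Flat := by
    rintro _ rfl
    exact flat_stalkMap_comp _ _ _ hc (Flat.stalkMap (j ≫ g) _)
  have := flat_stalkMap_of_comp (pullback.fst f' j ≫ g') f x'' (Flat.stalkMap _ x'')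
    (key _ sq2.w)
  rwa [Scheme.Hom.comp_apply, hx1] at this

end Groth.Agent.Helper12.FlatPt

namespace Groth.Agent.Helper12.GorBC

/-- base change along an essentially finite type field extension preserves local Noetherianity. -/
theorem isLocallyNoetherian_of_field_baseChange {F F' : Scheme.{u}} {k K : Type u} [Field k]
    [Field K] (h : F' ⟶ F) (π' : F' ⟶ Spec (.of K)) (π : F ⟶ Spec (.of k)) (φ : k →+* K)
    (sq : IsPullback h π' π (Spec.map (CommRingCat.ofHom φ))) [IsLocallyNoetherian F]
    (hφ : φ.EssFiniteType) : IsLocallyNoetherian F' := by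
  letI := φ.toAlgebra
  haveI : Algebra.EssFiniteType k K := hφ
  let 𝒱 := F.affineOpenCover
  let 𝒰 := Scheme.Pullback.openCoverOfLeft 𝒱.openCover π (Spec.map (CommRingCat.ofHom φ))
  have key : IsLocallyNoetherian (pullback π (Spec.map (CommRingCat.ofHom φ))) := by
    rw [isLocallyNoetherian_iff_openCover 𝒰]
    intro i
    change IsLocallyNoetherian (pullback (𝒱.f i ≫ π) (Spec.map (CommRingCat.ofHom φ)))
    let α : CommRingCat.of k ⟶ 𝒱.X i := Spec.preimage (𝒱.f i ≫ π)
    have hα : Spec.map α = 𝒱.f i ≫ π := Spec.map_preimage _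
    letI := α.hom.toAlgebra
    haveI : IsLocallyNoetherian (Spec (𝒱.X i)) := isLocallyNoetherian_of_isOpenImmersion (𝒱.f i)
    haveI : IsNoetherianRing (𝒱.X i) := isLocallyNoetherian_Spec.mp inferInstance
    haveI : IsNoetherianRing ((𝒱.X i) ⊗[k] K) :=
      Algebra.EssFiniteType.isNoetherianRing (𝒱.X i) _
    rw [← hα]
    exact isLocallyNoetherian_of_isOpenImmersion (pullbackSpecIso k (𝒱.X i) K).hom
  exact isLocallyNoetherian_of_isOpenImmersion sq.isoPullback.hom


variable {X Y X' Y' : Scheme.{u}} {f : X ⟶ Y} {g : Y' ⟶ Y} {f' : X' ⟶ Y'} {g' : X' ⟶ X}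

theorem isLocallyNoetherian_fiber_baseChange (hsq : IsPullback g' f' f g) (y' : Y')
    [IsLocallyNoetherian (f.fiber (g y'))] (hfin : (g.residueFieldMap y').hom.EssFiniteType) :
    IsLocallyNoetherian (f'.fiber y') :=
  isLocallyNoetherian_of_field_baseChange (k := Y.residueField (g y')) (K := Y'.residueField y')
    _ (f'.fiberToSpecResidueField y') (f.fiberToSpecResidueField (g y'))
    (g.residueFieldMap y').hom (isPullback_fiberToSpecResidueField_of_isPullback hsq y') hfin

theorem essFiniteType_residueFieldMap (g : Y' ⟶ Y) [LocallyOfFiniteType g] (y' : Y') :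
    (g.residueFieldMap y').hom.EssFiniteType :=
  RingHom.EssFiniteType.residueFieldMap (LocallyOfFiniteType.stalkMap g y')

/-- base change statements for `Dual3.IsGorensteinAt` -/
theorem isGorensteinAt_baseChange (hsq : IsPullback g' f' f g)
    (hfibf : ∀ y, IsLocallyNoetherian (f.fiber y)) [LocallyOfFiniteType g] (x' : X') :
    (Dual3.IsGorensteinAt f (g' x') → Dual3.IsGorensteinAt f' x') ∧
      ((f.stalkMap (g' x')).hom.Flat → Dual3.IsGorensteinAt f' x' →
        Dual3.IsGorensteinAt f (g' x')) ∧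
      ((g.stalkMap (f' x')).hom.Flat → Dual3.IsGorensteinAt f' x' →
        Dual3.IsGorensteinAt f (g' x')) := by
  have hfin := essFiniteType_residueFieldMap g (f' x')
  haveI := hfibf (f (g' x'))
  haveI := hfibf (g (f' x'))
  have hN : IsNoetherianRing ((f.fiber (f (g' x'))).presheaf.stalk (f.asFiber (g' x'))) :=
    inferInstance
  refine ⟨fun h => ?_, fun hfl h => ?_, fun hgl h => ?_⟩
  · haveI := isLocallyNoetherian_fiber_baseChange hsq (f' x') hfin
    refine ⟨Groth.Agent.Helper12.FlatPt.flat_stalkMap_baseChange hsq x' h.1, ?_⟩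
    exact (gor_fibre_baseChange_iff hsq x' inferInstance hN (Or.inl hfin)).mpr h.2
  · haveI := h.2
    exact ⟨hfl, (gor_fibre_baseChange_iff hsq x' inferInstance hN (Or.inl hfin)).mp h.2⟩
  · haveI := h.2
    exact ⟨Groth.Agent.Helper12.FlatPt.flat_stalkMap_of_baseChange hsq x' hgl h.1,
      (gor_fibre_baseChange_iff hsq x' inferInstance hN (Or.inl hfin)).mp h.2⟩

end Groth.Agent.Helper12.GorBC
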