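import Mathlib
import Groth.Agent.Lib.Helper12.GorBC2
import Groth.Agent.Lib.Helper16.Sch.FibCM3
import Groth.Agent.Lib.Lead.Bass3
import Groth.Prelude.Def_MoreMor

/-!
# Cohen–Macaulay morphisms under base change (helper12)
-/

set_option autoImplicit false
set_option linter.style.haveILetI false
universe u

open AlgebraicGeometry CategoryTheory Limits IsLocalRing TensorProduct

namespace Groth.Agent.Helper12.CMBC

open Groth.Agent.Helper16.FibStalk Groth.Agent.Helper16.FibCM Groth.Agent.Helper12.GorBC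

theorem cm_iff_of_ringEquiv {A B : Type u} [CommRing A] [CommRing B] (e : A ≃+* B) :
    LocCoh.IsCohenMacaulayLocalRing A ↔ LocCoh.IsCohenMacaulayLocalRing B :=
  ⟨fun h => @isCM_of_ringEquiv _ _ _ _ e h, fun h => @isCM_of_ringEquiv _ _ _ _ e.symm h⟩

/-- for `f` flat at `x` between Noetherian local rings: `𝒪_{X,x}` is CM iff `𝒪_{Y,f x}` and
the local ring of the fibre at `x` are. -/
theorem cm_stalk_iff {X Y : Scheme.{u}} (f : X ⟶ Y) (x : X)
    [IsNoetherianRing (Y.presheaf.stalk (f x))]
    [IsNoetherianRing (X.presheaf.stalk x)] (hflat : (f.stalkMap x).hom.Flat) :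
    LocCoh.IsCohenMacaulayLocalRing (X.presheaf.stalk x) ↔
      LocCoh.IsCohenMacaulayLocalRing (Y.presheaf.stalk (f x)) ∧
        LocCoh.IsCohenMacaulayLocalRing ((f.fiber (f x)).presheaf.stalk (f.asFiber x)) := by
  letI : Algebra (Y.presheaf.stalk (f x)) (X.presheaf.stalk x) := (f.stalkMap x).hom.toAlgebra
  haveI : IsLocalHom (algebraMap (Y.presheaf.stalk (f x)) (X.presheaf.stalk x)) :=
    inferInstanceAs (IsLocalHom (f.stalkMap x).hom)
  haveI : Module.Flat (Y.presheaf.stalk (f x)) (X.presheaf.stalk x) := hflat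
  rw [isCM_iff_base_and_fibre (R := Y.presheaf.stalk (f x)) (S := X.presheaf.stalk x)
    (fibIdeal f x) rfl, cm_iff_of_ringEquiv (fibStalkEquiv f x)]

theorem cm_fibre_stalk_iff_quot {X Y : Scheme.{u}} (f : X ⟶ Y) (y : Y) (z : f.fiber y) (x : X)
    (hx : f.fiberι y z = x) :
    LocCoh.IsCohenMacaulayLocalRing ((f.fiber y).presheaf.stalk z) ↔
      LocCoh.IsCohenMacaulayLocalRing (X.presheaf.stalk x ⧸ fibIdeal f x) :=
  (cm_iff_of_ringEquiv (quotEquivStalkFiberOfEq f y z x hx)).symm

section BC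

variable {X Y X' Y' : Scheme.{u}} {f : X ⟶ Y} {g : Y' ⟶ Y} {f' : X' ⟶ Y'} {g' : X' ⟶ X}

/-- **Base change of the Cohen–Macaulay property of fibre local rings.** -/
theorem cm_fibre_baseChange_iff (hsq : IsPullback g' f' f g) (x' : X')
    (hN' : IsNoetherianRing ((f'.fiber (f' x')).presheaf.stalk (f'.asFiber x')))
    (hN : IsNoetherianRing ((f.fiber (f (g' x'))).presheaf.stalk (f.asFiber (g' x'))))
    (hfin : (g.residueFieldMap (f' x')).hom.EssFiniteType ∨ LocallyOfFiniteType f) :
    LocCoh.IsCohenMacaulayLocalRing ((f'.fiber (f' x')).presheaf.stalk (f'.asFiber x')) ↔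
      LocCoh.IsCohenMacaulayLocalRing
        ((f.fiber (f (g' x'))).presheaf.stalk (f.asFiber (g' x'))) := by
  set y' := f' x' with hy'
  let h : f'.fiber y' ⟶ f.fiber (g y') :=
    pullback.map _ _ _ _ g' (Spec.map (g.residueFieldMap y')) g hsq.w.symm (by simp)
  have sqh : IsPullback h (f'.fiberToSpecResidueField y') (f.fiberToSpecResidueField (g y'))
      (Spec.map (g.residueFieldMap y')) := isPullback_fiberToSpecResidueField_of_isPullback hsq y'
  let z' : f'.fiber y' := f'.asFiber x'
  have hcomp : h ≫ f.fiberι (g y') = f'.fiberι y' ≫ g' := pullback.lift_fst _ _ _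
  have hz : f.fiberι (g y') (h z') = g' x' := by
    rw [← Scheme.Hom.comp_apply, hcomp, Scheme.Hom.comp_apply]
    exact congrArg g' (f'.fiberι_asFiber x')
  haveI : IsNoetherianRing ((f'.fiber y').presheaf.stalk z') := hN'
  haveI : IsNoetherianRing ((f.fiber (g y')).presheaf.stalk (h z')) := by
    rw [isNoetherianRing_fibre_stalk_iff_quot f (g y') (h z') (g' x') hz,
      ← isNoetherianRing_fibre_stalk_iff_quot f (f (g' x')) (f.asFiber (g' x')) (g' x')
        (f.fiberι_asFiber _)]
    exact hN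
  haveI hflat : Flat h := by
    have h0 : Flat (Spec.map (g.residueFieldMap y')) := by
      rw [Flat.SpecMap_iff]
      letI := (g.residueFieldMap y').hom.toAlgebra
      exact RingHom.flat_algebraMap_iff.mpr inferInstance
    exact MorphismProperty.of_isPullback sqh.flip h0
  rw [cm_stalk_iff h z' (Flat.stalkMap h z')]
  rw [cm_fibre_stalk_iff_quot f (g y') (h z') (g' x') hz,
    ← cm_fibre_stalk_iff_quot f (f (g' x')) (f.asFiber (g' x')) (g' x') (f.fiberι_asFiber _)]
  refine and_iff_left ?_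
  obtain ⟨ψ, hψ1, hψ2⟩ := exists_residueField_hom (k := Y.residueField (g y'))
    (f.fiberToSpecResidueField (g y')) (h z')
  have hG := gor_fibre_of_field_baseChange (k := Y.residueField (g y'))
    (K := Y'.residueField y') h
    (f'.fiberToSpecResidueField y') (f.fiberToSpecResidueField (g y'))
    (g.residueFieldMap y').hom sqh (h z') ψ hψ1 ?_ (h.asFiber z')
  · haveI := hG
    exact Groth.Agent.Lead.Depth.isCohenMacaulayLocalRing_of_isGorensteinLocalRing _
  rcases hfin with h1 | h2
  · exact Or.inl h1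
  · refine Or.inr (hψ2 ?_)
    exact MorphismProperty.pullback_snd _ _ h2

/-- base change statements for `MoreMor.IsCMAt` -/
theorem isCMAt_baseChange (hsq : IsPullback g' f' f g)
    (hfibf : ∀ y, IsLocallyNoetherian (f.fiber y)) [LocallyOfFiniteType g] (x' : X') :
    (MoreMor.IsCMAt f (g' x') → MoreMor.IsCMAt f' x') ∧
      ((f.stalkMap (g' x')).hom.Flat → MoreMor.IsCMAt f' x' →
        MoreMor.IsCMAt f (g' x')) ∧
      ((g.stalkMap (f' x')).hom.Flat → MoreMor.IsCMAt f' x' →
        MoreMor.IsCMAt f (g' x')) := by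
  have hfin := essFiniteType_residueFieldMap g (f' x')
  haveI := hfibf (f (g' x'))
  haveI := hfibf (g (f' x'))
  have hN : IsNoetherianRing ((f.fiber (f (g' x'))).presheaf.stalk (f.asFiber (g' x'))) :=
    inferInstance
  refine ⟨fun h => ?_, fun hfl h => ?_, fun hgl h => ?_⟩
  · haveI := isLocallyNoetherian_fiber_baseChange hsq (f' x') hfin
    refine ⟨Groth.Agent.Helper12.FlatPt.flat_stalkMap_baseChange hsq x' h.1, ?_⟩
    exact (cm_fibre_baseChange_iff hsq x' inferInstance hN (Or.inl hfin)).mpr h.2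
  · haveI := h.2
    exact ⟨hfl, (cm_fibre_baseChange_iff hsq x' inferInstance hN (Or.inl hfin)).mp h.2⟩
  · haveI := h.2
    exact ⟨Groth.Agent.Helper12.FlatPt.flat_stalkMap_of_baseChange hsq x' hgl h.1,
      (cm_fibre_baseChange_iff hsq x' inferInstance hN (Or.inl hfin)).mp h.2⟩

/-- for flat, locally of finite type `f`: `IsCMAt` commutes with arbitrary base change. -/
theorem isCMAt_baseChange_iff [Flat f] [LocallyOfFiniteType f] (hsq : IsPullback g' f' f g)
    (x' : X') : MoreMor.IsCMAt f' x' ↔ MoreMor.IsCMAt f (g' x') := by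
  haveI hf' : Flat f' := MorphismProperty.of_isPullback hsq ‹Flat f›
  haveI hft' : LocallyOfFiniteType f' := MorphismProperty.of_isPullback hsq ‹LocallyOfFiniteType f›
  haveI : LocallyOfFiniteType (f.fiberToSpecResidueField (f (g' x'))) :=
    MorphismProperty.pullback_snd _ _ ‹LocallyOfFiniteType f›
  haveI : IsLocallyNoetherian (f.fiber (f (g' x'))) :=
    LocallyOfFiniteType.isLocallyNoetherian (f.fiberToSpecResidueField _)
  haveI : LocallyOfFiniteType (f'.fiberToSpecResidueField (f' x')) :=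
    MorphismProperty.pullback_snd _ _ hft'
  haveI : IsLocallyNoetherian (f'.fiber (f' x')) :=
    LocallyOfFiniteType.isLocallyNoetherian (f'.fiberToSpecResidueField _)
  unfold MoreMor.IsCMAt
  rw [cm_fibre_baseChange_iff hsq x' inferInstance inferInstance
    (Or.inr ‹LocallyOfFiniteType f›)]
  exact ⟨fun h => ⟨Flat.stalkMap f _, h.2⟩, fun h => ⟨Flat.stalkMap f' _, h.2⟩⟩

end BC

end Groth.Agent.Helper12.CMBC
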