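import Mathlib
import Groth.Agent.Lib.Helper12.CMBC
import Groth.Agent.Lib.Lead.Depth2

/-!
# Local rings along étale morphisms: Gorenstein / Cohen–Macaulay (helper12)
-/

set_option autoImplicit false
set_option linter.style.haveILetI false
universe u

open AlgebraicGeometry CategoryTheory Limits IsLocalRing TensorProduct

namespace Groth.Agent.Helper12.EtStalk

open Groth.Agent.Helper16.FibStalk Groth.Agent.Helper12.GorFlatLoc

variable {X Y : Scheme.{u}}

/-- unramified, locally of finite type: `𝔪_y 𝒪_{X,x} = 𝔪_x`. -/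
theorem fibIdeal_eq_maximalIdeal (f : X ⟶ Y) [FormallyUnramified f] [LocallyOfFiniteType f]
    (x : X) : fibIdeal f x = maximalIdeal (X.presheaf.stalk x) := by
  algebraize [(f.stalkMap x).hom]
  have : IsLocalHom (algebraMap (Y.presheaf.stalk (f x)) (X.presheaf.stalk x)) :=
    inferInstanceAs <| IsLocalHom (f.stalkMap x).hom
  have : Algebra.EssFiniteType (Y.presheaf.stalk (f x)) (X.presheaf.stalk x) := by
    rw [← RingHom.essFiniteType_algebraMap, RingHom.algebraMap_toAlgebra]
    exact LocallyOfFiniteType.stalkMap f x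
  have : Algebra.FormallyUnramified (Y.presheaf.stalk (f x)) (X.presheaf.stalk x) := by
    rw [← RingHom.formallyUnramified_algebraMap, RingHom.algebraMap_toAlgebra]
    exact FormallyUnramified.stalkMap f x
  exact Algebra.FormallyUnramified.map_maximalIdeal

/-- a local ring with zero maximal ideal is a regular local ring. -/
theorem isRegularLocalRing_of_maximalIdeal_eq_bot (R : Type u) [CommRing R] [IsLocalRing R]
    (h : maximalIdeal R = ⊥) : IsRegularLocalRing R := by
  have hF : IsField R := IsLocalRing.isField_iff_maximalIdeal_eq.mpr h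
  haveI : IsDomain R := hF.isDomain
  haveI : IsPrincipalIdealRing R := hF.isPrincipalIdealRing
  infer_instance

theorem gor_of_maximalIdeal_eq_bot (R : Type u) [CommRing R] [IsLocalRing R]
    (h : maximalIdeal R = ⊥) : LocCoh.IsGorensteinLocalRing R := by
  haveI := isRegularLocalRing_of_maximalIdeal_eq_bot R h
  exact Groth.Agent.Lead.Depth.isGorensteinLocalRing_of_isRegularLocalRing _

theorem cm_of_maximalIdeal_eq_bot (R : Type u) [CommRing R] [IsLocalRing R]
    (h : maximalIdeal R = ⊥) : LocCoh.IsCohenMacaulayLocalRing R := by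
  haveI := gor_of_maximalIdeal_eq_bot R h
  exact Groth.Agent.Lead.Depth.isCohenMacaulayLocalRing_of_isGorensteinLocalRing _

theorem maximalIdeal_quot_maximalIdeal (R : Type u) [CommRing R] [IsLocalRing R] :
    maximalIdeal (R ⧸ maximalIdeal R) = ⊥ :=
  IsLocalRing.isField_iff_maximalIdeal_eq.mp
    ((Ideal.Quotient.maximal_ideal_iff_isField_quotient _).mp (maximalIdeal.isMaximal R))

/-- the fibre local ring of an unramified morphism has zero maximal ideal. -/
theorem maximalIdeal_fibre_stalk_eq_bot (f : X ⟶ Y) [FormallyUnramified f]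
    [LocallyOfFiniteType f] (x : X) :
    maximalIdeal ((f.fiber (f x)).presheaf.stalk (f.asFiber x)) = ⊥ := by
  rw [← map_toFibStalk_maximalIdeal, ← fibIdeal_eq_maximalIdeal f x, ← ker_toFibStalk]
  exact (Ideal.map_eq_bot_iff_le_ker _).mpr le_rfl

/-- étale: `𝒪_{U,u}` is Gorenstein iff `𝒪_{X,α u}` is. -/
theorem gor_stalk_iff_of_etale (α : X ⟶ Y) [Etale α] (u : X)
    [IsNoetherianRing (Y.presheaf.stalk (α u))] [IsNoetherianRing (X.presheaf.stalk u)] :
    LocCoh.IsGorensteinLocalRing (X.presheaf.stalk u) ↔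
      LocCoh.IsGorensteinLocalRing (Y.presheaf.stalk (α u)) := by
  rw [GorSch.gor_stalk_iff α u (Flat.stalkMap α u)]
  exact and_iff_left (gor_of_maximalIdeal_eq_bot _ (maximalIdeal_fibre_stalk_eq_bot α u))

/-- étale: `𝒪_{U,u}` is Cohen–Macaulay iff `𝒪_{X,α u}` is. -/
theorem cm_stalk_iff_of_etale (α : X ⟶ Y) [Etale α] (u : X)
    [IsNoetherianRing (Y.presheaf.stalk (α u))] [IsNoetherianRing (X.presheaf.stalk u)] :
    LocCoh.IsCohenMacaulayLocalRing (X.presheaf.stalk u) ↔
      LocCoh.IsCohenMacaulayLocalRing (Y.presheaf.stalk (α u)) := by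
  rw [CMBC.cm_stalk_iff α u (Flat.stalkMap α u)]
  exact and_iff_left (cm_of_maximalIdeal_eq_bot _ (maximalIdeal_fibre_stalk_eq_bot α u))

/-- local rings of a scheme unramified over a field have zero maximal ideal. -/
theorem maximalIdeal_stalk_eq_bot_of_unramified_field {k : Type u} [Field k] {V : Scheme.{u}}
    (β : V ⟶ Spec (.of k)) [FormallyUnramified β] [LocallyOfFiniteType β] (v : V) :
    maximalIdeal (V.presheaf.stalk v) = ⊥ := by
  rw [← fibIdeal_eq_maximalIdeal β v, fibIdeal_def]
  have h0 : maximalIdeal ((Spec (.of k)).presheaf.stalk (β v)) = ⊥ := by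
    rw [eq_bot_iff]
    intro b hb
    exact eq_zero_of_not_isUnit_stalk_Spec_field k (β v) b hb
  rw [h0, Ideal.map_bot]

/-- for a morphism to a scheme whose local ring at the image point has zero maximal ideal: flat at
the point, and the fibre local ring is the local ring. -/
theorem flat_of_maximalIdeal_eq_bot (h : X ⟶ Y) (u : X)
    (hv : maximalIdeal (Y.presheaf.stalk (h u)) = ⊥) : (h.stalkMap u).hom.Flat := by
  have hF : IsField (Y.presheaf.stalk (h u)) := IsLocalRing.isField_iff_maximalIdeal_eq.mpr hv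
  letI := hF.toField
  algebraize [(h.stalkMap u).hom]
  exact (inferInstance : Module.Flat (Y.presheaf.stalk (h u)) (X.presheaf.stalk u))

noncomputable def fibStalkEquivOfBot (h : X ⟶ Y) (u : X)
    (hv : maximalIdeal (Y.presheaf.stalk (h u)) = ⊥) :
    X.presheaf.stalk u ≃+* (h.fiber (h u)).presheaf.stalk (h.asFiber u) :=
  (RingEquiv.quotientBot _).symm.trans
    ((Ideal.quotEquivOfEq (by rw [fibIdeal_def, hv, Ideal.map_bot])).trans (fibStalkEquiv h u))

end Groth.Agent.Helper12.EtStalk
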