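import Mathlib
import Groth.Agent.Lib.Helper12.EtStalk
import Groth.Prelude.Def_StCurv2

/-!
# Gorenstein / CM curves over a field in étale charts (helper12)
-/

set_option autoImplicit false
set_option linter.style.haveILetI false
universe u

open AlgebraicGeometry CategoryTheory Limits IsLocalRing TensorProduct

namespace Groth.Agent.Helper12.EtStalk

open Groth.Agent.Helper16.FibStalk Groth.Agent.Helper12.GorFlatLoc

theorem maximalIdeal_stalk_Spec_field (k : Type u) [Field k] (q : Spec (.of k)) :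
    maximalIdeal ((Spec (.of k)).presheaf.stalk q) = ⊥ := by
  rw [eq_bot_iff]
  intro b hb
  exact eq_zero_of_not_isUnit_stalk_Spec_field k q b hb

variable {k : Type u} [Field k] {X U V : Scheme.{u}}

theorem chart_gor (p : X ⟶ Spec (.of k)) [LocallyOfFiniteType p]
    (hX : ∀ x : X, LocCoh.IsGorensteinLocalRing (X.presheaf.stalk x))
    (α : U ⟶ X) [Etale α] (β : V ⟶ Spec (.of k)) [Etale β] (h : U ⟶ V) (u : U) :
    (h.stalkMap u).hom.Flat ∧
      LocCoh.IsGorensteinLocalRing ((h.fiber (h u)).presheaf.stalk (h.asFiber u)) := by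
  have hv := maximalIdeal_stalk_eq_bot_of_unramified_field β (h u)
  haveI : IsLocallyNoetherian X := LocallyOfFiniteType.isLocallyNoetherian p
  haveI : IsLocallyNoetherian U := LocallyOfFiniteType.isLocallyNoetherian α
  refine ⟨flat_of_maximalIdeal_eq_bot h u hv, ?_⟩
  rw [← gor_iff_of_ringEquiv (fibStalkEquivOfBot h u hv), gor_stalk_iff_of_etale α u]
  exact hX _

theorem gor_of_fibre (p : X ⟶ Spec (.of k)) (x : X)
    (h : LocCoh.IsGorensteinLocalRing ((p.fiber (p x)).presheaf.stalk (p.asFiber x))) :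
    LocCoh.IsGorensteinLocalRing (X.presheaf.stalk x) :=
  (gor_iff_of_ringEquiv (fibStalkEquivOfBot p x (maximalIdeal_stalk_Spec_field k _))).mpr h

theorem chart_cm (p : X ⟶ Spec (.of k)) [LocallyOfFiniteType p]
    (hX : ∀ x : X, LocCoh.IsCohenMacaulayLocalRing (X.presheaf.stalk x))
    (α : U ⟶ X) [Etale α] (β : V ⟶ Spec (.of k)) [Etale β] (h : U ⟶ V) (u : U) :
    MoreMor.IsCMAt h u := by
  have hv := maximalIdeal_stalk_eq_bot_of_unramified_field β (h u)
  haveI : IsLocallyNoetherian X := LocallyOfFiniteType.isLocallyNoetherian p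
  haveI : IsLocallyNoetherian U := LocallyOfFiniteType.isLocallyNoetherian α
  refine ⟨flat_of_maximalIdeal_eq_bot h u hv, ?_⟩
  rw [← CMBC.cm_iff_of_ringEquiv (fibStalkEquivOfBot h u hv), cm_stalk_iff_of_etale α u]
  exact hX _

theorem cm_of_fibre (p : X ⟶ Spec (.of k)) (x : X)
    (h : LocCoh.IsCohenMacaulayLocalRing ((p.fiber (p x)).presheaf.stalk (p.asFiber x))) :
    LocCoh.IsCohenMacaulayLocalRing (X.presheaf.stalk x) :=
  (CMBC.cm_iff_of_ringEquiv (fibStalkEquivOfBot p x (maximalIdeal_stalk_Spec_field k _))).mpr h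

section AlgSp

variable (S : Scheme.{u}) (t : Spec (CommRingCat.of k) ⟶ S) (p : X ⟶ Spec (CommRingCat.of k))

/-- chart-wise criterion for a morphism `X → Spec k` viewed in `Sp S`. -/
theorem locP_iff (P : ∀ {U V : Scheme.{u}} (g : U ⟶ V), Prop)
    (hchart : ∀ {U V : Scheme.{u}} (α : U ⟶ X) [Etale α] (β : V ⟶ Spec (.of k)) [Etale β]
      (h : U ⟶ V), P h) :
    AlgSp.LocP (fun _ _ g => P g)
      ((AlgSp.yon S).map (Over.homMk p rfl : Over.mk (p ≫ t) ⟶ Over.mk t)) := by
  intro U V a b h ha hb _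
  obtain ⟨α, rfl⟩ := (AlgSp.yon S).map_surjective a
  obtain ⟨β, rfl⟩ := (AlgSp.yon S).map_surjective b
  haveI : Etale α.left := (AlgSp.repWith_yon_map_iff @Etale α).mp ha
  haveI : Etale β.left := (AlgSp.repWith_yon_map_iff @Etale β).mp hb
  exact hchart α.left β.left h.left

end AlgSp

end Groth.Agent.Helper12.EtStalk
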