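import Mathlib
import Groth.Agent.Lib.Helper2.GenericPts

/-!
# A Noetherian scheme has a dense affine open (helper12)
-/

set_option autoImplicit false
set_option linter.style.haveILetI false
set_option linter.unusedSectionVars false

universe u

open CategoryTheory AlgebraicGeometry TopologicalSpace

namespace Groth.Agent.Helper12.DenseAff

theorem exists_dense_affineOpen (X : Scheme.{u}) [IsNoetherian X] :
    ∃ U : X.Opens, IsAffineOpen U ∧ Dense (U : Set X) := by
  classical
  rcases isEmpty_or_nonempty X with hE | ⟨⟨x⟩⟩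
  · exact ⟨⊥, isAffineOpen_bot X, fun y => isEmptyElim y⟩
  have hfin : (irreducibleComponents X).Finite :=
    TopologicalSpace.NoetherianSpace.finite_irreducibleComponents
  have hgen : ∀ Z : Set X, Z ∈ irreducibleComponents X → ∃ η : X, IsGenericPoint η Z := by
    intro Z hZ
    exact QuasiSober.sober hZ.1 (isClosed_of_mem_irreducibleComponents Z hZ)
  haveI : Nonempty X := ⟨x⟩
  choose! gp hgp using hgen
  let T : Finset X := hfin.toFinset.image gp
  have hT : ∀ η ∈ T, closure ({η} : Set X) ∈ irreducibleComponents (X : Type u) := by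
    intro η hη
    obtain ⟨Z, hZ, rfl⟩ := Finset.mem_image.mp hη
    have hZ' : Z ∈ irreducibleComponents X := hfin.mem_toFinset.mp hZ
    rw [(hgp Z hZ').def]
    exact hZ'
  obtain ⟨U, hU, -, hTU⟩ := Groth.Agent.Helper2.GenericPts.exists_affine_of_finset x T hT
  refine ⟨U, hU, ?_⟩
  rw [dense_iff_closure_eq, Set.eq_univ_iff_forall]
  intro y
  have hy : y ∈ ⋃₀ irreducibleComponents X := by
    rw [sUnion_irreducibleComponents]; trivial
  obtain ⟨Z, hZ, hyZ⟩ := hy
  have h1 : gp Z ∈ (U : Set X) :=
    hTU _ (Finset.mem_image.mpr ⟨Z, hfin.mem_toFinset.mpr hZ, rfl⟩)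
  have h2 : Z = closure {gp Z} := (hgp Z hZ).def.symm
  rw [h2] at hyZ
  exact closure_mono (Set.singleton_subset_iff.mpr h1) hyZ

end Groth.Agent.Helper12.DenseAff
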