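import Mathlib

/-!
# Dimension of representations of matrix algebras over division algebras

If `ρ : M_n(Δ) →ₐ[F] End_F(M)` is a representation on a finite-dimensional `F`-space and `Δ` is a
division `F`-algebra, then `n * dim_F Δ ∣ dim_F M`.
-/

namespace Groth.Agent.Helper12.MatRepDim

open Matrix

variable {F : Type*} [Field F] {Δ : Type*} [DivisionRing Δ] [Algebra F Δ]
  {M : Type*} [AddCommGroup M] [Module F M] {n : ℕ}

section
variable (ρ : Matrix (Fin n) (Fin n) Δ →ₐ[F] Module.End F M)

/-- the corner subspace `E₀₀ M`. -/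
def corner (i₀ : Fin n) : Submodule F M := LinearMap.range (ρ (single i₀ i₀ (1 : Δ)))

theorem rho_single_mul (i j l : Fin n) (a b : Δ) (x : M) :
    ρ (single i j a) (ρ (single j l b) x) = ρ (single i l (a * b)) x := by
  rw [← Module.End.mul_apply, ← map_mul, single_mul_single_same]

theorem rho_single_mul_ne (i j j' l : Fin n) (h : j ≠ j') (a b : Δ) (x : M) :
    ρ (single i j a) (ρ (single j' l b) x) = 0 := by
  rw [← Module.End.mul_apply, ← map_mul, single_mul_single_of_ne _ _ _ _ h, map_zero,
    LinearMap.zero_apply]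

theorem corner_fixed (i₀ : Fin n) (y : corner ρ i₀) :
    ρ (single i₀ i₀ (1 : Δ)) (y : M) = y := by
  obtain ⟨x, hx⟩ := y.2
  rw [← hx, rho_single_mul, one_mul]

theorem mem_corner (i₀ j : Fin n) (a : Δ) (x : M) : ρ (single i₀ j a) x ∈ corner ρ i₀ :=
  ⟨ρ (single i₀ j a) x, by rw [rho_single_mul, one_mul]⟩

/-- The action of `Δ` on the corner. -/
noncomputable def cornerHom (i₀ : Fin n) : Δ →+* Module.End F (corner ρ i₀) where
  toFun a := (ρ (single i₀ i₀ a)).restrict (fun x _ => mem_corner ρ i₀ i₀ a x)
  map_one' := by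
    ext y
    simp [corner_fixed]
  map_mul' a b := by
    ext y
    simp [rho_single_mul]
  map_zero' := by
    ext y
    simp
  map_add' a b := by
    ext y
    simp [single_add]

theorem sum_single_one : ∑ i : Fin n, single i i (1 : Δ) = 1 :=
  Matrix.sum_single_one

/-- `M ≃ (E₀₀M)^n`. -/
noncomputable def equivPi (i₀ : Fin n) : M ≃ₗ[F] (Fin n → corner ρ i₀) where
  toFun x := fun i => ⟨ρ (single i₀ i (1 : Δ)) x, mem_corner ρ i₀ i 1 x⟩
  map_add' x y := by
    ext i
    simp
  map_smul' c x := by
    ext i
    simp
  invFun y := ∑ i, ρ (single i i₀ (1 : Δ)) (y i : M)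
  left_inv x := by
    simp only [rho_single_mul, one_mul]
    rw [← LinearMap.sum_apply, ← map_sum, sum_single_one, map_one, Module.End.one_apply]
  right_inv y := by
    ext j
    simp only [map_sum]
    rw [Finset.sum_eq_single j]
    · rw [rho_single_mul, one_mul, corner_fixed]
    · intro b _ hb
      rw [rho_single_mul_ne _ _ _ _ _ hb.symm]
    · intro h
      exact absurd (Finset.mem_univ j) h

end

theorem dvd_finrank [FiniteDimensional F Δ] [FiniteDimensional F M] [NeZero n]
    (ρ : Matrix (Fin n) (Fin n) Δ →ₐ[F] Module.End F M) :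
    n * Module.finrank F Δ ∣ Module.finrank F M := by
  let i₀ : Fin n := 0
  letI : Module Δ (corner ρ i₀) := Module.compHom _ (cornerHom ρ i₀)
  haveI : IsScalarTower F Δ (corner ρ i₀) := by
    refine ⟨fun c a y => ?_⟩
    apply Subtype.ext
    change (ρ (single i₀ i₀ (c • a))) (y : M) = c • (ρ (single i₀ i₀ a)) (y : M)
    rw [← Matrix.smul_single, map_smul, LinearMap.smul_apply]
  have h1 : Module.finrank F M = n * Module.finrank F (corner ρ i₀) := by
    rw [(equivPi ρ i₀).finrank_eq, Module.finrank_pi_fintype]
    simp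
  have h2 := Module.finrank_mul_finrank F Δ (corner ρ i₀)
  rw [h1, ← h2, ← mul_assoc]
  exact Dvd.intro _ rfl

/-- The column-vector representation of a matrix algebra over an `F`-algebra `Δ`. -/
noncomputable def colRep (F : Type*) [Field F] (Δ : Type*) [Ring Δ] [Algebra F Δ] (n : ℕ) :
    Matrix (Fin n) (Fin n) Δ →ₐ[F] Module.End F (Fin n → Δ) :=
  AlgHom.ofLinearMap
    { toFun := fun X =>
        { toFun := fun v => X.mulVec v
          map_add' := fun v w => Matrix.mulVec_add _ _ _
          map_smul' := fun c v => by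
            simp only [RingHom.id_apply]
            exact Matrix.mulVec_smul _ _ _ }
      map_add' := fun X Y => by
        refine LinearMap.ext fun v => ?_
        exact Matrix.add_mulVec X Y v
      map_smul' := fun c X => by
        refine LinearMap.ext fun v => ?_
        exact Matrix.smul_mulVec c X v }
    (by
      refine LinearMap.ext fun v => ?_
      exact Matrix.one_mulVec v)
    (fun X Y => by
      refine LinearMap.ext fun v => ?_
      exact (Matrix.mulVec_mulVec v X Y).symm)

theorem finrank_col (F : Type*) [Field F] (Δ : Type*) [Ring Δ] [Algebra F Δ]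
    [FiniteDimensional F Δ] (n : ℕ) :
    Module.finrank F (Fin n → Δ) = n * Module.finrank F Δ := by
  rw [Module.finrank_pi_fintype]
  simp

end Groth.Agent.Helper12.MatRepDim
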