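import Mathlib
import Groth.Agent.Lib.Helper12.MatRepDim

/-!
# Index of a base change: `d' ∣ d` and `d ∣ [K:k] d'`
-/

namespace Groth.Agent.Helper12.IndexBC

open TensorProduct Groth.Agent.Helper12.MatRepDim

universe u v w

/-- restriction of scalars on endomorphisms, as an algebra map. -/
noncomputable def endRestrict (k K V : Type*) [Field k] [Field K] [Algebra k K] [AddCommGroup V]
    [Module k V] [Module K V] [IsScalarTower k K V] :
    Module.End K V →ₐ[k] Module.End k V :=
  AlgHom.ofLinearMap (LinearMap.restrictScalarsₗ k K V V k) rfl (fun _ _ => rfl)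

theorem index_dvd (k : Type u) [Field k] (K : Type u) [Field K] [Algebra k K]
    [FiniteDimensional k K]
    (A : Type v) [Ring A] [Algebra k A] [Nontrivial A] [FiniteDimensional k A]
    (D : Type v) [DivisionRing D] [Algebra k D] [FiniteDimensional k D]
    (m : ℕ) (iso : A ≃ₐ[k] Matrix (Fin m) (Fin m) D) (d : ℕ) (hd : Module.finrank k D = d ^ 2)
    (D' : Type w) [DivisionRing D'] [Algebra K D'] [FiniteDimensional K D']
    (m' : ℕ) (iso' : (K ⊗[k] A) ≃ₐ[K] Matrix (Fin m') (Fin m') D') (d' : ℕ)
    (hd' : Module.finrank K D' = d' ^ 2) : d' ∣ d ∧ d ∣ Module.finrank k K * d' := by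
  -- dimension bookkeeping
  have hA : Module.finrank k A = m * m * d ^ 2 := by
    rw [iso.toLinearEquiv.finrank_eq, Module.finrank_matrix, Fintype.card_fin, hd]
  have hKA : Module.finrank K (K ⊗[k] A) = Module.finrank k A := Module.finrank_baseChange
  have hKA' : Module.finrank K (K ⊗[k] A) = m' * m' * d' ^ 2 := by
    rw [iso'.toLinearEquiv.finrank_eq, Module.finrank_matrix, Fintype.card_fin, hd']
  have hApos : 0 < Module.finrank k A := Module.finrank_pos
  have hsq : (m * d) ^ 2 = (m' * d') ^ 2 := by
    have : m * m * d ^ 2 = m' * m' * d' ^ 2 := by rw [← hA, ← hKA, hKA']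
    nlinarith [this]
  have hmd : m * d = m' * d' := Nat.pow_left_injective (n := 2) (by norm_num) hsq
  have hmdpos : 0 < m * d := by
    rcases Nat.eq_zero_or_pos (m * d) with h | h
    · rw [hA] at hApos
      have : m * m * d ^ 2 = (m * d) ^ 2 := by ring
      rw [this, h] at hApos
      simp at hApos
    · exact h
  have hm : m ≠ 0 := fun h => by simp [h] at hmdpos
  have hm' : m' ≠ 0 := fun h => by rw [hmd] at hmdpos; simp [h] at hmdpos
  haveI : NeZero m := ⟨hm⟩
  haveI : NeZero m' := ⟨hm'⟩
  -- first representation: `K ⊗ D^m` as a module over `M_{m'}(D')`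
  have h1 : m' * d' ^ 2 ∣ m * d ^ 2 := by
    let ρT : A →ₐ[k] Module.End k (Fin m → D) := (colRep k D m).comp iso.toAlgHom
    let ρ2 : Matrix (Fin m') (Fin m') D' →ₐ[K] Module.End K (K ⊗[k] (Fin m → D)) :=
      ((LinearMap.tensorProductEnd k K (Fin m → D)).comp
        (Algebra.TensorProduct.map (AlgHom.id K K) ρT)).comp iso'.symm.toAlgHom
    have := dvd_finrank ρ2
    rw [hd', Module.finrank_baseChange, finrank_col, hd] at this
    exact this
  -- second representation: `D'^{m'}` as a module over `M_m(D)`
  have h2 : m * d ^ 2 ∣ Module.finrank k K * (m' * d' ^ 2) := by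
    letI : Algebra k D' := RingHom.toAlgebra' ((algebraMap K D').comp (algebraMap k K))
      (fun c x => Algebra.commutes (algebraMap k K c) x)
    haveI : IsScalarTower k K D' := IsScalarTower.of_algebraMap_eq (fun x => rfl)
    let ρ1 : Matrix (Fin m) (Fin m) D →ₐ[k] Module.End k (Fin m' → D') :=
      (((endRestrict k K (Fin m' → D')).comp ((colRep K D' m').restrictScalars k)).comp
        ((iso'.toAlgHom.restrictScalars k).comp
          Algebra.TensorProduct.includeRight)).comp iso.symm.toAlgHom
    haveI : FiniteDimensional k (Fin m' → D') := Module.Finite.trans K _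
    haveI : FiniteDimensional k D' := Module.Finite.trans K _
    have := dvd_finrank ρ1
    rw [hd, ← Module.finrank_mul_finrank k K (Fin m' → D'), finrank_col, hd'] at this
    exact this
  have e1 : m' * d' ^ 2 = (m * d) * d' := by rw [hmd]; ring
  have e2 : m * d ^ 2 = (m * d) * d := by ring
  constructor
  · rw [e1, e2] at h1
    exact Nat.dvd_of_mul_dvd_mul_left hmdpos h1
  · have e3 : Module.finrank k K * (m' * d' ^ 2) = (m * d) * (Module.finrank k K * d') := by
      rw [e1]; ring
    rw [e3, e2] at h2
    exact Nat.dvd_of_mul_dvd_mul_left hmdpos h2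

end Groth.Agent.Helper12.IndexBC
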