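import Mathlib

/-!
# Sub-lemmas (1), (2) for helper14's lemma L5 (connectedness of Weil restrictions, S8214)

* `exists_idempotent_of_isMaximal`: an idempotent of an Artinian ring concentrated at one maximal ideal.
* `eq_zero_or_one_of_connectedSpace`: connected spectrum implies only trivial idempotents.
* `eq_zero_or_one_of_isAlgClosure`, `eq_zero_or_one_of_tensor_quotient`: the ring `F ⊗[k'] C'`,
  `F` an algebraic closure of `k'` (e.g. a residue field of `k' ⊗[k] K`), has only trivial idempotents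
  if `AlgebraicClosure k' ⊗[k'] C'` has connected spectrum.
* `isArtinianRing_tensor`, `iota`, `iota_bijective`, `isAlgClosed_quotient`, `isAlgebraic_quotient`.
-/

set_option autoImplicit false
set_option linter.style.haveILetI false
set_option linter.unusedSectionVars false
universe u
open TensorProduct

namespace Groth.Agent.Helper12.WeilConnL5


/-- (1) an idempotent of an Artinian ring concentrated at one maximal ideal. -/
theorem exists_idempotent_of_isMaximal {Λ : Type u} [CommRing Λ] [IsArtinianRing Λ]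
    (n : Ideal Λ) [hn : n.IsMaximal] :
    ∃ ε : Λ, IsIdempotentElem ε ∧ ε - 1 ∈ n ∧
      (∀ n' : Ideal Λ, n'.IsMaximal → n' ≠ n → ε ∈ n') ∧ ∀ x ∈ n, ε * x ∈ nilradical Λ := by
  classical
  let n₀ : MaximalSpectrum Λ := ⟨n, hn⟩
  let E := IsArtinianRing.quotNilradicalEquivPi Λ
  let e₀ : ∀ I : MaximalSpectrum Λ, Λ ⧸ I.asIdeal := Pi.single n₀ 1
  have he₀ : IsIdempotentElem e₀ := by
    funext I
    by_cases h : I = n₀
    · subst h
      simp [e₀]
    · simp [e₀, Pi.single_eq_of_ne h]
  have he₁ : IsIdempotentElem (E.symm e₀) := by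
    unfold IsIdempotentElem at he₀ ⊢
    rw [← map_mul, he₀]
  obtain ⟨ε, hε, hεe⟩ := exists_isIdempotentElem_eq_of_ker_isNilpotent
    (Ideal.Quotient.mk (nilradical Λ)) (fun x hx => by
      rw [Ideal.mk_ker] at hx
      exact hx) (E.symm e₀) (by
      obtain ⟨y, hy⟩ := Ideal.Quotient.mk_surjective (I := nilradical Λ) (E.symm e₀)
      exact ⟨y, hy⟩) he₁
  have key : ∀ I : MaximalSpectrum Λ, Ideal.Quotient.mk I.asIdeal ε = e₀ I := by
    intro I
    have h1 : E (Ideal.Quotient.mk (nilradical Λ) ε) = e₀ := by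
      rw [hεe, AlgEquiv.apply_symm_apply]
    have h2 : E (Ideal.Quotient.mk (nilradical Λ) ε) I = Ideal.Quotient.mk I.asIdeal ε := rfl
    rw [← h2, h1]
  have hmem : ∀ n' : Ideal Λ, n'.IsMaximal → n' ≠ n → ε ∈ n' := by
    intro n' hn' hne
    have := key ⟨n', hn'⟩
    have hne' : (⟨n', hn'⟩ : MaximalSpectrum Λ) ≠ n₀ := by
      intro h
      exact hne (congrArg MaximalSpectrum.asIdeal h)
    rw [show e₀ ⟨n', hn'⟩ = 0 from Pi.single_eq_of_ne hne' _] at this
    exact Ideal.Quotient.eq_zero_iff_mem.1 this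
  refine ⟨ε, hε, ?_, hmem, ?_⟩
  · have := key n₀
    rw [show e₀ n₀ = 1 from Pi.single_eq_same _ _] at this
    rw [← Ideal.Quotient.eq_zero_iff_mem, map_sub, map_one]
    exact sub_eq_zero.2 this
  · intro x hx
    rw [IsArtinianRing.nilradical_eq_iInf, Ideal.mem_iInf]
    intro I
    by_cases h : I.asIdeal = n
    · rw [h]
      exact n.mul_mem_left _ hx
    · exact I.asIdeal.mul_mem_right _ (hmem I.asIdeal I.isMaximal h)

/-- (2a) a ring with connected spectrum has only trivial idempotents. -/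
theorem eq_zero_or_one_of_connectedSpace {D : Type u} [CommRing D]
    (h : ConnectedSpace (PrimeSpectrum D)) (e : D) (he : IsIdempotentElem e) : e = 0 ∨ e = 1 := by
  have hcl : IsClopen (PrimeSpectrum.basicOpen e : Set (PrimeSpectrum D)) :=
    PrimeSpectrum.isClopen_iff.2 ⟨e, he, rfl⟩
  rcases isClopen_iff.1 hcl with h0 | h1
  · left
    have : PrimeSpectrum.basicOpen e = ⊥ := TopologicalSpace.Opens.ext h0
    rw [PrimeSpectrum.basicOpen_eq_bot_iff] at this
    obtain ⟨m, hm⟩ := this
    rcases Nat.eq_zero_or_pos m with rfl | hpos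
    · rw [pow_zero] at hm
      have : Subsingleton D := subsingleton_of_zero_eq_one hm.symm
      exact Subsingleton.elim _ _
    · obtain ⟨m', rfl⟩ := Nat.exists_eq_succ_of_ne_zero hpos.ne'
      rw [he.pow_succ_eq] at hm
      exact hm
  · right
    have : PrimeSpectrum.basicOpen (1 - e) = ⊥ := by
      apply TopologicalSpace.Opens.ext
      rw [← PrimeSpectrum.zeroLocus_eq_basicOpen_of_isIdempotentElem e he]
      rw [PrimeSpectrum.basicOpen_eq_zeroLocus_of_isIdempotentElem e he] at h1
      ext p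
      simp only [PrimeSpectrum.mem_zeroLocus, Set.singleton_subset_iff, SetLike.mem_coe,
        TopologicalSpace.Opens.coe_bot, Set.mem_empty_iff_false, iff_false]
      intro hp
      have hp' : p ∈ PrimeSpectrum.zeroLocus ({1 - e} : Set D) := h1 ▸ Set.mem_univ p
      rw [PrimeSpectrum.mem_zeroLocus, Set.singleton_subset_iff] at hp'
      have h1mem : (1 : D) ∈ p.asIdeal := by
        have := p.asIdeal.add_mem hp hp'
        rwa [add_sub_cancel] at this
      exact p.isPrime.ne_top ((Ideal.eq_top_iff_one _).2 h1mem)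
    rw [PrimeSpectrum.basicOpen_eq_bot_iff] at this
    obtain ⟨m, hm⟩ := this
    rcases Nat.eq_zero_or_pos m with rfl | hpos
    · rw [pow_zero] at hm
      have : Subsingleton D := subsingleton_of_zero_eq_one hm.symm
      exact Subsingleton.elim _ _
    · obtain ⟨m', rfl⟩ := Nat.exists_eq_succ_of_ne_zero hpos.ne'
      rw [he.one_sub.pow_succ_eq] at hm
      exact (sub_eq_zero.1 hm).symm

/-- (2b) -/
theorem eq_zero_or_one_of_isAlgClosure {k' C' F : Type u} [Field k'] [CommRing C'] [Algebra k' C']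
    [Field F] [Algebra k' F] [IsAlgClosed F] [Algebra.IsAlgebraic k' F]
    (hconn : ConnectedSpace (PrimeSpectrum (AlgebraicClosure k' ⊗[k'] C')))
    (e : F ⊗[k'] C') (he : IsIdempotentElem e) : e = 0 ∨ e = 1 := by
  haveI : IsAlgClosure k' F := ⟨inferInstance, inferInstance⟩
  let φ : F ⊗[k'] C' ≃ₐ[k'] AlgebraicClosure k' ⊗[k'] C' :=
    Algebra.TensorProduct.congr (IsAlgClosure.equiv k' F (AlgebraicClosure k')) AlgEquiv.refl
  have hφe : IsIdempotentElem (φ e) := by
    unfold IsIdempotentElem at he ⊢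
    rw [← map_mul, he]
  rcases eq_zero_or_one_of_connectedSpace hconn (φ e) hφe with h | h
  · left
    exact (map_eq_zero_iff φ φ.injective).1 h
  · right
    exact φ.injective (h.trans (map_one φ).symm)

section Quot

variable {k k' K : Type u} [Field k] [Field k'] [Field K] [Algebra k k'] [Algebra k K]
  [Module.Finite k k']

/-- `K → k' ⊗[k] K` is integral. -/
theorem includeRight_isIntegral :
    ((Algebra.TensorProduct.includeRight : K →ₐ[k] k' ⊗[k] K) : K →+* k' ⊗[k] K).IsIntegral := by
  haveI : Algebra.IsIntegral k k' := Algebra.IsIntegral.of_finite k k'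
  have h1 : (algebraMap K (K ⊗[k] k')).IsIntegral := Algebra.IsIntegral.isIntegral
  have h2 : ((Algebra.TensorProduct.comm k K k' : K ⊗[k] k' ≃ₐ[k] k' ⊗[k] K) :
      K ⊗[k] k' →+* k' ⊗[k] K).IsIntegral :=
    RingHom.isIntegral_of_surjective _ (Algebra.TensorProduct.comm k K k').surjective
  have h3 := RingHom.IsIntegral.trans _ _ h1 h2
  have e : ((Algebra.TensorProduct.comm k K k' : K ⊗[k] k' ≃ₐ[k] k' ⊗[k] K) :
      K ⊗[k] k' →+* k' ⊗[k] K).comp (algebraMap K (K ⊗[k] k')) =
      ((Algebra.TensorProduct.includeRight : K →ₐ[k] k' ⊗[k] K) : K →+* k' ⊗[k] K) := by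
    ext x
    simp [Algebra.TensorProduct.algebraMap_apply]
  rw [e] at h3
  exact h3

theorem isArtinianRing_tensor : IsArtinianRing (k' ⊗[k] K) := by
  haveI : IsArtinianRing (K ⊗[k] k') := IsArtinianRing.of_finite K _
  exact (Algebra.TensorProduct.comm k K k').toRingEquiv.isArtinianRing

variable (n : Ideal (k' ⊗[k] K)) [hn : n.IsMaximal]

/-- the map `K → (k' ⊗[k] K) ⧸ n`. -/
noncomputable def iota : K →+* (k' ⊗[k] K) ⧸ n :=
  (Ideal.Quotient.mk n).comp
    ((Algebra.TensorProduct.includeRight : K →ₐ[k] k' ⊗[k] K) : K →+* k' ⊗[k] K)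

lemma iota_apply (x : K) : iota n x = Ideal.Quotient.mk n ((1 : k') ⊗ₜ[k] x) := rfl

theorem iota_bijective [IsAlgClosed K] : Function.Bijective (iota (k := k) (k' := k') n) := by
  apply IsAlgClosed.ringHom_bijective_of_isIntegral
  exact RingHom.IsIntegral.trans _ _ includeRight_isIntegral
    (RingHom.isIntegral_of_surjective _ Ideal.Quotient.mk_surjective)

theorem isAlgClosed_quotient [IsAlgClosed K] :
    letI := Ideal.Quotient.field n
    IsAlgClosed ((k' ⊗[k] K) ⧸ n) :=
  letI := Ideal.Quotient.field n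
  IsAlgClosed.of_ringEquiv K _ (RingEquiv.ofBijective (iota n) (iota_bijective n))

theorem isAlgebraic_quotient [Algebra.IsAlgebraic k K] :
    Algebra.IsAlgebraic k' ((k' ⊗[k] K) ⧸ n) := by
  haveI : Algebra.IsIntegral k K := Algebra.IsAlgebraic.isIntegral
  haveI : Algebra.IsIntegral k' ((k' ⊗[k] K) ⧸ n) := inferInstance
  exact Algebra.IsIntegral.isAlgebraic

/-- (2) the ring `D = F ⊗[k'] C'`, `F = (k' ⊗[k] K) ⧸ n`, has only trivial idempotents. -/
theorem eq_zero_or_one_of_tensor_quotient [IsAlgClosed K] [Algebra.IsAlgebraic k K]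
    {C' : Type u} [CommRing C'] [Algebra k' C']
    (hconn : ConnectedSpace (PrimeSpectrum (AlgebraicClosure k' ⊗[k'] C')))
    (e : ((k' ⊗[k] K) ⧸ n) ⊗[k'] C') (he : IsIdempotentElem e) : e = 0 ∨ e = 1 := by
  letI := Ideal.Quotient.field n
  haveI := isAlgClosed_quotient (k := k) (k' := k') n
  haveI := isAlgebraic_quotient (k := k) (k' := k') n
  exact eq_zero_or_one_of_isAlgClosure hconn e he

end Quot

end Groth.Agent.Helper12.WeilConnL5
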