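import Mathlib
import Groth.Agent.Lib.Helper28.H0Const

/-!
# Global functions of a proper reduced connected scheme with a rational point
-/

set_option autoImplicit false
universe u

open AlgebraicGeometry CategoryTheory Limits Polynomial

namespace Groth.Agent.Helper12.AVFib

/-- An integral reduced algebra over a field with only trivial idempotents and a retraction onto
the field is the field itself. -/
theorem eq_zero_of_retraction {k B : Type*} [Field k] [CommRing B] [Algebra k B]
    [Algebra.IsIntegral k B] [IsReduced B] (hidem : ∀ e : B, e * e = e → e = 0 ∨ e = 1)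
    (σ : B →ₐ[k] k) (b : B) (hb : σ b = 0) : b = 0 := by
  obtain ⟨p, hp, hpb⟩ := Algebra.IsIntegral.isIntegral (R := k) b
  have hpb' : aeval b p = 0 := by rw [Polynomial.aeval_def]; exact hpb
  obtain ⟨g, hpg, hg⟩ := Polynomial.exists_eq_pow_rootMultiplicity_mul_and_not_dvd p hp.ne_zero 0
  set m := rootMultiplicity 0 p
  rw [C_0, sub_zero] at hpg hg
  have hcop : IsCoprime (X ^ m : k[X]) g :=
    ((Polynomial.irreducible_X).coprime_iff_not_dvd.mpr hg).pow_left
  obtain ⟨u, v, huv⟩ := hcop
  set G := aeval b g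
  set U := aeval b u
  set V := aeval b v
  have hbG : b ^ m * G = 0 := by
    have := hpb'
    rw [hpg, map_mul, map_pow, aeval_X] at this
    exact this
  have hUV : U * b ^ m + V * G = 1 := by
    have := congrArg (aeval b) huv
    simpa [map_add, map_mul, map_pow, aeval_X] using this
  have hσG : σ G ≠ 0 := by
    have h1 : σ G = aeval (σ b) g := (Polynomial.aeval_algHom_apply σ b g).symm
    rw [h1, hb, Polynomial.coe_aeval_eq_eval, ← Polynomial.coeff_zero_eq_eval_zero]
    intro h0
    exact hg (Polynomial.X_dvd_iff.mpr h0)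
  have he : (U * b ^ m) * (U * b ^ m) = U * b ^ m := by
    have h1 : (U * b ^ m) * (V * G) = 0 := by
      calc (U * b ^ m) * (V * G) = U * V * (b ^ m * G) := by ring
        _ = 0 := by rw [hbG, mul_zero]
    calc (U * b ^ m) * (U * b ^ m) = (U * b ^ m) * (1 - V * G) := by rw [← hUV]; ring
      _ = U * b ^ m := by rw [mul_sub, mul_one, h1, sub_zero]
  rcases hidem _ he with h0 | h1
  · have hVG : V * G = 1 := by rw [h0, zero_add] at hUV; exact hUV
    have hbm : b ^ m = 0 := by
      calc b ^ m = b ^ m * (V * G) := by rw [hVG, mul_one]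
        _ = V * (b ^ m * G) := by ring
        _ = 0 := by rw [hbG, mul_zero]
    exact IsReduced.eq_zero _ ⟨m, hbm⟩
  · exfalso
    by_cases hm : m = 0
    · rw [hm, pow_zero, one_mul] at hbG
      rw [hbG, map_zero] at hσG
      exact hσG rfl
    · have := congrArg σ h1
      rw [map_mul, map_pow, hb, zero_pow hm, mul_zero, map_one] at this
      exact zero_ne_one this

theorem bijective_algebraMap_of_retraction {k B : Type*} [Field k] [CommRing B] [Algebra k B]
    [Algebra.IsIntegral k B] [IsReduced B] (hidem : ∀ e : B, e * e = e → e = 0 ∨ e = 1)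
    (σ : B →ₐ[k] k) : Function.Bijective (algebraMap k B) := by
  have : Nontrivial B := by
    refine ⟨⟨0, 1, fun h => ?_⟩⟩
    have := congrArg σ h
    rw [map_zero, map_one] at this
    exact zero_ne_one this
  refine ⟨(algebraMap k B).injective, fun b => ⟨σ b, ?_⟩⟩
  have h := eq_zero_of_retraction hidem σ (b - algebraMap k B (σ b)) (by
    rw [map_sub, AlgHom.commutes, Algebra.algebraMap_self_apply, sub_self])
  exact (sub_eq_zero.mp h).symm

/-- A proper reduced connected `k`-scheme with a `k`-rational point has `Γ(Z, O_Z) = k`. -/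
theorem bijective_appTop (k : Type u) [Field k] {Z : Scheme.{u}}
    (p : Z ⟶ Spec (CommRingCat.of k)) [UniversallyClosed p] [IsReduced Z] [ConnectedSpace Z]
    (a : Spec (CommRingCat.of k) ⟶ Z) (ha : a ≫ p = 𝟙 _) :
    Function.Bijective ((Scheme.ΓSpecIso (CommRingCat.of k)).inv ≫ p.appTop).hom := by
  set φ : CommRingCat.of k ⟶ Γ(Z, ⊤) := (Scheme.ΓSpecIso (CommRingCat.of k)).inv ≫ p.appTop with hφ
  let ψ : Γ(Z, ⊤) ⟶ CommRingCat.of k := a.appTop ≫ (Scheme.ΓSpecIso (CommRingCat.of k)).hom
  have hφψ : φ ≫ ψ = 𝟙 _ := by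
    simp only [hφ, ψ, Category.assoc]
    rw [← Scheme.Hom.comp_appTop_assoc, ha]
    simp
  let _ : Algebra k Γ(Z, ⊤) := φ.hom.toAlgebra
  have hint : φ.hom.IsIntegral := by
    have h1 := isIntegral_appTop_of_universallyClosed p
    have h2 : (Scheme.ΓSpecIso (CommRingCat.of k)).inv.hom.IsIntegral :=
      RingHom.isIntegral_of_surjective _
        (ConcreteCategory.bijective_of_isIso (Scheme.ΓSpecIso (CommRingCat.of k)).inv).2
    exact RingHom.IsIntegral.trans _ _ h2 h1
  have : Algebra.IsIntegral k Γ(Z, ⊤) := ⟨hint⟩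
  let σ : Γ(Z, ⊤) →ₐ[k] k :=
    { ψ.hom with
      commutes' := fun c => by
        have := congrArg (fun f => f.hom c) hφψ
        exact this }
  exact bijective_algebraMap_of_retraction
    (Groth.Agent.Helper28.H0Const.idem_of_connected Z) σ

end Groth.Agent.Helper12.AVFib
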