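import Mathlib
import Groth.Agent.Lib.Helper12.AVFibA
import Groth.Agent.Lib.Helper17.AA6
import Groth.Agent.Lib.Helper18.RedLift

/-!
# Translates of connected components of fibres of a morphism from a proper group scheme
-/

set_option autoImplicit false
universe u

open AlgebraicGeometry CategoryTheory Limits MonoidalCategory CartesianMonoidalCategory MonObj
  TopologicalSpace

namespace Groth.Agent.Helper12.AVFib

/-- The reduced induced closed subscheme structure is reduced. -/
theorem isReduced_vanishingIdeal_subscheme {X : Scheme.{u}} (Z : TopologicalSpace.Closeds X) :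
    IsReduced (Scheme.IdealSheafData.vanishingIdeal Z).subscheme := by
  set I := Scheme.IdealSheafData.vanishingIdeal Z
  rw [IsReduced.iff_of_openCover (X := I.subscheme) I.subschemeCover.openCover]
  intro (U : X.affineOpens)
  have h3 : (I.ideal U).IsRadical := by
    rw [Scheme.IdealSheafData.vanishingIdeal_ideal]
    exact PrimeSpectrum.isRadical_vanishingIdeal _
  have h2 : _root_.IsReduced (Γ(X, U) ⧸ I.ideal U) := (Ideal.isRadical_iff_quotient_reduced _).mp h3
  exact (affine_isReduced_iff (.of (Γ(X, U) ⧸ I.ideal U))).mpr h2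

theorem range_subschemeι_vanishingIdeal {X : Scheme.{u}} (Z : TopologicalSpace.Closeds X) :
    Set.range (Scheme.IdealSheafData.vanishingIdeal Z).subschemeι = (Z : Set X) := by
  rw [Scheme.IdealSheafData.range_subschemeι, Scheme.IdealSheafData.coe_support_vanishingIdeal]

variable (k : Type u) [Field k]

/-- the point of `Spec k` -/
noncomputable abbrev pt : ↥(Spec (CommRingCat.of k)) := IsLocalRing.closedPoint k

theorem eq_pt (w : ↥(Spec (CommRingCat.of k))) : w = pt k :=
  @Subsingleton.elim (PrimeSpectrum k) _ w (pt k)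

variable {k}
variable (X : Over (Spec (CommRingCat.of k))) [GrpObj X]

/-- left translation by a rational point -/
noncomputable def trans (b : 𝟙_ (Over (Spec (CommRingCat.of k))) ⟶ X) : X ⟶ X :=
  lift (toUnit X ≫ b) (𝟙 X) ≫ μ[X]

variable {X}

theorem comp_trans (a b : 𝟙_ (Over (Spec (CommRingCat.of k))) ⟶ X) :
    a ≫ trans X b = lift b a ≫ μ[X] := by
  unfold trans
  rw [← Category.assoc, comp_lift, Category.comp_id, ← Category.assoc,
    toUnit_unique (a ≫ toUnit X) (𝟙 _), Category.id_comp]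

section Trans

variable (b b' : 𝟙_ (Over (Spec (CommRingCat.of k))) ⟶ X)

theorem trans_comp_trans : trans X b ≫ trans X b' = trans X (lift b' b ≫ μ[X]) := by
  have h1 : trans X b ≫ lift (toUnit X ≫ b') (𝟙 X) = lift (toUnit X ≫ b') (trans X b) := by
    rw [comp_lift, Category.comp_id, ← Category.assoc, toUnit_unique (trans X b ≫ toUnit X) (toUnit X)]
  have h2 : lift (toUnit X ≫ b') (toUnit X ≫ b) = toUnit X ≫ lift b' b := by
    rw [comp_lift]
  calc trans X b ≫ trans X b' = lift (toUnit X ≫ b') (trans X b) ≫ μ[X] := by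
        conv_lhs => rw [trans.eq_def X b', ← Category.assoc, h1]
    _ = lift (toUnit X ≫ b') (lift (toUnit X ≫ b) (𝟙 X) ≫ μ[X]) ≫ μ[X] := rfl
    _ = lift (lift (toUnit X ≫ b') (toUnit X ≫ b) ≫ μ[X]) (𝟙 X) ≫ μ[X] := (lift_lift_assoc _ _ _).symm
    _ = trans X (lift b' b ≫ μ[X]) := by
        rw [h2, Category.assoc]
        rfl

theorem trans_one : trans X η[X] = 𝟙 X := by
  unfold trans
  exact lift_comp_one_left _ _

theorem one_comp_trans : η[X] ≫ trans X b = b := by
  rw [comp_trans]
  have : (η[X] : 𝟙_ _ ⟶ X) = 𝟙 _ ≫ η[X] := (Category.id_comp _).symm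
  rw [this]
  exact lift_comp_one_right _ _

end Trans

section Key

variable [IsProper X.hom] [PreconnectedSpace X.left] {Y : Scheme.{u}} (q : Y ⟶ Spec (CommRingCat.of k)) [IsSeparated q]
  (f : X.left ⟶ Y) (hf : f ≫ q = X.hom)

include hf in
theorem isClosed_fibre (a : 𝟙_ (Over (Spec (CommRingCat.of k))) ⟶ X) :
    IsClosedImmersion (a.left ≫ f) ∧ Set.range (a.left ≫ f) = {f (a.left (pt k))} := by
  have hs : (a.left ≫ f) ≫ q = 𝟙 _ := by
    rw [Category.assoc, hf]
    exact Over.w a
  have h1 : IsClosedImmersion ((a.left ≫ f) ≫ q) := by rw [hs]; infer_instance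
  refine ⟨IsClosedImmersion.of_comp (a.left ≫ f) q, ?_⟩
  ext y
  constructor
  · rintro ⟨w, rfl⟩
    rw [eq_pt k w]
    rfl
  · rintro rfl
    exact ⟨pt k, rfl⟩

include hf in
/-- Key lemma: `f ∘ t_b` is constant on the connected component of `a` in its fibre. -/
theorem key (a b : 𝟙_ (Over (Spec (CommRingCat.of k))) ⟶ X) (z : X.left)
    (hz : z ∈ connectedComponentIn (f ⁻¹' {f (a.left (pt k))}) (a.left (pt k))) :
    f ((trans X b).left z) = f ((trans X b).left (a.left (pt k))) := by
  obtain ⟨hscl, hsr⟩ := isClosed_fibre q f hf a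
  set s := a.left ≫ f with hs
  have hsq : s ≫ q = 𝟙 _ := by
    rw [hs, Category.assoc, hf]
    exact Over.w a
  set ā := a.left (pt k) with hā
  set E : Set X.left := f ⁻¹' {f ā} with hE
  have hEcl : IsClosed E := by
    rw [hE, ← hsr]
    exact (s.isClosedEmbedding.isClosed_range).preimage f.continuous
  have hāE : ā ∈ E := rfl
  set F := connectedComponentIn E ā with hF
  have hFE : F ⊆ E := connectedComponentIn_subset E ā
  have hāF : ā ∈ F := mem_connectedComponentIn hāE
  have hFpre : _root_.IsPreconnected F := isPreconnected_connectedComponentIn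
  have hFcl : IsClosed F := by
    have h1 : closure F ⊆ F :=
      hFpre.closure.subset_connectedComponentIn (subset_closure hāF)
        (closure_minimal hFE hEcl)
    exact closure_subset_iff_isClosed.mp h1
  -- the reduced subscheme on `F`
  let C : Closeds X.left := ⟨F, hFcl⟩
  let I := Scheme.IdealSheafData.vanishingIdeal C
  let j : I.subscheme ⟶ X.left := I.subschemeι
  have hrj : Set.range j = F := range_subschemeι_vanishingIdeal C
  haveI : IsReduced I.subscheme := isReduced_vanishingIdeal_subscheme C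
  haveI : IsClosedImmersion j := inferInstanceAs (IsClosedImmersion I.subschemeι)
  -- connectedness
  haveI : Nonempty I.subscheme := by
    have : ā ∈ Set.range j := by rw [hrj]; exact hāF
    obtain ⟨z', -⟩ := this
    exact ⟨z'⟩
  haveI : PreconnectedSpace I.subscheme := by
    constructor
    rw [← j.isEmbedding.isInducing.isPreconnected_image, Set.image_univ, hrj]
    exact hFpre
  haveI : ConnectedSpace I.subscheme := { toNonempty := inferInstance }
  -- the rational point of `Z`
  have hra : Set.range a.left ⊆ Set.range j := by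
    rintro _ ⟨w, rfl⟩
    rw [hrj, eq_pt k w]
    exact hāF
  haveI : IsReduced (𝟙_ (Over (Spec (CommRingCat.of k)))).left := by
    show IsReduced (Spec (CommRingCat.of k))
    haveI : _root_.IsReduced (CommRingCat.of k) := inferInstanceAs (_root_.IsReduced k)
    infer_instance
  obtain ⟨a₀, ha₀⟩ := Groth.Agent.Helper18.RedLift.exists_lift_of_isReduced j a.left hra
  have haw : a.left ≫ X.hom = 𝟙 _ := Over.w a
  have ha₀' : a₀ ≫ j ≫ X.hom = 𝟙 _ := by rw [← Category.assoc, ha₀, haw]
  let Z : Over (Spec (CommRingCat.of k)) := Over.mk (j ≫ X.hom)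
  let ιO : Z ⟶ X := Over.homMk j rfl
  let aZ : 𝟙_ (Over (Spec (CommRingCat.of k))) ⟶ Z := Over.homMk a₀ ha₀'
  have haZ : aZ ≫ ιO = a := by
    ext
    exact ha₀
  haveI : IsProper Z.hom := inferInstanceAs (IsProper (j ≫ X.hom))
  have hO : Function.Bijective ((Scheme.ΓSpecIso (CommRingCat.of k)).inv ≫ Z.hom.appTop).hom :=
    bijective_appTop k (j ≫ X.hom) a₀ ha₀'
  -- the target
  let Yo : Over (Spec (CommRingCat.of k)) := Over.mk q
  let fO : X ⟶ Yo := Over.homMk f hf
  haveI : IsSeparated Yo.hom := inferInstanceAs (IsSeparated q)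
  -- Lemma R
  have hR : ιO ≫ fO = toUnit Z ≫ a ≫ fO := by
    ext
    show j ≫ f = (j ≫ X.hom) ≫ a.left ≫ f
    have hrg : Set.range (j ≫ f) ⊆ Set.range s := by
      rintro _ ⟨z', rfl⟩
      rw [hsr]
      have : j z' ∈ F := by rw [← hrj]; exact ⟨z', rfl⟩
      exact hFE this
    obtain ⟨h, hh⟩ := Groth.Agent.Helper18.RedLift.exists_lift_of_isReduced s (j ≫ f) hrg
    have h1 : h = j ≫ X.hom := by
      calc h = h ≫ s ≫ q := by rw [hsq, Category.comp_id]
        _ = (j ≫ f) ≫ q := by rw [← Category.assoc, hh]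
        _ = j ≫ X.hom := by rw [Category.assoc, hf]
    rw [← hh, h1]
  -- the morphism `φ(z, y) = f(y z)`
  let φ : Z ⊗ X ⟶ Yo := lift (snd Z X) (fst Z X ≫ ιO) ≫ μ[X] ≫ fO
  have hφ0 : (Z ◁ η[X]) ≫ φ = toUnit _ ≫ (a ≫ fO) := by
    have h1 : (Z ◁ η[X]) ≫ lift (snd Z X) (fst Z X ≫ ιO) =
        lift (snd Z (𝟙_ _) ≫ η[X]) (fst Z (𝟙_ _) ≫ ιO) := by
      rw [comp_lift, whiskerLeft_snd, whiskerLeft_fst_assoc]
    calc (Z ◁ η[X]) ≫ φ = (lift (snd Z (𝟙_ _) ≫ η[X]) (fst Z (𝟙_ _) ≫ ιO) ≫ μ[X]) ≫ fO := by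
          simp only [φ, ← Category.assoc, h1]
      _ = (fst Z (𝟙_ _) ≫ ιO) ≫ fO := by rw [lift_comp_one_left]
      _ = fst Z (𝟙_ _) ≫ toUnit Z ≫ a ≫ fO := by rw [Category.assoc, hR]
      _ = toUnit _ ≫ (a ≫ fO) := by
          rw [← Category.assoc]
          congr 1
  have hrig := Groth.Agent.Helper17.AA6.rigid_over k Z X Yo hO aZ φ η[X] (a ≫ fO) hφ0
  -- specialise to `y = b`
  let jb : Z ⟶ Z ⊗ X := lift (𝟙 Z) (toUnit Z ≫ b)
  have hL : jb ≫ φ = ιO ≫ trans X b ≫ fO := by
    have h1 : jb ≫ lift (snd Z X) (fst Z X ≫ ιO) = lift (toUnit Z ≫ b) ιO := by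
      rw [comp_lift, lift_snd, lift_fst_assoc, Category.id_comp]
    have h2 : ιO ≫ lift (toUnit X ≫ b) (𝟙 X) = lift (toUnit Z ≫ b) ιO := by
      rw [comp_lift, Category.comp_id, ← Category.assoc, toUnit_unique (ιO ≫ toUnit X) (toUnit Z)]
    simp only [φ, trans, ← Category.assoc, h1, h2]
  have hRr : jb ≫ snd Z X ≫ lift (toUnit X ≫ aZ) (𝟙 X) ≫ φ = toUnit Z ≫ a ≫ trans X b ≫ fO := by
    have h1 : jb ≫ snd Z X = toUnit Z ≫ b := lift_snd _ _
    have h2 : b ≫ lift (toUnit X ≫ aZ) (𝟙 X) = lift aZ b := by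
      rw [comp_lift, Category.comp_id, ← Category.assoc, toUnit_unique (b ≫ toUnit X) (𝟙 _),
        Category.id_comp]
    have h3 : lift aZ b ≫ lift (snd Z X) (fst Z X ≫ ιO) = lift b a := by
      rw [comp_lift, lift_snd, lift_fst_assoc, haZ]
    have h4 : lift aZ b ≫ φ = a ≫ trans X b ≫ fO := by
      rw [← Category.assoc a, comp_trans]
      simp only [φ, ← Category.assoc, h3]
    rw [← Category.assoc jb, h1, Category.assoc, ← Category.assoc b, h2, h4]
  have hmain : ιO ≫ trans X b ≫ fO = toUnit Z ≫ a ≫ trans X b ≫ fO := by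
    rw [← hL, hrig, hRr]
  have hmain' : j ≫ (trans X b).left ≫ f = (j ≫ X.hom) ≫ a.left ≫ (trans X b).left ≫ f :=
    congrArg Over.Hom.left hmain
  have hzr : z ∈ Set.range j := by rw [hrj]; exact hz
  obtain ⟨z', rfl⟩ := hzr
  have h5 := congrArg (fun g : I.subscheme ⟶ Y => g z') hmain'
  simp only [Scheme.Hom.comp_apply] at h5
  rw [h5, eq_pt k (X.hom (j z'))]

end Key

end Groth.Agent.Helper12.AVFib
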