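import Mathlib
import Groth.Agent.Lib.Helper14.NerA
import Groth.Agent.Lib.Lead.SchDense
import Groth.Agent.Lib.Helper6.SchDense

/-!
# Morphisms agreeing on a schematically dense open (no separatedness) (helper12)

* `isSchematicallyDense_preimage`: flat pullback of a schematically dense open (locally Noetherian
  base) is schematically dense.
* `exists_open_agree`: two morphisms `a b : Z ⟶ N` (no separatedness on `N`) agreeing on a
  schematically dense open and at a point `z` agree on an open neighbourhood of `z`.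
* `eq_of_forall_apply_eq`: if moreover they agree at all points, they are equal.
-/

set_option autoImplicit false
set_option linter.style.haveILetI false
universe u
open CategoryTheory CategoryTheory.Limits AlgebraicGeometry TopologicalSpace

namespace Groth.Agent.Helper12.AgreeOpen

open Groth.Agent.Helper6 in
/-- flat pullback of a schematically dense open is schematically dense. -/
theorem isSchematicallyDense_preimage {Z S : Scheme.{u}} [IsLocallyNoetherian S] (f : Z ⟶ S)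
    [Flat f] (V : S.Opens) (hV : CInt.IsSchematicallyDense V) :
    CInt.IsSchematicallyDense (f ⁻¹ᵁ V) := by
  apply isSchematicallyDense_of_local
  intro x
  obtain ⟨W₀, hW₀, hxW₀, -⟩ :=
    exists_isAffineOpen_mem_and_subset (x := f x) (U := (⊤ : S.Opens)) trivial
  refine ⟨f ⁻¹ᵁ W₀, hxW₀, fun V' hV' => ?_⟩
  apply resInj_of_local
  intro y hy
  obtain ⟨U₂, hU₂, hyU₂, hU₂V'⟩ := exists_isAffineOpen_mem_and_subset (x := y) (U := V') hy
  refine ⟨U₂, hU₂V', hyU₂, ?_⟩
  rw [resInj_iff]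
  intro c hc
  exact Groth.Agent.Lead.SchDense.eq_zero_of_res_eq_zero f V hV hW₀ hU₂ (hU₂V'.trans hV') c hc

/-- two morphisms agreeing on a schematically dense open and at the point `z` agree on an open
neighbourhood of `z` (the target need not be separated). -/
theorem exists_open_agree {Z N : Scheme.{u}} (a b : Z ⟶ N) (D : Z.Opens)
    (hD : CInt.IsSchematicallyDense D) (hab : D.ι ≫ a = D.ι ≫ b) (z : Z) (hz : a z = b z) :
    ∃ W : Z.Opens, z ∈ W ∧ W.ι ≫ a = W.ι ≫ b := by
  obtain ⟨N', hN', hzN', -⟩ :=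
    exists_isAffineOpen_mem_and_subset (x := a z) (U := (⊤ : N.Opens)) trivial
  have hzW : z ∈ a ⁻¹ᵁ N' ⊓ b ⁻¹ᵁ N' := by
    refine ⟨hzN', ?_⟩
    show b z ∈ N'
    rw [← hz]
    exact hzN'
  refine ⟨a ⁻¹ᵁ N' ⊓ b ⁻¹ᵁ N', hzW, ?_⟩
  have ha : Set.range ((a ⁻¹ᵁ N' ⊓ b ⁻¹ᵁ N').ι ≫ a) ⊆ Set.range N'.ι := by
    rw [Scheme.Opens.range_ι]
    rintro _ ⟨w, rfl⟩
    exact w.2.1
  have hb : Set.range ((a ⁻¹ᵁ N' ⊓ b ⁻¹ᵁ N').ι ≫ b) ⊆ Set.range N'.ι := by
    rw [Scheme.Opens.range_ι]
    rintro _ ⟨w, rfl⟩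
    exact w.2.2
  haveI : IsAffine (N' : Scheme.{u}) := hN'
  haveI := Groth.Agent.Helper14.Ner.isSchemeTheoreticallyDominant_homOfLE hD
    (a ⁻¹ᵁ N' ⊓ b ⁻¹ᵁ N')
  have key : IsOpenImmersion.lift N'.ι _ ha = IsOpenImmersion.lift N'.ι _ hb := by
    refine Groth.Agent.Helper14.Ner.ext_of_isSchemeTheoreticallyDominant
      (terminal.from _) (terminal.hom_ext _ _)
      (Z.homOfLE (inf_le_left : (a ⁻¹ᵁ N' ⊓ b ⁻¹ᵁ N') ⊓ D ≤ a ⁻¹ᵁ N' ⊓ b ⁻¹ᵁ N')) ?_
    rw [← cancel_mono N'.ι, Category.assoc, Category.assoc, IsOpenImmersion.lift_fac,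
      IsOpenImmersion.lift_fac, ← Category.assoc, ← Category.assoc, Scheme.homOfLE_ι,
      ← Z.homOfLE_ι (inf_le_right : (a ⁻¹ᵁ N' ⊓ b ⁻¹ᵁ N') ⊓ D ≤ D), Category.assoc, Category.assoc,
      hab]
  rw [← IsOpenImmersion.lift_fac N'.ι _ ha, ← IsOpenImmersion.lift_fac N'.ι _ hb, key]

/-- two morphisms agreeing on a schematically dense open and at all points are equal. -/
theorem eq_of_forall_apply_eq {Z N : Scheme.{u}} (a b : Z ⟶ N) (D : Z.Opens)
    (hD : CInt.IsSchematicallyDense D) (hab : D.ι ≫ a = D.ι ≫ b) (h : ∀ z : Z, a z = b z) :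
    a = b := by
  choose W hzW hW using fun z => exists_open_agree a b D hD hab z (h z)
  have hcov : IsOpenCover W := by
    rw [IsOpenCover, eq_top_iff]
    intro z _
    exact Opens.mem_iSup.mpr ⟨z, hzW z⟩
  refine (Z.openCoverOfIsOpenCover W hcov).hom_ext _ _ fun z => ?_
  exact hW z

end Groth.Agent.Helper12.AgreeOpen
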