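import Mathlib
import Groth.Agent.Lib.Helper12.CMBC
import Groth.Agent.Lib.Helper16.AlgSp.FibNoeth2

/-!
# Local Noetherianity of fibres under base change, fppf-local statements (helper12)
-/

set_option autoImplicit false
set_option linter.style.haveILetI false
universe u

open AlgebraicGeometry CategoryTheory Limits IsLocalRing TensorProduct

namespace Groth.Agent.Helper12.NoethBC

open Groth.Agent.Helper12.GorBC Groth.Agent.Helper12.CMBC Groth.Agent.Helper16.AS

/-- descent of local Noetherianity along a base change of a field extension. -/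
theorem isLocallyNoetherian_of_field_baseChange_descent {F F' : Scheme.{u}} {k K : Type u}
    [Field k] [Field K] (h : F' ⟶ F) (π' : F' ⟶ Spec (.of K)) (π : F ⟶ Spec (.of k))
    (φ : k →+* K) (sq : IsPullback h π' π (Spec.map (CommRingCat.ofHom φ)))
    [IsLocallyNoetherian F'] : IsLocallyNoetherian F := by
  have h1 : Flat (Spec.map (CommRingCat.ofHom φ)) := flat_of_field _
  have h2 : Surjective (Spec.map (CommRingCat.ofHom φ)) := surjective_of_field _
  have h3 : IsAffineHom (Spec.map (CommRingCat.ofHom φ)) := inferInstance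
  haveI : Flat h := MorphismProperty.of_isPullback sq.flip h1
  haveI : Surjective h := MorphismProperty.of_isPullback sq.flip h2
  haveI : IsAffineHom h := MorphismProperty.of_isPullback sq.flip h3
  exact isLocallyNoetherian_of_affine_flat_surjective h

variable {X Y X' Y' : Scheme.{u}} {f : X ⟶ Y} {g : Y' ⟶ Y} {f' : X' ⟶ Y'} {g' : X' ⟶ X}

theorem isLocallyNoetherian_fiber_descent (hsq : IsPullback g' f' f g) (y' : Y')
    [IsLocallyNoetherian (f'.fiber y')] : IsLocallyNoetherian (f.fiber (g y')) :=
  isLocallyNoetherian_of_field_baseChange_descent (k := Y.residueField (g y'))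
    (K := Y'.residueField y')
    _ (f'.fiberToSpecResidueField y') (f.fiberToSpecResidueField (g y'))
    (g.residueFieldMap y').hom (isPullback_fiberToSpecResidueField_of_isPullback hsq y')

/-- S1405 -/
theorem locallyNoetherian_fibres_iff [LocallyOfFiniteType g] [Surjective g]
    (hc : IsPullback g' f' f g) :
    (∀ y : Y, IsLocallyNoetherian (f.fiber y)) ↔ ∀ y' : Y', IsLocallyNoetherian (f'.fiber y') := by
  constructor
  · intro hN y'
    haveI := hN (g y')
    exact isLocallyNoetherian_fiber_baseChange hc y' (essFiniteType_residueFieldMap g y')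
  · intro hN' y
    obtain ⟨y', rfl⟩ := g.surjective y
    haveI := hN' y'
    exact isLocallyNoetherian_fiber_descent hc y'

/-- S1407 -/
theorem cm_iff_fppf [Flat g] [LocallyOfFiniteType g] [Surjective g]
    (hc : IsPullback g' f' f g) :
    ((∀ y : Y, IsLocallyNoetherian (f.fiber y)) ∧ ∀ x : X, MoreMor.IsCMAt f x) ↔
      (∀ y' : Y', IsLocallyNoetherian (f'.fiber y')) ∧ ∀ x' : X', MoreMor.IsCMAt f' x' := by
  constructor
  · rintro ⟨hN, hCM⟩
    exact ⟨(locallyNoetherian_fibres_iff hc).mp hN,
      fun x' => (isCMAt_baseChange hc hN x').1 (hCM (g' x'))⟩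
  · rintro ⟨hN', hCM'⟩
    have hN := (locallyNoetherian_fibres_iff hc).mpr hN'
    refine ⟨hN, fun x => ?_⟩
    haveI : Surjective g' := MorphismProperty.of_isPullback hc.flip ‹Surjective g›
    obtain ⟨x', rfl⟩ := g'.surjective x
    exact (isCMAt_baseChange hc hN x').2.2 (Flat.stalkMap g _) (hCM' x')

/-- Gorenstein analogue -/
theorem gor_iff_fppf [Flat g] [LocallyOfFiniteType g] [Surjective g]
    (hc : IsPullback g' f' f g) :
    ((∀ y : Y, IsLocallyNoetherian (f.fiber y)) ∧ ∀ x : X, Dual3.IsGorensteinAt f x) ↔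
      (∀ y' : Y', IsLocallyNoetherian (f'.fiber y')) ∧ ∀ x' : X', Dual3.IsGorensteinAt f' x' := by
  constructor
  · rintro ⟨hN, hCM⟩
    exact ⟨(locallyNoetherian_fibres_iff hc).mp hN,
      fun x' => (isGorensteinAt_baseChange hc hN x').1 (hCM (g' x'))⟩
  · rintro ⟨hN', hCM'⟩
    have hN := (locallyNoetherian_fibres_iff hc).mpr hN'
    refine ⟨hN, fun x => ?_⟩
    haveI : Surjective g' := MorphismProperty.of_isPullback hc.flip ‹Surjective g›
    obtain ⟨x', rfl⟩ := g'.surjective x
    exact (isGorensteinAt_baseChange hc hN x').2.2 (Flat.stalkMap g _) (hCM' x')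

end Groth.Agent.Helper12.NoethBC
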