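import Mathlib
import Groth.Agent.Lib.Helper12.NoethBC
import Groth.Agent.Lib.Helper12.EtStalk2
import Groth.Agent.Lib.Helper14.FtPts

set_option autoImplicit false
set_option linter.style.haveILetI false
universe u

open AlgebraicGeometry CategoryTheory Limits IsLocalRing TensorProduct

namespace Groth.Agent.Helper12.ArtGor

open Groth.Agent.Helper12.GorBC Groth.Agent.Helper12.NoethBC Groth.Agent.Helper12.EtStalk
  Groth.Agent.Helper12.GorFlatLoc

/-- a scheme over a field is Gorenstein over it at every point iff it has Gorenstein local rings -/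
theorem isGorensteinAt_of_field {K : Type u} [Field K] {X : Scheme.{u}} (q : X ⟶ Spec (.of K))
    (x : X) (hx : LocCoh.IsGorensteinLocalRing (X.presheaf.stalk x)) : Dual3.IsGorensteinAt q x := by
  have hv := maximalIdeal_stalk_Spec_field K (q x)
  exact ⟨flat_of_maximalIdeal_eq_bot q x hv,
    (gor_iff_of_ringEquiv (fibStalkEquivOfBot q x hv)).mp hx⟩

theorem isLocallyNoetherian_fiber_of_field {K : Type u} [Field K] {X : Scheme.{u}}
    (q : X ⟶ Spec (.of K)) [IsLocallyNoetherian X] (y : Spec (.of K)) :
    IsLocallyNoetherian (q.fiber y) := by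
  haveI := Groth.Agent.Helper14.isIso_fromSpecResidueField_of_field K y
  haveI : IsIso (q.fiberι y) :=
    (IsPullback.of_hasPullback q ((Spec (.of K)).fromSpecResidueField y)).isIso_fst_of_isIso
  exact isLocallyNoetherian_of_isOpenImmersion (q.fiberι y)

theorem result16185 {A : Type u} [CommRing A] [IsArtinianRing A] [IsLocalRing A]
    {P X : Scheme.{u}} (f : P ⟶ Spec (CommRingCat.of A)) [Flat f]
    (i : X ⟶ P) (q : X ⟶ Spec (CommRingCat.of (IsLocalRing.ResidueField A)))
    (hsq : IsPullback i q f (Spec.map (CommRingCat.ofHom (IsLocalRing.residue A))))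
    (hX : Dual3.IsGorenstein X) : Dual3.IsGorensteinMor f := by
  haveI := hX.1
  set g := Spec.map (CommRingCat.ofHom (IsLocalRing.residue A)) with hg
  haveI : IsClosedImmersion g :=
    IsClosedImmersion.spec_of_surjective _ IsLocalRing.residue_surjective
  haveI : Surjective g := by
    refine ⟨fun y => ⟨IsLocalRing.closedPoint _, ?_⟩⟩
    apply PrimeSpectrum.ext
    have h1 : (y : PrimeSpectrum A).asIdeal = maximalIdeal A := by
      haveI := Ideal.IsPrime.isMaximal' (y : PrimeSpectrum A).isPrime
      exact IsLocalRing.eq_maximalIdeal inferInstance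
    rw [h1]
    change Ideal.comap (IsLocalRing.residue A) (maximalIdeal (ResidueField A)) = _
    rw [IsLocalRing.isField_iff_maximalIdeal_eq.mp (Field.toIsField _)]
    exact IsLocalRing.ker_residue
  haveI : Surjective i := MorphismProperty.of_isPullback hsq.flip ‹Surjective g›
  have hfib : ∀ y, IsLocallyNoetherian (f.fiber y) := by
    intro y
    obtain ⟨y', rfl⟩ := g.surjective y
    haveI := isLocallyNoetherian_fiber_of_field q y'
    exact isLocallyNoetherian_fiber_descent hsq y'
  intro p
  obtain ⟨x', rfl⟩ := i.surjective p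
  exact (isGorensteinAt_baseChange hsq hfib x').2.1 (Flat.stalkMap f _)
    (isGorensteinAt_of_field q x' (hX.2 x'))

end Groth.Agent.Helper12.ArtGor
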