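import Mathlib

/-!
# Artin–Schreier covers, algebraic core (part A)

For a finite étale `A`-algebra `B` with an action of `ℤ/p` which is simply transitive on geometric
points over every geometric point of `A`: invariants are `A`, and the trace `∑ σ_j` hits `1`.
-/

set_option autoImplicit false
set_option linter.style.haveILetI false
set_option linter.unusedVariables false
set_option linter.unusedSectionVars false

universe u
open TensorProduct

namespace Groth.Agent.Helper12.ArtSch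

/-- extension of a geometric point along an injective integral ring map
(copied from helper23's `FEtFib.exists_extension`, Mathlib only) -/
theorem exists_extension {A B Ω : Type u} [CommRing A] [CommRing B] [Field Ω] [IsAlgClosed Ω]
    (f : A →+* B) (hf : Function.Injective f) (hint : f.IsIntegral) (ρ : A →+* Ω) :
    ∃ σ : B →+* Ω, σ.comp f = ρ := by
  letI : Algebra A B := f.toAlgebra
  haveI : Algebra.IsIntegral A B := ⟨hint⟩
  let 𝔭 : Ideal A := RingHom.ker ρ
  haveI : 𝔭.IsPrime := RingHom.ker_isPrime ρ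
  obtain ⟨𝔮, -, h𝔮, h𝔮p⟩ := Ideal.exists_ideal_over_prime_of_isIntegral 𝔭 (⊥ : Ideal B) (by
    intro a ha
    have : f a = 0 := ha
    have : a = 0 := hf (this.trans (map_zero f).symm)
    rw [this]
    exact 𝔭.zero_mem)
  have h𝔮p' : 𝔮.comap f = 𝔭 := h𝔮p
  let φ : A ⧸ 𝔭 →+* B ⧸ 𝔮 := Ideal.quotientMap 𝔮 f h𝔮p'.ge
  have hφinj : Function.Injective φ := Ideal.quotientMap_injective' h𝔮p'.le
  let ρ' : A ⧸ 𝔭 →+* Ω := Ideal.Quotient.lift 𝔭 ρ (fun a ha => ha)
  have hρ'inj : Function.Injective ρ' := by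
    rw [injective_iff_map_eq_zero]
    intro x hx
    obtain ⟨a, rfl⟩ := Ideal.Quotient.mk_surjective x
    rw [Ideal.Quotient.eq_zero_iff_mem]
    exact hx
  letI : Algebra (A ⧸ 𝔭) (B ⧸ 𝔮) := φ.toAlgebra
  letI : Algebra (A ⧸ 𝔭) Ω := ρ'.toAlgebra
  haveI : Module.IsTorsionFree (A ⧸ 𝔭) (B ⧸ 𝔮) :=
    Module.isTorsionFree_iff_algebraMap_injective.mpr hφinj
  haveI : Module.IsTorsionFree (A ⧸ 𝔭) Ω :=
    Module.isTorsionFree_iff_algebraMap_injective.mpr hρ'inj
  haveI : Algebra.IsIntegral (A ⧸ 𝔭) (B ⧸ 𝔮) := ⟨by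
    intro x
    obtain ⟨b, rfl⟩ := Ideal.Quotient.mk_surjective x
    obtain ⟨p, p_monic, hpx⟩ := hint b
    refine ⟨p.map (Ideal.Quotient.mk 𝔭), p_monic.map _, ?_⟩
    rw [Polynomial.eval₂_map]
    have : (algebraMap (A ⧸ 𝔭) (B ⧸ 𝔮)).comp (Ideal.Quotient.mk 𝔭) =
        (Ideal.Quotient.mk 𝔮).comp f := rfl
    rw [this, ← Polynomial.hom_eval₂, hpx, map_zero]⟩
  let σ' : (B ⧸ 𝔮) →ₐ[A ⧸ 𝔭] Ω := IsAlgClosed.lift
  refine ⟨σ'.toRingHom.comp (Ideal.Quotient.mk 𝔮), ?_⟩
  ext a
  show σ' (Ideal.Quotient.mk 𝔮 (f a)) = ρ a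
  have : Ideal.Quotient.mk 𝔮 (f a) = algebraMap (A ⧸ 𝔭) (B ⧸ 𝔮) (Ideal.Quotient.mk 𝔭 a) := rfl
  rw [this, σ'.commutes]
  rfl

/-- an idempotent killed by all geometric points is zero -/
theorem eq_zero_of_idem {R : Type u} [CommRing R] (x : R) (hx : IsIdempotentElem x)
    (h : ∀ (Ω : Type u) [Field Ω] [IsAlgClosed Ω] (ω : R →+* Ω), ω x = 0) : x = 0 := by
  have hn : IsNilpotent x := by
    rw [nilpotent_iff_mem_prime]
    intro 𝔮 h𝔮
    haveI := h𝔮
    have h1 := h (AlgebraicClosure 𝔮.ResidueField)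
      ((algebraMap 𝔮.ResidueField (AlgebraicClosure 𝔮.ResidueField)).comp
        (algebraMap R 𝔮.ResidueField))
    rw [RingHom.comp_apply] at h1
    have h2 : algebraMap R 𝔮.ResidueField x = 0 :=
      (algebraMap 𝔮.ResidueField (AlgebraicClosure 𝔮.ResidueField)).injective
        (by rw [h1, map_zero])
    exact Ideal.algebraMap_residueField_eq_zero.mp h2
  obtain ⟨n, hn⟩ := hn
  cases n with
  | zero =>
    rw [pow_zero] at hn
    calc x = x * 1 := (mul_one x).symm
      _ = 0 := by rw [hn, mul_zero]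
  | succ n => rw [← hx.pow_succ_eq n]; exact hn

/-- faithfully flat descent of elements -/
theorem mem_range_of_tmul_eq {A B : Type u} [CommRing A] [CommRing B] [Algebra A B]
    [Module.FaithfullyFlat A B] (b : B) (h : (1 : B) ⊗ₜ[A] b = b ⊗ₜ[A] (1 : B)) :
    b ∈ (algebraMap A B).range := by
  let N : Submodule A B := LinearMap.range (Algebra.linearMap A B)
  have hinj := Module.FaithfullyFlat.tensorProduct_mk_injective (A := A) (B := B) (B ⧸ N)
  have h1 : TensorProduct.mk A B (B ⧸ N) 1 (N.mkQ b) = 0 := by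
    have h2 : TensorProduct.mk A B (B ⧸ N) 1 (N.mkQ b) =
        (LinearMap.lTensor B N.mkQ) ((1 : B) ⊗ₜ[A] b) := by
      simp
    rw [h2, h, LinearMap.lTensor_tmul]
    have h3 : N.mkQ (1 : B) = 0 := by
      rw [Submodule.mkQ_apply, Submodule.Quotient.mk_eq_zero]
      exact ⟨1, by simp⟩
    rw [h3, TensorProduct.tmul_zero]
  have h4 : N.mkQ b = 0 := hinj (by rw [h1, map_zero])
  rw [Submodule.mkQ_apply, Submodule.Quotient.mk_eq_zero] at h4
  obtain ⟨a, ha⟩ := h4
  exact ⟨a, by simpa using ha⟩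

section main

variable {A B : Type u} [CommRing A] [CommRing B] [Algebra A B] (p : ℕ) [Fact p.Prime]

/-- the action of `ℤ/p` on `B` is a torsor on geometric points -/
structure Tors (σ : ZMod p → (B →ₐ[A] B)) : Prop where
  zero : σ 0 = AlgHom.id A B
  add : ∀ i j, σ (i + j) = (σ i).comp (σ j)
  tors : ∀ (Ω : Type u) [Field Ω] [IsAlgClosed Ω] (s t : B →+* Ω),
      s.comp (algebraMap A B) = t.comp (algebraMap A B) →
      ∃! j : ZMod p, s.comp (σ j).toRingHom = t

variable {p} (σ : ZMod p → (B →ₐ[A] B))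
  [Algebra.FormallyUnramified A B] [Algebra.EssFiniteType A B] [Module.FaithfullyFlat A B]
  [Algebra.IsIntegral A B]

theorem mul_elem (x : B ⊗[A] B) :
    x * Algebra.FormallyUnramified.elem A B =
      (Algebra.TensorProduct.lmul' A x ⊗ₜ[A] (1 : B)) * Algebra.FormallyUnramified.elem A B := by
  induction x using TensorProduct.induction_on with
  | zero => simp
  | tmul b b' =>
    calc (b ⊗ₜ[A] b') * Algebra.FormallyUnramified.elem A B
        = (b ⊗ₜ[A] (1 : B)) * (((1 : B) ⊗ₜ[A] b') * Algebra.FormallyUnramified.elem A B) := by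
          rw [← mul_assoc, Algebra.TensorProduct.tmul_mul_tmul, mul_one, one_mul]
      _ = (b ⊗ₜ[A] (1 : B)) * ((b' ⊗ₜ[A] (1 : B)) * Algebra.FormallyUnramified.elem A B) := by
          rw [Algebra.FormallyUnramified.one_tmul_mul_elem]
      _ = ((b * b') ⊗ₜ[A] (1 : B)) * Algebra.FormallyUnramified.elem A B := by
          rw [← mul_assoc, Algebra.TensorProduct.tmul_mul_tmul, mul_one]
      _ = _ := by rw [Algebra.TensorProduct.lmul'_apply_tmul]
  | add x y hx hy => rw [add_mul, hx, hy, map_add, TensorProduct.add_tmul, add_mul]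

theorem elem_idem : IsIdempotentElem (Algebra.FormallyUnramified.elem A B) := by
  unfold IsIdempotentElem
  rw [mul_elem, Algebra.FormallyUnramified.lmul_elem, ← Algebra.TensorProduct.one_def, one_mul]

/-- `id ⊗ σ_j` -/
noncomputable def tau (j : ZMod p) : B ⊗[A] B →ₐ[A] B ⊗[A] B :=
  Algebra.TensorProduct.map (AlgHom.id A B) (σ j)

theorem tau_tmul (j : ZMod p) (b b' : B) : tau σ j (b ⊗ₜ[A] b') = b ⊗ₜ[A] σ j b' := by
  simp [tau]

/-- the graph idempotent of `σ_j` -/
noncomputable def ej (j : ZMod p) : B ⊗[A] B := tau σ j (Algebra.FormallyUnramified.elem A B)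

theorem ej_idem (j : ZMod p) : IsIdempotentElem (ej σ j) := by
  unfold IsIdempotentElem ej
  rw [← map_mul, (elem_idem (A := A) (B := B)).eq]

theorem key (j : ZMod p) (s : B) :
    ((1 : B) ⊗ₜ[A] σ j s) * ej σ j = (s ⊗ₜ[A] (1 : B)) * ej σ j := by
  have h := congrArg (tau σ j)
    (Algebra.FormallyUnramified.one_tmul_mul_elem (R := A) (S := B) s)
  rw [map_mul, map_mul, tau_tmul, tau_tmul, map_one] at h
  exact h

section geom

variable {Ω : Type u} [Field Ω] (ω : B ⊗[A] B →+* Ω)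

/-- left component of a point of `B ⊗ B` -/
noncomputable def sL : B →+* Ω := ω.comp Algebra.TensorProduct.includeLeftRingHom

/-- right component of a point of `B ⊗ B` -/
noncomputable def sR : B →+* Ω :=
  ω.comp (Algebra.TensorProduct.includeRight (R := A) (A := B) (B := B)).toRingHom

theorem sL_apply (b : B) : sL ω b = ω (b ⊗ₜ[A] (1 : B)) := rfl

theorem sR_apply (b : B) : sR ω b = ω ((1 : B) ⊗ₜ[A] b) := rfl

theorem omega_tmul (b b' : B) : ω (b ⊗ₜ[A] b') = sL ω b * sR ω b' := by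
  rw [sL_apply, sR_apply, ← map_mul, Algebra.TensorProduct.tmul_mul_tmul, mul_one, one_mul]

theorem sL_sR_agree : (sL ω).comp (algebraMap A B) = (sR ω).comp (algebraMap A B) := by
  ext a
  simp only [RingHom.comp_apply, sL_apply, sR_apply]
  congr 1
  rw [Algebra.algebraMap_eq_smul_one, TensorProduct.smul_tmul]

theorem eq_of_ne (j : ZMod p) (h : ω (ej σ j) ≠ 0) :
    (sR ω).comp (σ j).toRingHom = sL ω := by
  ext b
  have h1 := congrArg ω (key σ j b)
  rw [map_mul, map_mul] at h1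
  exact mul_right_cancel₀ h h1

theorem omega_tau (j : ZMod p) (h : (sR ω).comp (σ j).toRingHom = sL ω) (x : B ⊗[A] B) :
    ω (tau σ j x) = sL ω (Algebra.TensorProduct.lmul' A x) := by
  induction x using TensorProduct.induction_on with
  | zero => simp
  | tmul b b' =>
    rw [tau_tmul, omega_tmul, Algebra.TensorProduct.lmul'_apply_tmul, map_mul]
    congr 1
    exact congrArg (fun f : B →+* Ω => f b') h
  | add x y hx hy => rw [map_add, map_add, hx, hy, map_add, map_add]

theorem omega_ej_one (j : ZMod p) (h : (sR ω).comp (σ j).toRingHom = sL ω) :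
    ω (ej σ j) = 1 := by
  unfold ej
  rw [omega_tau σ ω j h, Algebra.FormallyUnramified.lmul_elem, map_one]

end geom

variable {σ} (H : Tors p σ)

include H

theorem ej_ortho (i j : ZMod p) (hij : i ≠ j) : ej σ i * ej σ j = 0 := by
  apply eq_zero_of_idem _ ((ej_idem σ i).mul (ej_idem σ j))
  intro Ω _ _ ω
  rw [map_mul]
  by_contra hne
  have hi : ω (ej σ i) ≠ 0 := left_ne_zero_of_mul hne
  have hj : ω (ej σ j) ≠ 0 := right_ne_zero_of_mul hne
  have e1 := eq_of_ne σ ω i hi
  have e2 := eq_of_ne σ ω j hj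
  obtain ⟨j0, -, huniq⟩ := H.tors Ω (sR ω) (sL ω) (sL_sR_agree ω).symm
  exact hij ((huniq i e1).trans (huniq j e2).symm)

theorem sum_ej : ∑ j : ZMod p, ej σ j = 1 := by
  classical
  have hO : OrthogonalIdempotents (ej σ) := ⟨ej_idem σ, fun i j hij => ej_ortho H i j hij⟩
  have hE : IsIdempotentElem (∑ j : ZMod p, ej σ j) := hO.isIdempotentElem_sum (s := Finset.univ)
  have h0 : 1 - ∑ j : ZMod p, ej σ j = 0 := by
    apply eq_zero_of_idem _ hE.one_sub
    intro Ω _ _ ω
    obtain ⟨j0, hj0, -⟩ := H.tors Ω (sR ω) (sL ω) (sL_sR_agree ω).symm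
    have h1 : ω (ej σ j0) = 1 := omega_ej_one σ ω j0 hj0
    have h2 : ∀ j, j ≠ j0 → ω (ej σ j) = 0 := by
      intro j hj
      have := congrArg ω (ej_ortho H j j0 hj)
      rw [map_mul, h1, mul_one, map_zero] at this
      exact this
    rw [map_sub, map_one, map_sum,
      Finset.sum_eq_single j0 (fun j _ hj => h2 j hj) (by simp), h1, sub_self]
  exact (sub_eq_zero.mp h0).symm

/-- invariants of a torsor are the base ring -/
theorem inv_mem (b : B) (hb : ∀ j, σ j b = b) : b ∈ (algebraMap A B).range := by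
  apply mem_range_of_tmul_eq
  calc (1 : B) ⊗ₜ[A] b = ((1 : B) ⊗ₜ[A] b) * ∑ j, ej σ j := by rw [sum_ej H, mul_one]
    _ = ∑ j, ((1 : B) ⊗ₜ[A] b) * ej σ j := Finset.mul_sum _ _ _
    _ = ∑ j, (b ⊗ₜ[A] (1 : B)) * ej σ j := by
        apply Finset.sum_congr rfl
        intro j _
        have := key σ j b
        rw [hb j] at this
        exact this
    _ = (b ⊗ₜ[A] (1 : B)) * ∑ j, ej σ j := (Finset.mul_sum _ _ _).symm
    _ = b ⊗ₜ[A] (1 : B) := by rw [sum_ej H, mul_one]

theorem sigma_sum (k : ZMod p) (b : B) : σ k (∑ j, σ j b) = ∑ j, σ j b := by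
  rw [map_sum, ← Equiv.sum_comp (Equiv.addLeft k) (fun j => σ j b)]
  apply Finset.sum_congr rfl
  intro j _
  rw [Equiv.coe_addLeft, H.add]
  rfl

/-- the trace of a torsor hits `1` -/
theorem exists_trace_one : ∃ c : B, ∑ j : ZMod p, σ j c = 1 := by
  classical
  let Tr : B →ₗ[A] B := ∑ j : ZMod p, (σ j).toLinearMap
  have hTr : ∀ b, Tr b = ∑ j, σ j b := fun b => by simp [Tr, LinearMap.sum_apply]
  let I : Ideal A := Submodule.comap (Algebra.linearMap A B) (LinearMap.range Tr)
  by_cases hI : I = ⊤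
  · have h1 : (1 : A) ∈ I := by rw [hI]; trivial
    obtain ⟨c, hc⟩ := LinearMap.mem_range.mp (Submodule.mem_comap.mp h1)
    exact ⟨c, by rw [← hTr, hc]; simp⟩
  · exfalso
    obtain ⟨𝔪, hm, hIm⟩ := Ideal.exists_le_maximal I hI
    haveI := hm
    letI : Field (A ⧸ 𝔪) := Ideal.Quotient.field 𝔪
    let Ω := AlgebraicClosure (A ⧸ 𝔪)
    let χ : A →+* Ω := (algebraMap (A ⧸ 𝔪) Ω).comp (Ideal.Quotient.mk 𝔪)
    obtain ⟨s0, hs0⟩ := exists_extension (algebraMap A B)
      (FaithfulSMul.algebraMap_injective A B) Algebra.IsIntegral.isIntegral χ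
    let S : ZMod p → (B →* Ω) := fun j => ((s0.comp (σ j).toRingHom : B →+* Ω) : B →* Ω)
    have hSinj : Function.Injective S := by
      intro i j hij
      have hij' : s0.comp (σ i).toRingHom = s0.comp (σ j).toRingHom := by
        ext b
        exact congrArg (fun f : B →* Ω => f b) hij
      obtain ⟨j0, -, huniq⟩ := H.tors Ω s0 (s0.comp (σ i).toRingHom) (by
        ext a
        simp)
      exact (huniq i rfl).trans (huniq j hij'.symm).symm
    have hli := (linearIndependent_monoidHom B Ω).comp S hSinj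
    have hne : ∃ c : B, ∑ j, s0 (σ j c) ≠ 0 := by
      by_contra hall
      push Not at hall
      have h0 : ∑ j : ZMod p, (fun _ => (1 : Ω)) j • ((fun f : B →* Ω => (f : B → Ω)) ∘ S) j = 0 := by
        ext c
        simp only [Finset.sum_apply, Pi.smul_apply, Function.comp_apply, smul_eq_mul, one_mul,
          Pi.zero_apply]
        exact hall c
      have := Fintype.linearIndependent_iff.mp hli (fun _ => (1 : Ω)) h0 0
      exact one_ne_zero this
    obtain ⟨c, hc⟩ := hne
    obtain ⟨α, hα⟩ := inv_mem H (Tr c) (fun k => by rw [hTr]; exact sigma_sum H k c)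
    have hαI : α ∈ I := Submodule.mem_comap.mpr (LinearMap.mem_range.mpr ⟨c, by simpa using hα.symm⟩)
    have hαm : α ∈ 𝔪 := hIm hαI
    apply hc
    have h5 : s0 (Tr c) = 0 := by
      rw [← hα]
      have h6 : s0 (algebraMap A B α) = χ α := by rw [← hs0]; rfl
      rw [h6]
      simp only [χ, RingHom.comp_apply]
      rw [Ideal.Quotient.eq_zero_iff_mem.mpr hαm, map_zero]
    rw [hTr, map_sum] at h5
    exact h5

end main

end Groth.Agent.Helper12.ArtSch
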