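import Mathlib
import Groth.Prelude.Def_SGA1t
import Groth.Agent.Lib.Helper12.ArtSchA

/-!
# Artin–Schreier covers, algebraic core (part B)

An element `t` with `σ_k t = t + k`, the constant `a = t^p - t`, and the isomorphism
`A[T]/(T^p - T - a) ≅ B` (Vandermonde argument).
-/

set_option autoImplicit false
set_option linter.style.haveILetI false
set_option linter.unusedVariables false
set_option linter.unusedSectionVars false

universe u
open TensorProduct

namespace Groth.Agent.Helper12.ArtSch

section main

variable (A B : Type u) [CommRing A] [CommRing B] [Algebra A B] (p : ℕ) [Fact p.Prime] [CharP A p]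

/-- `ℤ/p → A → B` -/
noncomputable def iota : ZMod p →+* B := (algebraMap A B).comp (ZMod.castHom (dvd_refl p) A)

variable {A B p} {σ : ZMod p → (B →ₐ[A] B)}

theorem sigma_iota (k j : ZMod p) : σ k (iota A B p j) = iota A B p j := (σ k).commutes _

variable [Algebra.FormallyUnramified A B] [Algebra.EssFiniteType A B] [Module.FaithfullyFlat A B]
  [Algebra.IsIntegral A B] (H : Tors p σ)

include H

theorem exists_t : ∃ t : B, ∀ k : ZMod p, σ k t = t + iota A B p k := by
  obtain ⟨c, hc⟩ := exists_trace_one H
  refine ⟨-∑ j : ZMod p, iota A B p j * σ j c, fun k => ?_⟩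
  have h1 : σ k (-∑ j : ZMod p, iota A B p j * σ j c) =
      -∑ j : ZMod p, iota A B p j * σ (k + j) c := by
    rw [map_neg, map_sum]
    congr 1
    apply Finset.sum_congr rfl
    intro j _
    rw [map_mul, sigma_iota, H.add]
    rfl
  have h2 : ∑ j : ZMod p, iota A B p j * σ (k + j) c =
      ∑ j : ZMod p, iota A B p (j - k) * σ j c := by
    rw [← Equiv.sum_comp (Equiv.addLeft k) (fun j => iota A B p (j - k) * σ j c)]
    apply Finset.sum_congr rfl
    intro j _
    simp only [Equiv.coe_addLeft, add_sub_cancel_left]
  have h3 : ∑ j : ZMod p, iota A B p (j - k) * σ j c =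
      ∑ j : ZMod p, iota A B p j * σ j c - iota A B p k := by
    simp only [map_sub, sub_mul, Finset.sum_sub_distrib]
    rw [← Finset.mul_sum, hc, mul_one]
  rw [h1, h2, h3]
  ring

theorem exists_a (t : B) (ht : ∀ k : ZMod p, σ k t = t + iota A B p k) :
    ∃ a : A, algebraMap A B a = t ^ p - t := by
  haveI : CharP B p := charP_of_injective_algebraMap (FaithfulSMul.algebraMap_injective A B) p
  obtain ⟨a, ha⟩ := inv_mem H (t ^ p - t) (fun k => by
    rw [map_sub, map_pow, ht, add_pow_char, ← map_pow, ZMod.pow_card]
    ring)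
  exact ⟨a, ha⟩

omit H in
/-- the map `A[T]/(T^p - T - a) → B`, `T ↦ t` -/
noncomputable def theta (t : B) (a : A) (hta : algebraMap A B a = t ^ p - t) :
    SGA1t.artinSchreier A p a →ₐ[A] B :=
  Ideal.Quotient.liftₐ _ (Polynomial.aeval t) (by
    intro q hq
    obtain ⟨r, rfl⟩ := Ideal.mem_span_singleton'.mp hq
    rw [map_mul]
    have : Polynomial.aeval t
        ((Polynomial.X : Polynomial A) ^ p - Polynomial.X - Polynomial.C a) = 0 := by
      simp [hta]
    rw [this, mul_zero])

omit H in
theorem theta_mk (t : B) (a : A) (hta : algebraMap A B a = t ^ p - t) (q : Polynomial A) :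
    theta t a hta (Ideal.Quotient.mk _ q) = Polynomial.aeval t q := rfl

omit H in
/-- an enumeration of `ℤ/p` -/
noncomputable def en (p : ℕ) [Fact p.Prime] : Fin p ≃ ZMod p :=
  (Fintype.equivFinOfCardEq (ZMod.card p)).symm

omit H in
/-- the nodes `t + k` -/
noncomputable def vv (A : Type u) [CommRing A] [Algebra A B] [CharP A p] (t : B) : Fin p → B :=
  fun k => t + iota A B p (en p k)

omit H [Algebra.FormallyUnramified A B] [Algebra.EssFiniteType A B] [Module.FaithfullyFlat A B]
  [Algebra.IsIntegral A B] in
theorem isUnit_det (t : B) : IsUnit (Matrix.vandermonde (vv A t)).det := by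
  rw [Matrix.det_vandermonde]
  apply Finset.prod_induction _ IsUnit (fun _ _ => IsUnit.mul) isUnit_one
  intro i _
  apply Finset.prod_induction _ IsUnit (fun _ _ => IsUnit.mul) isUnit_one
  intro j hj
  have hij : i < j := by simpa using hj
  have h1 : vv A t j - vv A t i = iota A B p (en p j - en p i) := by
    simp only [vv, map_sub]
    ring
  rw [h1]
  apply IsUnit.map
  have hne : en p j - en p i ≠ 0 := by
    intro h0
    have := (en p).injective (sub_eq_zero.mp h0)
    exact (ne_of_gt hij) this
  exact isUnit_iff_ne_zero.mpr hne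

omit H [Algebra.FormallyUnramified A B] [Algebra.EssFiniteType A B] [Module.FaithfullyFlat A B]
  [Algebra.IsIntegral A B] in
theorem vand_inj (t : B) (c c' : Fin p → B)
    (h : (Matrix.vandermonde (vv A t)).mulVec c = (Matrix.vandermonde (vv A t)).mulVec c') :
    c = c' := by
  have hu := isUnit_det (A := A) t
  have := congrArg ((Matrix.vandermonde (vv A t))⁻¹).mulVec h
  rwa [Matrix.mulVec_mulVec, Matrix.mulVec_mulVec, Matrix.nonsing_inv_mul _ hu,
    Matrix.one_mulVec, Matrix.one_mulVec] at this

omit H [Algebra.FormallyUnramified A B] [Algebra.EssFiniteType A B] [Module.FaithfullyFlat A B]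
  [Algebra.IsIntegral A B] in
theorem vand_row (t : B) (c : Fin p → B) (k : Fin p) :
    (Matrix.vandermonde (vv A t)).mulVec c k =
      ∑ i : Fin p, (t + iota A B p (en p k)) ^ (i : ℕ) * c i := by
  simp [Matrix.mulVec, dotProduct, Matrix.vandermonde_apply, vv]

theorem theta_surjective (t : B) (ht : ∀ k : ZMod p, σ k t = t + iota A B p k) (a : A)
    (hta : algebraMap A B a = t ^ p - t) : Function.Surjective (theta t a hta) := by
  intro b
  have hu := isUnit_det (A := A) t
  let V := Matrix.vandermonde (vv A t)
  let w : Fin p → B := fun k => σ (en p k) b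
  let c : Fin p → B := V⁻¹.mulVec w
  have hVc : V.mulVec c = w := by
    rw [Matrix.mulVec_mulVec, Matrix.mul_nonsing_inv _ hu, Matrix.one_mulVec]
  have hrow : ∀ k, ∑ i : Fin p, (t + iota A B p (en p k)) ^ (i : ℕ) * c i = σ (en p k) b := by
    intro k
    rw [← vand_row]
    exact congrFun hVc k
  have hinv : ∀ (m : ZMod p) (i : Fin p), σ m (c i) = c i := by
    intro m
    have hfun : (fun i => σ m (c i)) = c := by
      apply vand_inj (A := A) t
      rw [show (Matrix.vandermonde (vv A t)).mulVec c = w from hVc]
      funext k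
      rw [vand_row]
      have hk' : en p ((en p).symm (en p k - m)) = en p k - m := (en p).apply_symm_apply _
      have h1 := congrArg (σ m) (hrow ((en p).symm (en p k - m)))
      rw [hk', map_sum] at h1
      have h2 : iota A B p m + iota A B p (en p k - m) = iota A B p (en p k) := by
        rw [← map_add]
        congr 1
        ring
      have h3 : σ m (σ (en p k - m) b) = σ (en p k) b := by
        have h4 := H.add m (en p k - m)
        rw [add_sub_cancel] at h4
        rw [h4]
        rfl
      rw [h3] at h1
      show ∑ i : Fin p, (t + iota A B p (en p k)) ^ (i : ℕ) * σ m (c i) = σ (en p k) b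
      rw [← h1]
      apply Finset.sum_congr rfl
      intro i _
      rw [map_mul, map_pow, map_add, ht, sigma_iota, add_assoc, h2]
    intro i
    exact congrFun hfun i
  choose α hα using fun i => inv_mem H (c i) (fun m => hinv m i)
  have h0 := hrow ((en p).symm 0)
  rw [(en p).apply_symm_apply, map_zero, H.zero] at h0
  refine ⟨Ideal.Quotient.mk _ (∑ i : Fin p, Polynomial.C (α i) * Polynomial.X ^ (i : ℕ)), ?_⟩
  rw [theta_mk, map_sum]
  simp only [map_mul, Polynomial.aeval_C, map_pow, Polynomial.aeval_X, hα]
  have h0' : ∑ i : Fin p, (t + 0) ^ (i : ℕ) * c i = b := h0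
  rw [← h0']
  apply Finset.sum_congr rfl
  intro i _
  rw [add_zero]
  ring

theorem theta_injective (t : B) (ht : ∀ k : ZMod p, σ k t = t + iota A B p k) (a : A)
    (hta : algebraMap A B a = t ^ p - t) : Function.Injective (theta t a hta) := by
  haveI : Nontrivial A := CharP.nontrivial_of_char_ne_one (R := A)
    (Fact.out : p.Prime).ne_one
  rw [injective_iff_map_eq_zero]
  intro x hx
  obtain ⟨q, rfl⟩ := Ideal.Quotient.mk_surjective x
  have hp2 : 2 ≤ p := (Fact.out : p.Prime).two_le
  have hgdef : (Polynomial.X : Polynomial A) ^ p - Polynomial.X - Polynomial.C a =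
      Polynomial.X ^ p - (Polynomial.X + Polynomial.C a) := by ring
  have hdlt : (Polynomial.X + Polynomial.C a : Polynomial A).degree < (p : WithBot ℕ) := by
    rw [Polynomial.degree_X_add_C]
    exact_mod_cast hp2
  have hg : ((Polynomial.X : Polynomial A) ^ p - Polynomial.X - Polynomial.C a).Monic := by
    rw [hgdef]
    exact Polynomial.monic_X_pow_sub hdlt
  have hgdeg : ((Polynomial.X : Polynomial A) ^ p - Polynomial.X - Polynomial.C a).natDegree = p := by
    rw [hgdef, Polynomial.natDegree_sub_eq_left_of_natDegree_lt, Polynomial.natDegree_X_pow]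
    rw [Polynomial.natDegree_X_pow, Polynomial.natDegree_X_add_C]
    exact hp2
  have hg1 : ((Polynomial.X : Polynomial A) ^ p - Polynomial.X - Polynomial.C a) ≠ 1 := by
    intro h1
    rw [h1, Polynomial.natDegree_one] at hgdeg
    omega
  set g := (Polynomial.X : Polynomial A) ^ p - Polynomial.X - Polynomial.C a with hgd
  have hqr : (Ideal.Quotient.mk (Ideal.span {g})) q = (Ideal.Quotient.mk (Ideal.span {g})) (q %ₘ g) := by
    rw [Ideal.Quotient.eq, Ideal.mem_span_singleton']
    refine ⟨q /ₘ g, ?_⟩
    have := Polynomial.modByMonic_add_div q g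
    linear_combination this
  have hx' : theta t a hta ((Ideal.Quotient.mk (Ideal.span {g})) (q %ₘ g)) = 0 := by
    rw [← hqr]
    exact hx
  show (Ideal.Quotient.mk (Ideal.span {g})) q = 0
  rw [hqr]
  rw [theta_mk] at hx'
  have hrdeg : (q %ₘ g).natDegree < p := by
    have := Polynomial.natDegree_modByMonic_lt q hg hg1
    rwa [hgdeg] at this
  rw [Polynomial.aeval_eq_sum_range' hrdeg, Finset.sum_range] at hx'
  have hall : ∀ k : Fin p, ∑ i : Fin p, (t + iota A B p (en p k)) ^ (i : ℕ) *
      algebraMap A B ((q %ₘ g).coeff i) = 0 := by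
    intro k
    have h5 := congrArg (σ (en p k)) hx'
    rw [map_sum, map_zero] at h5
    rw [← h5]
    apply Finset.sum_congr rfl
    intro i _
    rw [map_smul, map_pow, ht, Algebra.smul_def, mul_comm]
  have hc : (fun i : Fin p => algebraMap A B ((q %ₘ g).coeff i)) = fun _ => 0 := by
    apply vand_inj (A := A) t
    funext k
    rw [vand_row, vand_row, hall k]
    simp
  have hr0 : q %ₘ g = 0 := by
    ext i
    by_cases hi : i < p
    · have h6 := congrFun hc ⟨i, hi⟩
      simp only at h6
      rw [Polynomial.coeff_zero]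
      exact FaithfulSMul.algebraMap_injective A B (by rw [h6, map_zero])
    · rw [Polynomial.coeff_zero]
      exact Polynomial.coeff_eq_zero_of_natDegree_lt (lt_of_lt_of_le hrdeg (not_lt.mp hi))
  rw [hr0, map_zero]

end main

end Groth.Agent.Helper12.ArtSch
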