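import Mathlib
import Groth.Prelude.Def_SGA1t
import Groth.Agent.Lib.Helper12.ArtSchB

/-!
# Artin–Schreier covers (part C): the bridge to schemes

A principal `ℤ/p`-cover `P` of `Spec A` (char `p`) is `Spec A[T]/(T^p - T - a)`, equivariantly.
-/

set_option autoImplicit false
set_option linter.style.haveILetI false
set_option linter.unusedVariables false
set_option linter.unusedSectionVars false

universe u
open CategoryTheory CategoryTheory.Limits AlgebraicGeometry

namespace Groth.Agent.Helper12.ArtSch

section alg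

variable {A B : Type u} [CommRing A] [CommRing B] [Algebra A B] {p : ℕ} [Fact p.Prime] [CharP A p]
  {σ : ZMod p → (B →ₐ[A] B)}
  [Algebra.FormallyUnramified A B] [Algebra.EssFiniteType A B] [Module.FaithfullyFlat A B]
  [Algebra.IsIntegral A B]

theorem shift_mk (a : A) (j : ZMod p) (q : Polynomial A) :
    SGA1t.artinSchreierShift A p a j (Ideal.Quotient.mk _ q) =
      Ideal.Quotient.mk _ (Polynomial.aeval (R := A)
        (Polynomial.X + Polynomial.C ((ZMod.castHom (dvd_refl p) A) j)) q) := rfl

theorem sigma_theta (t : B) (ht : ∀ k : ZMod p, σ k t = t + iota A B p k) (a : A)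
    (hta : algebraMap A B a = t ^ p - t) (j : ZMod p) (x : SGA1t.artinSchreier A p a) :
    σ j (theta t a hta x) = theta t a hta (SGA1t.artinSchreierShift A p a j x) := by
  obtain ⟨q, rfl⟩ := Ideal.Quotient.mk_surjective x
  rw [shift_mk, theta_mk, theta_mk, ← Polynomial.aeval_algHom_apply, ht,
    ← Polynomial.aeval_algHom_apply]
  have h2 : Polynomial.aeval t
      ((Polynomial.X : Polynomial A) + Polynomial.C ((ZMod.castHom (dvd_refl p) A) j)) =
      t + iota A B p j := by
    rw [map_add, Polynomial.aeval_X, Polynomial.aeval_C]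
    rfl
  rw [h2]

end alg

section bridge

variable {A : Type u} [CommRing A] (p : ℕ) [Fact p.Prime]
  (P : FEt.Cat (Spec (CommRingCat.of A))) (ρ : Multiplicative (ZMod p) →* Aut P)

theorem isAffine_left : IsAffine P.left := by
  haveI : IsFinite P.hom := P.prop.1
  exact isAffine_of_isAffineHom (Y := Spec (CommRingCat.of A)) P.hom

variable [IsAffine P.left]

/-- the structure map on global sections -/
noncomputable def phi : CommRingCat.of A ⟶ Γ(P.left, ⊤) :=
  Spec.preimage (P.left.isoSpec.inv ≫ P.hom)

theorem map_phi : Spec.map (phi P) = P.left.isoSpec.inv ≫ P.hom := Spec.map_preimage _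

/-- the action on global sections -/
noncomputable def psi (j : ZMod p) : Γ(P.left, ⊤) ⟶ Γ(P.left, ⊤) :=
  Spec.preimage (P.left.isoSpec.inv ≫ (ρ (Multiplicative.ofAdd j)).hom.left ≫ P.left.isoSpec.hom)

theorem map_psi (j : ZMod p) : Spec.map (psi p P ρ j) =
    P.left.isoSpec.inv ≫ (ρ (Multiplicative.ofAdd j)).hom.left ≫ P.left.isoSpec.hom :=
  Spec.map_preimage _

theorem left_comp_hom (g : Multiplicative (ZMod p)) : (ρ g).hom.left ≫ P.hom = P.hom :=
  MorphismProperty.Over.w (ρ g).hom

theorem phi_psi (j : ZMod p) : phi P ≫ psi p P ρ j = phi P := by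
  apply Spec.map_injective
  rw [Spec.map_comp, map_psi, map_phi]
  simp only [Category.assoc, Iso.hom_inv_id_assoc]
  rw [left_comp_hom]

theorem psi_zero : psi p P ρ 0 = 𝟙 _ := by
  apply Spec.map_injective
  rw [map_psi, Spec.map_id, ofAdd_zero, map_one]
  have : ((1 : Aut P).hom).left = 𝟙 P.left := rfl
  rw [this, Category.id_comp, Iso.inv_hom_id]

theorem psi_add (i j : ZMod p) : psi p P ρ (i + j) = psi p P ρ i ≫ psi p P ρ j := by
  apply Spec.map_injective
  rw [Spec.map_comp, map_psi, map_psi, map_psi, ofAdd_add, map_mul]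
  have : ((ρ (Multiplicative.ofAdd i) * ρ (Multiplicative.ofAdd j)).hom).left =
      (ρ (Multiplicative.ofAdd j)).hom.left ≫ (ρ (Multiplicative.ofAdd i)).hom.left := rfl
  rw [this]
  simp only [Category.assoc, Iso.hom_inv_id_assoc]

/-- the `A`-algebra structure on `Γ(P.left, ⊤)` -/
noncomputable abbrev algInst : Algebra A Γ(P.left, ⊤) := (phi P).hom.toAlgebra

attribute [local instance] algInst

/-- the action as algebra maps -/
noncomputable def sig (j : ZMod p) : Γ(P.left, ⊤) →ₐ[A] Γ(P.left, ⊤) :=
  { (psi p P ρ j).hom with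
    commutes' := fun a =>
      congrArg (fun m : CommRingCat.of A ⟶ Γ(P.left, ⊤) => m.hom a) (phi_psi p P ρ j) }

theorem finite_inst : Module.Finite A Γ(P.left, ⊤) := by
  haveI : IsFinite P.hom := P.prop.1
  have h : IsFinite (Spec.map (phi P)) := by rw [map_phi]; infer_instance
  exact (IsFinite.SpecMap_iff (phi P)).mp h

theorem etale_inst : Algebra.Etale A Γ(P.left, ⊤) := by
  haveI : Etale P.hom := P.prop.2
  have h : Etale (Spec.map (phi P)) := by rw [map_phi]; infer_instance
  exact (HasRingHomProperty.Spec_iff (P := @Etale)).mp h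

theorem ff_inst (hs : Function.Surjective P.hom.base) : Module.FaithfullyFlat A Γ(P.left, ⊤) := by
  haveI : Etale P.hom := P.prop.2
  haveI : Surjective P.hom := ⟨hs⟩
  have h1 : Flat (Spec.map (phi P)) := by rw [map_phi]; infer_instance
  have h2 : Surjective (Spec.map (phi P)) := by rw [map_phi]; infer_instance
  exact (flat_and_surjective_SpecMap_iff (phi P)).mp ⟨h1, h2⟩

theorem tors_of_principal (hP : SGA1t.IsPrincipal (Multiplicative (ZMod p)) P ρ) :
    Tors p (sig p P ρ) where
  zero := by
    apply AlgHom.ext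
    intro b
    show (psi p P ρ 0).hom b = b
    rw [psi_zero]
    rfl
  add := by
    intro i j
    apply AlgHom.ext
    intro b
    show (psi p P ρ (i + j)).hom b = (psi p P ρ i).hom ((psi p P ρ j).hom b)
    rw [add_comm, psi_add]
    rfl
  tors := by
    intro Ω _ _ s t hst
    let ξ : Spec (CommRingCat.of Ω) ⟶ Spec (CommRingCat.of A) :=
      Spec.map (phi P ≫ CommRingCat.ofHom s)
    have hs' : (Spec.map (CommRingCat.ofHom s) ≫ P.left.isoSpec.inv) ≫ P.hom = ξ := by
      rw [Category.assoc, ← map_phi, ← Spec.map_comp]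
    have hpt : phi P ≫ CommRingCat.ofHom t = phi P ≫ CommRingCat.ofHom s := by
      ext a
      exact (RingHom.congr_fun hst a).symm
    have ht' : (Spec.map (CommRingCat.ofHom t) ≫ P.left.isoSpec.inv) ≫ P.hom = ξ := by
      rw [Category.assoc, ← map_phi, ← Spec.map_comp, hpt]
    let s' : FEt.fiberObj ξ P :=
      (Subtype.mk _ hs' : {s : Spec (CommRingCat.of Ω) ⟶ P.left // s ≫ P.hom = ξ})
    let t' : FEt.fiberObj ξ P :=
      (Subtype.mk _ ht' : {s : Spec (CommRingCat.of Ω) ⟶ P.left // s ≫ P.hom = ξ})
    have key : ∀ g : Multiplicative (ZMod p), (FEt.fiber ξ).map (ρ g).hom s' = t' ↔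
        s.comp (sig p P ρ (Multiplicative.toAdd g)).toRingHom = t := by
      intro g
      constructor
      · intro h
        have h1 : (Spec.map (CommRingCat.ofHom s) ≫ P.left.isoSpec.inv) ≫ (ρ g).hom.left =
            Spec.map (CommRingCat.ofHom t) ≫ P.left.isoSpec.inv := by
          have h0 := congrArg Subtype.val h
          exact h0
        have h2 : Spec.map (psi p P ρ (Multiplicative.toAdd g) ≫ CommRingCat.ofHom s) =
            Spec.map (CommRingCat.ofHom t) := by
          rw [Spec.map_comp, map_psi, ofAdd_toAdd]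
          calc Spec.map (CommRingCat.ofHom s) ≫
                P.left.isoSpec.inv ≫ (ρ g).hom.left ≫ P.left.isoSpec.hom
              = ((Spec.map (CommRingCat.ofHom s) ≫ P.left.isoSpec.inv) ≫ (ρ g).hom.left) ≫
                P.left.isoSpec.hom := by simp only [Category.assoc]
            _ = (Spec.map (CommRingCat.ofHom t) ≫ P.left.isoSpec.inv) ≫ P.left.isoSpec.hom := by
                rw [h1]
            _ = Spec.map (CommRingCat.ofHom t) := by
                rw [Category.assoc, Iso.inv_hom_id, Category.comp_id]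
        have h3 := Spec.map_injective h2
        exact RingHom.ext fun b =>
          congrArg (fun m : Γ(P.left, ⊤) ⟶ CommRingCat.of Ω => m.hom b) h3
      · intro h
        have h3 : psi p P ρ (Multiplicative.toAdd g) ≫ CommRingCat.ofHom s =
            CommRingCat.ofHom t := CommRingCat.hom_ext h
        apply Subtype.ext
        show (Spec.map (CommRingCat.ofHom s) ≫ P.left.isoSpec.inv) ≫ (ρ g).hom.left =
          Spec.map (CommRingCat.ofHom t) ≫ P.left.isoSpec.inv
        calc (Spec.map (CommRingCat.ofHom s) ≫ P.left.isoSpec.inv) ≫ (ρ g).hom.left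
            = (Spec.map (CommRingCat.ofHom s) ≫
                P.left.isoSpec.inv ≫ (ρ g).hom.left ≫ P.left.isoSpec.hom) ≫
                P.left.isoSpec.inv := by
              simp only [Category.assoc, Iso.hom_inv_id, Category.comp_id]
          _ = (Spec.map (CommRingCat.ofHom s) ≫
                Spec.map (psi p P ρ (Multiplicative.toAdd g))) ≫ P.left.isoSpec.inv := by
              rw [map_psi, ofAdd_toAdd]
          _ = Spec.map (psi p P ρ (Multiplicative.toAdd g) ≫ CommRingCat.ofHom s) ≫
                P.left.isoSpec.inv := by rw [Spec.map_comp]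
          _ = Spec.map (CommRingCat.ofHom t) ≫ P.left.isoSpec.inv := by rw [h3]
    obtain ⟨g, hg, huniq⟩ := hP.2 Ω ξ s' t'
    refine ⟨Multiplicative.toAdd g, (key g).mp hg, fun j hj => ?_⟩
    have h5 := huniq (Multiplicative.ofAdd j)
      ((key (Multiplicative.ofAdd j)).mpr (by rwa [toAdd_ofAdd]))
    rw [← h5, toAdd_ofAdd]

end bridge

section main

theorem main (A : Type u) [CommRing A] (p : ℕ) [Fact p.Prime] [CharP A p]
    (P : FEt.Cat (Spec (CommRingCat.of A))) (ρ : Multiplicative (ZMod p) →* Aut P)
    (hP : SGA1t.IsPrincipal (Multiplicative (ZMod p)) P ρ) :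
    ∃ (a : A) (e : P.left ≅ Spec (CommRingCat.of (SGA1t.artinSchreier A p a))),
      e.hom ≫ Spec.map (CommRingCat.ofHom (algebraMap A (SGA1t.artinSchreier A p a))) = P.hom ∧
      ∀ j : ZMod p, (ρ (Multiplicative.ofAdd j)).hom.left ≫ e.hom =
        e.hom ≫ Spec.map (CommRingCat.ofHom (SGA1t.artinSchreierShift A p a j)) := by
  haveI := isAffine_left P
  letI := algInst P
  haveI := finite_inst P
  haveI := etale_inst P
  haveI := ff_inst P hP.1
  have H := tors_of_principal p P ρ hP
  obtain ⟨t, ht⟩ := exists_t H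
  obtain ⟨a, hta⟩ := exists_a H t ht
  have hinj := theta_injective H t ht a hta
  have hsurj := theta_surjective H t ht a hta
  let E := RingEquiv.ofBijective (theta t a hta) ⟨hinj, hsurj⟩
  let θc : CommRingCat.of (SGA1t.artinSchreier A p a) ⟶ Γ(P.left, ⊤) :=
    CommRingCat.ofHom (theta t a hta).toRingHom
  let θi : Γ(P.left, ⊤) ⟶ CommRingCat.of (SGA1t.artinSchreier A p a) :=
    CommRingCat.ofHom E.symm.toRingHom
  have hθ1 : θc ≫ θi = 𝟙 _ := by
    apply CommRingCat.hom_ext
    apply RingHom.ext
    intro x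
    exact E.symm_apply_apply x
  have hθ2 : θi ≫ θc = 𝟙 _ := by
    apply CommRingCat.hom_ext
    apply RingHom.ext
    intro x
    exact E.apply_symm_apply x
  refine ⟨a, ⟨P.left.isoSpec.hom ≫ Spec.map θc, Spec.map θi ≫ P.left.isoSpec.inv, ?_, ?_⟩, ?_, ?_⟩
  · rw [Category.assoc, ← Category.assoc (Spec.map θc), ← Spec.map_comp, hθ2, Spec.map_id,
      Category.id_comp, Iso.hom_inv_id]
  · rw [Category.assoc, ← Category.assoc P.left.isoSpec.inv, Iso.inv_hom_id, Category.id_comp,
      ← Spec.map_comp, hθ1, Spec.map_id]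
  · show (P.left.isoSpec.hom ≫ Spec.map θc) ≫
      Spec.map (CommRingCat.ofHom (algebraMap A (SGA1t.artinSchreier A p a))) = P.hom
    rw [Category.assoc, ← Spec.map_comp]
    have h0 : CommRingCat.ofHom (algebraMap A (SGA1t.artinSchreier A p a)) ≫ θc = phi P := by
      ext x
      exact (theta t a hta).commutes x
    rw [h0, map_phi, Iso.hom_inv_id_assoc]
  · intro j
    show (ρ (Multiplicative.ofAdd j)).hom.left ≫ (P.left.isoSpec.hom ≫ Spec.map θc) =
      (P.left.isoSpec.hom ≫ Spec.map θc) ≫
        Spec.map (CommRingCat.ofHom (SGA1t.artinSchreierShift A p a j))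
    have h1 : θc ≫ psi p P ρ j = CommRingCat.ofHom (SGA1t.artinSchreierShift A p a j) ≫ θc := by
      apply CommRingCat.hom_ext
      apply RingHom.ext
      intro x
      exact sigma_theta (σ := sig p P ρ) t ht a hta j x
    have h2 : (ρ (Multiplicative.ofAdd j)).hom.left ≫ P.left.isoSpec.hom =
        P.left.isoSpec.hom ≫ Spec.map (psi p P ρ j) := by
      rw [map_psi, Iso.hom_inv_id_assoc]
    rw [← Category.assoc, h2, Category.assoc, Category.assoc, ← Spec.map_comp, ← Spec.map_comp, h1]

end main

end Groth.Agent.Helper12.ArtSch
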