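import Mathlib

/-!
# Polynomial lemmas for asymptotic Riemann–Roch (S7649), Mathlib only

* `alt_sum_eval`: `∑_{k ≤ d} (-1)^(d-k) C(d,k) Q(k) = d! · Q.coeff d` for `natDegree Q ≤ d`;
* `powerset_sum`: the same sum written over the subsets of a `d`-element set;
* `tail_bound`: `|Q(n) - Q.coeff d · n^d| ≤ C (n+1)^(d-1)` for `natDegree Q ≤ d`;
* `bound_of_eventually_eq`: the same bound for a function agreeing with `Q` eventually.
-/

set_option autoImplicit false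

open Polynomial Finset

namespace Groth.Agent.Helper12.AsympPoly

/-- the `d`-th forward difference at `0` of a polynomial of degree `≤ d` is `d!` times its
coefficient in degree `d` -/
theorem fwdDiff_iter_eval_zero (Q : ℚ[X]) (d : ℕ) (hQ : Q.natDegree ≤ d) :
    (fwdDiff (1 : ℚ))^[d] Q.eval 0 = (d.factorial : ℚ) * Q.coeff d := by
  rcases hQ.lt_or_eq with h | h
  · rw [Polynomial.fwdDiff_iter_eq_zero_of_degree_lt h, Polynomial.coeff_eq_zero_of_natDegree_lt h]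
    simp
  · subst h
    rw [Polynomial.fwdDiff_iter_degree_eq_factorial]
    simp [mul_comm]

theorem alt_sum_eval (Q : ℚ[X]) (d : ℕ) (hQ : Q.natDegree ≤ d) :
    ∑ k ∈ range (d + 1), ((-1 : ℚ) ^ (d - k) * (d.choose k : ℚ)) * Q.eval (k : ℚ) =
      (d.factorial : ℚ) * Q.coeff d := by
  rw [← fwdDiff_iter_eval_zero Q d hQ, fwdDiff_iter_eq_sum_shift]
  refine Finset.sum_congr rfl fun k _ => ?_
  rw [zsmul_eq_mul]
  push_cast
  simp

/-- the alternating sum over the subsets of `Fin d` -/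
theorem powerset_sum (Q : ℚ[X]) (d : ℕ) (hQ : Q.natDegree ≤ d) :
    ∑ t ∈ (univ : Finset (Fin d)).powerset, (-1 : ℚ) ^ (d - t.card) * Q.eval (t.card : ℚ) =
      (d.factorial : ℚ) * Q.coeff d := by
  have h := Finset.sum_powerset_apply_card (fun j : ℕ => (-1 : ℚ) ^ (d - j) * Q.eval (j : ℚ))
    (x := (univ : Finset (Fin d)))
  rw [h, Finset.card_univ, Fintype.card_fin, ← alt_sum_eval Q d hQ]
  refine Finset.sum_congr rfl fun k _ => ?_
  rw [nsmul_eq_mul]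
  ring

theorem tail_bound (Q : ℚ[X]) (d : ℕ) (hQ : Q.natDegree ≤ d) :
    ∃ C : ℚ, 0 ≤ C ∧ ∀ n : ℕ,
      |Q.eval (n : ℚ) - Q.coeff d * (n : ℚ) ^ d| ≤ C * ((n : ℚ) + 1) ^ (d - 1) := by
  refine ⟨∑ i ∈ range d, |Q.coeff i|, Finset.sum_nonneg fun i _ => abs_nonneg _, fun n => ?_⟩
  have h1 : Q.eval (n : ℚ) = ∑ i ∈ range (d + 1), Q.coeff i * (n : ℚ) ^ i :=
    Polynomial.eval_eq_sum_range' (by omega) _
  rw [h1, Finset.sum_range_succ, add_sub_cancel_right, Finset.sum_mul]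
  refine (Finset.abs_sum_le_sum_abs _ _).trans (Finset.sum_le_sum fun i hi => ?_)
  have hi' : i ≤ d - 1 := by have := Finset.mem_range.mp hi; omega
  have hn0 : (0 : ℚ) ≤ (n : ℚ) := Nat.cast_nonneg n
  rw [abs_mul, abs_pow, abs_of_nonneg hn0]
  refine mul_le_mul_of_nonneg_left ?_ (abs_nonneg _)
  calc (n : ℚ) ^ i ≤ ((n : ℚ) + 1) ^ i := pow_le_pow_left₀ hn0 (by linarith) i
    _ ≤ ((n : ℚ) + 1) ^ (d - 1) := pow_le_pow_right₀ (by linarith) hi'

/-- a function on `ℕ` agreeing with the polynomial `Q` of degree `≤ d` for large arguments differs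
from `Q.coeff d · n^d` by `O((n+1)^(d-1))`, for all `n` -/
theorem bound_of_eventually_eq (Q : ℚ[X]) (d : ℕ) (hQ : Q.natDegree ≤ d) (h : ℕ → ℚ) (n₀ : ℕ)
    (hh : ∀ n : ℕ, n₀ ≤ n → h n = Q.eval (n : ℚ)) :
    ∃ C : ℚ, ∀ n : ℕ, |h n - Q.coeff d * (n : ℚ) ^ d| ≤ C * ((n : ℚ) + 1) ^ (d - 1) := by
  obtain ⟨C, hC0, hC⟩ := tail_bound Q d hQ
  refine ⟨C + ∑ m ∈ range n₀, |h m - Q.coeff d * (m : ℚ) ^ d|, fun n => ?_⟩
  have hM0 : 0 ≤ ∑ m ∈ range n₀, |h m - Q.coeff d * (m : ℚ) ^ d| :=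
    Finset.sum_nonneg fun i _ => abs_nonneg _
  have hpow : (1 : ℚ) ≤ ((n : ℚ) + 1) ^ (d - 1) :=
    one_le_pow₀ (by have : (0 : ℚ) ≤ (n : ℚ) := Nat.cast_nonneg n; linarith)
  by_cases hn : n₀ ≤ n
  · rw [hh n hn]
    refine (hC n).trans ?_
    exact mul_le_mul_of_nonneg_right (by linarith) (by linarith)
  · have hmem : n ∈ range n₀ := Finset.mem_range.mpr (by omega)
    have h1 : |h n - Q.coeff d * (n : ℚ) ^ d| ≤ ∑ m ∈ range n₀, |h m - Q.coeff d * (m : ℚ) ^ d| :=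
      Finset.single_le_sum (f := fun m => |h m - Q.coeff d * (m : ℚ) ^ d|)
        (fun i _ => abs_nonneg _) hmem
    calc |h n - Q.coeff d * (n : ℚ) ^ d|
        ≤ (C + ∑ m ∈ range n₀, |h m - Q.coeff d * (m : ℚ) ^ d|) * 1 := by linarith
      _ ≤ (C + ∑ m ∈ range n₀, |h m - Q.coeff d * (m : ℚ) ^ d|) * ((n : ℚ) + 1) ^ (d - 1) :=
        mul_le_mul_of_nonneg_left hpow (by linarith)

end Groth.Agent.Helper12.AsympPoly
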