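import Mathlib
import Groth.Prelude.Def_ShStab
import Groth.Agent.S1528
import Groth.Agent.S0051
import Groth.Agent.Lib.Helper25.ShStabFormal
import Groth.Agent.Lib.Helper6.CoeffOnes
import Groth.Agent.Lib.Helper6.HilbDeg
import Groth.Agent.Lib.Lead.Snapper
import Groth.Agent.Lib.Helper13.TensorPow
import Groth.Agent.Lib.Helper16.Sch.UnitMod1
import Groth.Agent.Lib.Helper12.AsympPoly

/-!
# Asymptotic Riemann–Roch (S7649), modulo strict positivity of the leading Hilbert coefficient

`main` proves the statement of S7649 from one hypothesis `SP`: the Hilbert polynomial `Q` of `O_X`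
with respect to the ample `L` has `0 < StabCat.alpha d Q`, `d = dim X`.
-/

set_option autoImplicit false
set_option linter.style.haveILetI false
universe u

open CategoryTheory CategoryTheory.Limits AlgebraicGeometry Polynomial

namespace Groth.Agent.Helper12.AsympRR

open Groth.Agent.Helper13.Tensor

section Iso

variable {X : Scheme.{u}}

/-- `O ⊗ L^{n_0} ⊗ ⋯ ⊗ L^{n_{r-1}} ≅ O ⊗ L^{Σ n_i}` -/
theorem tensorPows_const_iso (L : X.Modules) : ∀ (r : ℕ) (n : Fin r → ℕ),
    Nonempty (Curv2.tensorPows (Coh.structureModule X) r (fun _ => L) n ≅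
      ShStab.twist X L (Coh.structureModule X) (∑ i, n i))
  | 0, n => by
    rw [Fin.sum_univ_zero]
    exact ⟨(rid (Coh.structureModule X)).symm⟩
  | r + 1, n => by
    obtain ⟨e⟩ := tensorPows_const_iso L r (fun i => n i.castSucc)
    rw [Fin.sum_univ_castSucc]
    exact ⟨mapIso e (Iso.refl _) ≪≫ assoc _ _ _ ≪≫ mapIso (Iso.refl _) (powAdd L _ _).symm⟩

end Iso

section Sheaf

variable (k : Type u) [Field k] (X : Scheme.{u}) [X.Over (Spec (CommRingCat.of k))]

theorem euler_tensorPows_const (L : X.Modules) (Q : ℚ[X])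
    (hQ : ShStab.IsHilbPoly k X L (Coh.structureModule X) Q) (r : ℕ) (n : Fin r → ℕ) :
    (Curv2.euler k X (Curv2.tensorPows (Coh.structureModule X) r (fun _ => L) n) : ℚ) =
      Q.eval ((∑ i, n i : ℕ) : ℚ) := by
  obtain ⟨e⟩ := tensorPows_const_iso L r n
  rw [Groth.Agent.Helper25.SSBaseChange.euler_congr k e]
  exact hQ _

open Groth.Agent.Helper6.CoeffOnes in
theorem coeff_ones_eq_alpha (d : ℕ) (L : X.Modules) (P : MvPolynomial (Fin d) ℚ)
    (hPdeg : P.totalDegree ≤ d)
    (hP : ∀ n : Fin d → ℕ,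
      (Curv2.euler k X (Curv2.tensorPows (Coh.structureModule X) d (fun _ => L) n) : ℚ) =
        MvPolynomial.eval (fun i => (n i : ℚ)) P)
    (Q : ℚ[X]) (hQdeg : Q.natDegree ≤ d)
    (hQ : ShStab.IsHilbPoly k X L (Coh.structureModule X) Q) :
    MvPolynomial.coeff (Finsupp.equivFunOnFinite.symm fun _ : Fin d => 1) P =
      StabCat.alpha d Q := by
  have h1 := coeff_ones_eq_cube_sum P hPdeg
  change MvPolynomial.coeff (ones d) P = _
  rw [h1]
  unfold StabCat.alpha
  rw [← Groth.Agent.Helper12.AsympPoly.powerset_sum Q d hQdeg]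
  refine Finset.sum_congr rfl fun t _ => ?_
  congr 1
  rw [ind_eq_cast, ← hP (indN t), euler_tensorPows_const k X L Q hQ d (indN t)]
  congr 2
  simp [indN]

theorem finrank_eq_euler_of_vanishing (F : X.Modules)
    (h : ∀ p : ℕ, 0 < p → Subsingleton (Coh.HH X F p)) :
    Curv2.euler k X F = (Module.finrank k (Coh.HH X F 0) : ℤ) := by
  unfold Curv2.euler
  have hz : ∀ i : ℕ, i ≠ 0 → (-1 : ℤ) ^ i * (Module.finrank k (Coh.HH X F i) : ℤ) = 0 := by
    intro i hi
    haveI := h i (Nat.pos_of_ne_zero hi)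
    rw [Module.finrank_zero_of_subsingleton]
    simp
  rw [finsum_eq_single (fun i : ℕ => (-1 : ℤ) ^ i * (Module.finrank k (Coh.HH X F i) : ℤ)) 0 hz]
  simp

variable [IsProper (X ↘ Spec (CommRingCat.of k))]

theorem exists_h0_eq_euler (L : X.Modules) (hL : CohB1.IsAmple L)
    (hO : Coh.IsCoh (Coh.structureModule X)) :
    ∃ n₀ : ℕ, ∀ n : ℕ, n₀ ≤ n →
      (Module.finrank k (Coh.HH X (CohB1.tensorPow L n) 0) : ℚ) =
        (Curv2.euler k X (ShStab.twist X L (Coh.structureModule X) n) : ℚ) := by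
  obtain ⟨n₀, hn₀⟩ :=
    (Groth.Agent.S0051.result k X (X ↘ Spec (CommRingCat.of k)) L hL.1).mp hL _ hO
  refine ⟨n₀, fun n hn => ?_⟩
  have e := Groth.Agent.Helper25.SSBaseChange.hEquiv' k (lid (CohB1.tensorPow L n)) 0
  have h1 : Module.finrank k (Coh.HH X (ShStab.twist X L (Coh.structureModule X) n) 0) =
      Module.finrank k (Coh.HH X (CohB1.tensorPow L n) 0) := e.finrank_eq
  have h2 := finrank_eq_euler_of_vanishing k X (ShStab.twist X L (Coh.structureModule X) n)
    (fun p hp => hn₀ n hn p hp)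
  rw [h2, Int.cast_natCast, h1]

/-- S7649 from strict positivity (`SP`) of the leading Hilbert coefficient of `O_X` -/
theorem main (d : ℕ) (hX : topologicalKrullDim X = d) (L : X.Modules) (hL : CohB1.IsAmple L)
    (P : MvPolynomial (Fin d) ℚ)
    (hP : ∀ n : Fin d → ℕ,
      (Curv2.euler k X (Curv2.tensorPows (Coh.structureModule X) d (fun _ => L) n) : ℚ) =
        MvPolynomial.eval (fun i => (n i : ℚ)) P)
    (SP : ∀ Q : ℚ[X], ShStab.IsHilbPoly k X L (Coh.structureModule X) Q →
      0 < StabCat.alpha d Q) :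
    0 < MvPolynomial.coeff (Finsupp.equivFunOnFinite.symm fun _ : Fin d => 1) P ∧
      ∃ C : ℚ, ∀ n : ℕ,
        |(Module.finrank k (Coh.HH X (CohB1.tensorPow L n) 0) : ℚ) -
            MvPolynomial.coeff (Finsupp.equivFunOnFinite.symm fun _ : Fin d => 1) P /
              (d.factorial : ℚ) * (n : ℚ) ^ d| ≤
          C * ((n : ℚ) + 1) ^ (d - 1) := by
  haveI : IsNoetherian X := Groth.Agent.Lead.EulerK0.isNoetherian_of_proper' k X
  have hO : Coh.IsCoh (Coh.structureModule X) :=
    Groth.Agent.Helper13.CurveDeg.isCoh_of_isInvertible _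
      Groth.Agent.Helper13.Inv.isInvertible_structureModule
  have hd : topologicalKrullDim ↥(CohB1.support (Coh.structureModule X)) ≤ (d : WithBot ℕ∞) :=
    (topologicalKrullDim_subspace_le X _).trans hX.le
  obtain ⟨P', hP'deg, hP'⟩ := Groth.Agent.S1528.result k X (Coh.structureModule X) hO d hd d
    (fun _ => L) (fun _ => hL.1)
  have hPP' : P = P' := Groth.Agent.Helper6.CoeffOnes.eq_of_eval_nat_eq P P'
    (fun n => (hP n).symm.trans (hP' n))
  have hPdeg : P.totalDegree ≤ d := hPP' ▸ hP'deg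
  obtain ⟨Q, hQdeg, hQ⟩ := Groth.Agent.Helper25.ShStabFormal.exists_hilbPoly_of_snapper k X L
    (Coh.structureModule X) d
    (Groth.Agent.S1528.result k X (Coh.structureModule X) hO d hd 1 (fun _ => L) (fun _ => hL.1))
  have hc := coeff_ones_eq_alpha k X d L P hPdeg hP Q hQdeg hQ
  refine ⟨hc ▸ SP Q hQ, ?_⟩
  obtain ⟨n₀, hn₀⟩ := exists_h0_eq_euler k X L hL hO
  obtain ⟨C, hC⟩ := Groth.Agent.Helper12.AsympPoly.bound_of_eventually_eq Q d hQdeg
    (fun n => (Module.finrank k (Coh.HH X (CohB1.tensorPow L n) 0) : ℚ)) n₀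
    (fun n hn => (hn₀ n hn).trans (hQ n))
  refine ⟨C, fun n => ?_⟩
  have h := hC n
  have hfac : (d.factorial : ℚ) ≠ 0 := Nat.cast_ne_zero.mpr (Nat.factorial_ne_zero d)
  rw [hc]
  unfold StabCat.alpha
  rw [mul_div_cancel_left₀ _ hfac]
  exact h

omit [X.Over (Spec (CommRingCat.of k))] [IsProper (X ↘ Spec (CommRingCat.of k))] in
theorem dim_support_structureModule :
    topologicalKrullDim ↥(CohB1.support (Coh.structureModule X)) = topologicalKrullDim X := by
  rw [Groth.Agent.Helper16.UnitMod.support_structureModule]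
  exact IsHomeomorph.topologicalKrullDim_eq _ (Homeomorph.Set.univ X).isHomeomorph

/-- S7649 from strict positivity in the shape of `Groth.Agent.Lead.ShStabPure.SPHyp` -/
theorem main' (d : ℕ) (hX : topologicalKrullDim X = d) (L : X.Modules) (hL : CohB1.IsAmple L)
    (P : MvPolynomial (Fin d) ℚ)
    (hP : ∀ n : Fin d → ℕ,
      (Curv2.euler k X (Curv2.tensorPows (Coh.structureModule X) d (fun _ => L) n) : ℚ) =
        MvPolynomial.eval (fun i => (n i : ℚ)) P)
    (SP : ∀ (G : X.Modules) (e : ℕ), Coh.IsCoh G →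
      topologicalKrullDim ↥(CohB1.support G) = (e : WithBot ℕ∞) →
      ∀ Q : ℚ[X], ShStab.IsHilbPoly k X L G Q → 0 < StabCat.alpha e Q) :
    0 < MvPolynomial.coeff (Finsupp.equivFunOnFinite.symm fun _ : Fin d => 1) P ∧
      ∃ C : ℚ, ∀ n : ℕ,
        |(Module.finrank k (Coh.HH X (CohB1.tensorPow L n) 0) : ℚ) -
            MvPolynomial.coeff (Finsupp.equivFunOnFinite.symm fun _ : Fin d => 1) P /
              (d.factorial : ℚ) * (n : ℚ) ^ d| ≤
          C * ((n : ℚ) + 1) ^ (d - 1) := by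
  haveI : IsNoetherian X := Groth.Agent.Lead.EulerK0.isNoetherian_of_proper' k X
  have hO : Coh.IsCoh (Coh.structureModule X) :=
    Groth.Agent.Helper13.CurveDeg.isCoh_of_isInvertible _
      Groth.Agent.Helper13.Inv.isInvertible_structureModule
  exact main k X d hX L hL P hP
    (fun Q hQ => SP _ d hO ((dim_support_structureModule X).trans hX) Q hQ)

end Sheaf

end Groth.Agent.Helper12.AsympRR
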