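import Mathlib
import Groth.Prelude.Def_CAlg
import Groth.Agent.Lib.Helper3.SkDiv
import Groth.Agent.Lib.Lead.Depth5

/-!
# A Noetherian Jacobson ring has a maximal ideal with Cohen–Macaulay localization (helper12)
-/

set_option autoImplicit false
set_option linter.style.haveILetI false
universe u

open IsLocalRing

namespace Groth.Agent.Helper12.CMPoint

/-- a Noetherian local ring of dimension zero is Cohen–Macaulay -/
theorem isCM_of_dim_zero (R : Type u) [CommRing R] [IsNoetherianRing R] [IsLocalRing R]
    (h : ringKrullDim R = 0) : LocCoh.IsCohenMacaulayLocalRing R := by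
  refine ⟨?_⟩
  rw [Module.supportDim_self_eq_ringKrullDim, h]
  have h1 := Groth.Agent.Lead.Depth.depth_le_supportDim (R := R) R
  rw [Module.supportDim_self_eq_ringKrullDim, h] at h1
  have h2 : LocCoh.depth R R = 0 := by
    have h3 : ((LocCoh.depth R R : ℕ∞) : WithBot ℕ∞) ≤ ((0 : ℕ∞) : WithBot ℕ∞) := h1
    exact le_antisymm (by exact_mod_cast h3) bot_le
  rw [h2]
  rfl

/-- if `R/(f)` is CM for a nonzerodivisor `f` then `R` is CM -/
theorem isCM_of_quotient (R R' : Type u) [CommRing R] [CommRing R'] [IsLocalRing R] [IsLocalRing R']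
    [IsNoetherianRing R] (φ : R →+* R') (hφ : Function.Surjective φ) (f : R)
    (hf : f ∈ nonZeroDivisors R) (hker : RingHom.ker φ = Ideal.span {f})
    (hR' : LocCoh.IsCohenMacaulayLocalRing R') : LocCoh.IsCohenMacaulayLocalRing R := by
  obtain ⟨h1, h2⟩ := Groth.Agent.Helper3.SkDiv.dim_depth_quot φ hφ f hf hker
  refine ⟨?_⟩
  have h3 := hR'.supportDim_eq_depth
  rw [Module.supportDim_self_eq_ringKrullDim] at h3 ⊢
  rw [← h1, ← h2, h3]
  push_cast
  rfl

/-- Noetherian + every non-unit is a zero divisor + Jacobson => every prime is maximal -/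
theorem isMaximal_of_isPrime_of_units_or_zeroDivisors (C : Type u) [CommRing C] [IsNoetherianRing C]
    [IsJacobsonRing C] (h : ∀ c : C, c ∈ nonZeroDivisors C → IsUnit c) (p : Ideal C) [hp : p.IsPrime] :
    p.IsMaximal := by
  classical
  -- every maximal ideal is an associated prime
  have hmax : ∀ m : Ideal C, m.IsMaximal → m ∈ associatedPrimes C C := by
    intro m hm
    have hsub : (m : Set C) ⊆ ⋃ P ∈ associatedPrimes C C, (P : Set C) := by
      rw [biUnion_associatedPrimes_eq_compl_nonZeroDivisors]
      intro c hc hnz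
      exact hm.ne_top (Ideal.eq_top_of_isUnit_mem _ hc (h c hnz))
    have hfin : (associatedPrimes C C).Finite := associatedPrimes.finite C C
    obtain ⟨P, hP, hmP⟩ := (Ideal.subset_union_prime_finite hfin (f := fun P => P) (I := m)
      (0 : Ideal C) (0 : Ideal C) (fun P hP _ _ => IsAssociatedPrime.isPrime hP)).mp hsub
    have hPprime : P.IsPrime := IsAssociatedPrime.isPrime hP
    have : m = P := hm.eq_of_le hPprime.ne_top hmP
    rw [this]; exact hP
  have hfin : {m : Ideal C | m.IsMaximal}.Finite :=
    (associatedPrimes.finite C C).subset (fun m hm => hmax m hm)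
  -- p is the intersection of the maximal ideals containing it
  have hjac : p.jacobson = p := IsJacobsonRing.out' p hp.isRadical
  have hfin' : {m : Ideal C | p ≤ m ∧ m.IsMaximal}.Finite := hfin.subset (fun m hm => hm.2)
  have hle : sInf {m : Ideal C | p ≤ m ∧ m.IsMaximal} ≤ p := by
    rw [← Ideal.jacobson]; exact hjac.le
  have hle' : hfin'.toFinset.inf id ≤ p := by
    rw [Finset.inf_id_eq_sInf, Set.Finite.coe_toFinset]; exact hle
  obtain ⟨m, hmem, hmp⟩ := (Ideal.IsPrime.inf_le' hp).mp hle'
  obtain ⟨hpm, hm⟩ : p ≤ m ∧ m.IsMaximal := by simpa using hmem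
  have hmp : m ≤ p := hmp
  have : p = m := le_antisymm hpm hmp
  rw [this]; exact hm

theorem exists_maximal_isCM_aux (B : Type u) [CommRing B] [IsNoetherianRing B] [IsJacobsonRing B] :
    ∀ I : Ideal B, I ≠ ⊤ → ∀ (C : Type u) [CommRing C] (φ : B →+* C), Function.Surjective φ →
      RingHom.ker φ = I →
      ∃ m : Ideal C, ∃ _ : m.IsMaximal, LocCoh.IsCohenMacaulayLocalRing (Localization.AtPrime m) := by
  intro I
  induction I using IsNoetherian.induction with
  | hgt I IH =>
  intro hI C _ φ hφ hker
  haveI : IsNoetherianRing C := isNoetherianRing_of_surjective B C φ hφ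
  haveI : IsJacobsonRing C := isJacobsonRing_of_surjective ⟨φ, hφ⟩
  haveI : Nontrivial C := by
    by_contra hnt
    rw [not_nontrivial_iff_subsingleton] at hnt
    apply hI
    rw [← hker, Ideal.eq_top_iff_one, RingHom.mem_ker]
    exact Subsingleton.elim _ _
  by_cases hex : ∃ c : C, c ∈ nonZeroDivisors C ∧ ¬ IsUnit c
  · obtain ⟨c, hc, hcu⟩ := hex
    let φ' : B →+* C ⧸ Ideal.span {c} := (Ideal.Quotient.mk _).comp φ
    have hφ' : Function.Surjective φ' := Ideal.Quotient.mk_surjective.comp hφ
    obtain ⟨b, hb⟩ := hφ c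
    have hlt : I < RingHom.ker φ' := by
      refine lt_of_le_of_ne ?_ ?_
      · rw [← hker]
        intro x hx
        rw [RingHom.mem_ker] at hx ⊢
        simp [φ', hx]
      · intro heq
        have hbI : b ∈ RingHom.ker φ' := by
          rw [RingHom.mem_ker]
          simp only [φ', RingHom.comp_apply, hb]
          exact Ideal.Quotient.eq_zero_iff_mem.mpr (Ideal.mem_span_singleton_self c)
        rw [← heq, ← hker, RingHom.mem_ker, hb] at hbI
        exact nonZeroDivisors.ne_zero hc hbI
    have hne : RingHom.ker φ' ≠ ⊤ := by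
      intro htop
      have h1 : (1 : B) ∈ RingHom.ker φ' := by rw [htop]; trivial
      rw [RingHom.mem_ker] at h1
      simp only [φ', RingHom.comp_apply, map_one] at h1
      have h2 : (1 : C) ∈ Ideal.span {c} := Ideal.Quotient.eq_zero_iff_mem.mp h1
      exact hcu (Ideal.span_singleton_eq_top.mp ((Ideal.eq_top_iff_one _).mpr h2))
    obtain ⟨m', hm', hCM⟩ := IH (RingHom.ker φ') hlt hne (C ⧸ Ideal.span {c}) φ' hφ' rfl
    let m : Ideal C := m'.comap (Ideal.Quotient.mk (Ideal.span {c}))
    haveI hm : m.IsMaximal := Ideal.comap_isMaximal_of_surjective _ Ideal.Quotient.mk_surjective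
    refine ⟨m, hm, ?_⟩
    let ψ : Localization.AtPrime m →+* Localization.AtPrime m' :=
      Localization.localRingHom m m' (Ideal.Quotient.mk (Ideal.span {c})) rfl
    have hψ : Function.Surjective ψ :=
      RingHom.surjective_localRingHom_of_surjective _ Ideal.Quotient.mk_surjective m'
    have hf : algebraMap C (Localization.AtPrime m) c ∈ nonZeroDivisors (Localization.AtPrime m) :=
      IsLocalization.map_nonZeroDivisors_le m.primeCompl (Localization.AtPrime m)
        (Submonoid.mem_map_of_mem _ hc)
    have hkerψ : RingHom.ker ψ = Ideal.span {algebraMap C (Localization.AtPrime m) c} := by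
      apply le_antisymm
      · intro x hx
        obtain ⟨⟨a, s⟩, rfl⟩ := IsLocalization.mk'_surjective m.primeCompl x
        rw [RingHom.mem_ker, Localization.localRingHom_mk', IsLocalization.mk'_eq_zero_iff] at hx
        obtain ⟨⟨t', ht'⟩, ht'a⟩ := hx
        obtain ⟨t, rfl⟩ := Ideal.Quotient.mk_surjective t'
        have htm : t ∈ m.primeCompl := ht'
        have h1 : t * a ∈ Ideal.span {c} := by
          rw [← Ideal.Quotient.eq_zero_iff_mem, map_mul]; exact ht'a
        obtain ⟨d, hd⟩ := Ideal.mem_span_singleton'.mp h1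
        rw [Ideal.mem_span_singleton']
        refine ⟨IsLocalization.mk' (Localization.AtPrime m) d (⟨t, htm⟩ * s), ?_⟩
        rw [mul_comm, IsLocalization.mul_mk'_eq_mk'_of_mul, IsLocalization.mk'_eq_iff_eq]
        congr 1
        simp only [Submonoid.coe_mul]
        calc (s : C) * (c * d) = (s : C) * (d * c) := by ring
          _ = (s : C) * (t * a) := by rw [hd]
          _ = t * (s : C) * a := by ring
      · rw [Ideal.span_le, Set.singleton_subset_iff, SetLike.mem_coe, RingHom.mem_ker,
          Localization.localRingHom_to_map]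
        simp only [Ideal.Quotient.eq_zero_iff_mem.mpr (Ideal.mem_span_singleton_self c), map_zero]
    exact isCM_of_quotient _ _ ψ hψ _ hf hkerψ hCM
  · push Not at hex
    obtain ⟨m, hm⟩ := Ideal.exists_maximal C
    refine ⟨m, hm, ?_⟩
    apply isCM_of_dim_zero
    have hall : ∀ p : Ideal C, p.IsPrime → p.IsMaximal := fun p hp =>
      isMaximal_of_isPrime_of_units_or_zeroDivisors C hex p
    haveI : Ring.KrullDimLE 0 C := Ring.krullDimLE_zero_iff.mpr hall
    rw [IsLocalization.AtPrime.ringKrullDim_eq_height m]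
    have h1 : (m.height : WithBot ℕ∞) ≤ ringKrullDim C := Ideal.height_le_ringKrullDim_of_ne_top hm.ne_top
    have h2 : ringKrullDim C ≤ 0 := (Ring.krullDimLE_iff).mp inferInstance
    have h3 : (m.height : WithBot ℕ∞) ≤ 0 := h1.trans h2
    have h4 : m.height = 0 := by
      have : ((m.height : ℕ∞) : WithBot ℕ∞) ≤ ((0 : ℕ∞) : WithBot ℕ∞) := h3
      exact le_antisymm (by exact_mod_cast this) bot_le
    rw [h4]; rfl

/-- **a nontrivial Noetherian Jacobson ring has a maximal ideal with Cohen–Macaulay
localization**. -/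
theorem exists_maximal_isCM (B : Type u) [CommRing B] [IsNoetherianRing B] [IsJacobsonRing B]
    [Nontrivial B] :
    ∃ m : Ideal B, ∃ _ : m.IsMaximal, LocCoh.IsCohenMacaulayLocalRing (Localization.AtPrime m) :=
  exists_maximal_isCM_aux B ⊥ bot_ne_top B (RingHom.id B) Function.surjective_id
    (by ext x; simp [RingHom.mem_ker])

end Groth.Agent.Helper12.CMPoint
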