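import Mathlib
import Groth.Agent.Lib.Helper13.FinPresSec

/-!
# Sections of a free module `O_X^{(I)}` (helper12)

If the sections of `free I` over an open `U` with `Γ(X, U)` nontrivial form a finite module, then
`I` is finite and the sections are a free module.
-/

set_option autoImplicit false
set_option linter.style.haveILetI false
set_option linter.unusedSectionVars false

universe u

open CategoryTheory CategoryTheory.Limits AlgebraicGeometry TopologicalSpace Opposite
open Groth.Agent.Helper13.LocFree

noncomputable section

namespace Groth.Agent.Helper12.FreeSec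

variable {X : Scheme.{u}} (I : Type u)

variable (X) in
/-- `O_X^{(I)}` as an object of `X.Modules` -/
abbrev F : X.Modules := SheafOfModules.free (R := X.ringCatSheaf) I

/-- the `k`-th projection `O_X^{(I)} ⟶ O_X`. -/
def πI [DecidableEq I] (k : I) : F X I ⟶ Coh.structureModule X :=
  Cofan.IsColimit.desc (SheafOfModules.isColimitFreeCofan I)
    (fun j => if j = k then 𝟙 (Coh.structureModule X) else 0)

/-- the `i`-th coprojection -/
def ιI (i : I) : Coh.structureModule X ⟶ F X I :=
  SheafOfModules.ιFree i

theorem ιI_πI [DecidableEq I] (j k : I) :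
    ιI (X := X) I j ≫ πI I k = if j = k then 𝟙 (Coh.structureModule X) else 0 :=
  Cofan.IsColimit.fac (SheafOfModules.isColimitFreeCofan I) _ j

/-- the basic sections of `O_X^{(I)}` over `U` -/
def vI (U : X.Opens) (i : I) : Γ(F X I, U) :=
  (ιI (X := X) I i).app U (toO U 1)

theorem linearIndependent_vI (U : X.Opens) :
    LinearIndependent Γ(X, U) (vI I U) := by
  classical
  rw [linearIndependent_iff']
  intro s g hg k hk
  have h1 := congrArg (fun t => ofO U ((πI (X := X) I k).app U t)) hg
  simp only [map_sum, map_zero] at h1
  rw [Finset.sum_eq_single k] at h1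
  · have h2 : (πI (X := X) I k).app U (g k • vI I U k) = toO U (g k) := by
      rw [Scheme.Modules.Hom.app_smul]
      unfold vI
      rw [← app_comp_apply, ιI_πI, if_pos rfl]
      change g k • toO U (1 : Γ(X, U)) = toO U (g k)
      exact mul_one (g k)
    rw [h2] at h1
    exact h1
  · intro i _ hik
    rw [Scheme.Modules.Hom.app_smul]
    unfold vI
    rw [← app_comp_apply, ιI_πI, if_neg hik]
    change g i • (0 : Γ(Coh.structureModule X, U)) = 0
    exact smul_zero _
  · intro h
    exact absurd hk h

/-- if sections of `O_X^{(I)}` over `U` are a finite module (and `Γ(X, U) ≠ 0`), `I` is finite -/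
theorem finite_of_finite (U : X.Opens) [Nontrivial Γ(X, U)]
    [Module.Finite Γ(X, U) Γ(F X I, U)] : Finite I := by
  obtain ⟨w, hw⟩ := (Module.Finite.fg_top :
    (⊤ : Submodule Γ(X, U) Γ(F X I, U)).FG)
  exact LinearIndependent.finite_of_le_span_finite (vI I U) (linearIndependent_vI I U)
    (w : Set _) (by rw [hw]; exact le_top)

/-- sections of `O_X^{(I)}` are free, if finite -/
theorem free_of_finite (U : X.Opens) [Nontrivial Γ(X, U)]
    [Module.Finite Γ(X, U) Γ(F X I, U)] :
    Module.Free Γ(X, U) Γ(F X I, U) := by
  haveI := finite_of_finite I U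
  let e : (Fin (Nat.card I) → Γ(X, U)) ≃ₗ[Γ(X, U)]
      Γ(F X I, U) :=
    (secLinearEquiv (Nat.card I) U).trans (appLinearEquiv (freeIsoFreeMod (X := X) I) U).symm
  exact Module.Free.of_equiv e

end Groth.Agent.Helper12.FreeSec
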