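import Mathlib

/-!
# Smooth locus of a scheme over a field, in terms of the `k`-algebra structure on stalks (helper12)
-/

set_option autoImplicit false

universe u

open CategoryTheory AlgebraicGeometry TopologicalSpace Opposite

namespace Groth.Agent.Helper12.FieldSm

variable {k : Type u} [Field k] {X : Scheme.{u}} (f : X ⟶ Spec (CommRingCat.of k))

/-- the structure map `k → Γ(X, V)` -/
noncomputable def secHom (V : X.Opens) : k →+* Γ(X, V) :=
  ((Scheme.ΓSpecIso (CommRingCat.of k)).inv ≫ f.appLE ⊤ V le_top).hom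

/-- the structure map `k → O_{X,x}` -/
noncomputable def stalkHom (x : X) : k →+* X.presheaf.stalk x :=
  ((Scheme.ΓSpecIso (CommRingCat.of k)).inv ≫ f.appTop ≫ X.presheaf.germ ⊤ x trivial).hom

theorem germ_comp_secHom (V : X.Opens) (x : X) (hx : x ∈ V) :
    (X.presheaf.germ V x hx).hom.comp (secHom f V) = stalkHom f x := by
  have h1 : f.appLE ⊤ V le_top ≫ X.presheaf.germ V x hx =
      f.appTop ≫ X.presheaf.germ ⊤ x trivial := by
    rw [Scheme.Hom.appLE, Category.assoc, TopCat.Presheaf.germ_res]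
    rfl
  rw [secHom, stalkHom, ← CommRingCat.hom_comp, Category.assoc, h1]

theorem finiteType_secHom [LocallyOfFiniteType f] (V : X.Opens) (hV : IsAffineOpen V) :
    (secHom f V).FiniteType := by
  have h1 : (f.appLE ⊤ V le_top).hom.FiniteType :=
    f.finiteType_appLE (isAffineOpen_top _) hV le_top
  have h2 : ((Scheme.ΓSpecIso (CommRingCat.of k)).inv).hom.FiniteType :=
    RingHom.FiniteType.of_surjective _
      (ConcreteCategory.bijective_of_isIso (Scheme.ΓSpecIso (CommRingCat.of k)).inv).2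
  exact h1.comp h2

instance : IsLocallyNoetherian (Spec (CommRingCat.of k)) := inferInstance

theorem lfp [LocallyOfFiniteType f] : LocallyOfFinitePresentation f :=
  LocallyOfFinitePresentation.iff_locallyOfFiniteType.mpr inferInstance

/-- chart version: smooth locus ↔ `IsSmoothAt` for the `k`-algebra `Γ(X, V)` -/
theorem mem_smoothLocus_iff_isSmoothAt [LocallyOfFinitePresentation f] (V : X.Opens)
    (hV : IsAffineOpen V) (x : X) (hx : x ∈ V) :
    letI := (secHom f V).toAlgebra
    x ∈ f.smoothLocus ↔ Algebra.IsSmoothAt k (hV.primeIdealOf ⟨x, hx⟩).asIdeal := by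
  letI algkA : Algebra k Γ(X, V) := (secHom f V).toAlgebra
  letI algRA : Algebra Γ(Spec (CommRingCat.of k), ⊤) Γ(X, V) := (f.appLE ⊤ V le_top).hom.toAlgebra
  letI algkR : Algebra k Γ(Spec (CommRingCat.of k), ⊤) :=
    ((Scheme.ΓSpecIso (CommRingCat.of k)).inv).hom.toAlgebra
  haveI : IsScalarTower k Γ(Spec (CommRingCat.of k), ⊤) Γ(X, V) :=
    IsScalarTower.of_algebraMap_eq (fun _ => rfl)
  have hbij : Function.Bijective (algebraMap k Γ(Spec (CommRingCat.of k), ⊤)) :=
    ConcreteCategory.bijective_of_isIso (Scheme.ΓSpecIso (CommRingCat.of k)).inv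
  haveI : Algebra.FormallyEtale k Γ(Spec (CommRingCat.of k), ⊤) :=
    Algebra.FormallyEtale.of_equiv
      (AlgEquiv.ofBijective (Algebra.ofId k Γ(Spec (CommRingCat.of k), ⊤)) hbij)
  rw [Scheme.Hom.mem_smoothLocus,
    formallySmooth_stalkMap_iff ⊤ (isAffineOpen_top _) V hV le_top hx]
  change Algebra.FormallySmooth Γ(Spec (CommRingCat.of k), ⊤)
    (Localization.AtPrime (hV.primeIdealOf ⟨x, hx⟩).asIdeal) ↔
    Algebra.FormallySmooth k (Localization.AtPrime (hV.primeIdealOf ⟨x, hx⟩).asIdeal)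
  exact (Algebra.FormallySmooth.iff_restrictScalars (R := k)
    (A := Γ(Spec (CommRingCat.of k), ⊤))
    (B := Localization.AtPrime (hV.primeIdealOf ⟨x, hx⟩).asIdeal)).symm

/-- `O_{X,x}` as a localization of `Γ(X, V)` is a `k`-algebra tower -/
theorem isScalarTower_stalk (V : X.Opens) (x : X) (hx : x ∈ V) :
    letI := (secHom f V).toAlgebra
    letI := (stalkHom f x).toAlgebra
    letI := TopCat.Presheaf.algebra_section_stalk X.presheaf (⟨x, hx⟩ : V)
    IsScalarTower k Γ(X, V) (X.presheaf.stalk x) := by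
  letI := (secHom f V).toAlgebra
  letI := (stalkHom f x).toAlgebra
  letI := TopCat.Presheaf.algebra_section_stalk X.presheaf (⟨x, hx⟩ : V)
  refine IsScalarTower.of_algebraMap_eq (fun c => ?_)
  have h := germ_comp_secHom f V x hx
  exact (RingHom.congr_fun h c).symm

/-- stalk version: smooth locus ↔ formal smoothness of the `k`-algebra `O_{X,x}` -/
theorem mem_smoothLocus_iff [LocallyOfFinitePresentation f] (x : X) :
    letI := (stalkHom f x).toAlgebra
    x ∈ f.smoothLocus ↔ Algebra.FormallySmooth k (X.presheaf.stalk x) := by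
  obtain ⟨_, ⟨V, hV, rfl⟩, hxV, -⟩ :=
    X.isBasis_affineOpens.exists_subset_of_mem_open (Set.mem_univ x) isOpen_univ
  have hV' : IsAffineOpen V := hV
  letI := (secHom f V).toAlgebra
  letI := (stalkHom f x).toAlgebra
  letI := TopCat.Presheaf.algebra_section_stalk X.presheaf (⟨x, hxV⟩ : V)
  haveI := isScalarTower_stalk f V x hxV
  haveI : IsLocalization.AtPrime (X.presheaf.stalk x) (hV'.primeIdealOf ⟨x, hxV⟩).asIdeal :=
    hV'.isLocalization_stalk ⟨x, hxV⟩
  rw [mem_smoothLocus_iff_isSmoothAt f V hV' x hxV]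
  let e : Localization.AtPrime (hV'.primeIdealOf ⟨x, hxV⟩).asIdeal ≃ₐ[k] X.presheaf.stalk x :=
    (IsLocalization.algEquiv (hV'.primeIdealOf ⟨x, hxV⟩).asIdeal.primeCompl
      (Localization.AtPrime (hV'.primeIdealOf ⟨x, hxV⟩).asIdeal)
      (X.presheaf.stalk x)).restrictScalars k
  exact ⟨fun h => Algebra.FormallySmooth.of_equiv e, fun h => Algebra.FormallySmooth.of_equiv e.symm⟩

theorem essFiniteType_stalk [LocallyOfFiniteType f] (x : X) :
    letI := (stalkHom f x).toAlgebra
    Algebra.EssFiniteType k (X.presheaf.stalk x) := by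
  obtain ⟨_, ⟨V, hV, rfl⟩, hxV, -⟩ :=
    X.isBasis_affineOpens.exists_subset_of_mem_open (Set.mem_univ x) isOpen_univ
  have hV' : IsAffineOpen V := hV
  letI := (secHom f V).toAlgebra
  letI := (stalkHom f x).toAlgebra
  letI := TopCat.Presheaf.algebra_section_stalk X.presheaf (⟨x, hxV⟩ : V)
  haveI := isScalarTower_stalk f V x hxV
  haveI : IsLocalization.AtPrime (X.presheaf.stalk x) (hV'.primeIdealOf ⟨x, hxV⟩).asIdeal :=
    hV'.isLocalization_stalk ⟨x, hxV⟩
  haveI : Algebra.FiniteType k Γ(X, V) := finiteType_secHom f V hV'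
  haveI : Algebra.EssFiniteType Γ(X, V) (X.presheaf.stalk x) :=
    Algebra.EssFiniteType.of_isLocalization _ (hV'.primeIdealOf ⟨x, hxV⟩).asIdeal.primeCompl
  exact Algebra.EssFiniteType.comp k Γ(X, V) _

end Groth.Agent.Helper12.FieldSm
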