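import Mathlib
import Groth.Agent.Lib.Helper12.FieldSm
import Groth.Agent.Lib.Helper14.RegSmooth
import Groth.Agent.Lib.Helper17.KR2

/-!
# Rational regular points are smooth; naturality of the stalk structure map (helper12)
-/

set_option autoImplicit false

universe u

open CategoryTheory AlgebraicGeometry TopologicalSpace Opposite IsLocalRing
open scoped TensorProduct

namespace Groth.Agent.Helper12.FieldSm

theorem isGeometricallyReduced_of_surjective (k L : Type u) [Field k] [Field L] [Algebra k L]
    (h : Function.Surjective (algebraMap k L)) : Algebra.IsGeometricallyReduced k L := by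
  rw [Algebra.isGeometricallyReduced_field_iff]
  let e : k ≃ₐ[k] L :=
    AlgEquiv.ofBijective (Algebra.ofId k L) ⟨(algebraMap k L).injective, h⟩
  let φ : AlgebraicClosure k ⊗[k] L ≃ₐ[AlgebraicClosure k] AlgebraicClosure k :=
    (Algebra.TensorProduct.congr AlgEquiv.refl e.symm).trans
      (Algebra.TensorProduct.rid k (AlgebraicClosure k) (AlgebraicClosure k))
  exact isReduced_of_injective φ φ.injective

/-- regular, essentially of finite type over a field, with residue field `k` ⟹ formally smooth -/
theorem formallySmooth_of_regular_of_rational (k B : Type u) [Field k] [CommRing B] [Algebra k B]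
    [IsLocalRing B] [Algebra.EssFiniteType k B] [IsRegularLocalRing B]
    (hrat : Function.Surjective (algebraMap k (ResidueField B))) : Algebra.FormallySmooth k B := by
  obtain ⟨S, hS, q, hq, hloc⟩ := Groth.Agent.Helper17.KR.exists_finiteType_localization k B
  let e : Localization.AtPrime q ≃ₐ[S] B := IsLocalization.algEquiv q.primeCompl _ _
  have hreg' : IsRegularLocalRing (Localization.AtPrime q) :=
    IsRegularLocalRing.of_ringEquiv e.symm.toRingEquiv
  have hsurj : Function.Surjective (algebraMap k q.ResidueField) := by
    intro z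
    obtain ⟨a, rfl⟩ := IsLocalRing.residue_surjective (R := Localization.AtPrime q) z
    obtain ⟨c, hc⟩ := hrat (residue B (e a))
    refine ⟨c, ?_⟩
    have h1 : e a - algebraMap k B c ∈ maximalIdeal B := by
      rw [← residue_eq_zero_iff, map_sub, ← hc]
      exact sub_eq_zero.mpr rfl
    have h2 : a - algebraMap k (Localization.AtPrime q) c ∈
        maximalIdeal (Localization.AtPrime q) := by
      rw [mem_maximalIdeal, mem_nonunits_iff] at h1 ⊢
      intro hu
      apply h1
      have := hu.map (e.restrictScalars k)
      rwa [map_sub, AlgEquiv.commutes] at this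
    have h3 := (residue_eq_zero_iff _).mpr h2
    rw [map_sub, sub_eq_zero] at h3
    exact h3.symm
  have hgr : Algebra.IsGeometricallyReduced k q.ResidueField :=
    isGeometricallyReduced_of_surjective k _ hsurj
  have hsm : Algebra.FormallySmooth k (Localization.AtPrime q) :=
    Groth.Agent.Helper14.RegSmooth.isSmoothAt_of_regular k S q
  exact Algebra.FormallySmooth.of_equiv (e.restrictScalars k)

/-- a retraction onto (a copy of) `k` forces the residue field to be `k` -/
theorem surjective_algebraMap_residueField_of_retraction (k B K : Type u) [Field k] [CommRing B]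
    [Algebra k B] [IsLocalRing B] [CommRing K] [Nontrivial K] (r : B →+* K)
    (hr : Function.Surjective (r.comp (algebraMap k B))) :
    Function.Surjective (algebraMap k (ResidueField B)) := by
  intro z
  obtain ⟨b, rfl⟩ := IsLocalRing.residue_surjective z
  obtain ⟨c, hc⟩ := hr (r b)
  refine ⟨c, ?_⟩
  have h1 : b - algebraMap k B c ∈ maximalIdeal B := by
    rw [mem_maximalIdeal, mem_nonunits_iff]
    intro hu
    have := hu.map r
    rw [map_sub, ← hc, RingHom.comp_apply, sub_self] at this
    exact not_isUnit_zero this
  have h3 := (residue_eq_zero_iff _).mpr h1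
  rw [map_sub, sub_eq_zero] at h3
  exact h3.symm

variable {k : Type u} [Field k]

theorem stalkMap_comp_stalkHom {X Y : Scheme.{u}} (g : Y ⟶ X) (f : X ⟶ Spec (CommRingCat.of k))
    (y : Y) : (g.stalkMap y).hom.comp (stalkHom f (g y)) = stalkHom (g ≫ f) y := by
  have h1 : X.presheaf.germ ⊤ (g y) trivial ≫ g.stalkMap y =
      g.appTop ≫ Y.presheaf.germ ⊤ y trivial := by
    rw [Scheme.Hom.germ_stalkMap]
    rfl
  have h2 : (g ≫ f).appTop = f.appTop ≫ g.appTop := by
    simp [Scheme.Hom.appTop]
  rw [stalkHom, stalkHom, ← CommRingCat.hom_comp, Category.assoc, Category.assoc, h1, h2,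
    Category.assoc]

theorem stalkHom_id_bijective (y : Spec (CommRingCat.of k)) :
    Function.Bijective (stalkHom (𝟙 (Spec (CommRingCat.of k))) y) := by
  refine ⟨RingHom.injective _, fun t => ?_⟩
  obtain ⟨U, hyU, s, rfl⟩ := TopCat.Presheaf.exists_germ_eq (Spec (CommRingCat.of k)).presheaf t
  have hU : U = ⊤ := by
    ext z
    simp only [Opens.coe_top, Set.mem_univ, iff_true]
    have : z = y := Subsingleton.elim (α := PrimeSpectrum k) z y
    rw [this]
    exact hyU
  subst hU
  refine ⟨(Scheme.ΓSpecIso (CommRingCat.of k)).hom s, ?_⟩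
  simp [stalkHom]

end Groth.Agent.Helper12.FieldSm
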