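import Mathlib
import Groth.Agent.Lib.Helper16.Sch.GrpSm1
import Groth.Agent.Lib.Helper14.FieldBC
import Groth.Agent.Lib.Helper14.LocalDimSch
import Groth.Agent.Lib.Helper3.SepPts2
import Groth.Agent.Lib.Helper12.FieldSm2

/-!
# Homogeneity of the local dimension of a group scheme locally of finite type over a field (helper12)
-/

set_option autoImplicit false
set_option linter.style.haveILetI false
set_option linter.unusedSectionVars false
universe u v
open CategoryTheory CategoryTheory.Limits AlgebraicGeometry MonoidalCategory CartesianMonoidalCategory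
  MonObj GrpObj

noncomputable section

namespace Groth.Agent.Helper12.GrpDim

open Groth.Agent.Helper16.GrpIrr Groth.Agent.Helper14
open scoped CategoryTheory.Obj

section Field

variable {K : Type u} [Field K] (G : Over (Spec (CommRingCat.of K))) [GrpObj G]

theorem rational_localDim_eq (ψ : 𝟙_ (Over (Spec (CommRingCat.of K))) ⟶ G) :
    FlatMor.localDim G.left (ψ.left (IsLocalRing.closedPoint K)) =
      FlatMor.localDim G.left (η[G].left (IsLocalRing.closedPoint K)) := by
  haveI : IsIso (transIso G ψ).hom.left :=
    inferInstanceAs (IsIso ((Over.forget _).map (transIso G ψ).hom))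
  have he : (transIso G ψ).hom.left (η[G].left (IsLocalRing.closedPoint K)) =
      ψ.left (IsLocalRing.closedPoint K) := by
    rw [← Scheme.Hom.comp_apply, ← Over.comp_left]
    show (η[G] ≫ trans G ψ).left _ = _
    rw [unit_trans]
  rw [← he]
  exact FibreChart.localDim_openEmbedding _ (transIso G ψ).hom.left.isOpenEmbedding _

end Field

section Main

variable {k : Type u} [Field k] (G : Over (Spec (CommRingCat.of k))) [GrpObj G]
  [LocallyOfFiniteType G.hom]

theorem localDim_eq_unit (x : G.left) :
    FlatMor.localDim G.left x =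
      FlatMor.localDim G.left (η[G].left (IsLocalRing.closedPoint k)) := by
  let c : Spec (CommRingCat.of (G.left.residueField x)) ⟶ Spec (CommRingCat.of k) :=
    G.left.fromSpecResidueField x ≫ G.hom
  let ψ : 𝟙_ (Over (Spec (CommRingCat.of (G.left.residueField x)))) ⟶ (Over.pullback c).obj G :=
    Over.homMk (pullback.lift (G.left.fromSpecResidueField x) (𝟙 _) (by simp [c]))
      (pullback.lift_snd _ _ _)
  have hπ : pullback.fst G.hom c (ψ.left (IsLocalRing.closedPoint (G.left.residueField x))) = x := by
    rw [← Scheme.Hom.comp_apply]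
    have : ψ.left ≫ pullback.fst G.hom c = G.left.fromSpecResidueField x := pullback.lift_fst _ _ _
    rw [this]
    exact Scheme.fromSpecResidueField_apply _ _
  have hπe : pullback.fst G.hom c
      (η[(Over.pullback c).obj G].left (IsLocalRing.closedPoint (G.left.residueField x))) =
      η[G].left (IsLocalRing.closedPoint k) := by
    rw [← Scheme.Hom.comp_apply, unit_baseChange_fst, Scheme.Hom.comp_apply]
    exact congrArg _ (Subsingleton.elim (α := PrimeSpectrum k) _ _)
  have H : IsPullback (pullback.fst G.hom c) ((Over.pullback c).obj G).hom G.hom c :=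
    .of_hasPullback _ _
  haveI : Subsingleton ↥(Spec (CommRingCat.of k)) :=
    inferInstanceAs (Subsingleton (PrimeSpectrum k))
  haveI : Subsingleton ↥(Spec (CommRingCat.of (G.left.residueField x))) :=
    inferInstanceAs (Subsingleton (PrimeSpectrum (G.left.residueField x)))
  have hloc : ∀ x' : ((Over.pullback c).obj G).left,
      FlatMor.localDim ((Over.pullback c).obj G).left x' =
        FlatMor.localDim G.left (pullback.fst G.hom c x') := by
    intro x'
    rw [← FieldBC.fibreDimAt_eq_localDim ((Over.pullback c).obj G).hom x',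
      ← FieldBC.fibreDimAt_eq_localDim G.hom]
    exact FibreDimBC.fibreDimAt_eq H x'
  have h1 := rational_localDim_eq ((Over.pullback c).obj G) ψ
  rw [hloc, hloc, hπ, hπe] at h1
  exact h1

theorem dim_eq_localDim_unit :
    topologicalKrullDim G.left =
      FlatMor.localDim G.left (η[G].left (IsLocalRing.closedPoint k)) := by
  apply le_antisymm
  · rw [LocalDimSch.dim_eq_iSup_stalk]
    refine iSup_le fun x => ?_
    rw [← localDim_eq_unit G x]
    unfold FlatMor.localDim
    refine le_iInf fun U => ?_
    exact LocalDimSch.stalk_le_dim_opens U.1 x U.2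
  · unfold FlatMor.localDim
    refine (iInf_le _ (⟨⊤, trivial⟩ : {U : TopologicalSpace.Opens G.left //
      η[G].left (IsLocalRing.closedPoint k) ∈ U})).trans ?_
    exact (Homeomorph.Set.univ G.left).isInducing.topologicalKrullDim_le

theorem localDim_eq_dim (x : G.left) :
    FlatMor.localDim G.left x = topologicalKrullDim G.left := by
  rw [localDim_eq_unit G x, dim_eq_localDim_unit G]

end Main

section Trdeg

variable (k : Type u) [Field k] (X : Scheme.{u}) [X.Over (Spec (CommRingCat.of k))]
  [LocallyOfFiniteType (X ↘ Spec (CommRingCat.of k))]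

/-- closed points of a scheme locally of finite type over a field have algebraic residue field -/
theorem trdeg_eq_zero_of_isClosed (x : X) (hx : IsClosed ({x} : Set X)) :
    @Algebra.trdeg k (X.residueField x) _ _ (Curv2.resAlgebra k X x) = 0 := by
  obtain ⟨_, ⟨V, hV, rfl⟩, hxV, -⟩ :=
    X.isBasis_affineOpens.exists_subset_of_mem_open (Set.mem_univ x) isOpen_univ
  have hV' : IsAffineOpen V := hV
  letI := Curv2.resAlgebra k X x
  letI : Algebra k Γ(X, V) := (Groth.Agent.Helper3.SepPts.toSection k X V).toAlgebra
  haveI : Algebra.FiniteType k Γ(X, V) :=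
    Groth.Agent.Helper12.FieldSm.finiteType_secHom (X ↘ Spec (CommRingCat.of k)) V hV'
  have hm : (hV'.primeIdealOf ⟨x, hxV⟩).asIdeal.IsMaximal :=
    hV'.primeIdealOf_isMaximal_of_isClosed ⟨x, hxV⟩ hx
  obtain ⟨y, -, -, hy, ⟨e⟩⟩ := Groth.Agent.Helper3.SepPts.residueField_of_maximal k X V hV'
    (hV'.primeIdealOf ⟨x, hxV⟩).asIdeal hm
  have hyx : y = x := by
    rw [hy]
    exact hV'.fromSpec_primeIdealOf ⟨x, hxV⟩
  subst hyx
  letI := Ideal.Quotient.field (hV'.primeIdealOf ⟨y, hxV⟩).asIdeal
  haveI : Module.Finite k (Γ(X, V) ⧸ (hV'.primeIdealOf ⟨y, hxV⟩).asIdeal) :=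
    finite_of_finite_type_of_isJacobsonRing k _
  haveI : Algebra.IsAlgebraic k (Γ(X, V) ⧸ (hV'.primeIdealOf ⟨y, hxV⟩).asIdeal) :=
    Algebra.IsAlgebraic.of_finite k _
  haveI : Algebra.IsAlgebraic k (X.residueField y) := e.isAlgebraic
  exact trdeg_eq_zero

/-- rational points have residue field of transcendence degree zero -/
theorem trdeg_eq_zero_of_surjective (x : X)
    (hx : Function.Surjective (Curv2.resMap k X x)) :
    @Algebra.trdeg k (X.residueField x) _ _ (Curv2.resAlgebra k X x) = 0 := by
  letI := Curv2.resAlgebra k X x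
  haveI : Algebra.IsAlgebraic k (X.residueField x) := by
    refine ⟨fun z => ?_⟩
    obtain ⟨c, rfl⟩ := hx z
    exact isAlgebraic_algebraMap c
  exact trdeg_eq_zero

end Trdeg

end Groth.Agent.Helper12.GrpDim
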