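import Mathlib
import Groth.Agent.Lib.Helper12.GrpDim
import Groth.Agent.Lib.Helper12.FieldSm2
import Groth.Agent.Lib.Helper3.SmoothRegSch

/-!
# The unit point of a group scheme locally of finite type over a field (helper12)
-/

set_option autoImplicit false
set_option linter.style.haveILetI false
set_option linter.unusedSectionVars false
universe u v
open CategoryTheory CategoryTheory.Limits AlgebraicGeometry MonoidalCategory CartesianMonoidalCategory
  MonObj GrpObj IsLocalRing

noncomputable section

namespace Groth.Agent.Helper12.GrpDim

open Groth.Agent.Helper12.FieldSm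

variable {k : Type u} [Field k] (G : Over (Spec (CommRingCat.of k))) [GrpObj G]
  [LocallyOfFiniteType G.hom]

/-- the unit point is rational -/
theorem unit_rational (pt : ↥(𝟙_ (Over (Spec (CommRingCat.of k)))).left) :
    letI := (stalkHom G.hom (η[G].left pt)).toAlgebra
    Function.Surjective (algebraMap k (ResidueField (G.left.presheaf.stalk (η[G].left pt)))) := by
  letI := (stalkHom G.hom (η[G].left pt)).toAlgebra
  apply surjective_algebraMap_residueField_of_retraction k _ _ ((η[G].left.stalkMap pt).hom)
  have h1 := stalkMap_comp_stalkHom η[G].left G.hom pt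
  have h2 : η[G].left ≫ G.hom = 𝟙 _ := Over.w η[G]
  change Function.Surjective ((η[G].left.stalkMap pt).hom.comp (stalkHom G.hom (η[G].left pt)))
  rw [h1]
  have h3 : stalkHom (η[G].left ≫ G.hom) pt = stalkHom (𝟙 (Spec (CommRingCat.of k))) pt := by
    rw [h2]
    rfl
  rw [h3]
  exact (stalkHom_id_bijective pt).2

/-- a group scheme regular at the unit point is smooth -/
theorem smooth_of_isRegularLocalRing_unit (pt : ↥(𝟙_ (Over (Spec (CommRingCat.of k)))).left)
    (hreg : IsRegularLocalRing (G.left.presheaf.stalk (η[G].left pt))) : Smooth G.hom := by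
  haveI := lfp G.hom
  apply Groth.Agent.Helper16.GrpSm.smooth_of_smoothLocus_nonempty G
  refine ⟨η[G].left pt, ?_⟩
  rw [SetLike.mem_coe, mem_smoothLocus_iff]
  letI := (stalkHom G.hom (η[G].left pt)).toAlgebra
  haveI := essFiniteType_stalk G.hom (η[G].left pt)
  exact formallySmooth_of_regular_of_rational k _ (unit_rational G pt)

/-- the dimension of a group scheme is the dimension of its local ring at the unit -/
theorem dim_eq_ringKrullDim_unit :
    topologicalKrullDim G.left =
      ringKrullDim (G.left.presheaf.stalk (η[G].left (IsLocalRing.closedPoint k))) := by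
  letI : G.left.Over (Spec (CommRingCat.of k)) := ⟨G.hom⟩
  haveI : LocallyOfFiniteType (G.left ↘ Spec (CommRingCat.of k)) :=
    ‹LocallyOfFiniteType G.hom›
  have hs : Function.Surjective
      (Curv2.resMap k G.left (η[G].left (IsLocalRing.closedPoint k))) :=
    unit_rational G (IsLocalRing.closedPoint k)
  have h0 := trdeg_eq_zero_of_surjective k G.left (η[G].left (IsLocalRing.closedPoint k)) hs
  have h1 := Groth.Agent.Helper14.LocalDimSch.localDim_eq k G.left
    (η[G].left (IsLocalRing.closedPoint k)) 0 (by rw [h0]; rfl)
  rw [dim_eq_localDim_unit G, h1]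
  simp

end Groth.Agent.Helper12.GrpDim
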