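import Mathlib

/-!
# Derivations and regular elements in characteristic zero (helper12)

If `R` is a Noetherian local ring in which every positive integer is invertible, `f ∈ 𝔪` and
`D` is a derivation of `R` with `D f = 1`, then `f` is a nonzerodivisor.  Consequently a family of
`n` elements of `𝔪` with a dual family of derivations forces `dim R ≥ n`.
-/

set_option autoImplicit false

universe u

open IsLocalRing

namespace Groth.Agent.Helper12.DerReg

theorem mem_nonZeroDivisors_of_deriv (R : Type u) [CommRing R] [IsLocalRing R] [IsNoetherianRing R]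
    (hQ : ∀ m : ℕ, m ≠ 0 → IsUnit (m : R)) (f : R) (hf : f ∈ maximalIdeal R)
    (D : R → R) (hadd : ∀ a b, D (a + b) = D a + D b)
    (hmul : ∀ a b, D (a * b) = a * D b + b * D a) (hDf : D f = 1) :
    f ∈ nonZeroDivisors R := by
  have hD0 : D 0 = 0 := by
    have h := hadd 0 0
    rw [add_zero] at h
    exact left_eq_add.mp h
  have hDpow : ∀ m : ℕ, D (f ^ (m + 1)) = ((m + 1 : ℕ) : R) * f ^ m := by
    intro m
    induction m with
    | zero => simp [hDf]
    | succ m ih =>
      rw [pow_succ' f (m + 1), hmul, ih, hDf]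
      push_cast
      ring
  have key : ∀ m : ℕ, ∀ x : R, x * f = 0 → ∃ y, x = f ^ m * y := by
    intro m
    induction m with
    | zero => intro x _; exact ⟨x, by simp⟩
    | succ m ih =>
      intro x hx
      obtain ⟨y, hy⟩ := ih x hx
      have h1 : f ^ (m + 1) * y = 0 := by
        rw [pow_succ, mul_right_comm, ← hy, hx]
      have h2 : f ^ (m + 1) * D y + y * (((m + 1 : ℕ) : R) * f ^ m) = 0 := by
        rw [← hDpow, ← hmul, h1, hD0]
      obtain ⟨u, hu⟩ := hQ (m + 1) (Nat.succ_ne_zero m)
      refine ⟨-(↑u⁻¹ * D y), ?_⟩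
      have h3 : ((m + 1 : ℕ) : R) * x = -(f ^ (m + 1) * D y) := by
        rw [hy]
        linear_combination h2
      calc x = ↑u⁻¹ * (((m + 1 : ℕ) : R) * x) := by
            rw [← mul_assoc, ← hu, Units.inv_mul, one_mul]
        _ = f ^ (m + 1) * -(↑u⁻¹ * D y) := by rw [h3]; ring
  rw [mem_nonZeroDivisors_iff_right]
  intro x hx
  have hmem : x ∈ ⨅ i : ℕ, (maximalIdeal R) ^ i := by
    rw [Ideal.mem_iInf]
    intro i
    obtain ⟨y, hy⟩ := key i x hx
    rw [hy]
    exact Ideal.mul_mem_right _ _ (Ideal.pow_mem_pow hf i)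
  rw [Ideal.iInf_pow_eq_bot_of_isLocalRing _ (IsLocalRing.maximalIdeal.isMaximal R).ne_top] at hmem
  exact hmem

theorem natCast_le_ringKrullDim (n : ℕ) : ∀ (R : Type u) [CommRing R] [IsLocalRing R]
    [IsNoetherianRing R] (_ : ∀ m : ℕ, m ≠ 0 → IsUnit (m : R))
    (x : Fin n → R) (_ : ∀ i, x i ∈ maximalIdeal R)
    (D : Fin n → R → R) (_ : ∀ i a b, D i (a + b) = D i a + D i b)
    (_ : ∀ i a b, D i (a * b) = a * D i b + b * D i a)
    (_ : ∀ i j, D i (x j) = if i = j then 1 else 0),
    (n : WithBot ℕ∞) ≤ ringKrullDim R := by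
  induction n with
  | zero =>
    intro R _ _ _ _ _ _ _ _ _ _
    exact_mod_cast ringKrullDim_nonneg_of_nontrivial
  | succ n ih =>
    intro R _ _ _ hQ x hx D hadd hmul hD
    have hf : x 0 ∈ nonZeroDivisors R :=
      mem_nonZeroDivisors_of_deriv R hQ (x 0) (hx 0) (D 0) (hadd 0) (hmul 0) (by simp [hD])
    have hdim := ringKrullDim_quotient_span_singleton_succ_eq_ringKrullDim_of_mem_nonZeroDivisors
      hf (hx 0)
    set I : Ideal R := Ideal.span {x 0} with hI
    have hIne : I ≠ ⊤ := by
      intro h
      have h1 : I ≤ maximalIdeal R := by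
        rw [hI, Ideal.span_le]
        intro y hy
        rw [Set.mem_singleton_iff] at hy
        rw [hy]
        exact hx 0
      exact (IsLocalRing.maximalIdeal.isMaximal R).ne_top (top_le_iff.mp (h ▸ h1))
    haveI : Nontrivial (R ⧸ I) := Ideal.Quotient.nontrivial_iff.mpr hIne
    haveI : IsLocalRing (R ⧸ I) :=
      IsLocalRing.of_surjective' (Ideal.Quotient.mk I) Ideal.Quotient.mk_surjective
    have hmk0 : Ideal.Quotient.mk I (x 0) = 0 :=
      Ideal.Quotient.eq_zero_iff_mem.mpr (Ideal.subset_span (Set.mem_singleton _))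
    let D' : Fin n → (R ⧸ I) → (R ⧸ I) := fun j q =>
      Ideal.Quotient.mk I (D j.succ (Function.surjInv Ideal.Quotient.mk_surjective q))
    have hD'mk : ∀ j a, D' j (Ideal.Quotient.mk I a) = Ideal.Quotient.mk I (D j.succ a) := by
      intro j a
      change Ideal.Quotient.mk I (D j.succ (Function.surjInv Ideal.Quotient.mk_surjective
        (Ideal.Quotient.mk I a))) = _
      set b := Function.surjInv Ideal.Quotient.mk_surjective (Ideal.Quotient.mk I a) with hb
      have hba : Ideal.Quotient.mk I b = Ideal.Quotient.mk I a :=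
        Function.surjInv_eq Ideal.Quotient.mk_surjective _
      have h1 : b - a ∈ I := by
        rw [← Ideal.Quotient.eq_zero_iff_mem, map_sub, hba, sub_self]
      obtain ⟨c, hc⟩ := Ideal.mem_span_singleton'.mp h1
      have h2 : b = a + c * x 0 := by rw [hc]; ring
      have h3 : D j.succ (x 0) = 0 := by
        rw [hD]
        exact if_neg (Fin.succ_ne_zero j)
      rw [h2, hadd, hmul, h3, mul_zero, zero_add, map_add, map_mul, hmk0, zero_mul, add_zero]
    have hQ' : ∀ m : ℕ, m ≠ 0 → IsUnit (m : R ⧸ I) := by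
      intro m hm
      have := (hQ m hm).map (Ideal.Quotient.mk I)
      rwa [map_natCast] at this
    have hx' : ∀ i : Fin n, Ideal.Quotient.mk I (x i.succ) ∈ maximalIdeal (R ⧸ I) := by
      intro i
      rw [mem_maximalIdeal, mem_nonunits_iff]
      intro hu
      have hloc : IsLocalHom (Ideal.Quotient.mk I) :=
        IsLocalHom.of_surjective _ Ideal.Quotient.mk_surjective
      exact (mem_nonunits_iff.mp ((mem_maximalIdeal _).mp (hx i.succ)))
        (isUnit_of_map_unit (Ideal.Quotient.mk I) _ hu)
    have h := ih (R ⧸ I) hQ' (fun i => Ideal.Quotient.mk I (x i.succ)) hx' D'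
      (by
        intro i a b
        obtain ⟨a, rfl⟩ := Ideal.Quotient.mk_surjective a
        obtain ⟨b, rfl⟩ := Ideal.Quotient.mk_surjective b
        rw [← map_add, hD'mk, hD'mk, hD'mk, hadd, map_add])
      (by
        intro i a b
        obtain ⟨a, rfl⟩ := Ideal.Quotient.mk_surjective a
        obtain ⟨b, rfl⟩ := Ideal.Quotient.mk_surjective b
        rw [← map_mul, hD'mk, hD'mk, hD'mk, hmul, map_add, map_mul, map_mul])
      (by
        intro i j
        rw [hD'mk, hD]
        by_cases hij : i = j
        · rw [if_pos hij, if_pos (by rw [hij]), map_one]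
        · rw [if_neg hij, if_neg (fun h => hij (Fin.succ_injective _ h)), map_zero])
    rw [← hdim]
    push_cast
    exact add_le_add_left h 1

end Groth.Agent.Helper12.DerReg
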