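import Mathlib
import Groth.Agent.Lib.Helper12.FreeSec
import Groth.Agent.Lib.Helper12.GrpDim2
import Groth.Agent.Lib.Helper18.OmegaStalk
import Groth.Agent.Lib.Helper18.GrpSchOm
import Groth.Agent.S7767

/-!
# Cartier's theorem: group schemes locally of finite type over a field of characteristic zero are
smooth (helper12)
-/

set_option autoImplicit false
set_option linter.style.haveILetI false
set_option linter.unusedSectionVars false

universe u

open CategoryTheory CategoryTheory.Limits AlgebraicGeometry TopologicalSpace Opposite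
  MonoidalCategory CartesianMonoidalCategory MonObj GrpObj IsLocalRing
open Groth.Agent.Helper13.LocFree Groth.Agent.Helper13.QCohLoc
open Groth.Agent.Helper18.OmegaSec
open Groth.Agent.Helper12.FieldSm

noncomputable section

namespace Groth.Agent.Helper12.CartierSm

/-- change of base ring for Kähler differentials along a surjection `K → L` -/
theorem kaehler_map_bijective (K L B : Type u) [CommRing K] [CommRing L] [CommRing B]
    [Algebra K L] [Algebra L B] [Algebra K B] [IsScalarTower K L B]
    (h : Function.Surjective (algebraMap K L)) :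
    Function.Bijective (KaehlerDifferential.map K L B B) := by
  refine ⟨?_, KaehlerDifferential.map_surjective K L B⟩
  rw [← LinearMap.ker_eq_bot, ← KaehlerDifferential.range_mapBaseChange K L B, LinearMap.range_eq_bot]
  haveI : Subsingleton Ω[L⁄K] := KaehlerDifferential.subsingleton_of_surjective K L h
  haveI : Subsingleton (TensorProduct L B Ω[L⁄K]) := inferInstance
  exact Subsingleton.elim _ _

/-- Kähler differentials of the stalk at `x` over the field are free, if `Ω_{X/k}` is free. -/
theorem free_kaehler_stalk {k : Type u} [Field k] {X : Scheme.{u}}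
    (f : X ⟶ Spec (CommRingCat.of k)) [LocallyOfFiniteType f] [QuasiSeparated f] (I : Type u)
    (α : Omega.sheaf f ≅ Groth.Agent.Helper12.FreeSec.F X I) (x : X) :
    letI := (stalkHom f x).toAlgebra
    Module.Free (X.presheaf.stalk x) Ω[X.presheaf.stalk x⁄k] := by
  letI algkB := (stalkHom f x).toAlgebra
  obtain ⟨_, ⟨U, hU, rfl⟩, hxU, -⟩ :=
    X.isBasis_affineOpens.exists_subset_of_mem_open (Set.mem_univ x) isOpen_univ
  have hV : IsAffineOpen (⊤ : (Spec (CommRingCat.of k)).Opens) := isAffineOpen_top _
  have e : U ≤ f ⁻¹ᵁ ⊤ := le_top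
  letI algLA := algUV f e
  let om := omegaSections f hU hV e
  haveI : Algebra.FiniteType Γ(Spec (CommRingCat.of k), ⊤) Γ(X, U) :=
    f.finiteType_appLE hV hU e
  haveI : Module.Finite Γ(X, U) Γ(Omega.sheaf f, U) := Module.Finite.equiv om.symm
  haveI : Module.Finite Γ(X, U) Γ(Groth.Agent.Helper12.FreeSec.F X I, U) :=
    Module.Finite.equiv (appLinearEquiv α U)
  haveI : Nonempty U := ⟨⟨x, hxU⟩⟩
  haveI : Nontrivial Γ(X, U) := inferInstance
  haveI : Module.Free Γ(X, U) Γ(Groth.Agent.Helper12.FreeSec.F X I, U) :=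
    Groth.Agent.Helper12.FreeSec.free_of_finite I U
  haveI : Module.Free Γ(X, U) Ω[Γ(X, U)⁄Γ(Spec (CommRingCat.of k), ⊤)] :=
    Module.Free.of_equiv ((appLinearEquiv α U).symm.trans om)
  -- localize
  let xU : U := ⟨x, hxU⟩
  letI algAB : Algebra Γ(X, U) (X.presheaf.stalk x) := X.presheaf.algebra_section_stalk xU
  letI algLB : Algebra Γ(Spec (CommRingCat.of k), ⊤) (X.presheaf.stalk x) :=
    ((algebraMap Γ(X, U) (X.presheaf.stalk x)).comp
      (algebraMap Γ(Spec (CommRingCat.of k), ⊤) Γ(X, U))).toAlgebra
  haveI : IsScalarTower Γ(Spec (CommRingCat.of k), ⊤) Γ(X, U) (X.presheaf.stalk x) :=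
    IsScalarTower.of_algebraMap_eq (fun _ => rfl)
  haveI hloc := hU.isLocalization_stalk xU
  have h3 : IsLocalizedModule (hU.primeIdealOf xU).asIdeal.primeCompl
      (KaehlerDifferential.map Γ(Spec (CommRingCat.of k), ⊤) Γ(Spec (CommRingCat.of k), ⊤)
        Γ(X, U) (X.presheaf.stalk x)) :=
    KaehlerDifferential.isLocalizedModule_map _ _ _ _
  haveI hfree : Module.Free (X.presheaf.stalk x)
      Ω[X.presheaf.stalk x⁄Γ(Spec (CommRingCat.of k), ⊤)] :=
    Module.free_of_isLocalizedModule (hU.primeIdealOf xU).asIdeal.primeCompl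
      (KaehlerDifferential.map Γ(Spec (CommRingCat.of k), ⊤) Γ(Spec (CommRingCat.of k), ⊤)
        Γ(X, U) (X.presheaf.stalk x))
  -- change the base to `k`
  letI algkL : Algebra k Γ(Spec (CommRingCat.of k), ⊤) :=
    ((Scheme.ΓSpecIso (CommRingCat.of k)).inv).hom.toAlgebra
  have hsurj : Function.Surjective (algebraMap k Γ(Spec (CommRingCat.of k), ⊤)) :=
    (ConcreteCategory.bijective_of_isIso (Scheme.ΓSpecIso (CommRingCat.of k)).inv).2
  haveI : IsScalarTower k Γ(Spec (CommRingCat.of k), ⊤) (X.presheaf.stalk x) := by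
    refine IsScalarTower.of_algebraMap_eq (fun a => ?_)
    have h := germ_comp_secHom f U x hxU
    exact (congrArg (fun φ : k →+* X.presheaf.stalk x => φ a) h).symm
  have hbij := kaehler_map_bijective k Γ(Spec (CommRingCat.of k), ⊤) (X.presheaf.stalk x) hsurj
  exact Module.Free.of_equiv (LinearEquiv.ofBijective _ hbij).symm

/-- **Cartier's theorem**: a group scheme locally of finite type over a field of characteristic
zero is smooth. -/
theorem smooth_of_charZero (K : Type u) [Field K] [CharZero K]
    (G : Over (Spec (CommRingCat.of K))) [GrpObj G] [LocallyOfFiniteType G.hom] :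
    Smooth G.hom := by
  haveI : IsLocallyNoetherian G.left := LocallyOfFiniteType.isLocallyNoetherian G.hom
  haveI : QuasiSeparated G.hom := inferInstance
  obtain ⟨I, ⟨α⟩⟩ := Groth.Agent.Helper18.GrpSchOm.part2 G K (Iso.refl _)
  let pt : ↥(𝟙_ (Over (Spec (CommRingCat.of K)))).left := IsLocalRing.closedPoint K
  letI := (stalkHom G.hom (η[G].left pt)).toAlgebra
  haveI := free_kaehler_stalk G.hom I α (η[G].left pt)
  haveI := essFiniteType_stalk G.hom (η[G].left pt)
  haveI : Module.Finite (G.left.presheaf.stalk (η[G].left pt))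
      Ω[G.left.presheaf.stalk (η[G].left pt)⁄K] := inferInstance
  let e := (Module.finBasis (G.left.presheaf.stalk (η[G].left pt))
    Ω[G.left.presheaf.stalk (η[G].left pt)⁄K]).equivFun
  have h := Groth.Agent.S7767.result K (G.left.presheaf.stalk (η[G].left pt))
    (Groth.Agent.Helper12.GrpDim.unit_rational G pt) _ e
  exact Groth.Agent.Helper12.GrpDim.smooth_of_isRegularLocalRing_unit G pt h.1

end Groth.Agent.Helper12.CartierSm
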