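import Mathlib
import Groth.Agent.Lib.Helper12.DerReg
import Groth.Agent.Lib.Helper19.Jac.CotSeq

/-!
# Characteristic zero: projective differentials imply regular (helper12)

`k` a field of characteristic zero, `R` a Noetherian local `k`-algebra whose residue field is
formally smooth over `k` and with `Ω_{R/k}` projective. Then `R` is regular.
-/

set_option autoImplicit false
set_option linter.style.haveILetI false
set_option linter.unusedSectionVars false

universe u

open scoped TensorProduct
open IsLocalRing KaehlerDifferential

namespace Groth.Agent.Helper12.DerReg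

theorem isRegularLocalRing_of_projective_kaehler (k R : Type u) [Field k] [CharZero k]
    [CommRing R] [Algebra k R] [IsLocalRing R] [IsNoetherianRing R]
    [Algebra.FormallySmooth k (ResidueField R)] [Module.Projective R Ω[R⁄k]] :
    IsRegularLocalRing R := by
  classical
  set r := Module.finrank (ResidueField R) (CotangentSpace R) with hr
  suffices h : (r : WithBot ℕ∞) ≤ ringKrullDim R by
    have hle : ringKrullDim R ≤ r := by
      have := ringKrullDim_le_spanFinrank_maximalIdeal R
      rwa [spanFinrank_maximalIdeal_eq_finrank_cotangentSpace] at this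
    exact (IsRegularLocalRing.iff_finrank_cotangentSpace R).mpr
      (by rw [← hr, le_antisymm hle h])
  let b : Module.Basis (Fin r) (ResidueField R) (CotangentSpace R) := Module.finBasis _ _
  choose x hx using fun j => Ideal.toCotangent_surjective _ (b j)
  let v : Fin r → ResidueField R ⊗[R] Ω[R⁄k] := fun j => 1 ⊗ₜ D k R (x j : R)
  have hv : LinearIndependent (ResidueField R) v := by
    have h1 : v = fun j => Groth.Agent.Helper19.Jac.cotMap k R (b j) := by
      funext j
      rw [← hx j, Groth.Agent.Helper19.Jac.cotMap_toCotangent]
    rw [h1]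
    exact b.linearIndependent.map' _
      (LinearMap.ker_eq_bot.mpr (Groth.Agent.Helper19.Jac.cotMap_injective k R))
  let F : (Fin r → ResidueField R) →ₗ[ResidueField R] ResidueField R ⊗[R] Ω[R⁄k] :=
    Fintype.linearCombination (ResidueField R) v
  have hF : LinearMap.ker F = ⊥ := by
    rw [LinearMap.ker_eq_bot']
    intro c hc
    funext i
    exact Fintype.linearIndependent_iff.mp hv c hc i
  obtain ⟨g, hg⟩ := F.exists_leftInverse_of_injective hF
  have hgv : ∀ j, g (v j) = Pi.single j 1 := by
    intro j
    have h1 : F (Pi.single j 1) = v j := by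
      rw [Fintype.linearCombination_apply_single, one_smul]
    rw [← h1]
    exact LinearMap.congr_fun hg (Pi.single j 1)
  -- lift to `R`
  let p : (Fin r → R) →ₗ[R] (Fin r → ResidueField R) :=
    (Algebra.linearMap R (ResidueField R)).compLeft (Fin r)
  have hp : Function.Surjective p := by
    intro c
    choose d hd using fun i => residue_surjective (c i)
    exact ⟨d, funext hd⟩
  let h0 : Ω[R⁄k] →ₗ[R] (Fin r → ResidueField R) :=
    (g.restrictScalars R) ∘ₗ (TensorProduct.mk R (ResidueField R) Ω[R⁄k] 1)
  obtain ⟨l, hl⟩ := Module.projective_lifting_property p h0 hp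
  have hl' : ∀ ω i, residue R (l ω i) = g (1 ⊗ₜ ω) i := by
    intro ω i
    exact congrFun (LinearMap.congr_fun hl ω) i
  let M : Matrix (Fin r) (Fin r) R := fun i j => l (D k R (x j : R)) i
  have hM : M.map (residue R) = 1 := by
    ext i j
    simp only [Matrix.map_apply, M]
    rw [hl', hgv j, Matrix.one_apply, Pi.single_apply]
  have hdet : IsUnit M.det := by
    have h1 : residue R M.det = 1 := by
      rw [RingHom.map_det, RingHom.mapMatrix_apply, hM, Matrix.det_one]
    by_contra hnu
    rw [(residue_eq_zero_iff _).mpr hnu] at h1
    exact zero_ne_one h1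
  have hMu : IsUnit M := (Matrix.isUnit_iff_isUnit_det M).mpr hdet
  obtain ⟨N, hN⟩ := hMu.exists_left_inv
  let Dl : Fin r → Derivation k R R := fun i =>
    ((LinearMap.proj i : (Fin r → R) →ₗ[R] R) ∘ₗ l).compDer (D k R)
  let D' : Fin r → Derivation k R R := fun i => ∑ a, N i a • Dl a
  have hQ : ∀ m : ℕ, m ≠ 0 → IsUnit (m : R) := by
    intro m hm
    have h1 : IsUnit ((m : k)) := isUnit_iff_ne_zero.mpr (Nat.cast_ne_zero.mpr hm)
    have := h1.map (algebraMap k R)
    rwa [map_natCast] at this
  have hxm : ∀ j, (x j : R) ∈ maximalIdeal R := fun j => (x j).2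
  refine natCast_le_ringKrullDim r R hQ (fun j => (x j : R)) hxm
    (fun i => D' i) (fun i a b => map_add (D' i) a b) (fun i a b => ?_) (fun i j => ?_)
  · rw [Derivation.leibniz]
    simp [smul_eq_mul]
  · have hsum : ∀ (s : Finset (Fin r)) (g : Fin r → Derivation k R R) (a : R),
        (∑ l ∈ s, g l) a = ∑ l ∈ s, g l a := by
      intro s g a
      induction s using Finset.induction_on with
      | empty => simp
      | insert l s hl ih =>
        rw [Finset.sum_insert hl, Finset.sum_insert hl, Derivation.add_apply, ih]
    have h1 : D' i (x j : R) = (N * M) i j := by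
      simp only [D', hsum, Matrix.mul_apply, M, Dl]
      rfl
    rw [h1, hN, Matrix.one_apply]

end Groth.Agent.Helper12.DerReg
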