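import Mathlib
import Groth.Agent.Lib.Helper12.CartierSm
import Groth.Agent.S5000

/-!
# Characteristic zero: `Ω_{X/k}` free implies `X` smooth over `k` (helper12)
-/

set_option autoImplicit false
set_option linter.style.haveILetI false
set_option linter.unusedSectionVars false

universe u

open CategoryTheory CategoryTheory.Limits AlgebraicGeometry TopologicalSpace Opposite IsLocalRing
open Groth.Agent.Helper13.LocFree Groth.Agent.Helper13.QCohLoc
open Groth.Agent.Helper18.OmegaSec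
open Groth.Agent.Helper12.FieldSm

noncomputable section

namespace Groth.Agent.Helper12.CartierSm

/-- `k` of characteristic zero, `S ≅ Spec k`, `f : X ⟶ S` locally of finite type with `Ω_{X/S}` a
free `O_X`-module: then `X` is smooth over `k`. -/
theorem smooth_comp_of_omega_free {k : Type u} [Field k] [CharZero k] {X S : Scheme.{u}}
    (f : X ⟶ S) [IsAffine S] (φ : S ⟶ Spec (CommRingCat.of k)) [IsIso φ]
    [LocallyOfFiniteType f] [QuasiSeparated f] (I : Type u)
    (α : Omega.sheaf f ≅ Groth.Agent.Helper12.FreeSec.F X I) : Smooth (f ≫ φ) := by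
  haveI : LocallyOfFiniteType (f ≫ φ) := inferInstance
  haveI := lfp (f ≫ φ)
  rw [← Scheme.Hom.smoothLocus_eq_top_iff]
  refine top_le_iff.mp (fun x _ => ?_)
  obtain ⟨_, ⟨V, hV, rfl⟩, hxV, -⟩ :=
    X.isBasis_affineOpens.exists_subset_of_mem_open (Set.mem_univ x) isOpen_univ
  rw [mem_smoothLocus_iff_isSmoothAt (f ≫ φ) V hV x hxV]
  letI algkA : Algebra k Γ(X, V) := (secHom (f ≫ φ) V).toAlgebra
  haveI : Algebra.FiniteType k Γ(X, V) := finiteType_secHom (f ≫ φ) V hV
  rw [Groth.Agent.S5000.result k Γ(X, V) (hV.primeIdealOf ⟨x, hxV⟩).asIdeal]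
  have hT : IsAffineOpen (⊤ : S.Opens) := isAffineOpen_top S
  have e : V ≤ f ⁻¹ᵁ ⊤ := le_top
  letI algLA := algUV f e
  let om := omegaSections f hV hT e
  haveI : Algebra.FiniteType Γ(S, ⊤) Γ(X, V) := f.finiteType_appLE hT hV e
  haveI : Module.Finite Γ(X, V) Γ(Omega.sheaf f, V) := Module.Finite.equiv om.symm
  haveI : Module.Finite Γ(X, V) Γ(Groth.Agent.Helper12.FreeSec.F X I, V) :=
    Module.Finite.equiv (appLinearEquiv α V)
  haveI : Nonempty V := ⟨⟨x, hxV⟩⟩
  haveI : Nontrivial Γ(X, V) := inferInstance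
  haveI : Module.Free Γ(X, V) Γ(Groth.Agent.Helper12.FreeSec.F X I, V) :=
    Groth.Agent.Helper12.FreeSec.free_of_finite I V
  haveI : Module.Free Γ(X, V) Ω[Γ(X, V)⁄Γ(S, ⊤)] :=
    Module.Free.of_equiv ((appLinearEquiv α V).symm.trans om)
  letI algkL : Algebra k Γ(S, ⊤) :=
    ((Scheme.ΓSpecIso (CommRingCat.of k)).inv ≫ φ.appTop).hom.toAlgebra
  have hsurj : Function.Surjective (algebraMap k Γ(S, ⊤)) := by
    haveI : IsIso φ.appTop := (inferInstance : IsIso (φ.app ⊤))
    exact (ConcreteCategory.bijective_of_isIso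
      ((Scheme.ΓSpecIso (CommRingCat.of k)).inv ≫ φ.appTop)).2
  haveI : IsScalarTower k Γ(S, ⊤) Γ(X, V) := by
    refine IsScalarTower.of_algebraMap_eq (fun a => ?_)
    change (secHom (f ≫ φ) V) a = (f.appLE ⊤ V e)
      (((Scheme.ΓSpecIso (CommRingCat.of k)).inv ≫ φ.appTop) a)
    have h1 : (f ≫ φ).appLE ⊤ V le_top = φ.appTop ≫ f.appLE ⊤ V e := by
      rw [Scheme.Hom.comp_appLE]
      rfl
    rw [secHom, h1]
    rfl
  have hbij := kaehler_map_bijective k Γ(S, ⊤) Γ(X, V) hsurj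
  haveI : Module.Free Γ(X, V) Ω[Γ(X, V)⁄k] :=
    Module.Free.of_equiv (LinearEquiv.ofBijective _ hbij).symm
  exact Module.free_of_isLocalizedModule (hV.primeIdealOf ⟨x, hxV⟩).asIdeal.primeCompl
    (KaehlerDifferential.map k k Γ(X, V)
      (Localization.AtPrime (hV.primeIdealOf ⟨x, hxV⟩).asIdeal))

end Groth.Agent.Helper12.CartierSm
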