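import Mathlib
import Groth.Agent.Lib.Helper4.NormalDecomp

/-!
# Closures of opens in locally Noetherian schemes with integral local rings; sections are qc (helper12)
-/

set_option autoImplicit false
set_option linter.style.haveILetI false
universe u
open CategoryTheory CategoryTheory.Limits AlgebraicGeometry TopologicalSpace

namespace Groth.Agent.Helper12.ClosureOpen

/-- In a locally Noetherian scheme all of whose local rings are domains, the closure of an open
subset is open. -/
theorem isOpen_closure_of_isOpen (T : Scheme.{u}) [IsLocallyNoetherian T]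
    (hdom : ∀ t : T, IsDomain (T.presheaf.stalk t)) (O : Set T) (hO : IsOpen O) :
    IsOpen (closure O) := by
  rw [isOpen_iff_forall_mem_open]
  intro y hy
  obtain ⟨V, hV, hyV, -⟩ :=
    exists_isAffineOpen_mem_and_subset (x := y) (U := (⊤ : T.Opens)) trivial
  haveI : IsNoetherianRing Γ(T, V) := IsLocallyNoetherian.component_noetherian ⟨V, hV⟩
  haveI : NoetherianSpace V := noetherianSpace_of_isAffineOpen V hV
  haveI : NoetherianSpace ↥(V : Scheme.{u}) := ‹NoetherianSpace V›
  have hdomV : ∀ v : (V : Scheme.{u}), IsDomain ((V : Scheme.{u}).presheaf.stalk v) := by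
    intro v
    haveI := hdom v.1
    exact (V.stalkIso v).commRingCatIsoToRingEquiv.toMulEquiv.isDomain _
  let yV : (V : Scheme.{u}) := ⟨y, hyV⟩
  have hZ : irreducibleComponent yV ∈ irreducibleComponents ↥(V : Scheme.{u}) :=
    irreducibleComponent_mem_irreducibleComponents yV
  have hZo : IsOpen (irreducibleComponent yV) :=
    Groth.Agent.Helper4.NormalDecomp.isOpen_of_mem_irreducibleComponents (V : Scheme.{u}) hdomV hZ
  have hZi : IsIrreducible (irreducibleComponent yV) := isIrreducible_irreducibleComponent
  have hCo : IsOpen (V.ι '' irreducibleComponent yV) := V.ι.isOpenEmbedding.isOpenMap _ hZo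
  have hCi : IsIrreducible (V.ι '' irreducibleComponent yV) :=
    hZi.image _ V.ι.continuous.continuousOn
  have hyC : y ∈ V.ι '' irreducibleComponent yV := ⟨yV, mem_irreducibleComponent, rfl⟩
  refine ⟨V.ι '' irreducibleComponent yV, ?_, hCo, hyC⟩
  intro c hc
  rw [mem_closure_iff]
  intro W hW hcW
  have h1 : ((V.ι '' irreducibleComponent yV) ∩ O).Nonempty := by
    have := mem_closure_iff.mp hy _ hCo hyC
    exact this
  have h2 : ((V.ι '' irreducibleComponent yV) ∩ W).Nonempty := ⟨c, hc, hcW⟩
  obtain ⟨z, -, hzW, hzO⟩ := hCi.2 W O hW hO h2 h1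
  exact ⟨z, hzW, hzO⟩

/-- A section of a morphism from a locally Noetherian scheme is quasi-compact. -/
theorem quasiCompact_of_section {S G : Scheme.{u}} [IsLocallyNoetherian G] (e : S ⟶ G)
    (p : G ⟶ S) (h : e ≫ p = 𝟙 S) : QuasiCompact e := by
  rw [quasiCompact_iff_forall_isAffineOpen]
  intro V hV
  haveI : IsNoetherianRing Γ(G, V) := IsLocallyNoetherian.component_noetherian ⟨V, hV⟩
  haveI : NoetherianSpace V := noetherianSpace_of_isAffineOpen V hV
  have hleft : Function.LeftInverse p e := by
    intro s
    rw [← Scheme.Hom.comp_apply, h]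
    rfl
  have hemb : Topology.IsEmbedding e := hleft.isEmbedding p.continuous e.continuous
  have hK : IsCompact ((V : Set G) ∩ Set.range e) := by
    have h1 : IsCompact (Subtype.val ⁻¹' (Set.range e) : Set V) :=
      NoetherianSpace.isCompact _
    have h2 := h1.image continuous_subtype_val
    have hset : ((V : Set G) ∩ Set.range e) =
        Subtype.val '' (Subtype.val ⁻¹' (Set.range e) : Set V) := by
      ext g
      constructor
      · rintro ⟨hgV, hge⟩
        exact ⟨⟨g, hgV⟩, hge, rfl⟩
      · rintro ⟨⟨g', hg'V⟩, hge, rfl⟩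
        exact ⟨hg'V, hge⟩
    rw [hset]
    exact h2
  have h3 := (hemb.isInducing.isCompact_preimage_iff (K := (V : Set G) ∩ Set.range e)
    Set.inter_subset_right).mpr hK
  have h4 : e ⁻¹' ((V : Set G) ∩ Set.range e) = (e ⁻¹ᵁ V : Set S) := by
    ext s
    simp
  rw [← h4]
  exact h3

end Groth.Agent.Helper12.ClosureOpen
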