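import Mathlib

/-!
# Cokernel of a map of finite projective modules: freeness at a prime

For `d : M → N` with `N` finite projective, `M` finite, and a prime `p`:
`ker (κ(p) ⊗ d) ≤ range (κ(p) ⊗ (ker d ↪ M))` iff `κ(p) ⊗ im d → κ(p) ⊗ N` injective
iff `Coker(d)_p` is free over `R_p`.
-/

namespace Groth.Agent.Helper12.CokerFree

open TensorProduct

universe u v w

variable {R : Type u} [CommRing R] {M : Type v} {N : Type w}
  [AddCommGroup M] [Module R M] [AddCommGroup N] [Module R N]

/-- Step A: the kernel condition is equivalent to injectivity of `Q ⊗ im d → Q ⊗ N`. -/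
theorem ker_le_range_iff (Q : Type*) [CommRing Q] [Algebra R Q] (d : M →ₗ[R] N) :
    LinearMap.ker (d.baseChange Q) ≤
        LinearMap.range ((LinearMap.ker d).subtype.baseChange Q) ↔
      Function.Injective ((LinearMap.range d).subtype.baseChange Q) := by
  have hex0 : Function.Exact (LinearMap.ker d).subtype d.rangeRestrict := by
    intro x
    constructor
    · intro hx
      refine ⟨⟨x, ?_⟩, rfl⟩
      have := congrArg Subtype.val hx
      simpa using this
    · rintro ⟨y, rfl⟩
      apply Subtype.ext
      simp
  have hex : Function.Exact ((LinearMap.ker d).subtype.baseChange Q)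
      (d.rangeRestrict.baseChange Q) :=
    lTensor_exact Q hex0 d.surjective_rangeRestrict
  have hsurj : Function.Surjective (d.rangeRestrict.baseChange Q) :=
    LinearMap.lTensor_surjective Q d.surjective_rangeRestrict
  have hcomp : d.baseChange Q =
      (LinearMap.range d).subtype.baseChange Q ∘ₗ d.rangeRestrict.baseChange Q := by
    rw [← LinearMap.baseChange_comp, LinearMap.subtype_comp_codRestrict]
  constructor
  · intro h
    rw [injective_iff_map_eq_zero]
    intro y hy
    obtain ⟨x, rfl⟩ := hsurj y
    have hx : x ∈ LinearMap.ker (d.baseChange Q) := by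
      rw [LinearMap.mem_ker, hcomp, LinearMap.comp_apply, hy]
    exact (hex x).mpr (h hx)
  · intro h x hx
    rw [LinearMap.mem_ker, hcomp, LinearMap.comp_apply] at hx
    have : d.rangeRestrict.baseChange Q x = 0 := h (by rw [hx, map_zero])
    exact (hex x).mp this

/-- Step B: freeness of the cokernel at `p` iff `κ(p) ⊗ im d → κ(p) ⊗ N` is injective. -/
theorem mem_freeLocus_iff [Module.Finite R M] [Module.Finite R N] [Module.Projective R N]
    (d : M →ₗ[R] N) (p : PrimeSpectrum R) :
    p ∈ Module.freeLocus R (N ⧸ LinearMap.range d) ↔
      Function.Injective ((LinearMap.range d).subtype.baseChange p.asIdeal.ResidueField) := by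
  rw [Module.mem_freeLocus_iff_tensor p (Localization.AtPrime p.asIdeal)]
  have hfinI : Module.Finite R (LinearMap.range d) := Module.Finite.range d
  have hfreeN : Module.Free (Localization.AtPrime p.asIdeal)
      (Localization.AtPrime p.asIdeal ⊗[R] N) := Module.free_of_flat_of_isLocalRing
  have hsurj : Function.Surjective
      ((LinearMap.range d).mkQ.baseChange (Localization.AtPrime p.asIdeal)) :=
    LinearMap.lTensor_surjective _ (Submodule.mkQ_surjective _)
  have hex : Function.Exact
      ((LinearMap.range d).subtype.baseChange (Localization.AtPrime p.asIdeal))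
      ((LinearMap.range d).mkQ.baseChange (Localization.AtPrime p.asIdeal)) :=
    lTensor_exact _ (LinearMap.exact_subtype_mkQ _) (Submodule.mkQ_surjective _)
  have hinj : Function.Injective
      ((LinearMap.range d).subtype.baseChange (Localization.AtPrime p.asIdeal)) :=
    Module.Flat.lTensor_preserves_injective_linearMap _ Subtype.val_injective
  have key := LinearMap.baseChange_baseChange (R := R) (A := Localization.AtPrime p.asIdeal)
    (B := p.asIdeal.ResidueField) (LinearMap.range d).subtype
  have hiff : Function.Injective
      (((LinearMap.range d).subtype.baseChange (Localization.AtPrime p.asIdeal)).lTensor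
        p.asIdeal.ResidueField) ↔
      Function.Injective ((LinearMap.range d).subtype.baseChange p.asIdeal.ResidueField) := by
    rw [← LinearMap.baseChange_eq_ltensor, key]
    simp
  constructor
  · intro hfree
    rw [← hiff]
    have hproj : Module.Projective (Localization.AtPrime p.asIdeal)
      (Localization.AtPrime p.asIdeal ⊗[R] (N ⧸ LinearMap.range d)) := inferInstance
    have h01 := (Function.Exact.split_tfae hex hinj hsurj).out 0 1
    obtain ⟨r, hr⟩ := h01.mp (Module.projective_lifting_property _ _ hsurj)
    have : (r.lTensor p.asIdeal.ResidueField) ∘ₗ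
        (((LinearMap.range d).subtype.baseChange (Localization.AtPrime p.asIdeal)).lTensor
        p.asIdeal.ResidueField) = LinearMap.id := by
      rw [← LinearMap.lTensor_comp, hr, LinearMap.lTensor_id]
    exact Function.HasLeftInverse.injective ⟨_, LinearMap.congr_fun this⟩
  · intro h
    exact Module.free_of_lTensor_residueField_injective _ _ hsurj hex (hiff.mpr h)

theorem finitePresentation_coker [Module.Finite R M] [Module.Finite R N] [Module.Projective R N]
    (d : M →ₗ[R] N) : Module.FinitePresentation R (N ⧸ LinearMap.range d) := by
  have : Module.FinitePresentation R N := Module.finitePresentation_of_projective R N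
  refine Module.finitePresentation_of_surjective (LinearMap.range d).mkQ
    (Submodule.mkQ_surjective _) ?_
  rw [Submodule.ker_mkQ, LinearMap.range_eq_map]
  exact (Module.Finite.fg_top).map d

/-- The kernel condition at `p` is equivalent to `p` lying in the free locus of the cokernel. -/
theorem ker_le_range_iff_mem_freeLocus [Module.Finite R M] [Module.Finite R N]
    [Module.Projective R N] (d : M →ₗ[R] N) (p : PrimeSpectrum R) :
    LinearMap.ker (d.baseChange p.asIdeal.ResidueField) ≤
        LinearMap.range ((LinearMap.ker d).subtype.baseChange p.asIdeal.ResidueField) ↔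
      p ∈ Module.freeLocus R (N ⧸ LinearMap.range d) := by
  rw [ker_le_range_iff, mem_freeLocus_iff]

end Groth.Agent.Helper12.CokerFree
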