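import Groth.Prelude.Def_HopfRep
import Mathlib.LinearAlgebra.TensorProduct.Basis
import Mathlib.LinearAlgebra.Basis.VectorSpace
import Mathlib.LinearAlgebra.TensorProduct.RightExactness
import Mathlib.LinearAlgebra.FiniteDimensional.Basic

/-!
General lemmas on comodules over a coalgebra (helper12).
-/

set_option autoImplicit false
universe u v w

open scoped TensorProduct

namespace Groth.Agent.Helper12

section General

variable {k : Type u} [CommRing k] {C : Type v} [AddCommGroup C] [Module k C]
variable {V : Type w} [AddCommGroup V] [Module k V]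

/-- slice of a tensor along a functional on the right factor -/
noncomputable def slice (l : C →ₗ[k] k) : V ⊗[k] C →ₗ[k] V :=
  (TensorProduct.rid k V).toLinearMap ∘ₗ LinearMap.lTensor V l

@[simp] theorem slice_tmul (l : C →ₗ[k] k) (w : V) (c : C) :
    slice l (w ⊗ₜ[k] c) = l c • w := by
  simp [slice]

/-- slicing preserves the image of `W ⊗ C` -/
theorem slice_mem_of_mem_range (W : Submodule k V) (l : C →ₗ[k] k) (x : V ⊗[k] C)
    (hx : x ∈ LinearMap.range (W.subtype.rTensor C)) : slice l x ∈ W := by
  obtain ⟨y, rfl⟩ := hx
  induction y using TensorProduct.induction_on with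
  | zero => simp
  | tmul w c => simpa using W.smul_mem _ w.2
  | add a b ha hb => rw [map_add, map_add]; exact W.add_mem ha hb

/-- applying a map on the right factor preserves the image of `W ⊗ -` -/
theorem lTensor_mem_range_of_mem_range {C' : Type*} [AddCommGroup C'] [Module k C']
    (W : Submodule k V) (T : C →ₗ[k] C') (x : V ⊗[k] C)
    (hx : x ∈ LinearMap.range (W.subtype.rTensor C)) :
    LinearMap.lTensor V T x ∈ LinearMap.range (W.subtype.rTensor C') := by
  obtain ⟨y, rfl⟩ := hx
  refine ⟨LinearMap.lTensor W T y, ?_⟩
  rw [← LinearMap.comp_apply, ← LinearMap.comp_apply, LinearMap.rTensor_comp_lTensor,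
    LinearMap.lTensor_comp_rTensor]

end General

section Coalg

variable {k : Type u} [CommRing k] {C : Type v} [AddCommGroup C] [Module k C] [Coalgebra k C]
variable {V : Type w} [AddCommGroup V] [Module k V] [HopfRep.Comod k C V]

/-- the right translate of a functional: `c ↦ (id ⊗ l) (Δ c)` -/
noncomputable def rtrans (l : C →ₗ[k] k) : C →ₗ[k] C :=
  (TensorProduct.rid k C).toLinearMap ∘ₗ LinearMap.lTensor C l ∘ₗ Coalgebra.comul (R := k) (A := C)

theorem slice_rTensor_coact (l : C →ₗ[k] k) (x : V ⊗[k] C) :
    slice l ((HopfRep.Comod.coact (k := k) (A := C) : V →ₗ[k] V ⊗[k] C).rTensor C x) =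
      HopfRep.Comod.coact (k := k) (A := C) (slice l x) := by
  induction x using TensorProduct.induction_on with
  | zero => simp
  | tmul w c => simp
  | add a b ha hb => simp only [map_add, ha, hb]

omit [Coalgebra k C] [HopfRep.Comod k C V] in
theorem slice_eq_lTensor_assoc (l : C →ₗ[k] k) (y : (V ⊗[k] C) ⊗[k] C) :
    slice l y = LinearMap.lTensor V ((TensorProduct.rid k C).toLinearMap ∘ₗ LinearMap.lTensor C l)
      (TensorProduct.assoc k V C C y) := by
  induction y using TensorProduct.induction_on with
  | zero => simp
  | tmul z c' =>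
    induction z using TensorProduct.induction_on with
    | zero => simp
    | tmul w c => simp [TensorProduct.smul_tmul']
    | add a b ha hb => simp only [TensorProduct.add_tmul, map_add, ha, hb]
  | add a b ha hb => simp only [map_add, ha, hb]

/-- Key identity: the coaction of a slice of `ρ v` is `(id ⊗ rtrans l) (ρ v)`. -/
theorem coact_slice_coact (l : C →ₗ[k] k) (v : V) :
    HopfRep.Comod.coact (k := k) (A := C) (slice l (HopfRep.Comod.coact (k := k) (A := C) v)) =
      LinearMap.lTensor V (rtrans l) (HopfRep.Comod.coact (k := k) (A := C) v) := by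
  rw [← slice_rTensor_coact, slice_eq_lTensor_assoc]
  have h := LinearMap.congr_fun (HopfRep.Comod.coassoc (k := k) (A := C) (V := V)) v
  simp only [LinearMap.comp_apply, LinearEquiv.coe_coe] at h
  rw [h, ← LinearMap.comp_apply, ← LinearMap.lTensor_comp]
  rfl

theorem slice_counit_coact (v : V) :
    slice (Coalgebra.counit (R := k) (A := C)) (HopfRep.Comod.coact (k := k) (A := C) v) = v := by
  have h := LinearMap.congr_fun (HopfRep.Comod.counit_comp (k := k) (A := C) (V := V)) v
  simp only [LinearMap.comp_apply, LinearMap.flip_apply, TensorProduct.mk_apply] at h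
  simp [slice, h]

end Coalg

section Field

variable {k : Type u} [Field k] {C : Type v} [AddCommGroup C] [Module k C]
variable {V : Type w} [AddCommGroup V] [Module k V]

/-- Over a field, a tensor lies in the image of `W ⊗ C` as soon as all its slices along the
coordinate functionals of a basis lie in `W`. -/
theorem mem_range_rTensor_of_slice_mem {ι : Type*} (ℬ : Module.Basis ι k C) (W : Submodule k V)
    (x : V ⊗[k] C) (h : ∀ i, slice (ℬ.coord i) x ∈ W) :
    x ∈ LinearMap.range (W.subtype.rTensor C) := by
  classical
  have hx : x = (TensorProduct.equivFinsuppOfBasisRight ℬ).symm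
      (TensorProduct.equivFinsuppOfBasisRight ℬ x) := by simp
  rw [hx, TensorProduct.equivFinsuppOfBasisRight_symm_apply]
  refine Submodule.sum_mem _ fun i _ => ?_
  have hi : (TensorProduct.equivFinsuppOfBasisRight ℬ x) i ∈ W := by
    rw [TensorProduct.equivFinsuppOfBasisRight_apply]; exact h i
  exact ⟨(⟨_, hi⟩ : W) ⊗ₜ[k] ℬ i, by simp⟩

/-- Over a field, every tensor lies in the image of `W ⊗ C` for a finite-dimensional `W`
spanned by slices. -/
theorem exists_finite_slices {ι : Type*} (ℬ : Module.Basis ι k C) (x : V ⊗[k] C) :
    ∃ s : Finset ι, ∀ i ∉ s, slice (ℬ.coord i) x = 0 := by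
  classical
  refine ⟨(TensorProduct.equivFinsuppOfBasisRight ℬ x).support, fun i hi => ?_⟩
  have := TensorProduct.equivFinsuppOfBasisRight_apply ℬ x i
  rw [Finsupp.notMem_support_iff] at hi
  rw [hi] at this
  exact this.symm

end Field

section FieldCoalg

variable {k : Type u} [Field k] {C : Type v} [AddCommGroup C] [Module k C] [Coalgebra k C]
variable {V : Type w} [AddCommGroup V] [Module k V] [HopfRep.Comod k C V]

/-- The span of all slices of `ρ v`: the subcomodule generated by `v`. -/
noncomputable def gen (v : V) : Submodule k V :=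
  Submodule.span k (Set.range fun l : C →ₗ[k] k =>
    slice l (HopfRep.Comod.coact (k := k) (A := C) v))

theorem coact_mem_gen (v : V) :
    HopfRep.Comod.coact (k := k) (A := C) v ∈
      LinearMap.range ((gen (k := k) (C := C) v).subtype.rTensor C) :=
  mem_range_rTensor_of_slice_mem (Module.Basis.ofVectorSpace k C) _ _
    fun _ => Submodule.subset_span ⟨_, rfl⟩

theorem mem_gen (v : V) : v ∈ gen (k := k) (C := C) v := by
  have := slice_counit_coact (k := k) (C := C) v
  exact Submodule.subset_span ⟨Coalgebra.counit (R := k) (A := C), this⟩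

theorem gen_isSubcomod (v : V) : HopfRep.IsSubcomod (k := k) (A := C) (gen (k := k) (C := C) v) := by
  intro w hw
  refine Submodule.span_induction (p := fun w _ => HopfRep.Comod.coact (k := k) (A := C) w ∈
      LinearMap.range ((gen (k := k) (C := C) v).subtype.rTensor C)) ?_ ?_ ?_ ?_ hw
  · rintro _ ⟨l, rfl⟩
    rw [coact_slice_coact]
    exact lTensor_mem_range_of_mem_range _ _ _ (coact_mem_gen v)
  · simp
  · intro a b _ _ ha hb
    rw [map_add]; exact Submodule.add_mem _ ha hb
  · intro c a _ ha
    rw [map_smul]; exact Submodule.smul_mem _ c ha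

theorem gen_finite (v : V) : Module.Finite k (gen (k := k) (C := C) v) := by
  classical
  obtain ⟨s, hs⟩ := exists_finite_slices (Module.Basis.ofVectorSpace k C)
    (HopfRep.Comod.coact (k := k) (A := C) v)
  set ℬ := Module.Basis.ofVectorSpace k C
  set x := HopfRep.Comod.coact (k := k) (A := C) v
  -- gen v is contained in the span of the finitely many coordinate slices
  let W : Submodule k V := Submodule.span k ((fun i => slice (ℬ.coord i) x) '' (s : Set _))
  have hW : Module.Finite k W := Module.Finite.span_of_finite k (Set.Finite.image _ s.finite_toSet)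
  have hxW : x ∈ LinearMap.range (W.subtype.rTensor C) := by
    refine mem_range_rTensor_of_slice_mem ℬ W x fun i => ?_
    by_cases hi : i ∈ s
    · exact Submodule.subset_span ⟨i, hi, rfl⟩
    · rw [hs i hi]; exact W.zero_mem
  have hle : gen (k := k) (C := C) v ≤ W := by
    refine Submodule.span_le.mpr ?_
    rintro _ ⟨l, rfl⟩
    exact slice_mem_of_mem_range W l x hxW
  exact Module.Finite.of_injective (Submodule.inclusion hle) (Submodule.inclusion_injective hle)

end FieldCoalg

end Groth.Agent.Helper12
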