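import Groth.Agent.Lib.Helper12.ComodQuot
import Groth.Prelude.Def_Hoch

/-!
Comodule homomorphisms and product comodules (helper12).
-/

set_option autoImplicit false
universe u v w w' w''

open scoped TensorProduct

namespace Groth.Agent.Helper12

section Hom

variable {k : Type u} [CommRing k] {C : Type v} [AddCommGroup C] [Module k C] [Coalgebra k C]
variable {V : Type w} [AddCommGroup V] [Module k V] [HopfRep.Comod k C V]
variable {V' : Type w'} [AddCommGroup V'] [Module k V'] [HopfRep.Comod k C V']
variable {V'' : Type w''} [AddCommGroup V''] [Module k V''] [HopfRep.Comod k C V'']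

theorem isComodHom_apply {f : V →ₗ[k] V'} (hf : Hoch.IsComodHom C f) (v : V) :
    HopfRep.Comod.coact (k := k) (A := C) (f v) =
      f.rTensor C (HopfRep.Comod.coact (k := k) (A := C) v) :=
  LinearMap.congr_fun hf v

theorem isComodHom_of_apply {f : V →ₗ[k] V'}
    (hf : ∀ v, HopfRep.Comod.coact (k := k) (A := C) (f v) =
      f.rTensor C (HopfRep.Comod.coact (k := k) (A := C) v)) : Hoch.IsComodHom C f :=
  LinearMap.ext hf

theorem isComodHom_id : Hoch.IsComodHom C (LinearMap.id : V →ₗ[k] V) := by
  apply isComodHom_of_apply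
  intro v
  simp

theorem isComodHom_one : Hoch.IsComodHom C (1 : Module.End k V) := isComodHom_id

theorem isComodHom_zero : Hoch.IsComodHom C (0 : V →ₗ[k] V') := by
  apply isComodHom_of_apply
  intro v
  simp

theorem isComodHom_comp {f : V →ₗ[k] V'} {g : V' →ₗ[k] V''} (hf : Hoch.IsComodHom C f)
    (hg : Hoch.IsComodHom C g) : Hoch.IsComodHom C (g ∘ₗ f) := by
  apply isComodHom_of_apply
  intro v
  rw [LinearMap.comp_apply, isComodHom_apply hg, isComodHom_apply hf, LinearMap.rTensor_comp,
    LinearMap.comp_apply]

theorem isComodHom_add {f g : V →ₗ[k] V'} (hf : Hoch.IsComodHom C f)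
    (hg : Hoch.IsComodHom C g) : Hoch.IsComodHom C (f + g) := by
  apply isComodHom_of_apply
  intro v
  rw [LinearMap.add_apply, map_add, isComodHom_apply hf, isComodHom_apply hg,
    LinearMap.rTensor_add, LinearMap.add_apply]

theorem isComodHom_smul (c : k) {f : V →ₗ[k] V'} (hf : Hoch.IsComodHom C f) :
    Hoch.IsComodHom C (c • f) := by
  apply isComodHom_of_apply
  intro v
  rw [LinearMap.smul_apply, map_smul, isComodHom_apply hf, LinearMap.rTensor_smul,
    LinearMap.smul_apply]

theorem range_isSubcomod {f : V →ₗ[k] V'} (hf : Hoch.IsComodHom C f) :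
    HopfRep.IsSubcomod (k := k) (A := C) (LinearMap.range f) := by
  rintro _ ⟨v, rfl⟩
  rw [isComodHom_apply hf]
  have : f.rTensor C = (LinearMap.range f).subtype.rTensor C ∘ₗ f.rangeRestrict.rTensor C := by
    rw [← LinearMap.rTensor_comp]
    congr 1
  rw [this, LinearMap.comp_apply]
  exact ⟨_, rfl⟩

/-- the subalgebra of comodule endomorphisms -/
def comodEnd (k : Type u) [CommRing k] (C : Type v) [AddCommGroup C] [Module k C] [Coalgebra k C]
    (V : Type w) [AddCommGroup V] [Module k V] [HopfRep.Comod k C V] :
    Subalgebra k (Module.End k V) where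
  carrier := {α | Hoch.IsComodHom C α}
  mul_mem' := fun {a b} ha hb => isComodHom_comp hb ha
  one_mem' := isComodHom_one
  add_mem' := fun {a b} ha hb => isComodHom_add ha hb
  zero_mem' := isComodHom_zero
  algebraMap_mem' := fun c => by
    show Hoch.IsComodHom C (algebraMap k (Module.End k V) c)
    rw [Algebra.algebraMap_eq_smul_one]
    exact isComodHom_smul c isComodHom_one

theorem mem_comodEnd (α : Module.End k V) : α ∈ comodEnd k C V ↔ Hoch.IsComodHom C α := Iff.rfl

theorem isComodHom_mkQ (W : Submodule k V) (hW : HopfRep.IsSubcomod (k := k) (A := C) W) :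
    @Hoch.IsComodHom k _ C _ _ _ V _ _ _ (V ⧸ W) _ _ (quotComod W hW) W.mkQ := by
  letI := quotComod W hW
  apply isComodHom_of_apply
  intro v
  exact quotCoact_mkQ W hW v

omit [HopfRep.Comod k C V'] in
/-- transport of coassociativity along a coaction-compatible map -/
theorem coassoc_of_hom (j : V →ₗ[k] V') (c' : V' →ₗ[k] V' ⊗[k] C)
    (h : ∀ v, c' (j v) = j.rTensor C (HopfRep.Comod.coact (k := k) (A := C) v)) (v : V) :
    TensorProduct.assoc k V' C C (c'.rTensor C (c' (j v))) =
      (CoalgebraStruct.comul (R := k) (A := C)).lTensor V' (c' (j v)) := by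
  rw [h]
  have h1 : ∀ x : V ⊗[k] C, c'.rTensor C (j.rTensor C x) =
      (j.rTensor C).rTensor C
        ((HopfRep.Comod.coact (k := k) (A := C) : V →ₗ[k] V ⊗[k] C).rTensor C x) := by
    intro x
    induction x using TensorProduct.induction_on with
    | zero => simp
    | tmul w c => simp only [LinearMap.rTensor_tmul, h]
    | add a b ha hb => simp only [map_add, ha, hb]
  rw [h1, assoc_rTensor_rTensor]
  have hco := LinearMap.congr_fun (HopfRep.Comod.coassoc (k := k) (A := C) (V := V)) v
  simp only [LinearMap.comp_apply, LinearEquiv.coe_coe] at hco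
  rw [hco, ← LinearMap.comp_apply, ← LinearMap.comp_apply (LinearMap.lTensor _ _),
    LinearMap.rTensor_comp_lTensor, LinearMap.lTensor_comp_rTensor]

omit [HopfRep.Comod k C V'] in
theorem counit_of_hom (j : V →ₗ[k] V') (c' : V' →ₗ[k] V' ⊗[k] C)
    (h : ∀ v, c' (j v) = j.rTensor C (HopfRep.Comod.coact (k := k) (A := C) v)) (v : V) :
    (CoalgebraStruct.counit (R := k) (A := C)).lTensor V' (c' (j v)) = j v ⊗ₜ[k] (1 : k) := by
  rw [h, ← LinearMap.comp_apply, LinearMap.lTensor_comp_rTensor,
    ← LinearMap.rTensor_comp_lTensor, LinearMap.comp_apply]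
  have hcu := LinearMap.congr_fun (HopfRep.Comod.counit_comp (k := k) (A := C) (V := V)) v
  simp only [LinearMap.comp_apply] at hcu
  rw [hcu]
  simp

end Hom

section Prod

variable {k : Type u} [CommRing k] {C : Type v} [AddCommGroup C] [Module k C] [Coalgebra k C]
variable (V : Type w) [AddCommGroup V] [Module k V] [HopfRep.Comod k C V]
variable (V' : Type w') [AddCommGroup V'] [Module k V'] [HopfRep.Comod k C V']

/-- coaction on a product of comodules -/
noncomputable def prodCoact : V × V' →ₗ[k] (V × V') ⊗[k] C :=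
  (LinearMap.inl k V V').rTensor C ∘ₗ HopfRep.Comod.coact (k := k) (A := C) ∘ₗ LinearMap.fst k V V' +
    (LinearMap.inr k V V').rTensor C ∘ₗ HopfRep.Comod.coact (k := k) (A := C) ∘ₗ
      LinearMap.snd k V V'

theorem prodCoact_inl (v : V) : prodCoact (C := C) V V' (LinearMap.inl k V V' v) =
    (LinearMap.inl k V V').rTensor C (HopfRep.Comod.coact (k := k) (A := C) v) := by
  simp [prodCoact]

theorem prodCoact_inr (v : V') : prodCoact (C := C) V V' (LinearMap.inr k V V' v) =
    (LinearMap.inr k V V').rTensor C (HopfRep.Comod.coact (k := k) (A := C) v) := by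
  simp [prodCoact]

/-- the product comodule -/
@[reducible] noncomputable def prodComod : HopfRep.Comod k C (V × V') where
  coact := prodCoact V V'
  coassoc := by
    apply LinearMap.prod_ext
    · ext v : 1
      simp only [LinearMap.comp_apply, LinearEquiv.coe_coe]
      exact coassoc_of_hom (LinearMap.inl k V V') (prodCoact V V') (prodCoact_inl V V') v
    · ext v : 1
      simp only [LinearMap.comp_apply, LinearEquiv.coe_coe]
      exact coassoc_of_hom (LinearMap.inr k V V') (prodCoact V V') (prodCoact_inr V V') v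
  counit_comp := by
    apply LinearMap.prod_ext
    · ext v : 1
      simp only [LinearMap.comp_apply]
      exact counit_of_hom (LinearMap.inl k V V') (prodCoact V V') (prodCoact_inl V V') v
    · ext v : 1
      simp only [LinearMap.comp_apply]
      exact counit_of_hom (LinearMap.inr k V V') (prodCoact V V') (prodCoact_inr V V') v

theorem isComodHom_inl :
    @Hoch.IsComodHom k _ C _ _ _ V _ _ _ (V × V') _ _ (prodComod (k := k) (C := C) V V') (LinearMap.inl k V V') := by
  letI := prodComod (k := k) (C := C) V V'
  exact isComodHom_of_apply (prodCoact_inl V V')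

theorem isComodHom_inr :
    @Hoch.IsComodHom k _ C _ _ _ V' _ _ _ (V × V') _ _ (prodComod (k := k) (C := C) V V') (LinearMap.inr k V V') := by
  letI := prodComod (k := k) (C := C) V V'
  exact isComodHom_of_apply (prodCoact_inr V V')

omit [HopfRep.Comod k C V] [HopfRep.Comod k C V'] in
theorem rTensor_rTensor_apply {V'' : Type w''} [AddCommGroup V''] [Module k V'']
    (g : V' →ₗ[k] V'') (h : V →ₗ[k] V') (y : V ⊗[k] C) :
    g.rTensor C (h.rTensor C y) = (g ∘ₗ h).rTensor C y := by
  rw [LinearMap.rTensor_comp]; rfl

theorem isComodHom_fst :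
    @Hoch.IsComodHom k _ C _ _ _ (V × V') _ _ (prodComod (k := k) (C := C) V V') V _ _ _
      (LinearMap.fst k V V') := by
  letI := prodComod (k := k) (C := C) V V'
  apply isComodHom_of_apply
  intro x
  show HopfRep.Comod.coact (k := k) (A := C) x.1 = (LinearMap.fst k V V').rTensor C
    ((LinearMap.inl k V V').rTensor C (HopfRep.Comod.coact (k := k) (A := C) x.1) +
      (LinearMap.inr k V V').rTensor C (HopfRep.Comod.coact (k := k) (A := C) x.2))
  rw [map_add, rTensor_rTensor_apply, rTensor_rTensor_apply, LinearMap.fst_comp_inl,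
    LinearMap.fst_comp_inr, LinearMap.rTensor_id, LinearMap.rTensor_zero]
  simp

theorem isComodHom_snd :
    @Hoch.IsComodHom k _ C _ _ _ (V × V') _ _ (prodComod (k := k) (C := C) V V') V' _ _ _
      (LinearMap.snd k V V') := by
  letI := prodComod (k := k) (C := C) V V'
  apply isComodHom_of_apply
  intro x
  show HopfRep.Comod.coact (k := k) (A := C) x.2 = (LinearMap.snd k V V').rTensor C
    ((LinearMap.inl k V V').rTensor C (HopfRep.Comod.coact (k := k) (A := C) x.1) +
      (LinearMap.inr k V V').rTensor C (HopfRep.Comod.coact (k := k) (A := C) x.2))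
  rw [map_add, rTensor_rTensor_apply, rTensor_rTensor_apply, LinearMap.snd_comp_inl,
    LinearMap.snd_comp_inr, LinearMap.rTensor_id, LinearMap.rTensor_zero]
  simp

end Prod

end Groth.Agent.Helper12
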