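import Groth.Agent.Lib.Helper12.ComodSub
import Groth.Agent.Lib.Helper12.ComodLattice
import Groth.Agent.Lib.Helper12.Comod
import Mathlib.LinearAlgebra.FiniteDimensional.Lemmas

/-!
Semisimplicity of arbitrary comodules from semisimplicity of the finite-dimensional ones (helper12).
-/

set_option autoImplicit false
universe u v w

open scoped TensorProduct

namespace Groth.Agent.Helper12.ComodSS

open Groth.Agent.Helper12

variable {k : Type u} [Field k] {C : Type v} [AddCommGroup C] [Module k C] [Coalgebra k C]
variable {V : Type w} [AddCommGroup V] [Module k V] [HopfRep.Comod k C V]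

variable (k C) in
/-- simple subcomodule -/
def IsSimpleSub (S : Submodule k V) : Prop :=
  HopfRep.IsSubcomod (k := k) (A := C) S ∧ S ≠ ⊥ ∧
    ∀ W' : Submodule k V, HopfRep.IsSubcomod (k := k) (A := C) W' → W' ≤ S → W' = ⊥ ∨ W' = S

/-- A nonzero finite-dimensional subcomodule contains a simple subcomodule. -/
theorem exists_simple_le (W : Submodule k V) (hW : HopfRep.IsSubcomod (k := k) (A := C) W)
    [Module.Finite k W] (hW0 : W ≠ ⊥) :
    ∃ S : Submodule k V, S ≤ W ∧ IsSimpleSub k C S := by
  classical
  let P : ℕ → Prop := fun n => ∃ S : Submodule k V, S ≤ W ∧ S ≠ ⊥ ∧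
    HopfRep.IsSubcomod (k := k) (A := C) S ∧ Module.finrank k S = n
  have hP : ∃ n, P n := ⟨_, W, le_rfl, hW0, hW, rfl⟩
  obtain ⟨S, hSW, hS0, hS, hn⟩ := Nat.find_spec hP
  refine ⟨S, hSW, hS, hS0, fun W' hW' hle => ?_⟩
  by_cases h0 : W' = ⊥
  · exact Or.inl h0
  right
  haveI : Module.Finite k S := Submodule.finiteDimensional_of_le hSW
  have hmin : Nat.find hP ≤ Module.finrank k W' :=
    Nat.find_min' hP ⟨W', hle.trans hSW, h0, hW', rfl⟩
  exact Submodule.eq_of_le_of_finrank_le hle (hn ▸ hmin)

/-- "linearly reductive" at universe `w` -/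
def LR (k : Type u) [Field k] (C : Type v) [AddCommGroup C] [Module k C] [Coalgebra k C] : Prop :=
  ∀ (U : Type w) [AddCommGroup U] [Module k U] [HopfRep.Comod k C U],
    Module.Finite k U → HopfRep.IsSemisimpleComod k C U

theorem le_sSup_simple_aux (hLR : LR.{u, v, w} k C) (n : ℕ) :
    ∀ (W : Submodule k V), HopfRep.IsSubcomod (k := k) (A := C) W → Module.Finite k W →
      Module.finrank k W = n → W ≤ sSup {S : Submodule k V | IsSimpleSub k C S} := by
  induction n using Nat.strong_induction_on with
  | _ n ih =>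
    intro W hW hfin hn
    by_cases hW0 : W = ⊥
    · rw [hW0]; exact bot_le
    obtain ⟨S, hSW, hS⟩ := exists_simple_le W hW hW0
    letI : HopfRep.Comod k C W := subComod W hW
    have hj := isComodHom_subtype W hW
    have hS' : HopfRep.IsSubcomod (k := k) (A := C) (S.comap W.subtype) :=
      comap_isSubcomod hj S hS.1
    obtain ⟨T', hT', hc⟩ := hLR W hfin (S.comap W.subtype) hS'
    have hT : HopfRep.IsSubcomod (k := k) (A := C) (T'.map W.subtype) :=
      map_isSubcomod hj T' hT'
    have hmapS : (S.comap W.subtype).map W.subtype = S := by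
      rw [Submodule.map_comap_eq, Submodule.range_subtype]
      exact inf_eq_right.mpr hSW
    have hsup : W = S ⊔ T'.map W.subtype := by
      rw [← hmapS, ← Submodule.map_sup, hc.sup_eq_top, Submodule.map_top, Submodule.range_subtype]
    have hTW : T'.map W.subtype ≤ W := by
      rintro _ ⟨t, -, rfl⟩
      exact t.2
    have hdisj : Disjoint S (T'.map W.subtype) := by
      rw [← hmapS]
      rw [disjoint_iff, ← Submodule.map_inf _ W.injective_subtype, hc.inf_eq_bot, Submodule.map_bot]
    haveI : Module.Finite k (T'.map W.subtype : Submodule k V) :=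
      Submodule.finiteDimensional_of_le hTW
    haveI : Module.Finite k S := Submodule.finiteDimensional_of_le hSW
    have hlt : Module.finrank k (T'.map W.subtype : Submodule k V) < n := by
      have h1 := Submodule.finrank_sup_add_finrank_inf_eq S (T'.map W.subtype)
      rw [← hsup, hdisj.eq_bot, finrank_bot, hn] at h1
      have h2 : 0 < Module.finrank k S := by
        rw [Module.finrank_pos_iff_exists_ne_zero]
        obtain ⟨x, hx, hx0⟩ := Submodule.exists_mem_ne_zero_of_ne_bot hS.2.1
        exact ⟨⟨x, hx⟩, fun h => hx0 (congrArg Subtype.val h)⟩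
      omega
    have hTle := ih _ hlt (T'.map W.subtype) hT inferInstance rfl
    rw [hsup]
    exact sup_le (le_sSup hS) hTle

theorem sSup_simple_eq_top (hLR : LR.{u, v, w} k C) :
    sSup {S : Submodule k V | IsSimpleSub k C S} = ⊤ := by
  rw [eq_top_iff]
  intro v _
  have h := le_sSup_simple_aux hLR _ (gen (k := k) (C := C) v) (gen_isSubcomod v) (gen_finite v) rfl
  exact h (mem_gen v)

/-- Every subcomodule of a comodule has a complement, if all f.d. comodules are semisimple. -/
theorem exists_isCompl (hLR : LR.{u, v, w} k C) (W : Submodule k V)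
    (hW : HopfRep.IsSubcomod (k := k) (A := C) W) :
    ∃ W' : Submodule k V, HopfRep.IsSubcomod (k := k) (A := C) W' ∧ IsCompl W W' := by
  obtain ⟨s, hsA, -, hcompl⟩ := exists_subset_sSupIndep_isCompl (α := Submodule k V)
    (fun W => HopfRep.IsSubcomod (k := k) (A := C) W)
    (fun _ _ => isSubcomod_inf) (fun _ _ => isSubcomod_sup) isSubcomod_sSup
    {S : Submodule k V | IsSimpleSub k C S} (fun a ha => ⟨ha.1, ha.2.2⟩)
    (sSup_simple_eq_top hLR) W hW
  exact ⟨sSup s, isSubcomod_sSup s fun x hx => (hsA hx).1, hcompl⟩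

omit [Coalgebra k C] [HopfRep.Comod k C V] in
theorem rTensor_proj_of_mem_left (W W' : Submodule k V) (h : IsCompl W W')
    (x : V ⊗[k] C) (hx : x ∈ LinearMap.range (W.subtype.rTensor C)) :
    (W.subtype ∘ₗ W.projectionOnto W' h).rTensor C x = x := by
  obtain ⟨y, rfl⟩ := hx
  rw [← LinearMap.comp_apply, ← LinearMap.rTensor_comp]
  congr 2
  apply LinearMap.ext
  intro w
  simp only [LinearMap.comp_apply, Submodule.subtype_apply]
  rw [Submodule.projectionOnto_apply_left]

omit [Coalgebra k C] [HopfRep.Comod k C V] in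
theorem rTensor_proj_of_mem_right (W W' : Submodule k V) (h : IsCompl W W')
    (x : V ⊗[k] C) (hx : x ∈ LinearMap.range (W'.subtype.rTensor C)) :
    (W.subtype ∘ₗ W.projectionOnto W' h).rTensor C x = 0 := by
  obtain ⟨y, rfl⟩ := hx
  rw [← LinearMap.comp_apply, ← LinearMap.rTensor_comp]
  have : (W.subtype ∘ₗ W.projectionOnto W' h) ∘ₗ W'.subtype = 0 := by
    apply LinearMap.ext
    intro w
    simp only [LinearMap.comp_apply, Submodule.subtype_apply, LinearMap.zero_apply]
    rw [Submodule.projectionOnto_apply_right]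
    rfl
  rw [this, LinearMap.rTensor_zero, LinearMap.zero_apply]

/-- The projection onto a subcomodule along a complementary subcomodule is a comodule map. -/
theorem isComodHom_proj (W W' : Submodule k V) (hW : HopfRep.IsSubcomod (k := k) (A := C) W)
    (hW' : HopfRep.IsSubcomod (k := k) (A := C) W') (h : IsCompl W W') :
    Hoch.IsComodHom C (W.subtype ∘ₗ W.projectionOnto W' h) := by
  apply isComodHom_of_apply
  intro v
  have hv : v ∈ W ⊔ W' := by rw [h.sup_eq_top]; trivial
  obtain ⟨w, hw, w', hw', rfl⟩ := Submodule.mem_sup.mp hv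
  rw [map_add, map_add, map_add, map_add, rTensor_proj_of_mem_left W W' h _ (hW w hw),
    rTensor_proj_of_mem_right W W' h _ (hW' w' hw')]
  have h1 : (W.subtype ∘ₗ W.projectionOnto W' h) w = w :=
    congrArg Subtype.val (Submodule.projectionOnto_apply_left h ⟨w, hw⟩)
  have h2 : (W.subtype ∘ₗ W.projectionOnto W' h) w' = 0 :=
    congrArg Subtype.val (Submodule.projectionOnto_apply_right h ⟨w', hw'⟩)
  rw [h1, h2, map_zero]

variable {V' : Type w} [AddCommGroup V'] [Module k V'] [HopfRep.Comod k C V']

/-- An injective comodule map into a comodule all of whose subcomodules are direct summands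
has a comodule retraction. -/
theorem exists_retraction (ρ : V →ₗ[k] V') (hρ : Hoch.IsComodHom C ρ)
    (hinj : Function.Injective ρ)
    (hss : ∀ W : Submodule k V', HopfRep.IsSubcomod (k := k) (A := C) W →
      ∃ W' : Submodule k V', HopfRep.IsSubcomod (k := k) (A := C) W' ∧ IsCompl W W') :
    ∃ r : V' →ₗ[k] V, r ∘ₗ ρ = LinearMap.id ∧ Hoch.IsComodHom C r := by
  obtain ⟨W', hW', hc⟩ := hss (LinearMap.range ρ) (range_isSubcomod hρ)
  let e := LinearEquiv.ofInjective ρ hinj
  let r : V' →ₗ[k] V := e.symm.toLinearMap ∘ₗ (LinearMap.range ρ).projectionOnto W' hc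
  have hρr : ρ ∘ₗ r = (LinearMap.range ρ).subtype ∘ₗ (LinearMap.range ρ).projectionOnto W' hc := by
    apply LinearMap.ext
    intro x
    simp only [r, LinearMap.comp_apply, LinearEquiv.coe_coe, Submodule.subtype_apply]
    have := e.apply_symm_apply ((LinearMap.range ρ).projectionOnto W' hc x)
    exact congrArg Subtype.val this
  have hπ := isComodHom_proj (LinearMap.range ρ) W' (range_isSubcomod hρ) hW' hc
  rw [← hρr] at hπ
  refine ⟨r, ?_, ?_⟩
  · apply LinearMap.ext
    intro v
    apply hinj
    rw [← LinearMap.comp_apply, ← LinearMap.comp_assoc, hρr]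
    simp only [LinearMap.comp_apply, LinearMap.id_apply, Submodule.subtype_apply]
    exact congrArg Subtype.val
      (Submodule.projectionOnto_apply_left hc ⟨ρ v, LinearMap.mem_range_self ρ v⟩)
  · apply isComodHom_of_apply
    intro x
    apply rTensor_injective_of_injective C ρ hinj
    rw [← isComodHom_apply hρ, ← LinearMap.comp_apply ρ r, isComodHom_apply hπ,
      LinearMap.rTensor_comp, LinearMap.comp_apply]

end Groth.Agent.Helper12.ComodSS
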