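import Groth.Agent.Lib.Helper12.ComodProd
import Mathlib.RingTheory.Flat.Basic
import Mathlib.RingTheory.Flat.FaithfullyFlat.Basic

/-!
Subcomodules as comodules, images and preimages of subcomodules (helper12).
-/

set_option autoImplicit false
universe u v w w'

open scoped TensorProduct

namespace Groth.Agent.Helper12

section MapComap

variable {k : Type u} [CommRing k] {C : Type v} [AddCommGroup C] [Module k C] [Coalgebra k C]
variable {V : Type w} [AddCommGroup V] [Module k V] [HopfRep.Comod k C V]
variable {V' : Type w'} [AddCommGroup V'] [Module k V'] [HopfRep.Comod k C V']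

theorem map_isSubcomod {f : V →ₗ[k] V'} (hf : Hoch.IsComodHom C f) (W : Submodule k V)
    (hW : HopfRep.IsSubcomod (k := k) (A := C) W) :
    HopfRep.IsSubcomod (k := k) (A := C) (W.map f) := by
  rintro _ ⟨w, hw, rfl⟩
  rw [isComodHom_apply hf]
  obtain ⟨y, hy⟩ := hW w hw
  rw [← hy, ← LinearMap.comp_apply, ← LinearMap.rTensor_comp]
  have : f ∘ₗ W.subtype = (W.map f).subtype ∘ₗ f.submoduleMap W := by
    ext x; rfl
  rw [this, LinearMap.rTensor_comp, LinearMap.comp_apply]
  exact ⟨_, rfl⟩

end MapComap

section Field

variable {k : Type u} [Field k] {C : Type v} [AddCommGroup C] [Module k C] [Coalgebra k C]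
variable {V : Type w} [AddCommGroup V] [Module k V] [HopfRep.Comod k C V]
variable {V' : Type w'} [AddCommGroup V'] [Module k V'] [HopfRep.Comod k C V']

theorem comap_isSubcomod {f : V →ₗ[k] V'} (hf : Hoch.IsComodHom C f) (W' : Submodule k V')
    (hW' : HopfRep.IsSubcomod (k := k) (A := C) W') :
    HopfRep.IsSubcomod (k := k) (A := C) (W'.comap f) := by
  intro v hv
  apply mem_range_rTensor_comap f W'
  rw [← isComodHom_apply hf]
  exact hW' (f v) hv

theorem rTensor_injective_of_injective {M N : Type*} [AddCommGroup M] [Module k M]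
    [AddCommGroup N] [Module k N] (P : Type*) [AddCommGroup P] [Module k P] (j : M →ₗ[k] N)
    (hj : Function.Injective j) : Function.Injective (j.rTensor P) :=
  Module.Flat.rTensor_preserves_injective_linearMap j hj

/-- the coaction on a subcomodule -/
noncomputable def subCoact (W : Submodule k V) (hW : HopfRep.IsSubcomod (k := k) (A := C) W) :
    W →ₗ[k] W ⊗[k] C :=
  (LinearEquiv.ofInjective (W.subtype.rTensor C)
    (rTensor_injective_of_injective C W.subtype W.injective_subtype)).symm.toLinearMap ∘ₗ
    LinearMap.codRestrict (LinearMap.range (W.subtype.rTensor C))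
      ((HopfRep.Comod.coact (k := k) (A := C) : V →ₗ[k] V ⊗[k] C) ∘ₗ W.subtype)
      (fun w => hW w w.2)

theorem subCoact_spec (W : Submodule k V) (hW : HopfRep.IsSubcomod (k := k) (A := C) W) (w : W) :
    W.subtype.rTensor C (subCoact W hW w) = HopfRep.Comod.coact (k := k) (A := C) (w : V) := by
  unfold subCoact
  rw [LinearMap.comp_apply]
  have := (LinearEquiv.ofInjective (W.subtype.rTensor C)
    (rTensor_injective_of_injective C W.subtype W.injective_subtype)).apply_symm_apply
      (LinearMap.codRestrict (LinearMap.range (W.subtype.rTensor C))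
        ((HopfRep.Comod.coact (k := k) (A := C) : V →ₗ[k] V ⊗[k] C) ∘ₗ W.subtype)
        (fun w => hW w w.2) w)
  exact congrArg Subtype.val this

omit [HopfRep.Comod k C V'] in
/-- pulling back coassociativity along an injective coaction-compatible map -/
theorem coassoc_of_injective (j : V' →ₗ[k] V) (hj : Function.Injective j)
    (c : V' →ₗ[k] V' ⊗[k] C)
    (h : ∀ w, j.rTensor C (c w) = HopfRep.Comod.coact (k := k) (A := C) (j w)) :
    (TensorProduct.assoc k V' C C).toLinearMap ∘ₗ c.rTensor C ∘ₗ c =
      (CoalgebraStruct.comul (R := k) (A := C)).lTensor V' ∘ₗ c := by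
  apply LinearMap.ext
  intro w
  apply rTensor_injective_of_injective (C ⊗[k] C) j hj
  simp only [LinearMap.comp_apply, LinearEquiv.coe_coe]
  rw [← assoc_rTensor_rTensor]
  have h1 : ∀ x : V' ⊗[k] C, (j.rTensor C).rTensor C (c.rTensor C x) =
      (HopfRep.Comod.coact (k := k) (A := C) : V →ₗ[k] V ⊗[k] C).rTensor C (j.rTensor C x) := by
    intro x
    induction x using TensorProduct.induction_on with
    | zero => simp
    | tmul w c' => simp only [LinearMap.rTensor_tmul, h]
    | add a b ha hb => simp only [map_add, ha, hb]
  rw [h1, h]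
  have hco := LinearMap.congr_fun (HopfRep.Comod.coassoc (k := k) (A := C) (V := V)) (j w)
  simp only [LinearMap.comp_apply, LinearEquiv.coe_coe] at hco
  rw [hco, ← h, ← LinearMap.comp_apply, ← LinearMap.comp_apply (LinearMap.rTensor _ _),
    LinearMap.rTensor_comp_lTensor, LinearMap.lTensor_comp_rTensor]

omit [HopfRep.Comod k C V'] in
theorem counit_of_injective (j : V' →ₗ[k] V) (hj : Function.Injective j)
    (c : V' →ₗ[k] V' ⊗[k] C)
    (h : ∀ w, j.rTensor C (c w) = HopfRep.Comod.coact (k := k) (A := C) (j w)) :
    (CoalgebraStruct.counit (R := k) (A := C)).lTensor V' ∘ₗ c =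
      (TensorProduct.mk k V' k).flip 1 := by
  apply LinearMap.ext
  intro w
  apply rTensor_injective_of_injective k j hj
  simp only [LinearMap.comp_apply, LinearMap.flip_apply, TensorProduct.mk_apply,
    LinearMap.rTensor_tmul]
  rw [← LinearMap.comp_apply, LinearMap.rTensor_comp_lTensor, ← LinearMap.lTensor_comp_rTensor,
    LinearMap.comp_apply, h]
  have hcu := LinearMap.congr_fun (HopfRep.Comod.counit_comp (k := k) (A := C) (V := V)) (j w)
  simp only [LinearMap.comp_apply] at hcu
  rw [hcu]
  simp

/-- a subcomodule is a comodule -/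
@[reducible] noncomputable def subComod (W : Submodule k V)
    (hW : HopfRep.IsSubcomod (k := k) (A := C) W) : HopfRep.Comod k C W where
  coact := subCoact W hW
  coassoc := coassoc_of_injective W.subtype W.injective_subtype _ (subCoact_spec W hW)
  counit_comp := counit_of_injective W.subtype W.injective_subtype _ (subCoact_spec W hW)

theorem isComodHom_subtype (W : Submodule k V) (hW : HopfRep.IsSubcomod (k := k) (A := C) W) :
    @Hoch.IsComodHom k _ C _ _ _ W _ _ (subComod W hW) V _ _ _ W.subtype := by
  letI := subComod W hW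
  apply isComodHom_of_apply
  intro w
  exact (subCoact_spec W hW w).symm

end Field

end Groth.Agent.Helper12
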