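import Mathlib

open CategoryTheory AlgebraicGeometry Limits MonoidalCategory CartesianMonoidalCategory MonObj

universe u

namespace Groth.Agent.Helper12

section Cat
variable {C : Type*} [Category C] [CartesianMonoidalCategory C] (G : C) [GrpObj G]

/-- the diagonal of a group object is the pullback of the unit along `(x, y) ↦ x⁻¹ * y` -/
theorem isPullback_diag_unit :
    IsPullback (lift (𝟙 G) (𝟙 G)) (toUnit G) ((fst G G)⁻¹ * snd G G) η[G] := by
  refine ⟨⟨?_⟩, ⟨PullbackCone.IsLimit.mk _ (fun s => s.fst ≫ fst G G) ?_ ?_ ?_⟩⟩
  · rw [MonObj.comp_mul, GrpObj.comp_inv, lift_fst, lift_snd, inv_mul_cancel, Hom.one_def]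
  · intro s
    have h := s.condition
    rw [MonObj.comp_mul, GrpObj.comp_inv, toUnit_unique s.snd (toUnit _), ← Hom.one_def,
      inv_mul_eq_one] at h
    apply CartesianMonoidalCategory.hom_ext
    · simp
    · simp [h]
  · intro s
    exact toUnit_unique _ _
  · intro s m h1 _
    rw [← h1]
    simp

end Cat

theorem isSeparated_of_grpObj {K : Type u} [Field K] (G : Over (Spec (.of K))) [GrpObj G] :
    IsSeparated G.hom := by
  have hpb := (isPullback_diag_unit G).map (Over.forget _)
  have : IsClosedImmersion ((Over.forget _).map (lift (𝟙 G) (𝟙 G))) :=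
    MorphismProperty.of_isPullback (P := @IsClosedImmersion) hpb.flip
      (inferInstanceAs (IsClosedImmersion η[G].left))
  constructor
  exact this

end Groth.Agent.Helper12
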