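import Mathlib
import Groth.Agent.Lib.Helper16.Sch.FibCl1
import Groth.Agent.Lib.Helper12.GrpDim2
import Groth.Agent.Lib.Helper4.GrpConn
import Groth.Agent.Lib.Helper14.SectionComp
import Groth.Agent.Lib.Helper3.LocalDim

/-!
# Dimension of proper closed subsets of irreducible closed sets; identity components of
closed subgroups of the same dimension (helper12)
-/

set_option autoImplicit false
set_option linter.style.haveILetI false
set_option linter.unusedSectionVars false
universe u
open CategoryTheory CategoryTheory.Limits AlgebraicGeometry MonoidalCategory CartesianMonoidalCategory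
  MonObj GrpObj Topology

noncomputable section

namespace Groth.Agent.Helper12.CompDim

section Top

variable {X : Type*} [TopologicalSpace X]

/-- a proper nonempty closed subset of an irreducible closed set has strictly smaller dimension -/
theorem dim_add_one_le [QuasiSober X] (C Z : Set X) (hC : IsIrreducible C) (hCc : IsClosed C)
    (hZ : IsClosed Z) (hZC : Z ⊆ C) (hne : Z ≠ C) (hZne : Z.Nonempty) :
    topologicalKrullDim ↥Z + 1 ≤ topologicalKrullDim ↥C := by
  have hgen : IsGenericPoint hC.genericPoint C := hC.isGenericPoint_genericPoint hCc
  set ξ := hC.genericPoint with hξ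
  have hξC : ξ ∈ C := by
    have : ξ ∈ closure ({ξ} : Set X) := subset_closure rfl
    rwa [hgen.def] at this
  have hξZ : ξ ∉ Z := by
    intro h
    apply hne
    apply subset_antisymm hZC
    rw [← hgen.def]
    exact closure_minimal (Set.singleton_subset_iff.mpr h) hZ
  let y₀ : ↥C := ⟨ξ, hξC⟩
  have hy₀ : closure ({y₀} : Set ↥C) = Set.univ := by
    rw [Set.eq_univ_iff_forall]
    intro y
    rw [closure_subtype, Set.image_singleton]
    show (y : X) ∈ closure ({ξ} : Set X)
    rw [hgen.def]
    exact y.2
  let A : Set ↥C := Subtype.val ⁻¹' Z
  have hA : IsClosed A := hZ.preimage continuous_subtype_val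
  have hy₀A : y₀ ∉ A := hξZ
  haveI : Nonempty ↥A := by
    obtain ⟨z, hz⟩ := hZne
    exact ⟨⟨⟨z, hZC hz⟩, hz⟩⟩
  have key := Groth.Agent.Helper16.FibCl.topologicalKrullDim_add_one_le_of_closed y₀ hy₀ A hA hy₀A
  have himg : Subtype.val '' A = Z := by
    rw [Subtype.image_preimage_coe]
    exact Set.inter_eq_right.mpr hZC
  have h1 : topologicalKrullDim ↥A = topologicalKrullDim ↥(Subtype.val '' A) :=
    IsHomeomorph.topologicalKrullDim_eq _
      (IsEmbedding.subtypeVal.homeomorphImage A).isHomeomorph
  rw [h1, himg] at key
  exact key

end Top

section Grp

variable {k : Type u} [Field k] (G H : Over (Spec (CommRingCat.of k))) [GrpObj G] [GrpObj H]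

theorem unit_pt_eq (t : ↥((𝟙_ (Over (Spec (CommRingCat.of k)))).left)) :
    η[G].left.base t = η[G].left (IsLocalRing.closedPoint k) :=
  congrArg _ (@Subsingleton.elim _ (inferInstanceAs (Subsingleton (PrimeSpectrum k))) _ _)

variable [LocallyOfFiniteType G.hom]

theorem dim_lt_top : topologicalKrullDim G.left < ⊤ := by
  haveI : IsLocallyNoetherian G.left := LocallyOfFiniteType.isLocallyNoetherian G.hom
  rw [Groth.Agent.Helper12.GrpDim.dim_eq_ringKrullDim_unit G]
  exact ringKrullDim_lt_top

theorem isOpen_cc (x : G.left) : IsOpen (connectedComponent x) := by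
  haveI : IsLocallyNoetherian G.left := LocallyOfFiniteType.isLocallyNoetherian G.hom
  exact Groth.Agent.Helper14.SectionComp.isOpen_connectedComponent G.left x

/-- the dimension of any connected component equals the dimension of the group -/
theorem dim_le_dim_cc (x : G.left) :
    topologicalKrullDim G.left ≤ topologicalKrullDim ↥(connectedComponent x) := by
  rw [← Groth.Agent.Helper12.GrpDim.localDim_eq_dim G x]
  unfold FlatMor.localDim
  exact iInf_le _ (⟨⟨connectedComponent x, isOpen_cc G x⟩, mem_connectedComponent⟩ :
    {U : TopologicalSpace.Opens G.left // x ∈ U})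

variable [LocallyOfFiniteType H.hom]

/-- a homomorphism of group schemes locally of finite type over a field which is a closed
immersion, between groups of the same dimension, maps the identity component onto the identity
component -/
theorem image_cc_unit (u : G ⟶ H) [IsMonHom u] [IsClosedImmersion u.left]
    (hdim : topologicalKrullDim ↥G.left = topologicalKrullDim ↥H.left)
    (t : ↥((𝟙_ (Over (Spec (CommRingCat.of k)))).left)) :
    ⇑u.left.base '' connectedComponent (η[G].left.base t) =
      connectedComponent (η[H].left.base t) := by
  set eG := η[G].left.base t with heG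
  set eH := η[H].left.base t with heH
  have hue : u.left.base eG = eH := by
    have h := IsMonHom.one_hom u
    have h2 := congrArg (fun f => f.left.base t) h
    exact h2
  have hcont : Continuous u.left.base := u.left.continuous
  have hsub : ⇑u.left.base '' connectedComponent eG ⊆ connectedComponent eH := by
    apply IsPreconnected.subset_connectedComponent
    · exact (isPreconnected_connectedComponent.image _ hcont.continuousOn)
    · exact ⟨eG, mem_connectedComponent, hue⟩
  by_contra hne
  have hemb : IsClosedEmbedding u.left.base := u.left.isClosedEmbedding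
  have hZc : IsClosed (⇑u.left.base '' connectedComponent eG) :=
    hemb.isClosedMap _ isClosed_connectedComponent
  have hirr : IsIrreducible (connectedComponent eH) := by
    have := (Groth.Agent.Helper4.GrpConn.connectedComponent_unit_irreducible_compact H).1
    have he : Groth.Agent.Helper4.GrpConn.ept H = eH := by
      rw [heH, unit_pt_eq H t]
    rwa [he] at this
  have key := dim_add_one_le (connectedComponent eH) (⇑u.left.base '' connectedComponent eG) hirr
    isClosed_connectedComponent hZc hsub hne ⟨eH, eG, mem_connectedComponent, hue⟩
  have h1 : topologicalKrullDim ↥(⇑u.left.base '' connectedComponent eG) =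
      topologicalKrullDim ↥(connectedComponent eG) :=
    (IsHomeomorph.topologicalKrullDim_eq _
      (hemb.isEmbedding.homeomorphImage (connectedComponent eG)).isHomeomorph).symm
  have h2 := dim_le_dim_cc G eG
  have h3 : topologicalKrullDim ↥(connectedComponent eH) ≤ topologicalKrullDim H.left :=
    topologicalKrullDim_subspace_le _ _
  have hfin := dim_lt_top G
  have h4 : topologicalKrullDim G.left + 1 ≤ topologicalKrullDim G.left := by
    calc topologicalKrullDim G.left + 1
        ≤ topologicalKrullDim ↥(connectedComponent eG) + 1 := by gcongr
      _ = topologicalKrullDim ↥(⇑u.left.base '' connectedComponent eG) + 1 := by rw [h1]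
      _ ≤ topologicalKrullDim ↥(connectedComponent eH) := key
      _ ≤ topologicalKrullDim H.left := h3
      _ = topologicalKrullDim G.left := hdim.symm
  have h5 : (0 : WithBot ℕ∞) ≤ topologicalKrullDim G.left := by
    haveI : Nonempty G.left := ⟨eG⟩
    exact Groth.Agent.Helper3.LocalDim.topologicalKrullDim_nonneg _
  -- contradiction: a finite nonnegative dimension cannot satisfy d + 1 ≤ d
  revert h4 h5 hfin
  generalize topologicalKrullDim G.left = d
  intro hfin h4 h5
  induction d using WithBot.recBotCoe with
  | bot => simp at h5
  | coe d =>
    induction d using ENat.recTopCoe with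
    | top => exact absurd hfin (by simp)
    | coe n =>
      have : ((n + 1 : ℕ) : WithBot ℕ∞) ≤ (n : WithBot ℕ∞) := by exact_mod_cast h4
      have h6 : n + 1 ≤ n := by exact_mod_cast this
      omega

end Grp

end Groth.Agent.Helper12.CompDim
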