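import Groth.Agent.Lib.Helper12.DimOneLocal2
import Groth.Prelude.Def_CAlg

set_option autoImplicit false

namespace Groth.Agent.Helper12.DimOne

universe u

open IsLocalRing

variable {A : Type u} [CommRing A] [IsLocalRing A]

/-- The maximal ideal is not an associated prime. -/
def NoSocle (A : Type u) [CommRing A] [IsLocalRing A] : Prop :=
  ∀ x : A, (∀ g ∈ maximalIdeal A, g * x = 0) → x = 0

theorem noSocle_of_depth (h : LocCoh.depth A A = 1) : NoSocle A := by
  unfold LocCoh.depth LocCoh.idealDepth at h
  have hne : ¬ maximalIdeal A • (⊤ : Submodule A A) = ⊤ := by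
    rw [smul_eq_mul, Ideal.mul_top]
    exact Ideal.IsPrime.ne_top inferInstance
  rw [if_neg hne] at h
  obtain ⟨rs, hreg, hlen⟩ : ∃ rs : List A,
      (RingTheory.Sequence.IsWeaklyRegular A rs ∧ ∀ r ∈ rs, r ∈ maximalIdeal A) ∧
        rs.length ≠ 0 := by
    by_contra hcon
    push Not at hcon
    have hle : (⨆ (rs : List A) (_ : RingTheory.Sequence.IsWeaklyRegular A rs ∧
        ∀ r ∈ rs, r ∈ maximalIdeal A), (rs.length : ℕ∞)) ≤ 0 := by
      refine iSup₂_le fun rs hrs => ?_
      rw [hcon rs hrs]
      rfl
    rw [h] at hle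
    exact absurd hle (by norm_num)
  cases rs with
  | nil => exact absurd rfl hlen
  | cons r rs' =>
    have hr : IsSMulRegular A r := ((RingTheory.Sequence.isWeaklyRegular_cons_iff A r rs').mp
      hreg.1).1
    have hrm : r ∈ maximalIdeal A := hreg.2 r (List.mem_cons_self)
    intro x hx
    have h0 : r • x = r • (0 : A) := by
      rw [smul_zero, smul_eq_mul]
      exact hx r hrm
    exact hr h0

theorem noSocle_of_isReduced [IsReduced A] (hdim : ringKrullDim A = 1) : NoSocle A := by
  intro x hx
  have hmem : x ∈ nilradical A := by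
    rw [nilradical, ← Ideal.sInf_minimalPrimes, Ideal.mem_sInf]
    intro p hp
    have hpp : p.IsPrime := hp.1.1
    have hnle := not_le_of_mem_minimalPrimes hdim hp
    obtain ⟨g, hgm, hgp⟩ := SetLike.not_le_iff_exists.mp hnle
    have h0 : g * x ∈ p := by
      rw [hx g hgm]
      exact p.zero_mem
    exact (hpp.mem_or_mem h0).resolve_left hgp
  exact (nilradical_eq_zero A ▸ hmem : x ∈ (0 : Ideal A))

variable [IsNoetherianRing A]

theorem mem_nonZeroDivisors_of_notMem (hdim : ringKrullDim A = 1) (hS : NoSocle A) {f : A}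
    (h : ∀ p ∈ minimalPrimes A, f ∉ p) : f ∈ nonZeroDivisors A := by
  rw [mem_nonZeroDivisors_iff_right]
  intro x hx
  by_contra hx0
  obtain ⟨P, hP, hle⟩ := exists_le_isAssociatedPrime_of_isNoetherianRing A x hx0
  have hPp : P.IsPrime := hP.isPrime
  have hfP : f ∈ P := by
    apply hle
    rw [Submodule.mem_colon_singleton, Submodule.mem_bot, smul_eq_mul, mul_comm]
    exact hx
  have hPm : P = maximalIdeal A := by
    rcases prime_cases hdim P with h1 | h1
    · exact absurd hfP (h P h1)
    · exact h1
  obtain ⟨y, hy⟩ := (isAssociatedPrime_iff.mp hP).2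
  have hy0 : y = 0 := by
    apply hS
    intro g hg
    have : g ∈ P := hPm ▸ hg
    rw [hy, Submodule.mem_colon_singleton, Submodule.mem_bot] at this
    exact this
  apply hPp.ne_top
  rw [hy, hy0, Ideal.eq_top_iff_one, Submodule.mem_colon_singleton]
  simp

omit [IsLocalRing A] [IsNoetherianRing A] in
theorem notMem_of_mem_nonZeroDivisors {f : A} (hf : f ∈ nonZeroDivisors A) :
    ∀ p ∈ minimalPrimes A, f ∉ p :=
  fun _ hp hfp => notMem_nonZeroDivisors_of_mem_mem_minimalPrimes hfp hp hf

theorem isLocalization_nonZeroDivisors (hdim : ringKrullDim A = 1) (hS : NoSocle A) {f : A}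
    (hf : f ∈ maximalIdeal A) (h : ∀ p ∈ minimalPrimes A, f ∉ p) :
    IsLocalization (nonZeroDivisors A) (Localization.Away f) := by
  have hfn : f ∈ nonZeroDivisors A := mem_nonZeroDivisors_of_notMem hdim hS h
  refine IsLocalization.of_le (Submonoid.powers f) (nonZeroDivisors A)
    ((Submonoid.powers_le).mpr hfn) ?_
  intro g hg
  by_cases hgu : IsUnit g
  · exact hgu.map _
  · have hgm : g ∈ maximalIdeal A := (IsLocalRing.mem_maximalIdeal g).mpr hgu
    have hrad := radical_span_eq hdim hgm (notMem_of_mem_nonZeroDivisors hg)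
    have hfr : f ∈ (Ideal.span {g}).radical := hrad ▸ hf
    obtain ⟨n, hn⟩ := hfr
    obtain ⟨c, hc⟩ := Ideal.mem_span_singleton'.mp hn
    have hu : IsUnit (algebraMap A (Localization.Away f) (c * g)) := by
      rw [hc, map_pow]
      exact (IsLocalization.Away.algebraMap_isUnit f).pow n
    rw [map_mul] at hu
    exact isUnit_of_mul_isUnit_right hu

omit [IsLocalRing A] [IsNoetherianRing A] in
theorem notMem_of_isLocalization_nonZeroDivisors {f : A}
    (hloc : IsLocalization (nonZeroDivisors A) (Localization.Away f)) :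
    ∀ p ∈ minimalPrimes A, f ∉ p := by
  apply notMem_of_mem_nonZeroDivisors
  have hinj : Function.Injective (algebraMap A (Localization.Away f)) :=
    IsLocalization.injective _ (le_refl (nonZeroDivisors A))
  rw [mem_nonZeroDivisors_iff_right]
  intro x hx
  apply hinj
  have hu : IsUnit (algebraMap A (Localization.Away f) f) :=
    IsLocalization.Away.algebraMap_isUnit f
  have : algebraMap A (Localization.Away f) x * algebraMap A (Localization.Away f) f = 0 := by
    rw [← map_mul, hx, map_zero]
  rw [map_zero]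
  exact (hu.mul_left_eq_zero).mp this

end Groth.Agent.Helper12.DimOne

namespace Groth.Agent.Helper12.DimOne

universe u

open IsLocalRing

variable {A : Type u} [CommRing A]

theorem residue_bijective_of_isReduced [IsReduced A] (p : MinPrime A) :
    Function.Bijective (algebraMap (Localization.AtPrime p.1.asIdeal)
      p.1.asIdeal.ResidueField) := by
  have : Ring.KrullDimLE 0 (Localization.AtPrime p.1.asIdeal) :=
    Ring.KrullDimLE.of_isLocalization p.1.asIdeal p.2 _
  have hF : IsField (Localization.AtPrime p.1.asIdeal) := Ring.KrullDimLE.isField_of_isReduced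
  have hbot : maximalIdeal (Localization.AtPrime p.1.asIdeal) = ⊥ :=
    IsLocalRing.isField_iff_maximalIdeal_eq.mp hF
  constructor
  · rw [injective_iff_map_eq_zero]
    intro x hx
    have : x ∈ maximalIdeal (Localization.AtPrime p.1.asIdeal) :=
      (IsLocalRing.residue_eq_zero_iff x).mp hx
    rw [hbot] at this
    exact this
  · exact IsLocalRing.residue_surjective

/-- For reduced `A`, `∏ A_p ≅ ∏ κ(p)` over the minimal primes. -/
noncomputable def piMinEquivResidue [IsReduced A] :
    PiMin A ≃ₐ[A] (∀ p : MinPrime A, p.1.asIdeal.ResidueField) :=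
  AlgEquiv.piCongrRight fun p =>
    AlgEquiv.ofBijective (IsScalarTower.toAlgHom A (Localization.AtPrime p.1.asIdeal)
      p.1.asIdeal.ResidueField) (residue_bijective_of_isReduced p)

theorem notMem_of_algEquiv_residue {f : A}
    (e : Localization.Away f ≃ₐ[A] (∀ p : MinPrime A, p.1.asIdeal.ResidueField)) :
    ∀ p ∈ minimalPrimes A, f ∉ p := by
  intro p hp
  have hpp : p.IsPrime := hp.1.1
  let P : MinPrime A := ⟨⟨p, hp.1.1⟩, hp⟩
  have h1 : IsUnit (algebraMap A (Localization.Away f) f) :=
    IsLocalization.Away.algebraMap_isUnit f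
  have h2 : IsUnit (algebraMap A (∀ p : MinPrime A, p.1.asIdeal.ResidueField) f) := by
    have := h1.map e
    rwa [e.commutes] at this
  rw [Pi.isUnit_iff] at h2
  have h3 : IsUnit (algebraMap A p.ResidueField f) := h2 P
  intro hfp
  have : algebraMap A p.ResidueField f = 0 := Ideal.algebraMap_residueField_eq_zero.mpr hfp
  rw [this] at h3
  exact not_isUnit_zero h3

end Groth.Agent.Helper12.DimOne
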