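import Mathlib
import Groth.Prelude.Def_Coh
import Groth.Agent.Lib.Helper28.H0Const
import Groth.Agent.Lib.Helper12.CMPoint
import Groth.Agent.Lib.Helper12.DimOneLocal3
import Groth.Agent.Lib.Helper4.CurveDVR
import Groth.Agent.Lib.Helper16.Sch.GenLift1

/-!
# Proper one-dimensional schemes over a field with `H⁰ = k` (helper12)
-/

set_option autoImplicit false
set_option linter.style.haveILetI false

universe u

open AlgebraicGeometry CategoryTheory CategoryTheory.Limits TopologicalSpace Opposite

namespace Groth.Agent.Helper12.CurveH0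

/-- glue a section on `U` vanishing on `U ⊓ V` with zero on `V` -/
theorem exists_glue_zero (X : Scheme.{u}) (U V : X.Opens) (hUV : U ⊔ V = ⊤) (a : Γ(X, U))
    (ha : ∀ (W' : X.Opens) (h : W' ≤ U), W' ≤ V → X.presheaf.map (homOfLE h).op a = 0) :
    ∃ s : Γ(X, ⊤), X.presheaf.map (homOfLE (le_top : U ≤ ⊤)).op s = a ∧
      X.presheaf.map (homOfLE (le_top : V ≤ ⊤)).op s = 0 := by
  let W : Bool → X.Opens := fun b => cond b U V
  let sf : ∀ b : Bool, Γ(X, W b) := fun b =>
    Bool.rec (motive := fun b => Γ(X, W b)) (0 : Γ(X, V)) a b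
  have hcover : (⊤ : X.Opens) ≤ iSup W := by
    rw [← hUV]
    exact sup_le (le_iSup W true) (le_iSup W false)
  have compat : TopCat.Presheaf.IsCompatible X.presheaf W sf := by
    rintro (_ | _) (_ | _)
    · rfl
    · show X.presheaf.map (Opens.infLELeft V U).op (0 : Γ(X, V)) =
        X.presheaf.map (Opens.infLERight V U).op a
      rw [map_zero]
      exact (ha (V ⊓ U) inf_le_right inf_le_left).symm
    · show X.presheaf.map (Opens.infLELeft U V).op a =
        X.presheaf.map (Opens.infLERight U V).op (0 : Γ(X, V))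
      rw [map_zero]
      exact ha (U ⊓ V) inf_le_left inf_le_right
    · rfl
  obtain ⟨s, hs, -⟩ := TopCat.Sheaf.existsUnique_gluing' X.sheaf W ⊤
    (fun b => homOfLE le_top) hcover sf compat
  exact ⟨s, hs true, hs false⟩

/-- a socle element of the local ring at `x` spreads out to a section on an affine neighbourhood
supported on the closure of `x` -/
theorem exists_section_of_socle (X : Scheme.{u}) [IsLocallyNoetherian X] (x : X)
    (a : X.presheaf.stalk x) (ha : a ≠ 0)
    (hm : ∀ g ∈ IsLocalRing.maximalIdeal (X.presheaf.stalk x), g * a = 0) :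
    ∃ (U : X.Opens) (hxU : x ∈ U) (a₁ : Γ(X, U)), X.presheaf.germ U x hxU a₁ ≠ 0 ∧
      ∀ (y : X) (hy : y ∈ U), y ∉ closure ({x} : Set X) → X.presheaf.germ U y hy a₁ = 0 := by
  classical
  obtain ⟨V, hxV, a₀, ha₀⟩ := X.presheaf.exists_germ_eq a
  obtain ⟨U, hU, hxU, hUV⟩ : ∃ U : X.Opens, IsAffineOpen U ∧ x ∈ U ∧ U ≤ V := by
    obtain ⟨_, ⟨U, hU, rfl⟩, hxU, hUV⟩ :=
      X.isBasis_affineOpens.exists_subset_of_mem_open hxV V.isOpen
    exact ⟨U, hU, hxU, hUV⟩
  let a₀' : Γ(X, U) := X.presheaf.map (homOfLE hUV).op a₀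
  have hgerm : X.presheaf.germ U x hxU a₀' = a := by
    rw [← ha₀]
    exact TopCat.Presheaf.germ_res_apply X.presheaf (homOfLE hUV) x hxU a₀
  haveI : IsNoetherianRing Γ(X, U) := IsLocallyNoetherian.component_noetherian ⟨U, hU⟩
  letI := TopCat.Presheaf.algebra_section_stalk X.presheaf (⟨x, hxU⟩ : U)
  haveI hloc : IsLocalization.AtPrime (X.presheaf.stalk x)
      (hU.primeIdealOf ⟨x, hxU⟩).asIdeal := hU.isLocalization_stalk ⟨x, hxU⟩
  obtain ⟨p, hp⟩ : ∃ p : Ideal Γ(X, U), p = (hU.primeIdealOf ⟨x, hxU⟩).asIdeal := ⟨_, rfl⟩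
  haveI hpp : p.IsPrime := by rw [hp]; infer_instance
  have hmemp : ∀ g : Γ(X, U), g ∈ p ↔
      X.presheaf.germ U x hxU g ∈ IsLocalRing.maximalIdeal (X.presheaf.stalk x) := by
    intro g
    rw [hp]
    exact (IsLocalization.AtPrime.to_map_mem_maximal_iff (X.presheaf.stalk x)
      (hU.primeIdealOf ⟨x, hxU⟩).asIdeal g).symm
  have key : ∀ g : Γ(X, U), g ∈ p → ∃ t : Γ(X, U), t ∉ p ∧ t * (g * a₀') = 0 := by
    intro g hg
    have h1 : algebraMap Γ(X, U) (X.presheaf.stalk x) (g * a₀') = 0 := by
      rw [map_mul]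
      show X.presheaf.germ U x hxU g * X.presheaf.germ U x hxU a₀' = 0
      rw [hgerm]
      exact hm _ ((hmemp g).mp hg)
    obtain ⟨⟨t, ht⟩, htg⟩ := (IsLocalization.map_eq_zero_iff
      (hU.primeIdealOf ⟨x, hxU⟩).asIdeal.primeCompl (X.presheaf.stalk x) _).mp h1
    exact ⟨t, by rw [hp]; exact ht, htg⟩
  obtain ⟨T, hT⟩ : p.FG := (isNoetherianRing_iff_ideal_fg _).mp inferInstance p
  choose! t ht1 ht2 using key
  let τ : Γ(X, U) := ∏ g ∈ T, t g
  have hTp : ∀ g ∈ T, g ∈ p := fun g hg => hT ▸ Ideal.subset_span hg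
  have hτ : τ ∉ p := by
    intro h
    obtain ⟨g, hgT, hg⟩ := (Ideal.IsPrime.prod_mem_iff (hp := hpp)).mp h
    exact ht1 g (hTp g hgT) hg
  let a₁ : Γ(X, U) := τ * a₀'
  have hkill : ∀ g ∈ p, g * a₁ = 0 := by
    intro g hg
    rw [← hT] at hg
    induction hg using Submodule.span_induction with
    | mem g hgT =>
      have h1 : τ = (∏ g' ∈ T.erase g, t g') * t g := by
        simp only [τ]
        rw [Finset.prod_erase_mul T t hgT]
      show g * (τ * a₀') = 0
      rw [h1]
      calc g * ((∏ g' ∈ T.erase g, t g') * t g * a₀')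
          = (∏ g' ∈ T.erase g, t g') * (t g * (g * a₀')) := by ring
        _ = 0 := by rw [ht2 g (hTp g hgT), mul_zero]
    | zero => rw [zero_mul]
    | add g₁ g₂ _ _ h1 h2 => rw [add_mul, h1, h2, add_zero]
    | smul c g _ h1 => rw [smul_eq_mul, mul_assoc, h1, mul_zero]
  refine ⟨U, hxU, a₁, ?_, ?_⟩
  · show X.presheaf.germ U x hxU (τ * a₀') ≠ 0
    rw [map_mul, hgerm]
    have hu : IsUnit (X.presheaf.germ U x hxU τ) := by
      have := (IsLocalRing.notMem_maximalIdeal (R := X.presheaf.stalk x)).mp
        (fun h => hτ ((hmemp τ).mpr h))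
      exact this
    intro h
    exact ha ((hu.mul_right_eq_zero).mp h)
  · intro y hy hycl
    let V' : X.Opens := ⟨(closure ({x} : Set X))ᶜ, isClosed_closure.isOpen_compl⟩
    obtain ⟨g, hgV, hyg⟩ := hU.exists_basicOpen_le (V := V') ⟨y, hycl⟩ hy
    have hxg : x ∉ X.basicOpen g := fun h => hgV h (subset_closure rfl)
    have hgp : g ∈ p := by
      rw [hmemp g, IsLocalRing.mem_maximalIdeal, mem_nonunits_iff]
      intro hu
      exact hxg ((X.mem_basicOpen g x hxU).mpr hu)
    have h0 : X.presheaf.germ U y hy g * X.presheaf.germ U y hy a₁ = 0 := by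
      rw [← map_mul, hkill g hgp, map_zero]
    have hu : IsUnit (X.presheaf.germ U y hy g) := (X.mem_basicOpen g y hy).mp hyg
    exact (hu.mul_right_eq_zero).mp h0

/-- a proper generization of a point of a scheme of dimension `≤ 1` has a zero-dimensional
local ring -/
theorem dim_stalk_le_zero_of_specializes_ne (X : Scheme.{u}) (hdim : topologicalKrullDim X ≤ 1)
    {x' x : X} (h : x' ⤳ x) (hne : x' ≠ x) : ringKrullDim (X.presheaf.stalk x') ≤ 0 := by
  obtain ⟨P, hP⟩ : x' ∈ Set.range (X.fromSpecStalk x) := by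
    rw [Scheme.range_fromSpecStalk]
    exact h
  rw [← hP, Groth.Agent.Helper16.GenLift.ringKrullDim_stalk_fromSpecStalk]
  haveI := P.isPrime
  have hle : P.asIdeal ≤ IsLocalRing.maximalIdeal (X.presheaf.stalk x) :=
    IsLocalRing.le_maximalIdeal P.isPrime.ne_top
  have hlt : P.asIdeal < IsLocalRing.maximalIdeal (X.presheaf.stalk x) := by
    refine lt_of_le_of_ne hle ?_
    intro heq
    apply hne
    rw [← hP]
    have : P = IsLocalRing.closedPoint (X.presheaf.stalk x) := PrimeSpectrum.ext heq
    rw [this, Scheme.fromSpecStalk_closedPoint]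
  have h1 : ringKrullDim (X.presheaf.stalk x) ≤ 1 :=
    Groth.Agent.Helper4.CurveDVR.ringKrullDim_stalk_le_one hdim x
  have h2 : (IsLocalRing.maximalIdeal (X.presheaf.stalk x)).height ≤ 1 := by
    have h3 := Ideal.height_le_ringKrullDim_of_ne_top
      (Ideal.IsPrime.ne_top (inferInstance :
        (IsLocalRing.maximalIdeal (X.presheaf.stalk x)).IsPrime))
    have h4 := h3.trans h1
    exact_mod_cast h4
  haveI : (IsLocalRing.maximalIdeal (X.presheaf.stalk x)).FiniteHeight := by
    rw [Ideal.finiteHeight_iff]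
    right
    intro h
    rw [h] at h2
    exact absurd h2 (by simp)
  have h5 := Ideal.height_strict_mono_of_isPrime_of_isPrime hlt
  have h6 : P.asIdeal.height < 1 := lt_of_lt_of_le h5 h2
  have h7 : P.asIdeal.height = 0 := ENat.lt_one_iff_eq_zero.mp h6
  rw [h7]
  rfl

/-- in a scheme of dimension `≤ 1`, points with one-dimensional local ring are closed -/
theorem isClosed_singleton_of_dim_stalk (X : Scheme.{u}) (hdim : topologicalKrullDim X ≤ 1)
    (x : X) (hx : ringKrullDim (X.presheaf.stalk x) = 1) : IsClosed ({x} : Set X) := by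
  rw [← closure_subset_iff_isClosed]
  intro y hy
  by_contra hne
  have h1 := dim_stalk_le_zero_of_specializes_ne X hdim (specializes_iff_mem_closure.mpr hy)
    (fun h => hne h.symm)
  rw [hx] at h1
  exact absurd h1 (by simp)

/-- a Noetherian local ring of dimension one whose maximal ideal is not associated is
Cohen–Macaulay -/
theorem isCM_of_dim_one_noSocle (A : Type u) [CommRing A] [IsNoetherianRing A] [IsLocalRing A]
    (hdim : ringKrullDim A = 1) (hS : Groth.Agent.Helper12.DimOne.NoSocle A) :
    LocCoh.IsCohenMacaulayLocalRing A := by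
  obtain ⟨f, hfm, hf⟩ := Groth.Agent.Helper12.DimOne.exists_notMem_minimalPrimes hdim
  have hfnzd : f ∈ nonZeroDivisors A :=
    Groth.Agent.Helper12.DimOne.mem_nonZeroDivisors_of_notMem hdim hS hf
  have hne : Ideal.span {f} ≠ (⊤ : Ideal A) := by
    intro h
    have : (1 : A) ∈ Ideal.span {f} := h ▸ Submodule.mem_top
    have h2 : Ideal.span {f} ≤ IsLocalRing.maximalIdeal A :=
      (Ideal.span_singleton_le_iff_mem _).mpr hfm
    exact (Ideal.IsPrime.ne_top (inferInstance : (IsLocalRing.maximalIdeal A).IsPrime))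
      ((Ideal.eq_top_iff_one _).mpr (h2 this))
  haveI : Nontrivial (A ⧸ Ideal.span {f}) := Ideal.Quotient.nontrivial_iff.mpr hne
  haveI : IsLocalRing (A ⧸ Ideal.span {f}) :=
    IsLocalRing.of_surjective' (Ideal.Quotient.mk (Ideal.span {f})) Ideal.Quotient.mk_surjective
  have hd0 : ringKrullDim (A ⧸ Ideal.span {f}) = 0 := by
    have h1 := ringKrullDim_quotient_succ_le_of_nonZeroDivisor hfnzd
    rw [hdim] at h1
    have h2 : (0 : WithBot ℕ∞) ≤ ringKrullDim (A ⧸ Ideal.span {f}) := ringKrullDim_nonneg_of_nontrivial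
    refine le_antisymm ?_ h2
    generalize ringKrullDim (A ⧸ Ideal.span {f}) = d at h1 h2 ⊢
    induction d using WithBot.recBotCoe with
    | bot => exact absurd h2 (by simp)
    | coe n =>
      have h3 : n + 1 ≤ (1 : ℕ∞) := by exact_mod_cast h1
      have h4 : n = 0 := by
        induction n using ENat.recTopCoe with
        | top => exact absurd h3 (by simp)
        | coe m =>
          have : m + 1 ≤ 1 := by exact_mod_cast h3
          have : m = 0 := by omega
          simp [this]
      rw [h4]
      rfl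
  exact Groth.Agent.Helper12.CMPoint.isCM_of_quotient A (A ⧸ Ideal.span {f})
    (Ideal.Quotient.mk (Ideal.span {f})) Ideal.Quotient.mk_surjective f hfnzd Ideal.mk_ker
    (Groth.Agent.Helper12.CMPoint.isCM_of_dim_zero _ hd0)

open Groth.Agent.Helper28.H0Const in
/-- if `H⁰(X, O_X)` is one-dimensional over `k` then every global function is a constant -/
theorem exists_toGlobal_eq (k : Type u) [Field k] (X : Scheme.{u})
    [X.Over (Spec (CommRingCat.of k))]
    (h0 : Module.finrank k (Coh.HH X (Coh.structureModule X) 0) = 1) (s : Coh.Γtop X) :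
    ∃ c : k, Coh.toGlobal (X ↘ Spec (CommRingCat.of k)) c = s := by
  obtain ⟨v, hv, hspan⟩ := finrank_eq_one_iff'.mp h0
  have hsmul : ∀ (c : k) (x : Coh.HH X (Coh.structureModule X) 0),
      h0Equiv X (c • x) = Coh.toGlobal (X ↘ Spec (CommRingCat.of k)) c * h0Equiv X x :=
    fun c x => h0Equiv_smul X _ x
  obtain ⟨g, hg⟩ : ∃ g, g = h0Equiv X v := ⟨_, rfl⟩
  obtain ⟨c₀, hc₀⟩ := hspan ((h0Equiv X).symm 1)
  have h1 : Coh.toGlobal (X ↘ Spec (CommRingCat.of k)) c₀ * g = 1 := by
    rw [hg, ← hsmul, hc₀, AddEquiv.apply_symm_apply]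
  obtain ⟨c, hc⟩ := hspan ((h0Equiv X).symm s)
  have h2 : Coh.toGlobal (X ↘ Spec (CommRingCat.of k)) c * g = s := by
    rw [hg, ← hsmul, hc, AddEquiv.apply_symm_apply]
  have hc₀ne : c₀ ≠ 0 := by
    intro h
    rw [h, map_zero, zero_mul] at h1
    apply hv
    apply (h0Equiv X).injective
    rw [map_zero, ← hg]
    calc g = g * 1 := (mul_one g).symm
      _ = g * 0 := by rw [h1]
      _ = 0 := mul_zero g
  have hg' : g = Coh.toGlobal (X ↘ Spec (CommRingCat.of k)) c₀⁻¹ := by
    calc g = Coh.toGlobal (X ↘ Spec (CommRingCat.of k)) (c₀⁻¹ * c₀) * g := by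
          rw [inv_mul_cancel₀ hc₀ne, map_one, one_mul]
      _ = Coh.toGlobal (X ↘ Spec (CommRingCat.of k)) c₀⁻¹ *
          (Coh.toGlobal (X ↘ Spec (CommRingCat.of k)) c₀ * g) := by rw [map_mul, mul_assoc]
      _ = Coh.toGlobal (X ↘ Spec (CommRingCat.of k)) c₀⁻¹ := by rw [h1, mul_one]
  exact ⟨c * c₀⁻¹, by rw [map_mul, ← hg', h2]⟩

/-- a subsingleton space has dimension `≤ 0` -/
theorem topologicalKrullDim_le_zero_of_subsingleton (T : Type*) [TopologicalSpace T]
    [Subsingleton T] : topologicalKrullDim T ≤ 0 := by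
  haveI : Subsingleton (IrreducibleCloseds T) := by
    constructor
    intro a b
    apply SetLike.coe_injective
    have ha : (a : Set T) = Set.univ := by
      obtain ⟨t, ht⟩ := a.isIrreducible'.nonempty
      exact Set.eq_univ_of_forall fun y => by rw [Subsingleton.elim y t]; exact ht
    have hb : (b : Set T) = Set.univ := by
      obtain ⟨t, ht⟩ := b.isIrreducible'.nonempty
      exact Set.eq_univ_of_forall fun y => by rw [Subsingleton.elim y t]; exact ht
    rw [ha, hb]
  exact Order.krullDim_nonpos_of_subsingleton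

/-- if every global function is zero or a unit, a nonzero section on an open `U` whose germs
vanish outside a closed subset `Z ⊆ U` forces `Z` to be everything -/
theorem eq_univ_of_section (X : Scheme.{u}) (hunit : ∀ s : Γ(X, ⊤), s = 0 ∨ IsUnit s)
    (U : X.Opens) (Z : Set X) (hZ : IsClosed Z) (hZU : Z ⊆ U) (a : Γ(X, U)) (ha0 : a ≠ 0)
    (ha : ∀ (y : X) (hy : y ∈ U), y ∉ Z → X.presheaf.germ U y hy a = 0) : Z = Set.univ := by
  let V : X.Opens := ⟨Zᶜ, hZ.isOpen_compl⟩
  have hUV : U ⊔ V = ⊤ := by
    ext y
    simp only [Opens.coe_sup, Opens.coe_top, Set.mem_union, Set.mem_univ, iff_true]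
    by_cases hy : y ∈ Z
    · exact Or.inl (hZU hy)
    · exact Or.inr hy
  have ha' : ∀ (W' : X.Opens) (h : W' ≤ U), W' ≤ V →
      X.presheaf.map (homOfLE h).op a = 0 := by
    intro W' h hV
    apply TopCat.Presheaf.section_ext X.sheaf W'
    intro y hy
    show X.presheaf.germ W' y hy (X.presheaf.map (homOfLE h).op a) =
      X.presheaf.germ W' y hy (0 : Γ(X, W'))
    rw [map_zero]
    exact (TopCat.Presheaf.germ_res_apply X.presheaf (homOfLE h) y hy a).trans
      (ha y (h hy) (hV hy))
  obtain ⟨s, hs1, hs2⟩ := exists_glue_zero X U V hUV a ha'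
  have hs0 : s ≠ 0 := by
    intro h
    apply ha0
    rw [← hs1, h, map_zero]
  have hsu : IsUnit s := (hunit s).resolve_left hs0
  apply Set.eq_univ_of_forall
  intro y
  by_contra hy
  have hyV : y ∈ V := hy
  have h1 : X.presheaf.germ ⊤ y trivial s = 0 := by
    have := TopCat.Presheaf.germ_res_apply X.presheaf (homOfLE (le_top : V ≤ ⊤)) y hyV s
    rw [← this, hs2, map_zero]
  have h2 : IsUnit (X.presheaf.germ ⊤ y trivial s) := hsu.map _
  rw [h1] at h2
  exact not_isUnit_zero h2

theorem eq_zero_of_le_one_of_ne (d : WithBot ℕ∞) (h0 : 0 ≤ d) (h1 : d ≤ 1) (hne : d ≠ 1) :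
    d = 0 := by
  induction d using WithBot.recBotCoe with
  | bot => exact absurd h0 (by simp)
  | coe n =>
    have h1' : n ≤ (1 : ℕ∞) := by exact_mod_cast h1
    have hne' : n ≠ 1 := fun h => hne (by rw [h]; rfl)
    induction n using ENat.recTopCoe with
    | top => exact absurd h1' (by simp)
    | coe m =>
      have h2 : m ≤ 1 := by exact_mod_cast h1'
      have h3 : m ≠ 1 := fun h => hne' (by rw [h]; rfl)
      have : m = 0 := by omega
      rw [this]
      rfl

set_option maxHeartbeats 800000 in
/-- a proper scheme of dimension one over a field with `H⁰ = k` is connected, Cohen–Macaulay and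
equidimensional -/
theorem main (k : Type u) [Field k] (X : Scheme.{u}) [X.Over (Spec (CommRingCat.of k))]
    [IsProper (X ↘ (Spec (CommRingCat.of k)))] (hdim : topologicalKrullDim X = 1)
    (h0 : Module.finrank k (Coh.HH X (Coh.structureModule X) 0) = 1) :
    ConnectedSpace X ∧ (∀ x : X, LocCoh.IsCohenMacaulayLocalRing (X.presheaf.stalk x)) ∧
      ∀ Z ∈ irreducibleComponents (X : Type u), topologicalKrullDim Z = 1 := by
  haveI : IsLocallyNoetherian X :=
    LocallyOfFiniteType.isLocallyNoetherian (X ↘ Spec (CommRingCat.of k))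
  haveI : CompactSpace X :=
    QuasiCompact.compactSpace_of_compactSpace (X ↘ Spec (CommRingCat.of k))
  haveI : IsNoetherian X := {}
  haveI : NoetherianSpace X := inferInstance
  have hns : ¬ Subsingleton X := fun h => by
    have := topologicalKrullDim_le_zero_of_subsingleton X
    rw [hdim] at this
    exact absurd this (by decide)
  have hunit : ∀ s : Γ(X, ⊤), s = 0 ∨ IsUnit s := by
    intro s
    obtain ⟨c, hc⟩ := exists_toGlobal_eq k X h0 s
    by_cases h : c = 0
    · left
      rw [← hc, h]
      exact map_zero _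
    · right
      rw [← hc]
      exact (IsUnit.mk0 c h).map _
  have hne : Nonempty X := by
    by_contra h
    rw [not_nonempty_iff] at h
    exact hns inferInstance
  have hconn : ConnectedSpace X := by
    haveI : PreconnectedSpace X := by
      constructor
      rintro u v hu hv huv ⟨x, -, hxu⟩ ⟨y, -, hyv⟩
      by_contra hcon
      rw [Set.univ_inter, Set.not_nonempty_iff_eq_empty] at hcon
      have hucl : IsClosed u := by
        have : u = vᶜ := by
          ext z
          constructor
          · intro hz hzv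
            have : z ∈ u ∩ v := ⟨hz, hzv⟩
            rw [hcon] at this
            exact this
          · intro hz
            rcases huv (Set.mem_univ z) with h | h
            · exact h
            · exact absurd h hz
        rw [this]
        exact hv.isClosed_compl
      let U : X.Opens := ⟨u, hu⟩
      haveI : Nonempty U := ⟨⟨x, hxu⟩⟩
      haveI : Nontrivial Γ(X, U) := Scheme.component_nontrivial X U
      have huniv := eq_univ_of_section X hunit U u hucl (le_refl _) 1 one_ne_zero
        (fun y hy hyu => absurd hy hyu)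
      have hyu : y ∈ u := huniv ▸ Set.mem_univ y
      have : y ∈ u ∩ v := ⟨hyu, hyv⟩
      rw [hcon] at this
      exact this
    exact ⟨hne⟩
  refine ⟨hconn, ?_, ?_⟩
  · intro x
    have hle := Groth.Agent.Helper4.CurveDVR.ringKrullDim_stalk_le_one hdim.le x
    by_cases h1 : ringKrullDim (X.presheaf.stalk x) = 1
    · apply isCM_of_dim_one_noSocle _ h1
      intro a hma
      by_contra ha
      obtain ⟨U, hxU, a₁, ha₁, hvan⟩ := exists_section_of_socle X x a ha hma
      have hcl : IsClosed ({x} : Set X) := isClosed_singleton_of_dim_stalk X hdim.le x h1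
      rw [hcl.closure_eq] at hvan
      have huniv := eq_univ_of_section X hunit U {x} hcl (by simpa using hxU) a₁
        (fun h => ha₁ (by rw [h, map_zero])) hvan
      apply hns
      constructor
      intro p q
      have hp : p ∈ ({x} : Set X) := huniv ▸ Set.mem_univ p
      have hq : q ∈ ({x} : Set X) := huniv ▸ Set.mem_univ q
      rw [Set.mem_singleton_iff] at hp hq
      rw [hp, hq]
    · exact Groth.Agent.Helper12.CMPoint.isCM_of_dim_zero _
        (eq_zero_of_le_one_of_ne _ ringKrullDim_nonneg_of_nontrivial hle h1)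
  · intro Z hZ
    have hZirr : IsIrreducible Z := hZ.1
    have hZcl : IsClosed Z := isClosed_of_mem_irreducibleComponents Z hZ
    apply le_antisymm
    · exact (topologicalKrullDim_subspace_le X Z).trans hdim.le
    · obtain ⟨η, hη⟩ := QuasiSober.sober hZirr hZcl
      have hηZ : η ∈ Z := hη.mem
      have hZne : Z ≠ {η} := by
        intro hZη
        have hopen : IsOpen ({η} : Set X) := by
          have hfin := NoetherianSpace.finite_irreducibleComponents (α := X)
          have hcompl : ({η} : Set X)ᶜ = ⋃₀ (irreducibleComponents X \ {Z}) := by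
            ext y
            constructor
            · intro hy
              refine ⟨irreducibleComponent y,
                ⟨irreducibleComponent_mem_irreducibleComponents y, ?_⟩, mem_irreducibleComponent⟩
              intro h
              rw [Set.mem_singleton_iff] at h
              apply hy
              have : y ∈ Z := h ▸ mem_irreducibleComponent
              rw [hZη] at this
              exact this
            · rintro ⟨Z', ⟨hZ', hne'⟩, hyZ'⟩ hyη
              rw [Set.mem_singleton_iff] at hyη
              apply hne'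
              rw [Set.mem_singleton_iff]
              have hsub : Z ⊆ Z' := by
                rw [hZη]
                intro w hw
                rw [Set.mem_singleton_iff] at hw
                rw [hw, ← hyη]
                exact hyZ'
              exact (hsub.antisymm (hZ.2 hZ'.1 hsub)).symm
          rw [← isClosed_compl_iff, hcompl, Set.sUnion_eq_biUnion]
          exact (hfin.subset Set.diff_subset).isClosed_biUnion
            (fun Z' hZ' => isClosed_of_mem_irreducibleComponents Z' hZ'.1)
        have huniv : ({η} : Set X) = Set.univ :=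
          (isClopen_iff.mp ⟨hZη ▸ hZcl, hopen⟩).resolve_left (Set.singleton_ne_empty η)
        apply hns
        constructor
        intro p q
        have hp : p ∈ ({η} : Set X) := huniv ▸ Set.mem_univ p
        have hq : q ∈ ({η} : Set X) := huniv ▸ Set.mem_univ q
        rw [Set.mem_singleton_iff] at hp hq
        rw [hp, hq]
      obtain ⟨z, hzZ, hzη⟩ : ∃ z ∈ Z, z ≠ η := by
        by_contra hcon
        push Not at hcon
        apply hZne
        ext y
        constructor
        · intro hy
          exact hcon y hy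
        · intro hy
          rw [Set.mem_singleton_iff] at hy
          rw [hy]
          exact hηZ
      rw [topologicalKrullDim, Order.one_le_krullDim_iff]
      haveI : IrreducibleSpace Z := Subtype.irreducibleSpace hZirr
      let b : IrreducibleCloseds Z := ⟨Set.univ, IrreducibleSpace.isIrreducible_univ Z,
        isClosed_univ⟩
      let a : IrreducibleCloseds Z := ⟨closure {⟨z, hzZ⟩}, isIrreducible_singleton.closure,
        isClosed_closure⟩
      refine ⟨a, b, ?_⟩
      rw [lt_iff_le_and_ne]
      refine ⟨fun _ _ => trivial, ?_⟩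
      intro hab
      have hηa : (⟨η, hηZ⟩ : Z) ∈ (a : Set Z) := by
        rw [hab]
        trivial
      have hηcl : η ∈ closure ({z} : Set X) := by
        have h1 : (⟨η, hηZ⟩ : Z) ∈ closure ({⟨z, hzZ⟩} : Set Z) := hηa
        have h2 := closure_subtype.mp h1
        simpa using h2
      have h1 : z ⤳ η := specializes_iff_mem_closure.mpr hηcl
      have h2 : η ⤳ z := specializes_iff_mem_closure.mpr (hη.def ▸ hzZ)
      exact hzη (h1.antisymm h2).eq

end Groth.Agent.Helper12.CurveH0
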