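import Mathlib

/-!
# Closed points of the generic fibre specializing to a given closed point (Dedekind base) (helper12)
-/

set_option autoImplicit false
universe u
open CategoryTheory CategoryTheory.Limits AlgebraicGeometry TopologicalSpace

noncomputable section

namespace Groth.Agent.Helper12.DedGen

section alg

variable {R B : Type*} [CommRing R] [IsDedekindDomain R] [CommRing B] [IsDomain B] [Algebra R B]
  [Algebra.FiniteType R B]

/-- nonzero primes below `n` contract to `P = n ∩ R`. -/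
theorem comap_eq_of_le (n : Ideal B) [n.IsMaximal]
    (hmax : ∀ q : Ideal B, q.IsPrime → q ≠ ⊥ → q ≤ n → q.comap (algebraMap R B) ≠ ⊥)
    (q : Ideal B) [q.IsPrime] (hq : q ≠ ⊥) (hqn : q ≤ n) :
    q.comap (algebraMap R B) = n.comap (algebraMap R B) := by
  have h1 := hmax q inferInstance hq hqn
  have h2 : (q.comap (algebraMap R B)).IsMaximal := Ideal.IsPrime.isMaximal inferInstance h1
  exact h2.eq_of_le (Ideal.comap_ne_top _ (Ideal.IsPrime.ne_top inferInstance))
    (Ideal.comap_mono hqn)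

theorem mem_minimalPrimes (hinj : Function.Injective (algebraMap R B))
    (n : Ideal B) [n.IsMaximal] (hn : n.comap (algebraMap R B) ≠ ⊥)
    (hmax : ∀ q : Ideal B, q.IsPrime → q ≠ ⊥ → q ≤ n → q.comap (algebraMap R B) ≠ ⊥) :
    n ∈ ((n.comap (algebraMap R B)).map (algebraMap R B)).minimalPrimes := by
  classical
  haveI : IsNoetherianRing B := Algebra.FiniteType.isNoetherianRing R B
  refine ⟨⟨inferInstance, Ideal.map_comap_le⟩, ?_⟩
  rintro q ⟨hqp, hPq⟩ hqn
  by_contra hnq
  have hlt : q < n := lt_of_le_of_ne hqn (fun h => hnq (h ▸ le_rfl))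
  obtain ⟨t, ht, ht0⟩ := Submodule.exists_mem_ne_zero_of_ne_bot hn
  set tB : B := algebraMap R B t with htB
  have htB0 : tB ≠ 0 := fun h => ht0 (hinj (h.trans (map_zero _).symm))
  have htq : tB ∈ q := hPq (Ideal.mem_map_of_mem _ ht)
  have hfin := Ideal.finite_minimalPrimes_of_isNoetherianRing B (Ideal.span {tB})
  -- `n` is not contained in any minimal prime over `tB`
  have hnot : ∀ qi ∈ (Ideal.span {tB}).minimalPrimes, ¬ n ≤ qi := by
    intro qi hqi hnqi
    have h1 : qi ≤ q := hqi.2 ⟨hqp, (Ideal.span_singleton_le_iff_mem _).mpr htq⟩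
      (hlt.le.trans hnqi)
    exact absurd (hnqi.trans h1) (not_le_of_gt hlt)
  -- prime avoidance
  have havoid : ¬ ((n : Set B) ⊆ ⋃ i ∈ (↑hfin.toFinset : Set (Ideal B)), (i : Set B)) := by
    intro hsub
    have := (Ideal.subset_union_prime (R := B) (s := hfin.toFinset) (f := fun i => i) ⊥ ⊥
      (fun i hi _ _ => (hfin.mem_toFinset.mp hi).1.1)).mp hsub
    obtain ⟨i, hi, hle⟩ := this
    exact hnot i (hfin.mem_toFinset.mp hi) hle
  obtain ⟨s, hsn, hs⟩ := Set.not_subset.mp havoid
  have hs' : ∀ qi ∈ (Ideal.span {tB}).minimalPrimes, s ∉ qi := by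
    intro qi hqi hsq
    apply hs
    simp only [Set.mem_iUnion]
    exact ⟨qi, by simpa using hqi, hsq⟩
  -- a minimal prime over `s` inside `n`
  obtain ⟨q', hq', hq'n⟩ := Ideal.exists_minimalPrimes_le
    (show Ideal.span {s} ≤ n from (Ideal.span_singleton_le_iff_mem _).mpr hsn)
  haveI : q'.IsPrime := hq'.1.1
  have hsq' : s ∈ q' := hq'.1.2 (Ideal.mem_span_singleton_self s)
  have hht : q'.height ≤ 1 := Ideal.height_le_one_of_isPrincipal_of_mem_minimalPrimes _ _ hq'
  -- existence of a minimal prime over tB below n shows s ≠ 0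
  obtain ⟨q0, hq0, _⟩ := Ideal.exists_minimalPrimes_le
    (show Ideal.span {tB} ≤ n from (Ideal.span_singleton_le_iff_mem _).mpr (hlt.le htq))
  have hs0 : s ≠ 0 := fun h => hs' q0 hq0 (h ▸ q0.zero_mem)
  have hq'0 : q' ≠ ⊥ := fun h => hs0 (by simpa [h] using hsq')
  have htq' : tB ∉ q' := by
    intro htq'
    obtain ⟨qi, hqi, hqiq'⟩ := Ideal.exists_minimalPrimes_le
      (show Ideal.span {tB} ≤ q' from (Ideal.span_singleton_le_iff_mem _).mpr htq')
    haveI : qi.IsPrime := hqi.1.1
    have hqi0 : qi ≠ ⊥ := fun h =>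
      htB0 (by simpa [h] using hqi.1.2 (Ideal.mem_span_singleton_self tB))
    have heq : qi = q' := by
      by_contra hne
      have hlt' : qi < q' := lt_of_le_of_ne hqiq' hne
      have h1 : (⊥ : Ideal B) < qi := bot_lt_iff_ne_bot.mpr hqi0
      have h2 := Ideal.height_strict_mono_of_isPrime_of_isPrime h1
      have h3 := Ideal.height_strict_mono_of_isPrime_of_isPrime hlt'
      have h4 : qi.height < 1 := lt_of_lt_of_le h3 hht
      have h5 : qi.height = 0 := by
        have := ENat.lt_one_iff_eq_zero.mp h4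
        exact this
      rw [h5] at h2
      exact absurd h2 (not_lt_bot)
    exact hs' qi hqi (heq ▸ hsq')
  have hcomap := comap_eq_of_le n hmax q' hq'0 hq'n
  apply htq'
  have : t ∈ q'.comap (algebraMap R B) := hcomap ▸ ht
  exact this

theorem quasiFiniteAt (hinj : Function.Injective (algebraMap R B))
    (n : Ideal B) [n.IsMaximal] (hn : n.comap (algebraMap R B) ≠ ⊥)
    (hmax : ∀ q : Ideal B, q.IsPrime → q ≠ ⊥ → q ≤ n → q.comap (algebraMap R B) ≠ ⊥) :
    Algebra.QuasiFiniteAt R n := by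
  classical
  haveI : IsNoetherianRing B := Algebra.FiniteType.isNoetherianRing R B
  have hmin := mem_minimalPrimes hinj n hn hmax
  set PB : Ideal B := (n.comap (algebraMap R B)).map (algebraMap R B) with hPB
  have hfin := Ideal.finite_minimalPrimes_of_isNoetherianRing B PB
  let y₀ : PrimeSpectrum B := ⟨n, inferInstance⟩
  refine Algebra.QuasiFiniteAt.of_isOpen_singleton_fiber y₀ ?_
  rw [isOpen_induced_iff]
  let C : Set (PrimeSpectrum B) :=
    ⋃ qj ∈ {qj ∈ PB.minimalPrimes | qj ≠ n}, PrimeSpectrum.zeroLocus (qj : Set B)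
  have hC : IsClosed C :=
    (hfin.subset (fun _ h => h.1)).isClosed_biUnion fun _ _ => PrimeSpectrum.isClosed_zeroLocus _
  refine ⟨Cᶜ, hC.isOpen_compl, ?_⟩
  ext ⟨y, hy⟩
  simp only [Set.mem_preimage, Set.mem_compl_iff, Set.mem_singleton_iff, Subtype.mk.injEq]
  constructor
  · intro hyC
    -- y ∈ F, y ∉ C ⟹ y = n
    have hyP : PB ≤ y.asIdeal := by
      rw [hPB, Ideal.map_le_iff_le_comap]
      have : PrimeSpectrum.comap (algebraMap R B) y = PrimeSpectrum.comap (algebraMap R B) y₀ := hy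
      have h2 := congrArg PrimeSpectrum.asIdeal this
      simp only [PrimeSpectrum.comap_asIdeal] at h2
      rw [h2]
    obtain ⟨qj, hqj, hqjy⟩ := Ideal.exists_minimalPrimes_le hyP
    by_cases hqn : qj = n
    · subst hqn
      apply PrimeSpectrum.ext
      exact (Ideal.IsMaximal.eq_of_le inferInstance y.2.ne_top hqjy).symm
    · exfalso
      apply hyC
      simp only [C, Set.mem_iUnion]
      exact ⟨qj, ⟨hqj, hqn⟩, by simpa [PrimeSpectrum.mem_zeroLocus] using hqjy⟩
  · intro hyn
    subst hyn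
    simp only [C, Set.mem_iUnion, not_exists]
    rintro qj ⟨hqj, hqn⟩ hmem
    rw [PrimeSpectrum.mem_zeroLocus] at hmem
    have hle : qj ≤ n := hmem
    exact hqn (le_antisymm hle (hmin.2 hqj.1 hle))

theorem eq_bot_of_comap_eq_bot (hinj : Function.Injective (algebraMap R B))
    (n : Ideal B) [n.IsMaximal] (hn : n.comap (algebraMap R B) ≠ ⊥)
    (hmax : ∀ q : Ideal B, q.IsPrime → q ≠ ⊥ → q ≤ n → q.comap (algebraMap R B) ≠ ⊥)
    (q : Ideal B) [q.IsPrime] (hq : q.comap (algebraMap R B) = ⊥) : q = ⊥ := by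
  classical
  haveI := quasiFiniteAt hinj n hn hmax
  obtain ⟨S', hS', r, hrn, hbij⟩ :=
    Algebra.QuasiFiniteAt.exists_fg_and_exists_notMem_and_awayMap_bijective (R := R) n
  haveI : Module.Finite R S' := ⟨(Submodule.fg_top _).mpr hS'⟩
  haveI : Algebra.IsIntegral R S' := Algebra.IsIntegral.of_finite R S'
  have hr0 : (r : B) ≠ 0 := fun h => hrn (h ▸ n.zero_mem)
  rw [eq_bot_iff]
  intro b hb
  rw [Ideal.mem_bot]
  obtain ⟨y, hy⟩ := hbij.2 (algebraMap B (Localization.Away (S'.val.toRingHom r)) b)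
  obtain ⟨s', ⟨_, N, rfl⟩, rfl⟩ := IsLocalization.exists_mk'_eq (Submonoid.powers r) y
  rw [Localization.awayMap, IsLocalization.Away.map, IsLocalization.map_mk',
    IsLocalization.mk'_eq_iff_eq_mul, ← map_mul] at hy
  have hinjB : Function.Injective (algebraMap B (Localization.Away (S'.val.toRingHom r))) :=
    IsLocalization.injective (M := Submonoid.powers (S'.val.toRingHom r)) _
      (powers_le_nonZeroDivisors_of_noZeroDivisors (show S'.val.toRingHom r ≠ 0 from hr0))
  have hy' := hinjB hy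
  -- hy' : S'.val s' = b * S'.val (r^N)
  let q'' : Ideal S' := q.comap S'.val.toRingHom
  have : q''.IsPrime := Ideal.comap_isPrime _ _
  have hq'' : q''.comap (algebraMap R S') = ⊥ := by
    rw [← hq, Ideal.comap_comap]
    rfl
  have hbot := Ideal.eq_bot_of_comap_eq_bot hq''
  have hs'q : s' ∈ q'' := by
    change S'.val.toRingHom s' ∈ q
    rw [hy']
    exact q.mul_mem_right _ hb
  rw [hbot, Ideal.mem_bot] at hs'q
  rw [hs'q, map_zero] at hy'
  have := mul_eq_zero.mp hy'.symm
  rcases this with h | h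
  · exact h
  · exfalso
    simp only [map_pow] at h
    exact hr0 (pow_eq_zero_iff (M₀ := B) (by
      intro hN; subst hN; simp at h) |>.mp h)

end alg

section core

variable {R A : Type*} [CommRing R] [IsDedekindDomain R] [CommRing A] [Algebra R A]
  [Algebra.FiniteType R A]

theorem core (m : Ideal A) [m.IsMaximal] (p₀ : Ideal A) [p₀.IsPrime] (h0 : p₀ ≤ m)
    (hp₀ : p₀.comap (algebraMap R A) = ⊥) (hm : m.comap (algebraMap R A) ≠ ⊥) :
    ∃ p : Ideal A, p.IsPrime ∧ p ≤ m ∧ p.comap (algebraMap R A) = ⊥ ∧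
      ∀ q : Ideal A, q.IsPrime → p ≤ q → q.comap (algebraMap R A) = ⊥ → q = p := by
  classical
  haveI : IsNoetherianRing A := Algebra.FiniteType.isNoetherianRing R A
  let Sg : Set (Ideal A) := {p | p.IsPrime ∧ p ≤ m ∧ p.comap (algebraMap R A) = ⊥}
  obtain ⟨p, ⟨hpp, hpm, hpR⟩, hpmax⟩ :=
    WellFounded.has_min (wellFounded_gt (α := Ideal A)) Sg ⟨p₀, ‹_›, h0, hp₀⟩
  haveI := hpp
  refine ⟨p, hpp, hpm, hpR, ?_⟩
  let π : A →+* A ⧸ p := Ideal.Quotient.mk p
  have hπ : Function.Surjective π := Ideal.Quotient.mk_surjective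
  have hker : RingHom.ker π = p := Ideal.mk_ker
  have halg : algebraMap R (A ⧸ p) = π.comp (algebraMap R A) := rfl
  have hinj : Function.Injective (algebraMap R (A ⧸ p)) := by
    rw [RingHom.injective_iff_ker_eq_bot, halg, ← RingHom.comap_ker, hker, hpR]
  let n : Ideal (A ⧸ p) := m.map π
  have hncomap : n.comap π = m := by
    rw [Ideal.comap_map_of_surjective π hπ, ← RingHom.ker_eq_comap_bot, hker]
    exact sup_eq_left.mpr hpm
  haveI hnmax : n.IsMaximal := by
    have := Ideal.map_eq_top_or_isMaximal_of_surjective π hπ (inferInstance : m.IsMaximal)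
    rcases this with h | h
    · exfalso
      have h2 : n.comap π = ⊤ := by rw [show n = ⊤ from h, Ideal.comap_top]
      rw [hncomap] at h2
      exact (Ideal.IsMaximal.ne_top inferInstance) h2
    · exact h
  have hnR : n.comap (algebraMap R (A ⧸ p)) = m.comap (algebraMap R A) := by
    rw [halg, ← Ideal.comap_comap, hncomap]
  have hmaxB : ∀ q' : Ideal (A ⧸ p), q'.IsPrime → q' ≠ ⊥ → q' ≤ n →
      q'.comap (algebraMap R (A ⧸ p)) ≠ ⊥ := by
    intro q' hq'p hq'0 hq'n hq'R
    have hq : (q'.comap π) ∈ Sg := by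
      refine ⟨Ideal.comap_isPrime _ _, ?_, ?_⟩
      · rw [← hncomap]; exact Ideal.comap_mono hq'n
      · rw [Ideal.comap_comap, ← halg, hq'R]
    have hle : p ≤ q'.comap π := by
      have h1 : RingHom.ker π ≤ q'.comap π := Ideal.comap_mono bot_le
      rwa [hker] at h1
    have heq : q'.comap π = p := by
      by_contra hne
      exact hpmax _ hq (lt_of_le_of_ne hle (Ne.symm hne))
    apply hq'0
    rw [← Ideal.map_comap_of_surjective π hπ q', heq]
    exact Ideal.map_quotient_self p
  intro q hqp hpq hqR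
  have hq' : (q.map π).IsPrime :=
    Ideal.map_isPrime_of_surjective hπ (by rw [hker]; exact hpq)
  have hqcomap : (q.map π).comap π = q := by
    rw [Ideal.comap_map_of_surjective π hπ, ← RingHom.ker_eq_comap_bot, hker]
    exact sup_eq_left.mpr hpq
  have hq'R : (q.map π).comap (algebraMap R (A ⧸ p)) = ⊥ := by
    rw [halg, ← Ideal.comap_comap, hqcomap, hqR]
  have hbot := eq_bot_of_comap_eq_bot hinj n (hnR ▸ hm) hmaxB (q.map π) hq'R
  rw [← hqcomap, hbot, ← RingHom.ker_eq_comap_bot, hker]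

end core

end Groth.Agent.Helper12.DedGen
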