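import Mathlib
import Groth.Agent.Lib.Helper12.DedGen

/-!
# Closed points of the generic fibre specializing to a given closed point: scheme part (helper12)
-/

set_option autoImplicit false
universe u
open CategoryTheory CategoryTheory.Limits AlgebraicGeometry TopologicalSpace

noncomputable section

namespace Groth.Agent.Helper12.DedGen

theorem main {R : Type u} [CommRing R] [IsDedekindDomain R]
    {X : Scheme.{u}} [IrreducibleSpace X] (f : X ⟶ Spec (CommRingCat.of R))
    [LocallyOfFiniteType f]
    (hdom : DenseRange f) (x' : X) (hx' : IsClosed ({x'} : Set X))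
    (hs : (f x').asIdeal.IsMaximal) :
    ∃ x : X, (f x).asIdeal = ⊥ ∧ (∀ z : X, (f z).asIdeal = ⊥ → x ⤳ z → z = x) ∧ x ⤳ x' := by
  classical
  by_cases hbot : (f x').asIdeal = ⊥
  · refine ⟨x', hbot, ?_, specializes_rfl⟩
    intro z _ hz
    have : z ∈ closure ({x'} : Set X) := hz.mem_closure
    rw [hx'.closure_eq] at this
    exact this
  -- affine chart
  obtain ⟨_, ⟨W, hW : IsAffineOpen W, rfl⟩, hx'W, -⟩ :=
    X.isBasis_affineOpens.exists_subset_of_mem_open (Set.mem_univ x') isOpen_univ
  let j : Spec Γ(X, W) ⟶ X := hW.fromSpec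
  have hjemb : Topology.IsOpenEmbedding j := j.isOpenEmbedding
  have hjrange : Set.range j = W := hW.range_fromSpec
  let φ : CommRingCat.of R ⟶ Γ(X, W) := Spec.preimage (j ≫ f)
  have hφ : Spec.map φ = j ≫ f := Spec.map_preimage _
  algebraize [φ.hom]
  have hft : Algebra.FiniteType R Γ(X, W) := by
    have h1 : LocallyOfFiniteType (Spec.map φ) := by rw [hφ]; infer_instance
    have h2 := (HasRingHomProperty.Spec_iff (P := @LocallyOfFiniteType)).mp h1
    exact h2
  -- contraction formula
  have hcontr : ∀ y : Spec Γ(X, W), (f (j y)).asIdeal = y.asIdeal.comap (algebraMap R Γ(X, W)) := by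
    intro y
    have : f (j y) = (Spec.map φ) y := by rw [hφ]; rfl
    rw [this]
    rfl
  -- points
  obtain ⟨y', hy'⟩ : x' ∈ Set.range j := by rw [hjrange]; exact hx'W
  have hξx' : genericPoint X ⤳ x' := genericPoint_specializes x'
  have hξW : genericPoint X ∈ (W : Set X) := hξx'.mem_open W.2 hx'W
  obtain ⟨yξ, hyξ⟩ : genericPoint X ∈ Set.range j := by rw [hjrange]; exact hξW
  -- f ξ is the generic point
  have hfξ : (f (genericPoint X)).asIdeal = ⊥ := by
    have h1 : closure ({f (genericPoint X)} : Set (Spec (CommRingCat.of R))) = Set.univ := by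
      have h2 : closure (f '' ({genericPoint X} : Set X)) = Set.univ := by
        have h3 := hdom.closure_range
        have h4 : Set.range f ⊆ closure (f '' ({genericPoint X} : Set X)) := by
          rintro _ ⟨a, rfl⟩
          have ha : a ∈ closure ({genericPoint X} : Set X) := by
            rw [genericPoint_spec X]; trivial
          exact image_closure_subset_closure_image f.continuous ⟨a, ha, rfl⟩
        exact Set.eq_univ_of_univ_subset (h3 ▸ closure_minimal h4 isClosed_closure)
      simpa using h2
    have h5 : (⟨⊥, Ideal.isPrime_bot⟩ : PrimeSpectrum R) ∈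
        closure ({f (genericPoint X)} : Set (PrimeSpectrum R)) := by
      change _ ∈ closure ({f (genericPoint X)} : Set (Spec (CommRingCat.of R)))
      rw [h1]; trivial
    have h6 := (PrimeSpectrum.closure_singleton (f (genericPoint X) : PrimeSpectrum R)) ▸ h5
    rw [PrimeSpectrum.mem_zeroLocus] at h6
    exact le_bot_iff.mp h6
  -- ideals
  have hmmax : y'.asIdeal.IsMaximal := by
    rw [← PrimeSpectrum.isClosed_singleton_iff_isMaximal]
    have : ({y'} : Set (Spec Γ(X, W))) = j ⁻¹' {x'} := by
      ext y
      simp only [Set.mem_singleton_iff, Set.mem_preimage]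
      constructor
      · rintro rfl; exact hy'
      · intro h; exact hjemb.injective (h.trans hy'.symm)
    change IsClosed ({y'} : Set (Spec Γ(X, W)))
    rw [this]
    exact hx'.preimage j.continuous
  have hp₀m : yξ.asIdeal ≤ y'.asIdeal := by
    have : yξ ⤳ y' := by
      rw [← hjemb.isInducing.specializes_iff, hyξ, hy']
      exact hξx'
    exact (PrimeSpectrum.le_iff_specializes _ _).mpr this
  have hp₀R : yξ.asIdeal.comap (algebraMap R Γ(X, W)) = ⊥ := by
    rw [← hcontr, hyξ, hfξ]
  have hmR : y'.asIdeal.comap (algebraMap R Γ(X, W)) ≠ ⊥ := by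
    rw [← hcontr, hy']; exact hbot
  obtain ⟨p, hpp, hpm, hpR, hpmax⟩ := core (R := R) y'.asIdeal yξ.asIdeal hp₀m hp₀R hmR
  let y : Spec Γ(X, W) := ⟨p, hpp⟩
  have hfx : (f (j y)).asIdeal = ⊥ := by rw [hcontr]; exact hpR
  have hyy' : y ⤳ y' := (PrimeSpectrum.le_iff_specializes y y').mp hpm
  refine ⟨j y, hfx, ?_, ?_⟩
  swap
  · rw [← hy']; exact hyy'.map j.continuous
  -- closedness in the generic fibre, via Jacobson
  set η := f (j y) with hη
  let G : Set X := f ⁻¹' {η}
  have : JacobsonSpace G :=
    JacobsonSpace.of_isOpenEmbedding (f.fiberHomeo η).symm.isOpenEmbedding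
  let xG : G := ⟨j y, rfl⟩
  have hlc : IsLocallyClosed ({xG} : Set G) := by
    refine ⟨Subtype.val ⁻¹' (W : Set X), closure {xG}, W.2.preimage continuous_subtype_val,
      isClosed_closure, ?_⟩
    ext w
    simp only [Set.mem_singleton_iff, Set.mem_inter_iff, Set.mem_preimage]
    constructor
    · rintro rfl
      refine ⟨?_, subset_closure rfl⟩
      rw [← hjrange]; exact ⟨y, rfl⟩
    · rintro ⟨hwW, hwcl⟩
      have hsp : xG ⤳ w := specializes_iff_mem_closure.mpr hwcl
      have hsp' : j y ⤳ w.1 := hsp.map continuous_subtype_val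
      obtain ⟨yw, hyw⟩ : w.1 ∈ Set.range j := by rw [hjrange]; exact hwW
      have h1 : y ⤳ yw := by
        rw [← hjemb.isInducing.specializes_iff, hyw]; exact hsp'
      have h2 : p ≤ yw.asIdeal := (PrimeSpectrum.le_iff_specializes y yw).mpr h1
      have h3 : yw.asIdeal.comap (algebraMap R Γ(X, W)) = ⊥ := by
        rw [← hcontr, hyw]
        have : f w.1 = η := w.2
        rw [this]; exact hfx
      have h4 := hpmax yw.asIdeal yw.2 h2 h3
      have h5 : yw = y := PrimeSpectrum.ext h4
      apply Subtype.ext
      rw [← hyw, h5]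
  have hcl : IsClosed ({xG} : Set G) := isClosed_singleton_of_isLocallyClosed_singleton hlc
  intro z hz hxz
  have hzη : f z = η := PrimeSpectrum.ext (hz.trans hfx.symm)
  let zG : G := ⟨z, hzη⟩
  have h1 : xG ⤳ zG := by
    rw [← Topology.IsInducing.subtypeVal.specializes_iff]; exact hxz
  have h2 : zG ∈ closure ({xG} : Set G) := h1.mem_closure
  rw [hcl.closure_eq] at h2
  exact congrArg Subtype.val h2

end Groth.Agent.Helper12.DedGen
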