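import Mathlib

/-!
# A reduced Noetherian local ring, integrally closed in its total ring of fractions, is a domain;
in dimension one it is a discrete valuation ring.
-/

set_option autoImplicit false
universe u

open IsLocalRing Polynomial

namespace Groth.Agent.Helper12.DeltaZero

variable {A : Type u} [CommRing A]

theorem isIntegral_of_idempotent {B : Type*} [CommRing B] [Algebra A B] (e : B) (he : e * e = e) :
    IsIntegral A e := by
  refine ⟨X ^ 2 - X, ?_, ?_⟩
  · exact monic_X_pow_sub (degree_X_le.trans_lt (by exact_mod_cast one_lt_two))
  · simp [pow_two, he]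

/-- A reduced Noetherian local ring such that every element of the total ring of fractions which is
integral over `A` comes from `A` is a domain. -/
theorem isDomain_of_closed [IsLocalRing A] [IsNoetherianRing A] [IsReduced A]
    (h : ∀ x : FractionRing A, IsIntegral A x → ∃ a : A, algebraMap A (FractionRing A) a = x) :
    IsDomain A := by
  have hinj : Function.Injective (algebraMap A (FractionRing A)) :=
    IsFractionRing.injective A (FractionRing A)
  have : NoZeroDivisors A := by
    refine ⟨fun {x y} hxy => ?_⟩
    by_contra hcon
    push Not at hcon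
    obtain ⟨hx, hy⟩ := hcon
    set I : Ideal A := LinearMap.ker (LinearMap.mulLeft A x) with hI
    have hImem : ∀ i, i ∈ I ↔ x * i = 0 := fun i => by
      rw [hI, LinearMap.mem_ker]; rfl
    set J : Ideal A := Module.annihilator A I with hJ
    have hJmem : ∀ j, j ∈ J ↔ ∀ i ∈ I, j * i = 0 := by
      intro j
      rw [hJ, Module.mem_annihilator]
      constructor
      · intro hj i hi
        have := hj ⟨i, hi⟩
        exact congrArg Subtype.val this
      · intro hj i
        exact Subtype.ext (hj i.1 i.2)
    have hyI : y ∈ I := (hImem y).mpr hxy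
    have hxJ : x ∈ J := (hJmem x).mpr fun i hi => (hImem i).mp hi
    -- `I + J` contains a nonzerodivisor
    have hnd : ¬ Disjoint ((I ⊔ J : Ideal A) : Set A) (nonZeroDivisors A) := by
      intro hdis
      have hlt := Ideal.bot_lt_annihilator_of_disjoint_nonZeroDivisors hdis
      obtain ⟨w, hw, hw0⟩ := SetLike.exists_of_lt hlt
      rw [Module.mem_annihilator] at hw
      have hwI : ∀ i ∈ I, w * i = 0 := fun i hi =>
        congrArg Subtype.val (hw ⟨i, Ideal.mem_sup_left hi⟩)
      have hwJ : ∀ j ∈ J, w * j = 0 := fun j hj =>
        congrArg Subtype.val (hw ⟨j, Ideal.mem_sup_right hj⟩)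
      have hwmem : w ∈ J := (hJmem w).mpr hwI
      have hww : w * w = 0 := hwJ w hwmem
      have : w = 0 := by
        have hnil : IsNilpotent w := ⟨2, by rw [pow_two]; exact hww⟩
        exact hnil.eq_zero
      exact hw0 (by rw [this]; exact Submodule.zero_mem _)
    rw [Set.not_disjoint_iff] at hnd
    obtain ⟨s, hsIJ, hs⟩ := hnd
    obtain ⟨i, hi, j, hj, rfl⟩ := Submodule.mem_sup.mp hsIJ
    have hij : i * j = 0 := by rw [mul_comm]; exact (hJmem j).mp hj i hi
    set e : FractionRing A := IsLocalization.mk' (FractionRing A) i ⟨i + j, hs⟩ with he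
    set σ : FractionRing A := algebraMap A (FractionRing A) (i + j) with hσ
    have hσu : IsUnit σ := IsLocalization.map_units (FractionRing A) (⟨i + j, hs⟩ : nonZeroDivisors A)
    have heσ : e * σ = algebraMap A (FractionRing A) i := IsLocalization.mk'_spec _ _ _
    have hee : e * e = e := by
      have h1 : (e * e - e) * (σ * σ) = 0 := by
        have : (e * e - e) * (σ * σ) = (e * σ) * (e * σ) - (e * σ) * σ := by ring
        rw [this, heσ, hσ, ← map_mul, ← map_mul, ← map_sub]
        have : i * i - i * (i + j) = 0 := by rw [mul_add, hij]; ring
        rw [this, map_zero]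
      have h2 := (hσu.mul hσu).mul_left_eq_zero.mp h1
      exact sub_eq_zero.mp h2
    obtain ⟨a, ha⟩ := h e (isIntegral_of_idempotent e hee)
    have has : a * (i + j) = i := by
      apply hinj
      rw [map_mul, ha, ← hσ, heσ]
    have haa : a * a = a := by
      apply hinj
      rw [map_mul, ha, hee]
    have h01 : a = 0 ∨ a = 1 := by
      have h3 : a * (1 - a) = 0 := by rw [mul_sub, mul_one, haa, sub_self]
      rcases isUnit_or_isUnit_one_sub_self a with hu | hu
      · right
        have := hu.mul_right_eq_zero.mp h3
        exact (sub_eq_zero.mp this).symm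
      · left
        exact hu.mul_left_eq_zero.mp h3
    rcases h01 with rfl | rfl
    · rw [zero_mul] at has
      rw [← has, zero_add] at hs
      have : j * y = 0 := (hJmem j).mp hj y hyI
      have := (mem_nonZeroDivisors_iff.mp hs).2 y (by rw [mul_comm]; exact this)
      exact hy this
    · rw [one_mul] at has
      have hj0 : j = 0 := by
        have : i + j = i + 0 := by rw [add_zero]; exact has
        exact add_left_cancel this
      rw [hj0, add_zero] at hs
      have : x * i = 0 := (hImem i).mp hi
      have := (mem_nonZeroDivisors_iff.mp hs).2 x this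
      exact hx this
  exact NoZeroDivisors.to_isDomain A

end Groth.Agent.Helper12.DeltaZero
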