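import Mathlib.AlgebraicGeometry.Morphisms.Immersion
import Mathlib.AlgebraicGeometry.Morphisms.Separated
import Mathlib.AlgebraicGeometry.Morphisms.Flat
import Mathlib.CategoryTheory.Limits.Shapes.Diagonal

/-!
# `X ×_Y X ⟶ X ×_S X` is a base change of the diagonal of `Y/S`; fpqc descent of separatedness
-/

set_option autoImplicit false
universe u

open AlgebraicGeometry CategoryTheory Limits

namespace Groth.Agent.Helper12.DiagDesc

variable {X Y S : Scheme.{u}} (f : X ⟶ Y) (g : Y ⟶ S)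

/-- the canonical map `X ×_Y X ⟶ X ×_S X` -/
noncomputable abbrev vmap : pullback f f ⟶ pullback (f ≫ g) (f ≫ g) :=
  pullback.map f f (f ≫ g) (f ≫ g) (𝟙 _) (𝟙 _) g (Category.id_comp _).symm (Category.id_comp _).symm

/-- `f × f : X ×_S X ⟶ Y ×_S Y` -/
noncomputable abbrev prodMap : pullback (f ≫ g) (f ≫ g) ⟶ pullback g g :=
  pullback.map (f ≫ g) (f ≫ g) g g f f (𝟙 _) (Category.comp_id _) (Category.comp_id _)

theorem isPullback_vmap :
    IsPullback (pullback.fst f f ≫ f) (vmap f g) (pullback.diagonal g) (prodMap f g) :=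
  pullback_map_diagonal_isPullback f f g

instance : IsImmersion (vmap f g) :=
  MorphismProperty.of_isPullback (P := @IsImmersion) (isPullback_vmap f g) inferInstance

instance [IsSeparated g] : IsClosedImmersion (vmap f g) :=
  MorphismProperty.of_isPullback (P := @IsClosedImmersion) (isPullback_vmap f g) inferInstance

theorem range_vmap : Set.range (vmap f g) = (prodMap f g) ⁻¹' Set.range (pullback.diagonal g) := by
  have := Scheme.image_preimage_eq_of_isPullback (isPullback_vmap f g) Set.univ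
  simpa only [Set.preimage_univ, Set.image_univ] using this

section Local

variable {Z : Scheme.{u}} (q : Z ⟶ Y) [Flat q]

/-- local quotient-map property of `q × q` over a product of two affine charts. -/
theorem isClosed_preimage_chart {T : Set ↥(pullback g g)}
    (hT : IsClosed ((prodMap q g) ⁻¹' T))
    {A₁ A₂ : Scheme.{u}} [IsAffine A₁] [IsAffine A₂] (a₁ : A₁ ⟶ Y) (a₂ : A₂ ⟶ Y)
    [IsOpenImmersion a₁] [IsOpenImmersion a₂] (W₁ W₂ : Z.Opens)
    (hc₁ : IsCompact (W₁ : Set Z)) (hc₂ : IsCompact (W₂ : Set Z))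
    (h₁ : q '' (W₁ : Set Z) = Set.range a₁) (h₂ : q '' (W₂ : Set Z) = Set.range a₂) :
    IsClosed ((pullback.map (a₁ ≫ g) (a₂ ≫ g) g g a₁ a₂ (𝟙 _) (Category.comp_id _)
      (Category.comp_id _)) ⁻¹' T) := by
  have hr₁ : Set.range (W₁.ι ≫ q) ⊆ Set.range a₁ := by
    rw [← h₁]
    rintro _ ⟨w, rfl⟩
    exact ⟨w.1, w.2, rfl⟩
  have hr₂ : Set.range (W₂.ι ≫ q) ⊆ Set.range a₂ := by
    rw [← h₂]
    rintro _ ⟨w, rfl⟩
    exact ⟨w.1, w.2, rfl⟩
  let q₁ : (W₁ : Scheme) ⟶ A₁ := IsOpenImmersion.lift a₁ (W₁.ι ≫ q) hr₁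
  let q₂ : (W₂ : Scheme) ⟶ A₂ := IsOpenImmersion.lift a₂ (W₂.ι ≫ q) hr₂
  have hq₁ : q₁ ≫ a₁ = W₁.ι ≫ q := IsOpenImmersion.lift_fac _ _ _
  have hq₂ : q₂ ≫ a₂ = W₂.ι ≫ q := IsOpenImmersion.lift_fac _ _ _
  have hfl₁ : Flat q₁ := by
    have : Flat (q₁ ≫ a₁) := by rw [hq₁]; infer_instance
    exact MorphismProperty.of_postcomp (W := @Flat) (W' := @IsOpenImmersion) q₁ a₁ ‹_› this
  have hfl₂ : Flat q₂ := by
    have : Flat (q₂ ≫ a₂) := by rw [hq₂]; infer_instance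
    exact MorphismProperty.of_postcomp (W := @Flat) (W' := @IsOpenImmersion) q₂ a₂ ‹_› this
  have hsj : ∀ {A : Scheme.{u}} (a : A ⟶ Y) [IsOpenImmersion a] (W : Z.Opens)
      (q' : (W : Scheme) ⟶ A) (_ : q' ≫ a = W.ι ≫ q) (_ : q '' (W : Set Z) = Set.range a),
      Surjective q' := by
    intro A a _ W q' hq' h
    constructor
    intro x
    have : a x ∈ q '' (W : Set Z) := by rw [h]; exact ⟨x, rfl⟩
    obtain ⟨w, hw, hwx⟩ := this
    refine ⟨⟨w, hw⟩, ?_⟩
    apply a.isOpenEmbedding.injective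
    rw [← Scheme.Hom.comp_apply, hq', Scheme.Hom.comp_apply]
    exact hwx
  have hs₁ : Surjective q₁ := hsj a₁ W₁ q₁ hq₁ h₁
  have hs₂ : Surjective q₂ := hsj a₂ W₂ q₂ hq₂ h₂
  have : CompactSpace (W₁ : Scheme) := isCompact_iff_compactSpace.mp hc₁
  have : CompactSpace (W₂ : Scheme) := isCompact_iff_compactSpace.mp hc₂
  have hqc₁ : QuasiCompact q₁ := inferInstance
  have hqc₂ : QuasiCompact q₂ := inferInstance
  -- the product map
  have e₁ : (W₁.ι ≫ q) ≫ g = q₁ ≫ (a₁ ≫ g) := by rw [← Category.assoc q₁, hq₁]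
  have e₂ : (W₂.ι ≫ q) ≫ g = q₂ ≫ (a₂ ≫ g) := by rw [← Category.assoc q₂, hq₂]
  let Q₁₂ : pullback ((W₁.ι ≫ q) ≫ g) ((W₂.ι ≫ q) ≫ g) ⟶ pullback (a₁ ≫ g) (a₂ ≫ g) :=
    pullback.map _ _ _ _ q₁ q₂ (𝟙 _) ((Category.comp_id _).trans e₁) ((Category.comp_id _).trans e₂)
  have hQfl : Flat Q₁₂ := MorphismProperty.pullbackMap (P := @Flat) hfl₁ hfl₂ e₁ e₂
  have hQs : Surjective Q₁₂ := MorphismProperty.pullbackMap (P := @Surjective) hs₁ hs₂ e₁ e₂
  have hQqc : QuasiCompact Q₁₂ := MorphismProperty.pullbackMap (P := @QuasiCompact) hqc₁ hqc₂ e₁ e₂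
  have hquot : Topology.IsQuotientMap Q₁₂ := Flat.isQuotientMap_of_surjective Q₁₂
  let jW : pullback ((W₁.ι ≫ q) ≫ g) ((W₂.ι ≫ q) ≫ g) ⟶ pullback (q ≫ g) (q ≫ g) :=
    pullback.map _ _ _ _ W₁.ι W₂.ι (𝟙 _) (by simp) (by simp)
  have hsq : Q₁₂ ≫ pullback.map (a₁ ≫ g) (a₂ ≫ g) g g a₁ a₂ (𝟙 _) (Category.comp_id _)
      (Category.comp_id _) = jW ≫ prodMap q g := by
    apply pullback.hom_ext
    · simp only [Q₁₂, jW, prodMap, Category.assoc, pullback.lift_fst, pullback.lift_fst_assoc, hq₁]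
    · simp only [Q₁₂, jW, prodMap, Category.assoc, pullback.lift_snd, pullback.lift_snd_assoc, hq₂]
  rw [← hquot.isClosed_preimage, ← Set.preimage_comp, ← TopCat.coe_comp, ← Scheme.Hom.comp_base,
    hsq, Scheme.Hom.comp_base, TopCat.coe_comp, Set.preimage_comp]
  exact hT.preimage jW.continuous

end Local

section Global

variable {Z : Scheme.{u}} (r : Z ⟶ X)

/-- fpqc descent of separatedness: if `X ⟶ Y` is refined by a flat `q : Z ⟶ Y` such that every
affine open of `Y` is the image of a quasi-compact open of `Z`, and `X ×_Y X ⟶ X ×_S X` is a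
closed immersion, then `Y ⟶ S` is separated. -/
theorem isSeparated_of_fpqc [Flat (r ≫ f)]
    (hcov : ∀ V : Y.Opens, IsAffineOpen V →
      ∃ W : Z.Opens, IsCompact (W : Set Z) ∧ (r ≫ f) '' (W : Set Z) = (V : Set Y))
    [IsClosedImmersion (vmap f g)] : IsSeparated g := by
  set T : Set ↥(pullback g g) := Set.range (pullback.diagonal g) with hTdef
  -- Step 1
  let R : pullback ((r ≫ f) ≫ g) ((r ≫ f) ≫ g) ⟶ pullback (f ≫ g) (f ≫ g) :=
    pullback.map _ _ _ _ r r (𝟙 _) (by simp) (by simp)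
  have hR : prodMap (r ≫ f) g = R ≫ prodMap f g := by
    apply pullback.hom_ext
    · simp only [R, prodMap, Category.assoc, pullback.lift_fst, pullback.lift_fst_assoc]
    · simp only [R, prodMap, Category.assoc, pullback.lift_snd, pullback.lift_snd_assoc]
  have hT : IsClosed ((prodMap (r ≫ f) g) ⁻¹' T) := by
    rw [hR, Scheme.Hom.comp_base, TopCat.coe_comp, Set.preimage_comp, hTdef, ← range_vmap]
    exact (vmap f g).isClosedEmbedding.isClosed_range.preimage R.continuous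
  -- Step 2
  let 𝒰 := Scheme.Pullback.openCoverOfLeftRight Y.affineCover Y.affineCover g g
  have hcl : ∀ ij, IsClosed ((𝒰.f ij) ⁻¹' T) := by
    rintro ⟨i, j⟩
    obtain ⟨W₁, hc₁, h₁⟩ := hcov (Y.affineCover.f i).opensRange (isAffineOpen_opensRange _)
    obtain ⟨W₂, hc₂, h₂⟩ := hcov (Y.affineCover.f j).opensRange (isAffineOpen_opensRange _)
    exact isClosed_preimage_chart g (r ≫ f) hT (Y.affineCover.f i) (Y.affineCover.f j) W₁ W₂
      hc₁ hc₂ h₁ h₂
  have hclosed : IsClosed T := by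
    rw [← isOpen_compl_iff, isOpen_iff_forall_mem_open]
    intro x hx
    obtain ⟨ij, a, rfl⟩ := 𝒰.exists_eq x
    refine ⟨(𝒰.f ij) '' ((𝒰.f ij) ⁻¹' T)ᶜ, ?_, ?_, ⟨a, hx, rfl⟩⟩
    · rintro _ ⟨b, hb, rfl⟩
      exact hb
    · exact (𝒰.f ij).isOpenEmbedding.isOpenMap _ (hcl ij).isOpen_compl
  exact ⟨IsClosedImmersion.of_isPreimmersion _ hclosed⟩

end Global

end Groth.Agent.Helper12.DiagDesc
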