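import Groth.Agent.Lib.Helper12.DimOneLocal

set_option autoImplicit false

namespace Groth.Agent.Helper12.DimOne

universe u

open IsLocalRing

variable {A : Type u} [CommRing A]

/-- The type of minimal primes, as points of the spectrum. -/
abbrev MinPrime (A : Type u) [CommRing A] : Type u :=
  {p : PrimeSpectrum A // p.asIdeal ∈ minimalPrimes A}

/-- The product of the localizations at the minimal primes. -/
abbrev PiMin (A : Type u) [CommRing A] : Type u :=
  ∀ p : MinPrime A, Localization.AtPrime p.1.asIdeal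

theorem isNilpotent_algebraMap_of_mem (q : MinPrime A) {g : A} (hg : g ∈ q.1.asIdeal) :
    IsNilpotent (algebraMap A (Localization.AtPrime q.1.asIdeal) g) := by
  have : Ring.KrullDimLE 0 (Localization.AtPrime q.1.asIdeal) :=
    Ring.KrullDimLE.of_isLocalization q.1.asIdeal q.2 _
  rw [Ring.KrullDimLE.isNilpotent_iff_mem_maximalIdeal]
  exact (IsLocalization.AtPrime.to_map_mem_maximal_iff _ q.1.asIdeal g).mpr hg

instance [IsNoetherianRing A] : Finite (MinPrime A) := by
  have hfin : (minimalPrimes A).Finite := minimalPrimes.finite_of_isNoetherianRing A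
  have : Finite (minimalPrimes A) := hfin
  refine Finite.of_injective (fun p : MinPrime A => (⟨p.1.asIdeal, p.2⟩ : minimalPrimes A)) ?_
  intro p q h
  apply Subtype.ext
  apply PrimeSpectrum.ext
  exact congrArg Subtype.val h

theorem exists_sep [IsNoetherianRing A] (p : MinPrime A) :
    ∃ g : A, g ∉ p.1.asIdeal ∧ ∀ q : MinPrime A, q ≠ p → g ∈ q.1.asIdeal := by
  classical
  have hex : ∀ q : MinPrime A, q ≠ p → ∃ h : A, h ∈ q.1.asIdeal ∧ h ∉ p.1.asIdeal := by
    intro q hq
    by_contra hcon
    push Not at hcon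
    have hle : q.1.asIdeal ≤ p.1.asIdeal := fun h hh => hcon h hh
    have hge : p.1.asIdeal ≤ q.1.asIdeal := p.2.2 ⟨q.1.2, bot_le⟩ hle
    exact hq (Subtype.ext (PrimeSpectrum.ext (le_antisymm hle hge)))
  have := Fintype.ofFinite (MinPrime A)
  let h : MinPrime A → A := fun q => if hq : q ≠ p then (hex q hq).choose else 1
  refine ⟨∏ q ∈ Finset.univ.erase p, h q, ?_, ?_⟩
  · rw [Ideal.IsPrime.prod_mem_iff]
    rintro ⟨q, hq, hmem⟩
    have hqp : q ≠ p := (Finset.mem_erase.mp hq).1
    simp only [h, dif_pos hqp] at hmem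
    exact (hex q hqp).choose_spec.2 hmem
  · intro q hq
    have hmem : q ∈ Finset.univ.erase p := Finset.mem_erase.mpr ⟨hq, Finset.mem_univ _⟩
    refine Ideal.mem_of_dvd _ (Finset.dvd_prod_of_mem h hmem) ?_
    simp only [h, dif_pos hq]
    exact (hex q hq).choose_spec.1

/-- A uniform nilpotency exponent. -/
theorem exists_pow_sep [IsNoetherianRing A] (p : MinPrime A) :
    ∃ g : A, g ∉ p.1.asIdeal ∧ ∀ q : MinPrime A, q ≠ p →
      algebraMap A (Localization.AtPrime q.1.asIdeal) g = 0 := by
  classical
  obtain ⟨g, hgp, hgq⟩ := exists_sep p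
  have hnil : ∀ q : MinPrime A, q ≠ p →
      ∃ N : ℕ, algebraMap A (Localization.AtPrime q.1.asIdeal) g ^ N = 0 :=
    fun q hq => isNilpotent_algebraMap_of_mem q (hgq q hq)
  have := Fintype.ofFinite (MinPrime A)
  let N : MinPrime A → ℕ := fun q => if hq : q ≠ p then (hnil q hq).choose else 0
  refine ⟨g ^ (∑ q, N q), fun h => hgp (p.1.2.mem_of_pow_mem _ h), fun q hq => ?_⟩
  rw [map_pow]
  have h1 : algebraMap A (Localization.AtPrime q.1.asIdeal) g ^ N q = 0 := by
    simp only [N, dif_pos hq]
    exact (hnil q hq).choose_spec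
  exact pow_eq_zero_of_le (Finset.single_le_sum (f := N) (fun _ _ => Nat.zero_le _)
    (Finset.mem_univ q)) h1


variable [IsLocalRing A] [IsNoetherianRing A]

theorem isLocalization_piMin (hdim : ringKrullDim A = 1) {f : A} (hf : f ∈ maximalIdeal A)
    (h : ∀ p ∈ minimalPrimes A, f ∉ p) : IsLocalization.Away f (PiMin A) := by
  classical
  rw [IsLocalization.Away, isLocalization_iff]
  refine ⟨?_, ?_, ?_⟩
  · rintro ⟨y, n, rfl⟩
    rw [Pi.isUnit_iff]
    intro p
    have hnp : f ^ n ∈ p.1.asIdeal.primeCompl := fun hmem => h _ p.2 (p.1.2.mem_of_pow_mem _ hmem)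
    exact IsLocalization.map_units (M := p.1.asIdeal.primeCompl) _ ⟨f ^ n, hnp⟩
  · intro z
    -- the denominator ideal of `z`
    let D : Ideal A := (LinearMap.range (Algebra.linearMap A (PiMin A))).colon
      ({z} : Set (PiMin A))
    have hD : ∀ p ∈ minimalPrimes A, ∃ c ∈ D, c ∉ p := by
      intro p hp
      have hpp : p.IsPrime := hp.1.1
      let P : MinPrime A := ⟨⟨p, hp.1.1⟩, hp⟩
      obtain ⟨g, hgp, hgq⟩ := exists_pow_sep P
      obtain ⟨a, s, hz⟩ := IsLocalization.exists_mk'_eq p.primeCompl (z P)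
      refine ⟨s * g, ?_, fun hmem => ?_⟩
      · rw [Submodule.mem_colon_singleton]
        refine ⟨a * g, funext fun q => ?_⟩
        by_cases hq : q = P
        · subst hq
          change algebraMap A _ (a * g) = (s * g : A) • z P
          rw [← hz, Algebra.smul_def, map_mul, map_mul]
          have := IsLocalization.mk'_spec' (M := p.primeCompl)
            (Localization.AtPrime p) a s
          calc algebraMap A (Localization.AtPrime p) a * algebraMap A (Localization.AtPrime p) g
              = (algebraMap A (Localization.AtPrime p) s * IsLocalization.mk' _ a s) *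
                algebraMap A (Localization.AtPrime p) g := by rw [this]
            _ = _ := by ring
        · change algebraMap A _ (a * g) = (s * g : A) • z q
          rw [Algebra.smul_def, map_mul, map_mul, hgq q hq]
          simp
      · rcases hp.1.1.mem_or_mem hmem with h1 | h1
        · exact s.2 h1
        · exact hgp h1
    obtain ⟨n, hn⟩ := exists_pow_mem hdim D hD hf
    rw [Submodule.mem_colon_singleton] at hn
    obtain ⟨a, ha⟩ := hn
    refine ⟨(a, ⟨f ^ n, n, rfl⟩), ?_⟩
    change z * algebraMap A (PiMin A) (f ^ n) = algebraMap A (PiMin A) a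
    rw [mul_comm, ← Algebra.smul_def]
    exact ha.symm
  · intro x y hxy
    let J : Ideal A := (Submodule.span A {x - y}).annihilator
    have hJ : ∀ p ∈ minimalPrimes A, ∃ c ∈ J, c ∉ p := by
      intro p hp
      have hpp : p.IsPrime := hp.1.1
      let P : MinPrime A := ⟨⟨p, hp.1.1⟩, hp⟩
      have h0 : algebraMap A (Localization.AtPrime p) (x - y) = 0 := by
        rw [map_sub, sub_eq_zero]
        exact congrFun hxy P
      obtain ⟨c, hc⟩ := (IsLocalization.map_eq_zero_iff p.primeCompl _ _).mp h0
      refine ⟨c, ?_, c.2⟩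
      rw [Submodule.mem_annihilator_span_singleton]
      exact hc
    obtain ⟨n, hn⟩ := exists_pow_mem hdim J hJ hf
    rw [Submodule.mem_annihilator_span_singleton, smul_eq_mul, mul_sub, sub_eq_zero] at hn
    exact ⟨⟨f ^ n, n, rfl⟩, hn⟩

/-- `A_f ≅ ∏ A_p` over the minimal primes. -/
noncomputable def awayEquivPiMin (hdim : ringKrullDim A = 1) {f : A} (hf : f ∈ maximalIdeal A)
    (h : ∀ p ∈ minimalPrimes A, f ∉ p) : Localization.Away f ≃ₐ[A] PiMin A :=
  haveI := isLocalization_piMin hdim hf h
  IsLocalization.algEquiv (Submonoid.powers f) (Localization.Away f) (PiMin A)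

omit [IsLocalRing A] [IsNoetherianRing A] in
theorem notMem_of_algEquiv_piMin {f : A} (e : Localization.Away f ≃ₐ[A] PiMin A) :
    ∀ p ∈ minimalPrimes A, f ∉ p := by
  intro p hp
  have hpp : p.IsPrime := hp.1.1
  let P : MinPrime A := ⟨⟨p, hp.1.1⟩, hp⟩
  have h1 : IsUnit (algebraMap A (Localization.Away f) f) :=
    IsLocalization.Away.algebraMap_isUnit f
  have h2 : IsUnit (algebraMap A (PiMin A) f) := by
    have := h1.map e
    rwa [e.commutes] at this
  rw [Pi.isUnit_iff] at h2
  have h3 : IsUnit (algebraMap A (Localization.AtPrime p) f) := h2 P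
  exact (IsLocalization.AtPrime.isUnit_to_map_iff _ p f).mp h3

end Groth.Agent.Helper12.DimOne
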