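import Mathlib
import Groth.Prelude.Def_ega3
import Groth.Agent.Lib.Helper21.KoszFun

/-!
# Koszul Euler characteristics, part 1: the long exact sequence of a mapping cone, lengths
-/

set_option autoImplicit false
universe u v
open CategoryTheory CategoryTheory.Limits CochainComplex HomologicalComplex Pretriangulated

namespace Groth.Agent.Helper12.KoszEuler

section ConeLES

variable {C : Type u} [Category.{v} C] [Abelian C]

theorem exact_transport (S : ShortComplex C) (hS : S.Exact) {X₁' X₂' X₃' : C}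
    (f' : X₁' ⟶ X₂') (g' : X₂' ⟶ X₃') (α₁ : S.X₁ ≅ X₁') (α₂ : S.X₂ ≅ X₂') (α₃ : S.X₃ ≅ X₃')
    (c₁ : S.f ≫ α₂.hom = α₁.hom ≫ f') (c₂ : S.g ≫ α₃.hom = α₂.hom ≫ g') :
    ∃ w : f' ≫ g' = 0, (ShortComplex.mk f' g' w).Exact := by
  have w : f' ≫ g' = 0 := by
    rw [← cancel_epi α₁.hom, ← Category.assoc, ← c₁, Category.assoc, ← c₂, ← Category.assoc,
      S.zero, zero_comp, comp_zero]
  refine ⟨w, ShortComplex.exact_of_iso (ShortComplex.isoMk α₁ α₂ α₃ ?_ ?_) hS⟩
  · exact c₁.symm
  · exact c₂.symm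

/-- The long exact homology sequence of a mapping cone. -/
theorem cone_les {K L : CochainComplex C ℤ} (φ : K ⟶ L) (n : ℤ) :
    ∃ (δ : (mappingCone φ).homology n ⟶ K.homology (n + 1))
      (w₁ : homologyMap φ n ≫ homologyMap (mappingCone.inr φ) n = 0)
      (w₂ : homologyMap (mappingCone.inr φ) n ≫ δ = 0)
      (w₃ : δ ≫ homologyMap φ (n + 1) = 0),
      (ShortComplex.mk _ _ w₁).Exact ∧ (ShortComplex.mk _ _ w₂).Exact ∧
        (ShortComplex.mk _ _ w₃).Exact := by
  let F := HomotopyCategory.homologyFunctor C (ComplexShape.up ℤ) 0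
  let T := mappingCone.triangleh φ
  have hT : T ∈ distTriang _ := HomotopyCategory.mappingCone_triangleh_distinguished φ
  have e2 := F.homologySequence_exact₂ T hT n
  have e3 := F.homologySequence_exact₃ T hT n (n + 1) rfl
  have e1 := F.homologySequence_exact₁ T hT n (n + 1) rfl
  let ι := fun (m : ℤ) => HomotopyCategory.homologyFunctorFactors C (ComplexShape.up ℤ) m
  let δ : (mappingCone φ).homology n ⟶ K.homology (n + 1) :=
    (ι n).inv.app (mappingCone φ) ≫ F.homologySequenceδ T n (n + 1) rfl ≫ (ι (n + 1)).hom.app K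
  have nat : ∀ (m : ℤ) {X Y : CochainComplex C ℤ} (f : X ⟶ Y),
      (F.shift m).map ((HomotopyCategory.quotient C (ComplexShape.up ℤ)).map f) ≫ (ι m).hom.app Y =
        (ι m).hom.app X ≫ homologyMap f m := fun m X Y f => (ι m).hom.naturality f
  have hδ1 : F.homologySequenceδ T n (n + 1) rfl ≫ (ι (n + 1)).hom.app K =
      (ι n).hom.app (mappingCone φ) ≫ δ := by
    show _ = (ι n).hom.app (mappingCone φ) ≫ (ι n).inv.app (mappingCone φ) ≫ _
    rw [← Category.assoc ((ι n).hom.app (mappingCone φ)), Iso.hom_inv_id_app, Category.id_comp]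
    rfl
  obtain ⟨w₁, h₁⟩ := exact_transport _ e2 (homologyMap φ n) (homologyMap (mappingCone.inr φ) n)
    ((ι n).app K) ((ι n).app L) ((ι n).app (mappingCone φ)) (nat n φ) (nat n (mappingCone.inr φ))
  obtain ⟨w₂, h₂⟩ := exact_transport _ e3 (homologyMap (mappingCone.inr φ) n) δ
    ((ι n).app L) ((ι n).app (mappingCone φ)) ((ι (n + 1)).app K) (nat n (mappingCone.inr φ)) hδ1
  obtain ⟨w₃, h₃⟩ := exact_transport _ e1 δ (homologyMap φ (n + 1))
    ((ι n).app (mappingCone φ)) ((ι (n + 1)).app K) ((ι (n + 1)).app L) hδ1 (nat (n + 1) φ)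
  exact ⟨δ, w₁, w₂, w₃, h₁, h₂, h₃⟩

end ConeLES

end Groth.Agent.Helper12.KoszEuler
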