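import Mathlib

set_option autoImplicit false
universe u v

namespace Groth.Agent.Helper12.KoszEuler

section Lin

variable {R : Type*} [Ring R] {X Y Z W V : Type*} [AddCommGroup X] [Module R X]
  [AddCommGroup Y] [Module R Y] [AddCommGroup Z] [Module R Z] [AddCommGroup W] [Module R W]
  [AddCommGroup V] [Module R V]

/-- `ℓ(Y) = ℓ(im f) + ℓ(im g)` for `X → Y → Z` exact. -/
theorem length_eq_range_add_range (f : X →ₗ[R] Y) (g : Y →ₗ[R] Z) (h : Function.Exact f g) :
    Module.length R Y = Module.length R (LinearMap.range f) + Module.length R (LinearMap.range g) := by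
  have := Module.length_eq_add_of_exact (LinearMap.ker g).subtype g.rangeRestrict
    (Submodule.injective_subtype _) g.surjective_rangeRestrict (by
      intro y
      constructor
      · intro hy
        have h1 := congrArg Subtype.val hy
        exact ⟨⟨y, by simpa using h1⟩, rfl⟩
      · rintro ⟨⟨y', hy'⟩, rfl⟩
        apply Subtype.ext
        simpa using hy')
  rw [this, ← LinearMap.exact_iff.mp h]

theorem length_range_of_injective (f : X →ₗ[R] Y) (hf : Function.Injective f) :
    Module.length R (LinearMap.range f) = Module.length R X :=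
  (LinearEquiv.ofInjective f hf).length_eq.symm

theorem length_range_of_surjective (f : X →ₗ[R] Y) (hf : Function.Surjective f) :
    Module.length R (LinearMap.range f) = Module.length R Y := by
  rw [LinearMap.range_eq_top.mpr hf]
  exact Module.length_top

/-- For `X → Y → Z → W → V` exact: `ℓ(Z) = ℓ(Y / im f) + ℓ(ker h)`. -/
theorem length_of_exact (f : X →ₗ[R] Y) (g : Y →ₗ[R] Z) (d : Z →ₗ[R] W) (h : W →ₗ[R] V)
    (e1 : Function.Exact f g) (e2 : Function.Exact g d) (e3 : Function.Exact d h) :
    Module.length R Z =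
      Module.length R (Y ⧸ LinearMap.range f) + Module.length R (LinearMap.ker h) := by
  rw [length_eq_range_add_range g d e2, ← LinearMap.exact_iff.mp e3,
    ← LinearMap.exact_iff.mp e1, (LinearMap.quotKerEquivRange g).length_eq]

/-- Kernel–cokernel identity for a composite `g ∘ f` (additive form, in `ℕ∞`). -/
theorem length_ker_coker_comp (f : X →ₗ[R] Y) (g : Y →ₗ[R] Z) :
    Module.length R (LinearMap.ker f) + Module.length R (LinearMap.ker g) +
        Module.length R (Z ⧸ LinearMap.range (g ∘ₗ f)) =
      Module.length R (LinearMap.ker (g ∘ₗ f)) + Module.length R (Y ⧸ LinearMap.range f) +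
        Module.length R (Z ⧸ LinearMap.range g) := by
  have h12 : LinearMap.ker f ≤ LinearMap.ker (g ∘ₗ f) := by
    intro x hx
    rw [LinearMap.mem_ker] at hx ⊢
    rw [LinearMap.comp_apply, hx, map_zero]
  let j₁ : LinearMap.ker f →ₗ[R] LinearMap.ker (g ∘ₗ f) := Submodule.inclusion h12
  let j₂ : LinearMap.ker (g ∘ₗ f) →ₗ[R] LinearMap.ker g :=
    (f.domRestrict (LinearMap.ker (g ∘ₗ f))).codRestrict (LinearMap.ker g) (by
      rintro ⟨x, hx⟩
      rw [LinearMap.mem_ker] at hx ⊢
      exact hx)
  let j₃ : LinearMap.ker g →ₗ[R] Y ⧸ LinearMap.range f :=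
    (LinearMap.range f).mkQ ∘ₗ (LinearMap.ker g).subtype
  let j₄ : (Y ⧸ LinearMap.range f) →ₗ[R] Z ⧸ LinearMap.range (g ∘ₗ f) :=
    Submodule.mapQ _ _ g (by
      rintro _ ⟨x, rfl⟩
      exact ⟨x, rfl⟩)
  have h56 : LinearMap.range (g ∘ₗ f) ≤ LinearMap.range g := by
    rintro _ ⟨x, rfl⟩
    exact ⟨f x, rfl⟩
  let j₅ : (Z ⧸ LinearMap.range (g ∘ₗ f)) →ₗ[R] Z ⧸ LinearMap.range g := Submodule.factor h56
  have i1 : Function.Injective j₁ := Submodule.inclusion_injective h12
  have s5 : Function.Surjective j₅ := Submodule.factor_surjective h56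
  have e12 : Function.Exact j₁ j₂ := by
    rintro ⟨x, hx⟩
    constructor
    · intro h
      have h1 : f x = 0 := congrArg Subtype.val h
      exact ⟨⟨x, h1⟩, rfl⟩
    · rintro ⟨⟨x', hx'⟩, h⟩
      have h2 : x' = x := congrArg Subtype.val h
      subst h2
      apply Subtype.ext
      exact hx'
  have e23 : Function.Exact j₂ j₃ := by
    rintro ⟨y, hy⟩
    constructor
    · intro h
      have h1 : y ∈ LinearMap.range f := (Submodule.Quotient.mk_eq_zero _).mp h
      obtain ⟨x, rfl⟩ := h1
      exact ⟨⟨x, hy⟩, rfl⟩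
    · rintro ⟨⟨x, hx⟩, h⟩
      have h2 : f x = y := congrArg Subtype.val h
      exact (Submodule.Quotient.mk_eq_zero _).mpr ⟨x, h2⟩
  have e34 : Function.Exact j₃ j₄ := by
    intro q
    obtain ⟨y, rfl⟩ := Submodule.mkQ_surjective _ q
    constructor
    · intro h
      have h1 : g y ∈ LinearMap.range (g ∘ₗ f) := (Submodule.Quotient.mk_eq_zero _).mp h
      obtain ⟨x, hx⟩ := h1
      refine ⟨⟨y - f x, ?_⟩, ?_⟩
      · rw [LinearMap.mem_ker, map_sub, ← hx]
        exact sub_self _
      · show (LinearMap.range f).mkQ (y - f x) = (LinearMap.range f).mkQ y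
        rw [map_sub, sub_eq_self]
        exact (Submodule.Quotient.mk_eq_zero _).mpr ⟨x, rfl⟩
    · rintro ⟨⟨y', hy'⟩, h⟩
      have h1 : (LinearMap.range f).mkQ y' = (LinearMap.range f).mkQ y := h
      show j₄ ((LinearMap.range f).mkQ y) = 0
      rw [← h1]
      show Submodule.Quotient.mk (g y') = 0
      rw [LinearMap.mem_ker.mp hy']
      rfl
  have e45 : Function.Exact j₄ j₅ := by
    intro q
    obtain ⟨z, rfl⟩ := Submodule.mkQ_surjective _ q
    constructor
    · intro h
      have h1 : z ∈ LinearMap.range g := (Submodule.Quotient.mk_eq_zero _).mp h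
      obtain ⟨y, rfl⟩ := h1
      exact ⟨(LinearMap.range f).mkQ y, rfl⟩
    · rintro ⟨q', h⟩
      obtain ⟨y, rfl⟩ := Submodule.mkQ_surjective _ q'
      rw [← h]
      exact (Submodule.Quotient.mk_eq_zero _).mpr ⟨y, rfl⟩
  rw [length_eq_range_add_range j₁ j₂ e12, length_eq_range_add_range j₂ j₃ e23,
    length_eq_range_add_range j₃ j₄ e34, length_eq_range_add_range j₄ j₅ e45,
    ← length_range_of_injective j₁ i1, ← length_range_of_surjective j₅ s5]
  ring

end Lin

section CkKr

open Pointwise

variable {A : Type*} [CommRing A] (N : Type*) [AddCommGroup N] [Module A N]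

/-- length of `N / aN` -/
noncomputable def ck (a : A) : ℕ∞ := Module.length A (N ⧸ LinearMap.range (LinearMap.lsmul A N a))

/-- length of `N[a]` -/
noncomputable def kr (a : A) : ℕ∞ := Module.length A (LinearMap.ker (LinearMap.lsmul A N a))

theorem lsmul_mul (x y : A) :
    LinearMap.lsmul A N (x * y) = LinearMap.lsmul A N x ∘ₗ LinearMap.lsmul A N y := by
  ext n
  show (x * y) • n = x • (y • n)
  exact mul_smul x y n

/-- index additivity: `ℓ(N[y]) + ℓ(N[x]) + ℓ(N/xyN) = ℓ(N[xy]) + ℓ(N/yN) + ℓ(N/xN)`. -/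
theorem kr_add_kr_add_ck (x y : A) :
    kr N y + kr N x + ck N (x * y) = kr N (x * y) + ck N y + ck N x := by
  unfold kr ck
  rw [lsmul_mul]
  exact length_ker_coker_comp _ _

theorem range_lsmul (a : A) :
    LinearMap.range (LinearMap.lsmul A N a) = a • (⊤ : Submodule A N) := by
  ext n
  rw [Submodule.mem_smul_pointwise_iff_exists]
  constructor
  · rintro ⟨m, rfl⟩
    exact ⟨m, Submodule.mem_top, rfl⟩
  · rintro ⟨m, -, rfl⟩
    exact ⟨m, rfl⟩

theorem ck_eq (a : A) : ck N a = Module.length A (QuotSMulTop a N) := by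
  unfold ck QuotSMulTop
  rw [range_lsmul]

theorem ck_of_smul_eq_zero (a : A) (h : ∀ n : N, a • n = 0) : ck N a = Module.length A N := by
  unfold ck
  have : LinearMap.range (LinearMap.lsmul A N a) = ⊥ := by
    rw [eq_bot_iff]
    rintro _ ⟨m, rfl⟩
    exact h m
  rw [this]
  exact (Submodule.quotEquivOfEqBot _ rfl).length_eq

theorem kr_of_smul_eq_zero (a : A) (h : ∀ n : N, a • n = 0) : kr N a = Module.length A N := by
  unfold kr
  have : LinearMap.ker (LinearMap.lsmul A N a) = ⊤ := by
    rw [eq_top_iff]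
    intro m _
    exact h m
  rw [this]
  exact Module.length_top

theorem kr_of_regular (a : A) (h : IsSMulRegular N a) : kr N a = 0 := by
  unfold kr
  rw [Module.length_eq_zero_iff]
  have : LinearMap.ker (LinearMap.lsmul A N a) = ⊥ := by
    rw [LinearMap.ker_eq_bot]
    exact h
  rw [this]
  infer_instance

theorem ck_le (a : A) : ck N a ≤ Module.length A N :=
  Module.length_le_of_surjective _ (Submodule.mkQ_surjective _)

theorem kr_le (a : A) : kr N a ≤ Module.length A N :=
  Module.length_le_of_injective _ (Submodule.injective_subtype _)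

/-- for a module of finite length, `ℓ(N/aN) = ℓ(N[a])`. -/
theorem ck_eq_kr_of_isFiniteLength (a : A) (h : IsFiniteLength A N) : ck N a = kr N a := by
  have h1 := Module.length_eq_add_of_exact (LinearMap.ker (LinearMap.lsmul A N a)).subtype
    (LinearMap.lsmul A N a).rangeRestrict (Submodule.injective_subtype _)
    (LinearMap.surjective_rangeRestrict _) (by
      intro y
      constructor
      · intro hy
        have h1 := congrArg Subtype.val hy
        exact ⟨⟨y, h1⟩, rfl⟩
      · rintro ⟨⟨y', hy'⟩, rfl⟩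
        apply Subtype.ext
        exact hy')
  have h2 := Module.length_eq_add_of_exact (LinearMap.range (LinearMap.lsmul A N a)).subtype
    (LinearMap.range (LinearMap.lsmul A N a)).mkQ (Submodule.injective_subtype _)
    (Submodule.mkQ_surjective _) (by
      intro y
      rw [Submodule.mkQ_apply, Submodule.Quotient.mk_eq_zero]
      constructor
      · intro hy
        exact ⟨⟨y, hy⟩, rfl⟩
      · rintro ⟨⟨y', hy'⟩, rfl⟩
        exact hy')
  have h3 : Module.length A (LinearMap.range (LinearMap.lsmul A N a)) ≠ ⊤ := by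
    have h4 := Module.length_ne_top_iff.mpr h
    intro h5
    rw [h5] at h2
    exact h4 (by rw [h2]; simp)
  unfold ck kr
  rw [h1, add_comm] at h2
  exact (ENat.add_right_injective_of_ne_top h3 h2).symm

end CkKr

end Groth.Agent.Helper12.KoszEuler
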