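import Mathlib
import Groth.Prelude.Def_ega3
import Groth.Agent.Lib.Helper21.KoszFun
import Groth.Agent.Lib.Helper12.KoszEuler1
import Groth.Agent.Lib.Helper12.KoszEuler2

/-!
# Koszul Euler characteristics, part 3: homology lengths of the cone of a scalar
-/

set_option autoImplicit false
universe u
open CategoryTheory CategoryTheory.Limits CochainComplex HomologicalComplex

namespace Groth.Agent.Helper12.KoszEuler

variable {A : Type u} [CommRing A]

theorem hom_smul_id (X : ModuleCat.{u} A) (a : A) :
    (a • 𝟙 X : X ⟶ X).hom = LinearMap.lsmul A X a := by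
  ext x
  rfl

theorem homologyMap_smul_id_hom (K : CochainComplex (ModuleCat.{u} A) ℤ) (a : A) (n : ℤ) :
    (homologyMap (a • 𝟙 K) n).hom = LinearMap.lsmul A (K.homology n) a := by
  rw [Groth.Agent.Helper21.KH.homologyMap_smul, homologyMap_id, hom_smul_id]

/-- `ℓ(H^n(cone(a))) = ℓ(H^n/a) + ℓ(H^{n+1}[a])`. -/
theorem length_cone_smul (K : CochainComplex (ModuleCat.{u} A) ℤ) (a : A) (n : ℤ) :
    Module.length A ((mappingCone (a • 𝟙 K)).homology n) =
      ck (K.homology n) a + kr (K.homology (n + 1)) a := by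
  obtain ⟨δ, w₁, w₂, w₃, h₁, h₂, h₃⟩ := cone_les (a • 𝟙 K) n
  rw [ShortComplex.ShortExact.moduleCat_exact_iff_function_exact] at h₁ h₂ h₃
  have := length_of_exact _ _ _ _ h₁ h₂ h₃
  dsimp only at this
  rw [this]
  unfold ck kr
  rw [show (ConcreteCategory.hom (homologyMap (a • 𝟙 K) n)) = LinearMap.lsmul A (K.homology n) a
      from homologyMap_smul_id_hom K a n,
    show (ConcreteCategory.hom (homologyMap (a • 𝟙 K) (n + 1))) =
      LinearMap.lsmul A (K.homology (n + 1)) a from homologyMap_smul_id_hom K a (n + 1)]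

end Groth.Agent.Helper12.KoszEuler
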