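import Mathlib
import Groth.Prelude.Def_ega3
import Groth.Agent.Lib.Helper21.KoszFun
import Groth.Agent.Lib.Helper5.HS2
import Groth.Agent.Lib.Helper12.KoszEuler3

/-!
# Koszul Euler characteristics, part 4: finiteness and finite length of Koszul homology
-/

set_option autoImplicit false
universe u
open CategoryTheory CategoryTheory.Limits CochainComplex HomologicalComplex
open Groth.Agent.Helper21.KF Groth.Agent.Helper21.KH Groth.Agent.Helper5.HS

namespace Groth.Agent.Helper12.KoszEuler

variable {A : Type u} [CommRing A]

/-- the Koszul complex of a list on a module (mapping cone model of `CohIII`). -/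
noncomputable abbrev Kz (M : Type u) [AddCommGroup M] [Module A M] (xs : List A) :
    CochainComplex (ModuleCat.{u} A) ℤ :=
  CohIII.koszulCx (ModuleCat.of A M) xs

section Finite

variable [IsNoetherianRing A]

theorem finite_X (M : ModuleCat.{u} A) [Module.Finite A M] :
    ∀ (xs : List A) (i : ℤ), Module.Finite A ((CohIII.koszulCx M xs).X i)
  | [], i => by
    by_cases hi : i = 0
    · subst hi
      exact Module.Finite.equiv
        (HomologicalComplex.singleObjXSelf (ComplexShape.up ℤ) (0 : ℤ) M).symm.toLinearEquiv
    · have : IsZero ((CohIII.koszulCx M []).X i) :=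
        HomologicalComplex.isZero_single_obj_X (ComplexShape.up ℤ) 0 M i hi
      have : Subsingleton ((CohIII.koszulCx M []).X i) := ModuleCat.subsingleton_of_isZero this
      infer_instance
  | f :: fs, i => by
    have h1 := finite_X M fs (i + 1)
    have h2 := finite_X M fs i
    let φ := f • 𝟙 (CohIII.koszulCx M fs)
    let g : (mappingCone φ).X i →ₗ[A]
        ((CohIII.koszulCx M fs).X (i + 1)) × ((CohIII.koszulCx M fs).X i) :=
      LinearMap.prod ((mappingCone.fst φ).1.v i (i + 1) rfl).hom
        ((mappingCone.snd φ).v i i (add_zero i)).hom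
    have hg : Function.Injective g := by
      intro z z' h
      have h1 : ((mappingCone.fst φ).1.v i (i + 1) rfl).hom z =
        ((mappingCone.fst φ).1.v i (i + 1) rfl).hom z' := congrArg Prod.fst h
      have h2 : ((mappingCone.snd φ).v i i (add_zero i)).hom z =
        ((mappingCone.snd φ).v i i (add_zero i)).hom z' := congrArg Prod.snd h
      exact cone_ext φ i (i + 1) rfl z z' h1 h2
    exact Module.Finite.of_injective g hg

theorem finite_homology (K : CochainComplex (ModuleCat.{u} A) ℤ) (i : ℤ)
    [Module.Finite A (K.X i)] : Module.Finite A (K.homology i) := by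
  have h1 : Module.Finite A (K.cycles i) :=
    Module.Finite.of_injective (K.iCycles i).hom ((ModuleCat.mono_iff_injective _).mp inferInstance)
  exact Module.Finite.of_surjective (K.homologyπ i).hom
    ((ModuleCat.epi_iff_surjective _).mp inferInstance)

end Finite

section Ann

variable (M : Type u) [AddCommGroup M] [Module A M]

theorem smul_homology_of_mem_span (xs : List A) (a : A) (ha : a ∈ Ideal.span {x | x ∈ xs}) (i : ℤ)
    (z : (Kz M xs).homology i) : a • z = 0 := by
  have h := smul_homology_eq_zero (Kz M xs) a (Groth.Agent.Helper21.KH.main _ xs a ha) i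
  exact congrArg (fun ψ => ψ.hom z) h

theorem smul_homology_of_mem_annihilator (xs : List A) (a : A) (ha : a ∈ Module.annihilator A M)
    (i : ℤ) (z : (Kz M xs).homology i) : a • z = 0 := by
  have h0 : (a • 𝟙 (ModuleCat.of A M) : ModuleCat.of A M ⟶ ModuleCat.of A M) =
      (0 : A) • 𝟙 (ModuleCat.of A M) := by
    rw [zero_smul]
    ext m
    exact Module.mem_annihilator.mp ha m
  have h1 : a • 𝟙 (Kz M xs) = 0 := by
    rw [← kMap_smul_id, h0, kMap_smul_id, zero_smul]
  have h2 : a • 𝟙 ((Kz M xs).homology i) = 0 := by
    rw [← homologyMap_id, ← Groth.Agent.Helper21.KH.homologyMap_smul, h1, homologyMap_zero]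
  exact congrArg (fun ψ => ψ.hom z) h2

/-- the finite-length condition on `M/IM`, in terms of supports. -/
def FLQ (I : Ideal A) : Prop :=
  ∀ p ∈ Module.support A M, I ≤ p.asIdeal → p.asIdeal.IsMaximal

variable {M}

theorem flq_iff [IsNoetherianRing A] [Module.Finite A M] (I : Ideal A) :
    FLQ M I ↔ IsFiniteLength A (M ⧸ (I • ⊤ : Submodule A M)) := by
  rw [isFiniteLength_iff_support, Module.support_quotient]
  constructor
  · rintro h p ⟨hp1, hp2⟩
    exact h p hp1 hp2
  · intro h p hp1 hp2
    exact h p ⟨hp1, hp2⟩

theorem FLQ.mono {I J : Ideal A} (h : FLQ M I) (hIJ : I ≤ J) : FLQ M J :=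
  fun p hp hJ => h p hp (hIJ.trans hJ)

theorem FLQ.of_support_subset {N : Type u} [AddCommGroup N] [Module A N] {I : Ideal A}
    (h : FLQ M I) (hs : Module.support A N ⊆ Module.support A M) : FLQ N I :=
  fun p hp hI => h p (hs hp) hI

theorem FLQ.of_injective {N : Type u} [AddCommGroup N] [Module A N] {I : Ideal A}
    (h : FLQ M I) (f : N →ₗ[A] M) (hf : Function.Injective f) : FLQ N I :=
  h.of_support_subset (Module.support_subset_of_injective f hf)

theorem FLQ.of_surjective {N : Type u} [AddCommGroup N] [Module A N] {I : Ideal A}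
    (h : FLQ M I) (f : M →ₗ[A] N) (hf : Function.Surjective f) : FLQ N I :=
  h.of_support_subset (Module.support_subset_of_surjective f hf)

theorem isFiniteLength_homology [IsNoetherianRing A] [Module.Finite A M] (xs : List A)
    (h : FLQ M (Ideal.span {x | x ∈ xs})) (i : ℤ) :
    IsFiniteLength A ((Kz M xs).homology i) := by
  have : Module.Finite A ((Kz M xs).X i) := finite_X (ModuleCat.of A M) xs i
  have : Module.Finite A ((Kz M xs).homology i) := finite_homology _ i
  rw [isFiniteLength_iff_support]
  intro p hp
  have hann := Module.annihilator_le_of_mem_support hp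
  refine h p ?_ ?_
  · rw [Module.mem_support_iff_of_finite]
    intro a ha
    exact hann (Module.mem_annihilator.mpr fun z => smul_homology_of_mem_annihilator M xs a ha i z)
  · intro a ha
    exact hann (Module.mem_annihilator.mpr fun z => smul_homology_of_mem_span M xs a ha i z)

end Ann

end Groth.Agent.Helper12.KoszEuler
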