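import Mathlib
import Groth.Agent.Lib.Helper12.KoszEuler2

/-!
# Koszul Euler characteristics, part 5: alternating sums and Euler characteristics of complexes
-/

set_option autoImplicit false
universe u
open CategoryTheory CategoryTheory.Limits HomologicalComplex

namespace Groth.Agent.Helper12.KoszEuler

section Alt

/-- `f` vanishes outside a bounded interval. -/
def Bdd (f : ℤ → ℤ) : Prop := ∃ a b : ℤ, ∀ i, (i < a ∨ b < i) → f i = 0

/-- alternating sum -/
noncomputable def alt (f : ℤ → ℤ) : ℤ := ∑ᶠ i : ℤ, ((i.negOnePow : ℤˣ) : ℤ) * f i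

theorem Bdd.finite_support {f : ℤ → ℤ} (hf : Bdd f) :
    (Function.support fun i : ℤ => ((i.negOnePow : ℤˣ) : ℤ) * f i).Finite := by
  obtain ⟨a, b, h⟩ := hf
  refine (Set.finite_Icc a b).subset ?_
  intro i hi
  rw [Function.mem_support] at hi
  by_contra hcon
  rw [Set.mem_Icc, not_and_or, not_le, not_le] at hcon
  exact hi (by rw [h i hcon, mul_zero])

theorem Bdd.add {f g : ℤ → ℤ} (hf : Bdd f) (hg : Bdd g) : Bdd (fun i => f i + g i) := by
  obtain ⟨a, b, h⟩ := hf
  obtain ⟨a', b', h'⟩ := hg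
  refine ⟨min a a', max b b', fun i hi => ?_⟩
  show f i + g i = 0
  rw [h i (by rcases hi with hi | hi
              · exact Or.inl (lt_of_lt_of_le hi (min_le_left _ _))
              · exact Or.inr (lt_of_le_of_lt (le_max_left _ _) hi)),
    h' i (by rcases hi with hi | hi
             · exact Or.inl (lt_of_lt_of_le hi (min_le_right _ _))
             · exact Or.inr (lt_of_le_of_lt (le_max_right _ _) hi)), add_zero]

theorem Bdd.neg {f : ℤ → ℤ} (hf : Bdd f) : Bdd (fun i => - f i) := by
  obtain ⟨a, b, h⟩ := hf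
  exact ⟨a, b, fun i hi => by show - f i = 0; rw [h i hi, neg_zero]⟩

theorem Bdd.sub {f g : ℤ → ℤ} (hf : Bdd f) (hg : Bdd g) : Bdd (fun i => f i - g i) := by
  simpa [sub_eq_add_neg] using hf.add hg.neg

theorem Bdd.const_mul {f : ℤ → ℤ} (c : ℤ) (hf : Bdd f) : Bdd (fun i => c * f i) := by
  obtain ⟨a, b, h⟩ := hf
  exact ⟨a, b, fun i hi => by show c * f i = 0; rw [h i hi, mul_zero]⟩

theorem Bdd.shift {f : ℤ → ℤ} (hf : Bdd f) (k : ℤ) : Bdd (fun i => f (i + k)) := by
  obtain ⟨a, b, h⟩ := hf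
  refine ⟨a - k, b - k, fun i hi => h _ ?_⟩
  rcases hi with hi | hi
  · exact Or.inl (by omega)
  · exact Or.inr (by omega)

theorem Bdd.of_le {f g : ℤ → ℤ} (hg : Bdd g) (h0 : ∀ i, 0 ≤ f i) (h : ∀ i, f i ≤ g i) : Bdd f := by
  obtain ⟨a, b, hab⟩ := hg
  exact ⟨a, b, fun i hi => le_antisymm (by rw [← hab i hi]; exact h i) (h0 i)⟩

theorem alt_add {f g : ℤ → ℤ} (hf : Bdd f) (hg : Bdd g) :
    alt (fun i => f i + g i) = alt f + alt g := by
  unfold alt
  rw [← finsum_add_distrib hf.finite_support hg.finite_support]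
  exact finsum_congr fun i => mul_add _ _ _

theorem alt_neg (f : ℤ → ℤ) : alt (fun i => - f i) = - alt f := by
  unfold alt
  rw [← finsum_neg_distrib]
  exact finsum_congr fun i => mul_neg _ _

theorem alt_sub {f g : ℤ → ℤ} (hf : Bdd f) (hg : Bdd g) :
    alt (fun i => f i - g i) = alt f - alt g := by
  have := alt_add hf hg.neg
  rw [alt_neg] at this
  simpa [sub_eq_add_neg] using this

theorem alt_const_mul (c : ℤ) (f : ℤ → ℤ) : alt (fun i => c * f i) = c * alt f := by
  unfold alt
  rw [mul_finsum]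
  exact finsum_congr fun i => by ring

theorem alt_congr {f g : ℤ → ℤ} (h : ∀ i, f i = g i) : alt f = alt g := by
  unfold alt
  exact finsum_congr fun i => by rw [h i]

theorem alt_shift (f : ℤ → ℤ) : alt (fun i => f (i + 1)) = - alt f := by
  unfold alt
  rw [← finsum_neg_distrib]
  rw [← finsum_comp_equiv (Equiv.addRight (1 : ℤ))
    (f := fun i : ℤ => -(((i.negOnePow : ℤˣ) : ℤ) * f i))]
  refine finsum_congr fun i => ?_
  show _ = -((((i + 1).negOnePow : ℤˣ) : ℤ) * f (i + 1))
  rw [Int.negOnePow_succ]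
  simp

theorem alt_zero : alt (fun _ => 0) = 0 := by
  unfold alt
  simp

/-- Euler characteristic bookkeeping for a long exact sequence. -/
theorem alt_les (a b c r s t : ℤ → ℤ) (hr : Bdd r) (hs : Bdd s) (ht : Bdd t)
    (hb : ∀ i, b i = r i + s i) (hc : ∀ i, c i = s i + t i)
    (ha : ∀ i, a (i + 1) = t i + r (i + 1)) : alt b = alt a + alt c := by
  have h1 : alt b = alt r + alt s := by rw [alt_congr hb, alt_add hr hs]
  have h2 : alt c = alt s + alt t := by rw [alt_congr hc, alt_add hs ht]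
  have h3 : - alt a = alt t - alt r := by
    rw [← alt_shift a, alt_congr ha, alt_add ht (hr.shift 1), alt_shift r]
    ring
  linarith

end Alt

end Groth.Agent.Helper12.KoszEuler
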