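import Mathlib
import Groth.Agent.Lib.Helper12.KoszEuler5

/-!
# Koszul Euler characteristics, part 6: Euler characteristic of complexes of modules,
additivity on short exact sequences of complexes
-/

set_option autoImplicit false
universe u
open CategoryTheory CategoryTheory.Limits HomologicalComplex

namespace Groth.Agent.Helper12.KoszEuler

variable {A : Type u} [CommRing A]

/-- length of the `i`-th cohomology, as a natural number -/
noncomputable def hln (K : CochainComplex (ModuleCat.{u} A) ℤ) (i : ℤ) : ℕ :=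
  (Module.length A (K.homology i)).toNat

/-- length of the `i`-th cohomology, as an integer -/
noncomputable def hlen (K : CochainComplex (ModuleCat.{u} A) ℤ) (i : ℤ) : ℤ := (hln K i : ℤ)

/-- Euler characteristic -/
noncomputable def euler (K : CochainComplex (ModuleCat.{u} A) ℤ) : ℤ := alt (hlen K)

theorem euler_def (K : CochainComplex (ModuleCat.{u} A) ℤ) :
    euler K = ∑ᶠ i : ℤ, ((i.negOnePow : ℤˣ) : ℤ) *
      ((Module.length A (K.homology i)).toNat : ℤ) := rfl

/-- finite length, bounded cohomology -/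
structure Good (K : CochainComplex (ModuleCat.{u} A) ℤ) : Prop where
  fl : ∀ i, IsFiniteLength A (K.homology i)
  bdd : ∃ a b : ℤ, ∀ i, (i < a ∨ b < i) → IsZero (K.homology i)

theorem hln_of_isZero (K : CochainComplex (ModuleCat.{u} A) ℤ) (i : ℤ) (h : IsZero (K.homology i)) :
    hln K i = 0 := by
  unfold hln
  have : Subsingleton (K.homology i) := ModuleCat.subsingleton_of_isZero h
  rw [Module.length_eq_zero]
  rfl

theorem Good.bdd_hlen {K : CochainComplex (ModuleCat.{u} A) ℤ} (h : Good K) : Bdd (hlen K) := by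
  obtain ⟨a, b, hab⟩ := h.bdd
  refine ⟨a, b, fun i hi => ?_⟩
  unfold hlen
  rw [hln_of_isZero K i (hab i hi)]
  rfl

theorem Good.length_eq {K : CochainComplex (ModuleCat.{u} A) ℤ} (h : Good K) (i : ℤ) :
    Module.length A (K.homology i) = (hln K i : ℕ∞) := by
  unfold hln
  rw [ENat.natCast_toNat]
  exact Module.length_ne_top_iff.mpr (h.fl i)

theorem hln_eq_of_iso {K L : CochainComplex (ModuleCat.{u} A) ℤ} (i : ℤ)
    (e : K.homology i ≅ L.homology i) : hln K i = hln L i := by
  unfold hln
  rw [e.toLinearEquiv.length_eq]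

theorem euler_eq_of_iso {K L : CochainComplex (ModuleCat.{u} A) ℤ}
    (e : ∀ i, Nonempty (K.homology i ≅ L.homology i)) : euler K = euler L := by
  unfold euler
  refine alt_congr fun i => ?_
  obtain ⟨e⟩ := e i
  unfold hlen
  rw [hln_eq_of_iso i e]

theorem Good.of_iso {K L : CochainComplex (ModuleCat.{u} A) ℤ} (h : Good K)
    (e : ∀ i, Nonempty (K.homology i ≅ L.homology i)) : Good L := by
  refine ⟨fun i => ?_, ?_⟩
  · obtain ⟨e⟩ := e i
    exact e.toLinearEquiv.isFiniteLength (h.fl i)
  · obtain ⟨a, b, hab⟩ := h.bdd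
    refine ⟨a, b, fun i hi => ?_⟩
    obtain ⟨e⟩ := e i
    exact (hab i hi).of_iso e.symm

theorem toNat_add_of_eq {x y z : ℕ∞} (hx : x ≠ ⊤) (h : x = y + z) :
    (x.toNat : ℤ) = (y.toNat : ℤ) + (z.toNat : ℤ) := by
  have hy : y ≠ ⊤ := by
    rintro rfl
    exact hx (by rw [h, top_add])
  have hz : z ≠ ⊤ := by
    rintro rfl
    exact hx (by rw [h, add_top])
  rw [h, ENat.toNat_add hy hz]
  push_cast
  rfl

theorem euler_of_shortExact (S : ShortComplex (CochainComplex (ModuleCat.{u} A) ℤ))
    (hS : S.ShortExact) (h1 : Good S.X₁) (h2 : Good S.X₂) (h3 : Good S.X₃) :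
    euler S.X₂ = euler S.X₁ + euler S.X₃ := by
  let r : ℤ → ℤ := fun i =>
    ((Module.length A (LinearMap.range (homologyMap S.f i).hom)).toNat : ℤ)
  let s : ℤ → ℤ := fun i =>
    ((Module.length A (LinearMap.range (homologyMap S.g i).hom)).toNat : ℤ)
  let t : ℤ → ℤ := fun i =>
    ((Module.length A (LinearMap.range (hS.δ i (i + 1) rfl).hom)).toNat : ℤ)
  have ne2 : ∀ i, Module.length A (S.X₂.homology i) ≠ ⊤ :=
    fun i => Module.length_ne_top_iff.mpr (h2.fl i)
  have ne3 : ∀ i, Module.length A (S.X₃.homology i) ≠ ⊤ :=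
    fun i => Module.length_ne_top_iff.mpr (h3.fl i)
  have ne1 : ∀ i, Module.length A (S.X₁.homology i) ≠ ⊤ :=
    fun i => Module.length_ne_top_iff.mpr (h1.fl i)
  have hb : ∀ i, hlen S.X₂ i = r i + s i := by
    intro i
    have e := hS.homology_exact₂ i
    rw [ShortComplex.ShortExact.moduleCat_exact_iff_function_exact] at e
    exact toNat_add_of_eq (ne2 i) (length_eq_range_add_range _ _ e)
  have hc : ∀ i, hlen S.X₃ i = s i + t i := by
    intro i
    have e := hS.homology_exact₃ i (i + 1) rfl
    rw [ShortComplex.ShortExact.moduleCat_exact_iff_function_exact] at e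
    exact toNat_add_of_eq (ne3 i) (length_eq_range_add_range _ _ e)
  have ha : ∀ i, hlen S.X₁ (i + 1) = t i + r (i + 1) := by
    intro i
    have e := hS.homology_exact₁ i (i + 1) rfl
    rw [ShortComplex.ShortExact.moduleCat_exact_iff_function_exact] at e
    exact toNat_add_of_eq (ne1 (i + 1)) (length_eq_range_add_range _ _ e)
  have hr : Bdd r := by
    refine h2.bdd_hlen.of_le (fun i => Int.natCast_nonneg _) (fun i => ?_)
    rw [hb i]
    exact le_add_of_nonneg_right (Int.natCast_nonneg _)
  have hs : Bdd s := by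
    refine h2.bdd_hlen.of_le (fun i => Int.natCast_nonneg _) (fun i => ?_)
    rw [hb i]
    exact le_add_of_nonneg_left (Int.natCast_nonneg _)
  have ht : Bdd t := by
    refine h3.bdd_hlen.of_le (fun i => Int.natCast_nonneg _) (fun i => ?_)
    rw [hc i]
    exact le_add_of_nonneg_left (Int.natCast_nonneg _)
  exact alt_les (hlen S.X₁) (hlen S.X₂) (hlen S.X₃) r s t hr hs ht hb hc ha

end Groth.Agent.Helper12.KoszEuler
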