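import Mathlib
import Groth.Prelude.Def_ega3
import Groth.Agent.Lib.Helper21.KoszFun
import Groth.Agent.Lib.Helper12.KoszEuler4
import Groth.Agent.Lib.Helper12.KoszEuler6

/-!
# Koszul Euler characteristics, part 7: `χ(xs; M)`, additivity in `M`, head multiplicativity
-/

set_option autoImplicit false
universe u
open CategoryTheory CategoryTheory.Limits CochainComplex HomologicalComplex
open Groth.Agent.Helper21.KF Groth.Agent.Helper21.KH Groth.Agent.Helper5.HS

namespace Groth.Agent.Helper12.KoszEuler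

variable {A : Type u} [CommRing A]

theorem isZero_homology_Kz (M : Type u) [AddCommGroup M] [Module A M] (xs : List A) (i : ℤ)
    (hi : i < -(xs.length : ℤ) ∨ 0 < i) : IsZero ((Kz M xs).homology i) := by
  rcases hi with hi | hi
  · exact isZero_homology_of_isZero_X _ i (isZero_X_of_lt _ xs i hi)
  · exact isZero_homology_of_isZero_X _ i (isZero_X_of_pos _ xs i hi)

/-- `χ(xs; M)` -/
noncomputable def chi (M : Type u) [AddCommGroup M] [Module A M] (xs : List A) : ℤ :=
  euler (Kz M xs)

section Noeth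

variable [IsNoetherianRing A]

theorem good_Kz (M : Type u) [AddCommGroup M] [Module A M] [Module.Finite A M] (xs : List A)
    (h : FLQ M (Ideal.span {x | x ∈ xs})) : Good (Kz M xs) :=
  ⟨fun i => isFiniteLength_homology xs h i,
    ⟨-(xs.length : ℤ), 0, fun i hi => isZero_homology_Kz M xs i hi⟩⟩

theorem chi_of_exact {M' M M'' : Type u} [AddCommGroup M'] [Module A M'] [Module.Finite A M']
    [AddCommGroup M] [Module A M] [Module.Finite A M]
    [AddCommGroup M''] [Module A M''] [Module.Finite A M'']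
    (g₁ : M' →ₗ[A] M) (g₂ : M →ₗ[A] M'') (hinj : Function.Injective g₁)
    (hsurj : Function.Surjective g₂) (hex : Function.Exact g₁ g₂) (xs : List A)
    (h : FLQ M (Ideal.span {x | x ∈ xs})) :
    chi M xs = chi M' xs + chi M'' xs := by
  have hinj' : Function.Injective (ModuleCat.ofHom g₁).hom := hinj
  have hsurj' : Function.Surjective (ModuleCat.ofHom g₂).hom := hsurj
  have hex' : Function.Exact (ModuleCat.ofHom g₁).hom (ModuleCat.ofHom g₂).hom := hex
  have hS := kSC_shortExact (ModuleCat.ofHom g₁) (ModuleCat.ofHom g₂) hinj' hsurj' hex' xs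
  have g1 : Good (kSC (ModuleCat.ofHom g₁) (ModuleCat.ofHom g₂) hinj' hsurj' hex' xs).X₁ :=
    good_Kz M' xs (h.of_injective g₁ hinj)
  have g2 : Good (kSC (ModuleCat.ofHom g₁) (ModuleCat.ofHom g₂) hinj' hsurj' hex' xs).X₂ :=
    good_Kz M xs h
  have g3 : Good (kSC (ModuleCat.ofHom g₁) (ModuleCat.ofHom g₂) hinj' hsurj' hex' xs).X₃ :=
    good_Kz M'' xs (h.of_surjective g₂ hsurj)
  have := euler_of_shortExact _ hS g1 g2 g3
  dsimp only [kSC] at this
  unfold chi Kz
  exact this

theorem toNat_six {a b c d e f : ℕ∞} (ha : a ≠ ⊤) (hb : b ≠ ⊤) (hc : c ≠ ⊤) (hd : d ≠ ⊤)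
    (he : e ≠ ⊤) (hf : f ≠ ⊤) (h : a + b + c = d + e + f) :
    (a.toNat : ℤ) + b.toNat + c.toNat = d.toNat + e.toNat + f.toNat := by
  lift a to ℕ using ha
  lift b to ℕ using hb
  lift c to ℕ using hc
  lift d to ℕ using hd
  lift e to ℕ using he
  lift f to ℕ using hf
  simp only [ENat.toNat_coe]
  exact_mod_cast h

section Cons

variable (M : Type u) [AddCommGroup M] [Module A M] (x : A) (l : List A)

omit [IsNoetherianRing A] in
theorem length_homology_cons (i : ℤ) :
    Module.length A ((Kz M (x :: l)).homology i) =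
      ck ((Kz M l).homology i) x + kr ((Kz M l).homology (i + 1)) x :=
  length_cone_smul (Kz M l) x i

/-- `ℓ(H^i(l;M)/x)` as an integer -/
noncomputable def cz (i : ℤ) : ℤ := ((ck ((Kz M l).homology i) x).toNat : ℤ)

/-- `ℓ(H^i(l;M)[x])` as an integer -/
noncomputable def kz (i : ℤ) : ℤ := ((kr ((Kz M l).homology i) x).toNat : ℤ)

theorem bdd_cz : Bdd (cz M x l) := by
  refine ⟨-(l.length : ℤ), 0, fun i hi => ?_⟩
  have : Subsingleton ((Kz M l).homology i) :=
    ModuleCat.subsingleton_of_isZero (isZero_homology_Kz M l i hi)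
  unfold cz
  have h0 : ck ((Kz M l).homology i) x = 0 :=
    le_antisymm ((ck_le _ x).trans (le_of_eq Module.length_eq_zero)) zero_le
  rw [h0]
  rfl

theorem bdd_kz : Bdd (kz M x l) := by
  refine ⟨-(l.length : ℤ), 0, fun i hi => ?_⟩
  have : Subsingleton ((Kz M l).homology i) :=
    ModuleCat.subsingleton_of_isZero (isZero_homology_Kz M l i hi)
  unfold kz
  have h0 : kr ((Kz M l).homology i) x = 0 :=
    le_antisymm ((kr_le _ x).trans (le_of_eq Module.length_eq_zero)) zero_le
  rw [h0]
  rfl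

variable [Module.Finite A M]

theorem ck_ne_top (h : FLQ M (Ideal.span {y | y ∈ x :: l})) (i : ℤ) :
    ck ((Kz M l).homology i) x ≠ ⊤ := by
  have h1 := length_homology_cons M x l i
  have h2 := Module.length_ne_top_iff.mpr ((good_Kz M (x :: l) h).fl i)
  intro h3
  rw [h3, top_add] at h1
  exact h2 h1

theorem kr_ne_top (h : FLQ M (Ideal.span {y | y ∈ x :: l})) (i : ℤ) :
    kr ((Kz M l).homology i) x ≠ ⊤ := by
  have h1 := length_homology_cons M x l (i - 1)
  have h2 := Module.length_ne_top_iff.mpr ((good_Kz M (x :: l) h).fl (i - 1))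
  intro h3
  rw [sub_add_cancel, h3, add_top] at h1
  exact h2 h1

theorem hlen_cons (h : FLQ M (Ideal.span {y | y ∈ x :: l})) (i : ℤ) :
    hlen (Kz M (x :: l)) i = cz M x l i + kz M x l (i + 1) := by
  unfold hlen hln cz kz
  rw [length_homology_cons, ENat.toNat_add (ck_ne_top M x l h i) (kr_ne_top M x l h (i + 1))]
  push_cast
  rfl

theorem chi_cons (h : FLQ M (Ideal.span {y | y ∈ x :: l})) :
    chi M (x :: l) = alt (cz M x l) - alt (kz M x l) := by
  unfold chi euler
  rw [alt_congr (hlen_cons M x l h), alt_add (bdd_cz M x l) ((bdd_kz M x l).shift 1),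
    alt_shift]
  ring

/-- If `M/(l)M` already has finite length, then `χ(x, l; M) = 0`. -/
theorem chi_cons_eq_zero (h : FLQ M (Ideal.span {y | y ∈ l})) : chi M (x :: l) = 0 := by
  have h' : FLQ M (Ideal.span {y | y ∈ x :: l}) :=
    h.mono (Ideal.span_mono fun y hy => List.mem_cons_of_mem x hy)
  rw [chi_cons M x l h']
  have : ∀ i, cz M x l i = kz M x l i := by
    intro i
    unfold cz kz
    rw [ck_eq_kr_of_isFiniteLength _ x ((good_Kz M l h).fl i)]
  rw [alt_congr this, sub_self]

theorem flq_mul_head {x y : A} {l : List A} (hx : FLQ M (Ideal.span {z | z ∈ x :: l}))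
    (hy : FLQ M (Ideal.span {z | z ∈ y :: l})) : FLQ M (Ideal.span {z | z ∈ (x * y) :: l}) := by
  intro p hp hle
  have hl : ∀ z ∈ l, z ∈ p.asIdeal := fun z hz =>
    hle (Ideal.subset_span (List.mem_cons_of_mem _ hz))
  have hxy : x * y ∈ p.asIdeal := hle (Ideal.subset_span List.mem_cons_self)
  rcases p.2.mem_or_mem hxy with h | h
  · refine hx p hp (Ideal.span_le.mpr ?_)
    intro z hz
    rcases List.mem_cons.mp hz with rfl | hz
    · exact h
    · exact hl z hz
  · refine hy p hp (Ideal.span_le.mpr ?_)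
    intro z hz
    rcases List.mem_cons.mp hz with rfl | hz
    · exact h
    · exact hl z hz

/-- `χ(xy, l; M) = χ(x, l; M) + χ(y, l; M)`. -/
theorem chi_mul_head (x y : A) (l : List A) (hx : FLQ M (Ideal.span {z | z ∈ x :: l}))
    (hy : FLQ M (Ideal.span {z | z ∈ y :: l})) :
    chi M ((x * y) :: l) = chi M (x :: l) + chi M (y :: l) := by
  have hxy := flq_mul_head M hx hy
  rw [chi_cons M _ l hxy, chi_cons M x l hx, chi_cons M y l hy]
  have key : ∀ i, kz M y l i + kz M x l i + cz M (x * y) l i =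
      kz M (x * y) l i + cz M y l i + cz M x l i := by
    intro i
    have h1 := kr_add_kr_add_ck ((Kz M l).homology i) x y
    exact toNat_six (kr_ne_top M y l hy i) (kr_ne_top M x l hx i) (ck_ne_top M (x * y) l hxy i)
      (kr_ne_top M (x * y) l hxy i) (ck_ne_top M y l hy i) (ck_ne_top M x l hx i) h1
  have h2 := alt_congr key
  rw [alt_add (((bdd_kz M y l).add (bdd_kz M x l))) (bdd_cz M (x * y) l),
    alt_add (bdd_kz M y l) (bdd_kz M x l),
    alt_add (((bdd_kz M (x * y) l).add (bdd_cz M y l))) (bdd_cz M x l),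
    alt_add (bdd_kz M (x * y) l) (bdd_cz M y l)] at h2
  linarith

end Cons

end Noeth

end Groth.Agent.Helper12.KoszEuler
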