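import Mathlib
import Groth.Agent.Lib.Helper12.KoszEuler7

/-!
# Koszul Euler characteristics, part 10: torsion, regular elements, reduction of the head
-/

set_option autoImplicit false
universe u
open CategoryTheory CategoryTheory.Limits CochainComplex HomologicalComplex Pointwise
open Groth.Agent.Helper21.KF Groth.Agent.Helper21.KH Groth.Agent.Helper5.HS

namespace Groth.Agent.Helper12.KoszEuler

variable {A : Type u} [CommRing A] [IsNoetherianRing A]

section

variable (M : Type u) [AddCommGroup M] [Module A M] [Module.Finite A M] (x : A) (l : List A)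

/-- `χ(x, l; M) = χ(l; M/xM)` for `x` regular on `M`. -/
theorem chi_regular (hreg : IsSMulRegular M x) :
    chi M (x :: l) = chi (QuotSMulTop x M) l :=
  euler_eq_of_iso fun i => homology_cone_iso M x hreg l i

/-- `χ(x, l; M) = 0` if a power of `x` kills `M`. -/
theorem chi_torsion (n : ℕ) (hn : ∀ m : M, x ^ n • m = 0)
    (h : FLQ M (Ideal.span {y | y ∈ x :: l})) : chi M (x :: l) = 0 := by
  apply chi_cons_eq_zero
  intro p hp hle
  refine h p hp (Ideal.span_le.mpr ?_)
  intro z hz
  rcases List.mem_cons.mp hz with rfl | hz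
  · have h1 : z ^ n ∈ p.asIdeal :=
      Module.annihilator_le_of_mem_support hp (Module.mem_annihilator.mpr hn)
    exact p.2.mem_of_pow_mem n h1
  · exact hle (Ideal.subset_span hz)

theorem exists_regular_on_smul_top :
    ∃ n : ℕ, IsSMulRegular (x ^ n • (⊤ : Submodule A M) : Submodule A M) x := by
  let f : ℕ →o Submodule A M :=
    ⟨fun k => LinearMap.ker (LinearMap.lsmul A M (x ^ k)), by
      intro a b hab m hm
      rw [LinearMap.mem_ker] at hm ⊢
      show x ^ b • m = 0
      have hm' : x ^ a • m = 0 := hm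
      rw [← Nat.sub_add_cancel hab, pow_add, mul_smul, hm', smul_zero]⟩
  obtain ⟨n, hn⟩ := monotone_stabilizes_iff_noetherian.mpr
    (inferInstance : IsNoetherian A M) f
  refine ⟨n, ?_⟩
  rw [isSMulRegular_iff_right_eq_zero_of_smul]
  rintro ⟨u, hu⟩ h0
  obtain ⟨m, -, rfl⟩ := (Submodule.mem_smul_pointwise_iff_exists _ _ _).mp hu
  have h1 : x • (x ^ n • m) = 0 := congrArg Subtype.val h0
  have h2 : m ∈ f (n + 1) := by
    show x ^ (n + 1) • m = 0
    rw [pow_succ', mul_smul, h1]
  rw [← hn (n + 1) (Nat.le_succ n)] at h2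
  apply Subtype.ext
  exact h2

/-- replacing `M` by `xⁿM` does not change `χ(x, l; -)`. -/
theorem chi_eq_chi_smul_top (n : ℕ) (h : FLQ M (Ideal.span {y | y ∈ x :: l})) :
    chi M (x :: l) = chi (x ^ n • (⊤ : Submodule A M) : Submodule A M) (x :: l) := by
  have h1 := chi_of_exact (x ^ n • (⊤ : Submodule A M) : Submodule A M).subtype
    (x ^ n • (⊤ : Submodule A M) : Submodule A M).mkQ (Submodule.injective_subtype _)
    (Submodule.mkQ_surjective _) (LinearMap.exact_subtype_mkQ _) (x :: l) h
  have h2 : chi (M ⧸ (x ^ n • (⊤ : Submodule A M) : Submodule A M)) (x :: l) = 0 := by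
    refine chi_torsion _ x l n ?_ (h.of_surjective _ (Submodule.mkQ_surjective _))
    intro q
    obtain ⟨m, rfl⟩ := Submodule.mkQ_surjective _ q
    rw [← _root_.map_smul, Submodule.mkQ_apply, Submodule.Quotient.mk_eq_zero]
    exact Submodule.smul_mem_pointwise_smul m (x ^ n) ⊤ Submodule.mem_top
  rw [h1, h2, add_zero]

/-- Reduction of the head: `χ(x, l; M) = χ(l; M'/xM')` with `M' = xⁿM` on which `x` is regular. -/
theorem exists_reduction :
    ∃ n : ℕ, IsSMulRegular (x ^ n • (⊤ : Submodule A M) : Submodule A M) x ∧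
      ∀ l' : List A, FLQ M (Ideal.span {y | y ∈ x :: l'}) →
        chi M (x :: l') =
          chi (QuotSMulTop x (x ^ n • (⊤ : Submodule A M) : Submodule A M)) l' := by
  obtain ⟨n, hn⟩ := exists_regular_on_smul_top M x
  refine ⟨n, hn, fun l' h' => ?_⟩
  rw [chi_eq_chi_smul_top M x l' n h', chi_regular _ x l' hn]

end

end Groth.Agent.Helper12.KoszEuler
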