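import Mathlib
import Groth.Agent.Lib.Helper12.KoszEuler10

/-!
# Koszul Euler characteristics, part 11: powers of the elements
-/

set_option autoImplicit false
universe u
open CategoryTheory CategoryTheory.Limits CochainComplex HomologicalComplex Pointwise
open Groth.Agent.Helper21.KF Groth.Agent.Helper21.KH Groth.Agent.Helper5.HS

namespace Groth.Agent.Helper12.KoszEuler

variable {A : Type u} [CommRing A]

section NoNoeth

variable (M : Type u) [AddCommGroup M] [Module A M]

/-- if `1 ∈ (l)` then all Koszul homology vanishes. -/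
theorem chi_eq_zero_of_one_mem (l : List A) (h : (1 : A) ∈ Ideal.span {y | y ∈ l}) :
    chi M l = 0 := by
  unfold chi euler
  rw [← alt_zero]
  refine alt_congr fun i => ?_
  unfold hlen
  have : Subsingleton ((Kz M l).homology i) :=
    ⟨fun a b => by
      rw [← one_smul A a, ← one_smul A b, smul_homology_of_mem_span M l 1 h i a,
        smul_homology_of_mem_span M l 1 h i b]⟩
  rw [hln_of_isZero _ i (ModuleCat.isZero_of_subsingleton _)]
  rfl

variable {M}

theorem FLQ.of_forall_prime {I J : Ideal A} (h : FLQ M I)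
    (hIJ : ∀ p : Ideal A, p.IsPrime → J ≤ p → I ≤ p) : FLQ M J :=
  fun p hp hJ => h p hp (hIJ p.asIdeal p.2 hJ)

theorem flq_pow_head {x : A} {l : List A} (h : FLQ M (Ideal.span {y | y ∈ x :: l})) (m : ℕ) :
    FLQ M (Ideal.span {y | y ∈ x ^ m :: l}) := by
  refine h.of_forall_prime fun p hp hle => Ideal.span_le.mpr ?_
  intro z hz
  rcases List.mem_cons.mp hz with rfl | hz
  · exact hp.mem_of_pow_mem m (hle (Ideal.subset_span List.mem_cons_self))
  · exact hle (Ideal.subset_span (List.mem_cons_of_mem _ hz))

end NoNoeth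

variable [IsNoetherianRing A]

theorem chi_pow_head (M : Type u) [AddCommGroup M] [Module A M] [Module.Finite A M] (x : A)
    (l : List A) (h : FLQ M (Ideal.span {y | y ∈ x :: l})) :
    ∀ m : ℕ, 0 < m → chi M (x ^ m :: l) = (m : ℤ) * chi M (x :: l) := by
  intro m hm
  induction m with
  | zero => exact absurd hm (lt_irrefl 0)
  | succ m ih =>
    rcases Nat.eq_zero_or_pos m with rfl | hm'
    · simp
    · rw [pow_succ, chi_mul_head M (x ^ m) x l (flq_pow_head h m) h, ih hm']
      push_cast
      ring

theorem flq_quotSMulTop_smul_top (M : Type u) [AddCommGroup M] [Module A M] (x : A) (n : ℕ)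
    (l : List A) (h : FLQ M (Ideal.span {y | y ∈ x :: l})) :
    FLQ (QuotSMulTop x (x ^ n • (⊤ : Submodule A M) : Submodule A M))
      (Ideal.span {y | y ∈ l}) := by
  intro p hp hle
  refine h p ?_ (Ideal.span_le.mpr ?_)
  · exact Module.support_subset_of_injective _ (Submodule.injective_subtype _)
      (Module.support_subset_of_surjective _ (Submodule.mkQ_surjective _) hp)
  · intro z hz
    rcases List.mem_cons.mp hz with rfl | hz
    · refine Module.annihilator_le_of_mem_support hp (Module.mem_annihilator.mpr ?_)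
      intro q
      obtain ⟨u, rfl⟩ := Submodule.mkQ_surjective _ q
      rw [← _root_.map_smul, Submodule.mkQ_apply, Submodule.Quotient.mk_eq_zero]
      exact Submodule.smul_mem_pointwise_smul u z ⊤ Submodule.mem_top
    · exact hle (Ideal.subset_span hz)

theorem mem_ofFn_set {k : ℕ} (x : Fin k → A) : {y | y ∈ List.ofFn x} = Set.range x := by
  ext y
  simp [List.mem_ofFn]

/-- `χ(x₁^{m₁}, …, x_k^{m_k}; M) = m₁ ⋯ m_k · χ(x₁, …, x_k; M)`. -/
theorem chi_pow : ∀ (k : ℕ) (x : Fin k → A) (m : Fin k → ℕ) (M : Type u) [AddCommGroup M]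
    [Module A M] [Module.Finite A M], FLQ M (Ideal.span (Set.range x)) →
    chi M (List.ofFn fun j => x j ^ m j) = (∏ j, (m j : ℤ)) * chi M (List.ofFn x) := by
  intro k
  induction k with
  | zero =>
    intro x m M _ _ _ _
    simp
  | succ k ih =>
    intro x m M _ _ _ h
    by_cases h0 : ∃ j, m j = 0
    · obtain ⟨j, hj⟩ := h0
      rw [Finset.prod_eq_zero (Finset.mem_univ j) (by rw [hj]; rfl), zero_mul]
      apply chi_eq_zero_of_one_mem
      apply Ideal.subset_span
      show (1 : A) ∈ List.ofFn fun j => x j ^ m j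
      rw [List.mem_ofFn]
      exact ⟨j, by rw [hj, pow_zero]⟩
    · push_neg at h0
      have hpos : ∀ j, 0 < m j := fun j => Nat.pos_of_ne_zero (h0 j)
      rw [List.ofFn_succ, List.ofFn_succ, Fin.prod_univ_succ]
      set l' : List A := List.ofFn fun j : Fin k => x j.succ ^ m j.succ with hl'
      set l : List A := List.ofFn fun j : Fin k => x j.succ with hl
      have hfl : FLQ M (Ideal.span {y | y ∈ x 0 :: l}) := by
        rw [hl, ← List.ofFn_succ, mem_ofFn_set]
        exact h
      have hfl' : FLQ M (Ideal.span {y | y ∈ x 0 :: l'}) := by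
        refine hfl.of_forall_prime fun p hp hle => Ideal.span_le.mpr ?_
        intro z hz
        rcases List.mem_cons.mp hz with rfl | hz
        · exact hle (Ideal.subset_span List.mem_cons_self)
        · rw [hl, List.mem_ofFn] at hz
          obtain ⟨j, rfl⟩ := hz
          refine hp.mem_of_pow_mem (m j.succ) (hle (Ideal.subset_span ?_))
          refine List.mem_cons_of_mem _ ?_
          rw [hl', List.mem_ofFn]
          exact ⟨j, rfl⟩
      obtain ⟨n, -, hred⟩ := exists_reduction M (x 0)
      rw [chi_pow_head M (x 0) l' hfl' (m 0) (hpos 0), hred l' hfl', hred l hfl]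
      have hN := flq_quotSMulTop_smul_top M (x 0) n l hfl
      rw [hl, mem_ofFn_set] at hN
      rw [hl', hl, ih (fun j => x j.succ) (fun j => m j.succ) _ hN]
      ring

end Groth.Agent.Helper12.KoszEuler
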