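import Mathlib
import Groth.Agent.Lib.Helper5.HS4
import Groth.Agent.Lib.Helper12.KoszEuler11

/-!
# Koszul Euler characteristics, part 12: vanishing below the dimension, positivity
-/

set_option autoImplicit false
universe u
open CategoryTheory CategoryTheory.Limits CochainComplex HomologicalComplex Pointwise
open Groth.Agent.Helper21.KF Groth.Agent.Helper21.KH Groth.Agent.Helper5.HS

namespace Groth.Agent.Helper12.KoszEuler

variable {A : Type u} [CommRing A]

/-- `χ(∅; M) = ℓ(M)`. -/
theorem chi_nil (M : Type u) [AddCommGroup M] [Module A M] :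
    chi M ([] : List A) = ((Module.length A M).toNat : ℤ) := by
  unfold chi euler alt
  rw [finsum_eq_single _ (0 : ℤ)]
  · have e : (Kz M ([] : List A)).homology 0 ≅ ModuleCat.of A M :=
      HomologicalComplex.singleObjHomologySelfIso (ComplexShape.up ℤ) (0 : ℤ) (ModuleCat.of A M)
    unfold hlen hln
    rw [e.toLinearEquiv.length_eq]
    simp
  · intro i hi
    have : IsZero ((Kz M ([] : List A)).homology i) :=
      HomologicalComplex.isZero_single_obj_homology (ComplexShape.up ℤ) (0 : ℤ) _ i hi
    unfold hlen
    rw [hln_of_isZero _ i this]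
    simp

section Dim

variable {M M' M'' : Type u} [AddCommGroup M] [Module A M] [AddCommGroup M'] [Module A M']
  [AddCommGroup M''] [Module A M'']

/-- if `Supp M ⊆ Supp M' ∪ Supp M''` then `dim M ≤ max (dim M') (dim M'')`. -/
theorem supportDim_le_max (h : Module.support A M ⊆ Module.support A M' ∪ Module.support A M'') :
    Module.supportDim A M ≤ max (Module.supportDim A M') (Module.supportDim A M'') := by
  unfold Module.supportDim Order.krullDim
  apply iSup_le
  intro p
  have hmono : ∀ (N : Type u) [AddCommGroup N] [Module A N], (p.head : PrimeSpectrum A) ∈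
      Module.support A N → ((p.length : ℕ) : WithBot ℕ∞) ≤ Order.krullDim (Module.support A N) := by
    intro N _ _ h0
    have hi : ∀ i, ((p i : PrimeSpectrum A)) ∈ Module.support A N := by
      intro i
      refine Module.mem_support_mono ?_ h0
      exact (p.monotone (Fin.zero_le i) : p.head ≤ p i)
    let q : LTSeries (Module.support A N) :=
      { length := p.length
        toFun := fun i => ⟨(p i : PrimeSpectrum A), hi i⟩
        step := fun i => p.step i }
    exact Order.LTSeries.length_le_krullDim q
  rcases h p.head.2 with h1 | h1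
  · exact (hmono M' h1).trans (le_max_left _ _)
  · exact (hmono M'' h1).trans (le_max_right _ _)

end Dim

section Local

variable [IsNoetherianRing A] [IsLocalRing A]

theorem withBot_lt_of_succ_le_lt {a b : WithBot ℕ∞} {d : ℕ} (h1 : a + 1 ≤ b)
    (h2 : b < ((d + 1 : ℕ) : WithBot ℕ∞)) : a < (d : WithBot ℕ∞) := by
  have h3 : a + 1 < ((d + 1 : ℕ) : WithBot ℕ∞) := lt_of_le_of_lt h1 h2
  induction a with
  | bot => exact WithBot.bot_lt_coe _
  | coe a =>
    induction a with
    | top =>
      exfalso
      have : ((⊤ : ℕ∞) : WithBot ℕ∞) + 1 = ((⊤ : ℕ∞) : WithBot ℕ∞) := rfl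
      rw [this] at h3
      exact absurd h3 (not_lt.mpr (WithBot.coe_le_coe.mpr le_top))
    | coe a =>
      have h4 : ((a + 1 : ℕ) : WithBot ℕ∞) < ((d + 1 : ℕ) : WithBot ℕ∞) := by
        simpa using h3
      have h5 : a + 1 < d + 1 := by exact_mod_cast h4
      have h6 : a < d := by omega
      exact_mod_cast h6

/-- `χ(x₁, …, x_d; M) = 0` if `dim M < d`. -/
theorem chi_eq_zero_of_supportDim_lt : ∀ (d : ℕ) (x : Fin d → A)
    (_ : ∀ j, x j ∈ IsLocalRing.maximalIdeal A) (M : Type u) [AddCommGroup M] [Module A M]
    [Module.Finite A M], FLQ M (Ideal.span (Set.range x)) →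
    Module.supportDim A M < (d : WithBot ℕ∞) → chi M (List.ofFn x) = 0 := by
  intro d
  induction d with
  | zero =>
    intro x _ M _ _ _ _ hdim
    have h0 : Module.supportDim A M = ⊥ := by
      have : Module.supportDim A M < ((⊥ : ℕ∞) : WithBot ℕ∞) := hdim
      exact WithBot.lt_coe_bot.mp this
    have : Subsingleton M := (Module.supportDim_eq_bot_iff_subsingleton (R := A) (M := M)).mp h0
    rw [List.ofFn_zero, chi_nil, Module.length_eq_zero]
    rfl
  | succ d ih =>
    intro x hx M _ _ _ h hdim
    rw [List.ofFn_succ]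
    set l : List A := List.ofFn fun j : Fin d => x j.succ with hl
    have hfl : FLQ M (Ideal.span {y | y ∈ x 0 :: l}) := by
      rw [hl, ← List.ofFn_succ, mem_ofFn_set]
      exact h
    obtain ⟨n, hreg, hred⟩ := exists_reduction M (x 0)
    rw [hred l hfl]
    have hN := flq_quotSMulTop_smul_top M (x 0) n l hfl
    rw [hl, mem_ofFn_set] at hN
    refine ih (fun j => x j.succ) (fun j => hx j.succ) _ hN ?_
    have h1 := Module.supportDim_quotSMulTop_succ_eq_supportDim hreg (hx 0)
    have h2 : Module.supportDim A (x 0 ^ n • (⊤ : Submodule A M) : Submodule A M) ≤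
        Module.supportDim A M :=
      Module.supportDim_le_of_injective _ (Submodule.injective_subtype _)
    exact withBot_lt_of_succ_le_lt (h1.le.trans h2) hdim

theorem withBot_eq_of_succ_eq {a : WithBot ℕ∞} {d : ℕ}
    (h : a + 1 = ((d + 1 : ℕ) : WithBot ℕ∞)) : a = (d : WithBot ℕ∞) := by
  induction a with
  | bot =>
    exfalso
    rw [WithBot.bot_add] at h
    exact WithBot.bot_ne_coe h
  | coe a =>
    induction a with
    | top =>
      exfalso
      have : ((⊤ : ℕ∞) : WithBot ℕ∞) + 1 = ((⊤ : ℕ∞) : WithBot ℕ∞) := rfl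
      rw [this] at h
      have h2 : ((⊤ : ℕ∞) : WithBot ℕ∞) = (((d + 1 : ℕ) : ℕ∞) : WithBot ℕ∞) := h
      exact ENat.top_ne_coe _ (WithBot.coe_injective h2)
    | coe a =>
      have h4 : ((a + 1 : ℕ) : WithBot ℕ∞) = ((d + 1 : ℕ) : WithBot ℕ∞) := by
        simpa using h
      have h5 : a + 1 = d + 1 := by exact_mod_cast h4
      have h6 : a = d := by omega
      exact_mod_cast h6

/-- `χ(x₁, …, x_d; M) > 0` if `dim M = d`. -/
theorem chi_pos_of_supportDim_eq : ∀ (d : ℕ) (x : Fin d → A)
    (_ : ∀ j, x j ∈ IsLocalRing.maximalIdeal A) (M : Type u) [AddCommGroup M] [Module A M]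
    [Module.Finite A M], FLQ M (Ideal.span (Set.range x)) →
    Module.supportDim A M = (d : WithBot ℕ∞) → 0 < chi M (List.ofFn x) := by
  intro d
  induction d with
  | zero =>
    intro x _ M _ _ _ h hdim
    have : Nontrivial M := by
      rw [← Module.supportDim_ne_bot_iff_nontrivial (R := A), hdim]
      exact WithBot.coe_ne_bot
    have hfl : IsFiniteLength A M := by
      rw [isFiniteLength_iff_support]
      exact fun p hp => h p hp (by
        have : Set.range x = ∅ := Set.range_eq_empty x
        rw [this, Ideal.span_empty]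
        exact bot_le)
    rw [List.ofFn_zero, chi_nil]
    have h1 : Module.length A M ≠ ⊤ := Module.length_ne_top_iff.mpr hfl
    have h2 : Module.length A M ≠ 0 := fun h0 =>
      not_subsingleton M (Module.length_eq_zero_iff.mp h0)
    have h3 : (Module.length A M).toNat ≠ 0 := by
      rw [Ne, ENat.toNat_eq_zero]
      tauto
    exact_mod_cast Nat.pos_of_ne_zero h3
  | succ d ih =>
    intro x hx M _ _ _ h hdim
    rw [List.ofFn_succ]
    set l : List A := List.ofFn fun j : Fin d => x j.succ with hl
    have hfl : FLQ M (Ideal.span {y | y ∈ x 0 :: l}) := by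
      rw [hl, ← List.ofFn_succ, mem_ofFn_set]
      exact h
    obtain ⟨n, hreg, hred⟩ := exists_reduction M (x 0)
    rw [hred l hfl]
    have hN := flq_quotSMulTop_smul_top M (x 0) n l hfl
    rw [hl, mem_ofFn_set] at hN
    refine ih (fun j => x j.succ) (fun j => hx j.succ) _ hN ?_
    have h1 := Module.supportDim_quotSMulTop_succ_eq_supportDim hreg (hx 0)
    have h2 : Module.supportDim A (x 0 ^ n • (⊤ : Submodule A M) : Submodule A M) ≤
        Module.supportDim A M :=
      Module.supportDim_le_of_injective _ (Submodule.injective_subtype _)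
    -- the quotient `M / x₀ⁿ M` has dimension `≤ d`
    have hQ : Module.supportDim A (M ⧸ (x 0 ^ n • (⊤ : Submodule A M) : Submodule A M)) ≤
        (d : WithBot ℕ∞) := by
      refine supportDim_le_of_forall_isMaximal d _ (fun j => x j.succ) (fun j => ?_) ?_
      · rw [IsLocalRing.ringJacobson_eq_maximalIdeal]
        exact hx j.succ
      · rintro p ⟨hp1, hp2⟩
        refine h p (Module.support_subset_of_surjective _ (Submodule.mkQ_surjective _) hp1)
          (Ideal.span_le.mpr ?_)
        rintro _ ⟨j, rfl⟩
        refine Fin.cases ?_ (fun j => ?_) j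
        · have h3 : x 0 ^ n ∈ p.asIdeal := by
            refine Module.annihilator_le_of_mem_support hp1 (Module.mem_annihilator.mpr ?_)
            intro q
            obtain ⟨m, rfl⟩ := Submodule.mkQ_surjective _ q
            rw [← _root_.map_smul, Submodule.mkQ_apply, Submodule.Quotient.mk_eq_zero]
            exact Submodule.smul_mem_pointwise_smul m (x 0 ^ n) ⊤ Submodule.mem_top
          exact p.2.mem_of_pow_mem n h3
        · exact hp2 ⟨j, rfl⟩
    have hsupp := Module.support_of_exact
      (LinearMap.exact_subtype_mkQ (x 0 ^ n • (⊤ : Submodule A M) : Submodule A M))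
      (Submodule.injective_subtype _) (Submodule.mkQ_surjective _)
    have h3 := supportDim_le_max (A := A) (M := M)
      (M' := (x 0 ^ n • (⊤ : Submodule A M) : Submodule A M))
      (M'' := M ⧸ (x 0 ^ n • (⊤ : Submodule A M) : Submodule A M)) hsupp.le
    rw [hdim] at h3 h2
    have h4 : ((d + 1 : ℕ) : WithBot ℕ∞) ≤
        Module.supportDim A (x 0 ^ n • (⊤ : Submodule A M) : Submodule A M) := by
      rcases le_max_iff.mp h3 with h5 | h5
      · exact h5
      · exfalso
        have h6 := h5.trans hQ
        have h7 : d + 1 ≤ d := by exact_mod_cast h6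
        omega
    have h5 := le_antisymm h2 h4
    rw [h5] at h1
    exact withBot_eq_of_succ_eq h1

end Local

end Groth.Agent.Helper12.KoszEuler
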