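import Mathlib
import Groth.Agent.Lib.Helper12.KoszEuler6

/-!
# Koszul Euler characteristics, part 17: subcomplexes and quotient complexes of a complex of
modules given by a family of submodules stable under the differential
-/

set_option autoImplicit false
universe u
open CategoryTheory CategoryTheory.Limits HomologicalComplex

namespace Groth.Agent.Helper12.KoszEuler

variable {A : Type u} [CommRing A]

section SubQuo

variable (K : CochainComplex (ModuleCat.{u} A) ℤ) (S : ∀ i, Submodule A (K.X i))
  (hS : ∀ i j, S i ≤ (S j).comap (K.d i j).hom)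

/-- the subcomplex with terms `S i` -/
noncomputable def subCx : CochainComplex (ModuleCat.{u} A) ℤ where
  X i := ModuleCat.of A (S i)
  d i j := ModuleCat.ofHom ((K.d i j).hom.restrict (hS i j))
  shape i j h := by
    ext z
    show (K.d i j).hom z.1 = 0
    rw [K.shape i j h]
    rfl
  d_comp_d' i j k _ _ := by
    ext z
    show (K.d j k).hom ((K.d i j).hom z.1) = 0
    rw [← ModuleCat.comp_apply, K.d_comp_d]
    rfl

/-- the quotient complex with terms `K.X i ⧸ S i` -/
noncomputable def quoCx : CochainComplex (ModuleCat.{u} A) ℤ where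
  X i := ModuleCat.of A (K.X i ⧸ S i)
  d i j := ModuleCat.ofHom ((S i).mapQ (S j) (K.d i j).hom (hS i j))
  shape i j h := by
    ext z
    show Submodule.Quotient.mk ((K.d i j).hom z) = 0
    rw [K.shape i j h]
    exact Submodule.Quotient.mk_zero _
  d_comp_d' i j k _ _ := by
    ext z
    show Submodule.Quotient.mk ((K.d j k).hom ((K.d i j).hom z)) = 0
    rw [← ModuleCat.comp_apply, K.d_comp_d]
    exact Submodule.Quotient.mk_zero _

/-- the inclusion of the subcomplex -/
noncomputable def subι : subCx K S hS ⟶ K where
  f i := ModuleCat.ofHom (S i).subtype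
  comm' i j _ := by
    ext z
    rfl

/-- the projection to the quotient complex -/
noncomputable def quoπ : K ⟶ quoCx K S hS where
  f i := ModuleCat.ofHom (S i).mkQ
  comm' i j _ := by
    ext z
    rfl

theorem subι_quoπ : subι K S hS ≫ quoπ K S hS = 0 := by
  ext i z
  show (S i).mkQ ((S i).subtype z) = 0
  rw [Submodule.mkQ_apply, Submodule.Quotient.mk_eq_zero]
  exact Subtype.property (p := fun y => y ∈ S i) z

/-- the short exact sequence `0 → sub → K → quo → 0` -/
noncomputable def sqSC : ShortComplex (CochainComplex (ModuleCat.{u} A) ℤ) :=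
  ShortComplex.mk (subι K S hS) (quoπ K S hS) (subι_quoπ K S hS)

theorem sqSC_shortExact : (sqSC K S hS).ShortExact := by
  apply HomologicalComplex.shortExact_of_degreewise_shortExact
  intro i
  have hex : Function.Exact (S i).subtype (S i).mkQ := by
    intro y
    constructor
    · intro hy
      rw [Submodule.mkQ_apply, Submodule.Quotient.mk_eq_zero] at hy
      exact ⟨⟨y, hy⟩, rfl⟩
    · rintro ⟨z, rfl⟩
      rw [Submodule.mkQ_apply, Submodule.Quotient.mk_eq_zero]
      exact z.2
  exact ModuleCat.shortComplex_shortExact _ hex (S i).injective_subtype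
    (Submodule.mkQ_surjective (S i))

/-- the subcomplex is exact at `i` if every cycle in `S i` is the boundary of an element of
`S (i - 1)`. -/
theorem subCx_isZero_homology (i : ℤ)
    (h : ∀ z ∈ S i, (K.d i (i + 1)).hom z = 0 → ∃ w ∈ S (i - 1), (K.d (i - 1) i).hom w = z) :
    IsZero ((subCx K S hS).homology i) := by
  rw [← exactAt_iff_isZero_homology, exactAt_iff' _ (i - 1) i (i + 1) (by simp) (by simp),
    ShortComplex.moduleCat_exact_iff]
  intro z hz
  have hz' : (K.d i (i + 1)).hom z.1 = 0 := congrArg Subtype.val hz
  obtain ⟨w, hw, hwz⟩ := h z.1 z.2 hz'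
  exact ⟨⟨w, hw⟩, Subtype.ext hwz⟩

end SubQuo

end Groth.Agent.Helper12.KoszEuler
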