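import Mathlib
import Groth.Agent.Lib.Helper12.KoszEuler17

/-!
# Koszul Euler characteristics, part 18: Artin–Rees and null-homotopies: deep cycles are
boundaries of deep elements
-/

set_option autoImplicit false
universe u
open CategoryTheory CategoryTheory.Limits HomologicalComplex

namespace Groth.Agent.Helper12.KoszEuler

variable {A : Type u} [CommRing A]

/-- a linear map sends `I • ⊤` into `I • ⊤` -/
theorem map_mem_smul_top {M N : Type*} [AddCommGroup M] [Module A M] [AddCommGroup N] [Module A N]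
    (f : M →ₗ[A] N) (I : Ideal A) {y : M} (hy : y ∈ (I • ⊤ : Submodule A M)) :
    f y ∈ (I • ⊤ : Submodule A N) := by
  have h : (I • ⊤ : Submodule A M).map f ≤ I • ⊤ := by
    rw [Submodule.map_smul'']
    exact Submodule.smul_mono le_rfl le_top
  exact h ⟨y, hy, rfl⟩

/-- If multiplication by every element of `q` is null-homotopic on `K`, then for `n` large every
cycle in `q^(n+1) K^i` is the boundary of an element of `q^n K^(i-1)`. -/
theorem exists_boundary_of_cycle [IsNoetherianRing A] (K : CochainComplex (ModuleCat.{u} A) ℤ)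
    (q : Ideal A) (hq : ∀ a ∈ q, Nonempty (Homotopy (a • 𝟙 K) 0)) (i : ℤ)
    [Module.Finite A (K.X i)] :
    ∃ c : ℕ, ∀ n, c ≤ n → ∀ z ∈ (q ^ (n + 1) • ⊤ : Submodule A (K.X i)),
      (K.d i (i + 1)).hom z = 0 →
      ∃ w ∈ (q ^ n • ⊤ : Submodule A (K.X (i - 1))), (K.d (i - 1) i).hom w = z := by
  set Z : Submodule A (K.X i) := LinearMap.ker (K.d i (i + 1)).hom with hZ
  obtain ⟨c, hc⟩ := Ideal.exists_pow_inf_eq_pow_smul q Z
  refine ⟨c, fun n hn z hz hdz => ?_⟩
  have h1 : z ∈ (q ^ (n + 1) • ⊤ ⊓ Z : Submodule A (K.X i)) := ⟨hz, hdz⟩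
  rw [hc (n + 1) (by omega)] at h1
  have h2 : q ^ (n + 1 - c) = q ^ (n - c) * q := by
    rw [← pow_succ]
    congr 1
    omega
  rw [h2, mul_smul] at h1
  have key : q • (q ^ c • ⊤ ⊓ Z) ≤
      (q ^ c • ⊤ : Submodule A (K.X (i - 1))).map (K.d (i - 1) i).hom := by
    rw [Submodule.smul_le]
    intro a ha y hy
    obtain ⟨h⟩ := hq a ha
    have hcomm := h.comm i
    rw [dNext_eq h.hom (show (ComplexShape.up ℤ).Rel i (i + 1) from rfl),
      prevD_eq h.hom (show (ComplexShape.up ℤ).Rel (i - 1) i by simp)] at hcomm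
    have e := congrArg (fun ψ => ψ.hom y) hcomm
    simp only [HomologicalComplex.zero_f, add_zero] at e
    have e' : a • y = (h.hom (i + 1) i).hom ((K.d i (i + 1)).hom y) +
        (K.d (i - 1) i).hom ((h.hom i (i - 1)).hom y) := e
    have hy2 : (K.d i (i + 1)).hom y = 0 := hy.2
    rw [hy2, map_zero, zero_add] at e'
    rw [e']
    exact ⟨_, map_mem_smul_top (h.hom i (i - 1)).hom (q ^ c) hy.1, rfl⟩
  have h4 := Submodule.smul_mono (le_refl (q ^ (n - c))) key h1
  rw [← Submodule.map_smul'', ← mul_smul, ← pow_add] at h4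
  obtain ⟨w, hw, hwz⟩ := h4
  have hnc : n - c + c = n := by omega
  rw [hnc] at hw
  exact ⟨w, hw, hwz⟩

end Groth.Agent.Helper12.KoszEuler
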