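import Mathlib
import Groth.Agent.Lib.Helper12.KoszEuler2
import Groth.Agent.Lib.Helper12.KoszEuler6

/-!
# Koszul Euler characteristics, part 19: the Euler characteristic of a bounded complex of modules
of finite length is the alternating sum of the lengths of its terms
-/

set_option autoImplicit false
universe u
open CategoryTheory CategoryTheory.Limits HomologicalComplex

namespace Groth.Agent.Helper12.KoszEuler

variable {A : Type u} [CommRing A]

/-- `ℓ(Y) = ℓ(ker g) + ℓ(im g)` -/
theorem length_eq_ker_add_range {Y Z : Type*} [AddCommGroup Y] [Module A Y] [AddCommGroup Z]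
    [Module A Z] (g : Y →ₗ[A] Z) :
    Module.length A Y = Module.length A (LinearMap.ker g) + Module.length A (LinearMap.range g) := by
  have h := length_eq_range_add_range (LinearMap.ker g).subtype g
    (by
      intro y
      constructor
      · intro hy
        exact ⟨⟨y, hy⟩, rfl⟩
      · rintro ⟨z, rfl⟩
        exact z.2)
  rw [h]
  congr 1
  exact (LinearEquiv.ofEq _ _ (Submodule.range_subtype _)).length_eq

/-- `ℓ(N) = ℓ(P) + ℓ(N/P)` -/
theorem length_eq_sub_add_quot {N : Type*} [AddCommGroup N] [Module A N] (P : Submodule A N) :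
    Module.length A N = Module.length A P + Module.length A (N ⧸ P) :=
  Module.length_eq_add_of_exact P.subtype P.mkQ P.injective_subtype (Submodule.mkQ_surjective P)
    (by
      intro y
      constructor
      · intro hy
        rw [Submodule.mkQ_apply, Submodule.Quotient.mk_eq_zero] at hy
        exact ⟨⟨y, hy⟩, rfl⟩
      · rintro ⟨z, rfl⟩
        rw [Submodule.mkQ_apply, Submodule.Quotient.mk_eq_zero]
        exact z.2)

/-- the length of the homology of a short complex of modules -/
theorem length_sc_homology (S : ShortComplex (ModuleCat.{u} A)) :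
    Module.length A (LinearMap.ker S.g.hom) =
      Module.length A (LinearMap.range S.f.hom) + Module.length A S.homology := by
  rw [length_eq_sub_add_quot (LinearMap.range S.moduleCatToCycles)]
  congr 1
  · have hinj : Function.Injective (LinearMap.ker S.g.hom).subtype := Submodule.injective_subtype _
    have e := Submodule.equivMapOfInjective (LinearMap.ker S.g.hom).subtype hinj
      (LinearMap.range S.moduleCatToCycles)
    rw [e.length_eq]
    have hm : (LinearMap.range S.moduleCatToCycles).map (LinearMap.ker S.g.hom).subtype =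
        LinearMap.range S.f.hom := by
      rw [← LinearMap.range_comp]
      rfl
    exact (LinearEquiv.ofEq _ _ hm).length_eq
  · exact (S.moduleCatHomologyIso.toLinearEquiv.length_eq).symm

/-- `ℓ(K^i) = ℓ(B^i) + ℓ(H^i) + ℓ(B^(i+1))` -/
theorem length_X_eq (K : CochainComplex (ModuleCat.{u} A) ℤ) (i : ℤ) :
    Module.length A (K.X i) = Module.length A (LinearMap.range (K.d (i - 1) i).hom) +
      Module.length A (K.homology i) + Module.length A (LinearMap.range (K.d i (i + 1)).hom) := by
  rw [length_eq_ker_add_range (K.d i (i + 1)).hom]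
  congr 1
  have h := length_sc_homology (K.sc' (i - 1) i (i + 1))
  have e := (K.homologyIsoSc' (i - 1) i (i + 1) (by simp) (by simp)).toLinearEquiv.length_eq
  rw [e]
  exact h

theorem toNat_three {x y z w : ℕ∞} (hx : x ≠ ⊤) (h : x = y + z + w) :
    (x.toNat : ℤ) = (y.toNat : ℤ) + (z.toNat : ℤ) + (w.toNat : ℤ) := by
  have hyz : y + z ≠ ⊤ := by
    intro h'
    exact hx (by rw [h, h', top_add])
  have hw : w ≠ ⊤ := by
    rintro rfl
    exact hx (by rw [h, add_top])
  have hy : y ≠ ⊤ := by
    rintro rfl
    exact hyz (top_add _)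
  have hz : z ≠ ⊤ := by
    rintro rfl
    exact hyz (add_top _)
  rw [h, ENat.toNat_add hyz hw, ENat.toNat_add hy hz]
  push_cast
  rfl

/-- A bounded complex with terms of finite length is `Good`. -/
theorem good_of_fl (K : CochainComplex (ModuleCat.{u} A) ℤ)
    (hfl : ∀ i, IsFiniteLength A (K.X i))
    (hb : ∃ a b : ℤ, ∀ i, (i < a ∨ b < i) → IsZero (K.X i)) : Good K := by
  refine ⟨fun i => ?_, ?_⟩
  · rw [← Module.length_ne_top_iff]
    have h1 : Module.length A (K.X i) ≠ ⊤ := Module.length_ne_top_iff.mpr (hfl i)
    rw [length_X_eq K i] at h1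
    intro h
    exact h1 (by rw [h, add_top, top_add])
  · obtain ⟨a, b, hab⟩ := hb
    refine ⟨a, b, fun i hi => ?_⟩
    exact (K.exactAt_iff_isZero_homology i).mp (HomologicalComplex.ExactAt.of_isZero (hab i hi))

/-- The Euler characteristic of a bounded complex of modules of finite length is the alternating
sum of the lengths of the terms. -/
theorem euler_eq_alt_length (K : CochainComplex (ModuleCat.{u} A) ℤ)
    (hfl : ∀ i, IsFiniteLength A (K.X i))
    (hb : ∃ a b : ℤ, ∀ i, (i < a ∨ b < i) → IsZero (K.X i)) :
    euler K = alt (fun i => ((Module.length A (K.X i)).toNat : ℤ)) := by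
  set β : ℤ → ℤ := fun i => ((Module.length A (LinearMap.range (K.d (i - 1) i).hom)).toNat : ℤ)
    with hβ
  have hx : ∀ i, ((Module.length A (K.X i)).toNat : ℤ) = β i + hlen K i + β (i + 1) := by
    intro i
    have h1 : Module.length A (K.X i) ≠ ⊤ := Module.length_ne_top_iff.mpr (hfl i)
    have h2 := toNat_three h1 (length_X_eq K i)
    have h3 : β (i + 1) =
        ((Module.length A (LinearMap.range (K.d i (i + 1)).hom)).toNat : ℤ) := by
      have : ∀ (j : ℤ), j = i →
          ((Module.length A (LinearMap.range (K.d j (i + 1)).hom)).toNat : ℤ) =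
            ((Module.length A (LinearMap.range (K.d i (i + 1)).hom)).toNat : ℤ) := by
        rintro j rfl
        rfl
      exact this (i + 1 - 1) (by ring)
    rw [h2, h3]
    rfl
  have hβb : Bdd β := by
    obtain ⟨a, b, hab⟩ := hb
    refine ⟨a, b, fun i hi => ?_⟩
    have : Subsingleton (K.X i) := ModuleCat.subsingleton_of_isZero (hab i hi)
    rw [hβ]
    simp only
    rw [Module.length_eq_zero]
    rfl
  have hg := good_of_fl K hfl hb
  rw [alt_congr hx, alt_add (hβb.add hg.bdd_hlen) (hβb.shift 1), alt_add hβb hg.bdd_hlen,
    alt_shift β]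
  unfold euler
  ring

end Groth.Agent.Helper12.KoszEuler
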