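import Mathlib
import Groth.Prelude.Def_ega3
import Groth.Agent.Lib.Helper21.KoszFun
import Groth.Agent.Lib.Helper12.KoszEuler7
import Groth.Agent.Lib.Helper12.KoszEuler18

/-!
# Koszul Euler characteristics, part 20: the terms of the Koszul complex modulo powers of an ideal
-/

set_option autoImplicit false
universe u
open CategoryTheory CategoryTheory.Limits CochainComplex HomologicalComplex
open Groth.Agent.Helper21.KF Groth.Agent.Helper21.KH Groth.Agent.Helper5.HS

namespace Groth.Agent.Helper12.KoszEuler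

variable {A : Type u} [CommRing A]

/-- `ℓ(N / I N)` -/
noncomputable def qlen (I : Ideal A) (N : Type*) [AddCommGroup N] [Module A N] : ℕ∞ :=
  Module.length A (N ⧸ (I • ⊤ : Submodule A N))

theorem qlen_congr (I : Ideal A) {N N' : Type*} [AddCommGroup N] [Module A N] [AddCommGroup N']
    [Module A N'] (e : N ≃ₗ[A] N') : qlen I N = qlen I N' := by
  unfold qlen
  exact ((TensorProduct.quotTensorEquivQuotSMul N I).symm ≪≫ₗ
    (TensorProduct.congr (LinearEquiv.refl A (A ⧸ I)) e) ≪≫ₗ
    (TensorProduct.quotTensorEquivQuotSMul N' I)).length_eq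

theorem qlen_prod (I : Ideal A) (N₁ N₂ : Type*) [AddCommGroup N₁] [Module A N₁] [AddCommGroup N₂]
    [Module A N₂] : qlen I (N₁ × N₂) = qlen I N₁ + qlen I N₂ := by
  unfold qlen
  rw [← Module.length_prod]
  exact ((TensorProduct.quotTensorEquivQuotSMul (N₁ × N₂) I).symm ≪≫ₗ
    (TensorProduct.prodRight A A (A ⧸ I) N₁ N₂) ≪≫ₗ
    (LinearEquiv.prodCongr (TensorProduct.quotTensorEquivQuotSMul N₁ I)
      (TensorProduct.quotTensorEquivQuotSMul N₂ I))).length_eq

theorem qlen_of_subsingleton (I : Ideal A) (N : Type*) [AddCommGroup N] [Module A N]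
    [Subsingleton N] : qlen I N = 0 := by
  unfold qlen
  rw [Module.length_eq_zero_iff]
  infer_instance

theorem qlen_top (N : Type*) [AddCommGroup N] [Module A N] : qlen (⊤ : Ideal A) N = 0 := by
  unfold qlen
  rw [Module.length_eq_zero_iff, Submodule.top_smul]
  infer_instance

section Cone

variable {F G : CochainComplex (ModuleCat.{u} A) ℤ} (φ : F ⟶ G)

/-- the terms of the mapping cone as products -/
noncomputable def coneXEquiv (i : ℤ) : (mappingCone φ).X i ≃ₗ[A] (F.X (i + 1)) × (G.X i) :=
  LinearEquiv.ofLinearMap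
    (LinearMap.prod ((mappingCone.fst φ).1.v i (i + 1) rfl).hom
      ((mappingCone.snd φ).v i i (add_zero i)).hom)
    (LinearMap.coprod ((mappingCone.inl φ).v (i + 1) i (by omega)).hom
      ((mappingCone.inr φ).f i).hom)
    (by
      ext x
      · show ((mappingCone.fst φ).1.v i (i + 1) rfl).hom
          (((mappingCone.inl φ).v (i + 1) i (by omega)).hom x +
            ((mappingCone.inr φ).f i).hom 0) = x
        rw [map_zero, add_zero, comp_hom_apply (mappingCone.inl_v_fst_v φ (i + 1) i rfl) x]
        rfl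
      · show ((mappingCone.snd φ).v i i (add_zero i)).hom
          (((mappingCone.inl φ).v (i + 1) i (by omega)).hom x +
            ((mappingCone.inr φ).f i).hom 0) = 0
        rw [map_zero, add_zero,
          comp_hom_apply (mappingCone.inl_v_snd_v φ (i + 1) i (by omega)) x]
        rfl
      · show ((mappingCone.fst φ).1.v i (i + 1) rfl).hom
          (((mappingCone.inl φ).v (i + 1) i (by omega)).hom 0 +
            ((mappingCone.inr φ).f i).hom x) = 0
        rw [map_zero, zero_add, comp_hom_apply (mappingCone.inr_f_fst_v φ i (i + 1) rfl) x]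
        rfl
      · show ((mappingCone.snd φ).v i i (add_zero i)).hom
          (((mappingCone.inl φ).v (i + 1) i (by omega)).hom 0 +
            ((mappingCone.inr φ).f i).hom x) = x
        rw [map_zero, zero_add, comp_hom_apply (mappingCone.inr_f_snd_v φ i) x]
        rfl)
    (by
      ext z
      exact cone_decomp φ i (i + 1) rfl z)

theorem qlen_cone (I : Ideal A) (i : ℤ) :
    qlen I ((mappingCone φ).X i) = qlen I (F.X (i + 1)) + qlen I (G.X i) := by
  rw [qlen_congr I (coneXEquiv φ i), qlen_prod]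

/-- the differential of the cone lands in `q • ⊤` if those of `F`, `G` and `φ` do. -/
theorem cone_range_d_le (q : Ideal A)
    (hF : ∀ i j, LinearMap.range (F.d i j).hom ≤ q • ⊤)
    (hG : ∀ i j, LinearMap.range (G.d i j).hom ≤ q • ⊤)
    (hφ : ∀ i, LinearMap.range (φ.f i).hom ≤ q • ⊤) (i j : ℤ) :
    LinearMap.range ((mappingCone φ).d i j).hom ≤ q • ⊤ := by
  by_cases hij : i + 1 = j
  · subst hij
    rintro _ ⟨z, rfl⟩
    rw [← cone_decomp φ (i + 1) (i + 1 + 1) rfl (((mappingCone φ).d i (i + 1)).hom z)]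
    refine Submodule.add_mem _ (map_mem_smul_top _ q ?_) (map_mem_smul_top _ q ?_)
    · rw [comp_hom_apply (mappingCone.d_fst_v φ i (i + 1) (i + 1 + 1) rfl rfl) z]
      show (-((mappingCone.fst φ).1.v i (i + 1) rfl ≫ F.d (i + 1) (i + 1 + 1))).hom z ∈ _
      rw [ModuleCat.hom_neg, LinearMap.neg_apply]
      exact Submodule.neg_mem _ (hF _ _ ⟨_, rfl⟩)
    · rw [comp_hom_apply (mappingCone.d_snd_v φ i (i + 1) rfl) z]
      show ((mappingCone.fst φ).1.v i (i + 1) rfl ≫ φ.f (i + 1) +
        (mappingCone.snd φ).v i i (add_zero i) ≫ G.d i (i + 1)).hom z ∈ _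
      rw [ModuleCat.hom_add, LinearMap.add_apply]
      exact Submodule.add_mem _ (hφ _ ⟨_, rfl⟩) (hG _ _ ⟨_, rfl⟩)
  · rw [(mappingCone φ).shape i j hij]
    rintro _ ⟨z, rfl⟩
    exact Submodule.zero_mem _

end Cone

end Groth.Agent.Helper12.KoszEuler
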