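import Mathlib
import Groth.Prelude.Def_ega3
import Groth.Agent.Lib.Helper21.KoszFun
import Groth.Agent.Lib.Helper12.KoszEuler7
import Groth.Agent.Lib.Helper12.KoszEuler20
import Groth.Agent.Lib.Helper5.HS3

/-!
# Koszul Euler characteristics, part 21: the alternating sum of the lengths of the terms of the
Koszul complex modulo the shifted powers of an ideal
-/

set_option autoImplicit false
universe u
open CategoryTheory CategoryTheory.Limits CochainComplex HomologicalComplex
open Groth.Agent.Helper21.KF Groth.Agent.Helper21.KH Groth.Agent.Helper5.HS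

namespace Groth.Agent.Helper12.KoszEuler

variable {A : Type u} [CommRing A]

theorem range_d_le (M : Type u) [AddCommGroup M] [Module A M] (q : Ideal A) :
    ∀ (l : List A), (∀ x ∈ l, x ∈ q) → ∀ i j : ℤ,
      LinearMap.range ((Kz M l).d i j).hom ≤ q • ⊤
  | [], _, i, j => by
    rintro _ ⟨z, rfl⟩
    have h0 : (Kz M ([] : List A)).d i j = 0 := HomologicalComplex.single_obj_d _ _ _ _ _
    rw [h0]
    exact Submodule.zero_mem _
  | x :: l, h, i, j => by
    refine cone_range_d_le (x • 𝟙 (CohIII.koszulCx (ModuleCat.of A M) l)) q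
      (range_d_le M q l (fun y hy => h y (List.mem_cons_of_mem _ hy)))
      (range_d_le M q l (fun y hy => h y (List.mem_cons_of_mem _ hy))) ?_ i j
    intro k
    rintro _ ⟨z, rfl⟩
    show x • z ∈ _
    exact Submodule.smul_mem_smul (h x List.mem_cons_self) Submodule.mem_top

section Terms

variable (M : Type u) [AddCommGroup M] [Module A M] (q : Ideal A)

theorem qlen_X_nil_zero (I : Ideal A) : qlen I ((Kz M ([] : List A)).X 0) = qlen I M :=
  qlen_congr I (HomologicalComplex.singleObjXSelf (ComplexShape.up ℤ) (0 : ℤ)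
    (ModuleCat.of A M)).toLinearEquiv

theorem qlen_X_of_isZero (I : Ideal A) (l : List A) (i : ℤ) (h : IsZero ((Kz M l).X i)) :
    qlen I ((Kz M l).X i) = 0 := by
  have : Subsingleton ((Kz M l).X i) := ModuleCat.subsingleton_of_isZero h
  exact qlen_of_subsingleton I _

theorem qlen_X_cons (I : Ideal A) (x : A) (l : List A) (i : ℤ) :
    qlen I ((Kz M (x :: l)).X i) = qlen I ((Kz M l).X (i + 1)) + qlen I ((Kz M l).X i) :=
  qlen_cone (x • 𝟙 (CohIII.koszulCx (ModuleCat.of A M) l)) I i

variable [IsNoetherianRing A] [Module.Finite A M]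

theorem qlen_X_ne_top (hq : FLQ M q) (e : ℕ) : ∀ (l : List A) (i : ℤ),
    qlen (q ^ e) ((Kz M l).X i) ≠ ⊤
  | [], i => by
    by_cases hi : i = 0
    · subst hi
      rw [qlen_X_nil_zero]
      exact Module.length_ne_top_iff.mpr (isFiniteLength_quotient_pow q ((flq_iff q).mp hq) e)
    · rw [qlen_X_of_isZero M _ ([] : List A) i
        (HomologicalComplex.isZero_single_obj_X (ComplexShape.up ℤ) 0 _ i hi)]
      exact ENat.zero_ne_top
  | x :: l, i => by
    rw [qlen_X_cons]
    exact WithTop.add_ne_top.mpr ⟨qlen_X_ne_top hq e l (i + 1), qlen_X_ne_top hq e l i⟩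

/-- the length of the `i`-th term of the Koszul complex modulo `q^(c+i)` -/
noncomputable def tq (l : List A) (c : ℤ) (i : ℤ) : ℤ :=
  ((qlen (q ^ (c + i).toNat) ((Kz M l).X i)).toNat : ℤ)

/-- the alternating sum of the `tq` -/
noncomputable def Tq (l : List A) (c : ℤ) : ℤ := alt (tq M q l c)

theorem tq_eq_zero (l : List A) (c i : ℤ) (hi : i < -(l.length : ℤ) ∨ 0 < i) :
    tq M q l c i = 0 := by
  unfold tq
  rw [qlen_X_of_isZero]
  · rfl
  · rcases hi with hi | hi
    · exact isZero_X_of_lt _ l i hi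
    · exact isZero_X_of_pos _ l i hi

theorem bdd_tq (l : List A) (c : ℤ) : Bdd (tq M q l c) :=
  ⟨-(l.length : ℤ), 0, fun i hi => tq_eq_zero M q l c i hi⟩

theorem tq_cons (hq : FLQ M q) (x : A) (l : List A) (c i : ℤ) :
    tq M q (x :: l) c i = tq M q l (c - 1) (i + 1) + tq M q l c i := by
  unfold tq
  have e : c - 1 + (i + 1) = c + i := by ring
  rw [e, qlen_X_cons, ENat.toNat_add (qlen_X_ne_top M q hq _ l (i + 1))
    (qlen_X_ne_top M q hq _ l i)]
  push_cast
  rfl

theorem Tq_cons (hq : FLQ M q) (x : A) (l : List A) (c : ℤ) :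
    Tq M q (x :: l) c = Tq M q l c - Tq M q l (c - 1) := by
  unfold Tq
  rw [alt_congr (tq_cons M q hq x l c), alt_add ((bdd_tq M q l (c - 1)).shift 1) (bdd_tq M q l c),
    alt_shift]
  ring

theorem Tq_nil (c : ℤ) : Tq M q ([] : List A) c = (colN (q ^ c.toNat • ⊤ : Submodule A M) : ℤ) := by
  unfold Tq alt
  rw [finsum_eq_single _ (0 : ℤ)]
  · unfold tq
    rw [add_zero, qlen_X_nil_zero]
    simp only [Int.negOnePow_zero, Units.val_one, one_mul]
    rfl
  · intro i hi
    rw [tq_eq_zero M q ([] : List A) c i (by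
      simp only [List.length_nil, Nat.cast_zero, neg_zero]
      omega), mul_zero]

end Terms

end Groth.Agent.Helper12.KoszEuler
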