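import Mathlib
import Groth.Prelude.Def_ega3
import Groth.Agent.Lib.Helper21.KoszFun
import Groth.Agent.Lib.Helper21.KoszHtpy
import Groth.Agent.Lib.Helper12.KoszEuler7
import Groth.Agent.Lib.Helper12.KoszEuler17
import Groth.Agent.Lib.Helper12.KoszEuler18
import Groth.Agent.Lib.Helper12.KoszEuler19
import Groth.Agent.Lib.Helper12.KoszEuler21

/-!
# Koszul Euler characteristics, part 22: `χ(l; M)` is the alternating sum of the lengths of the
terms of the Koszul complex modulo high shifted powers of the ideal `(l)` (Serre)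
-/

set_option autoImplicit false
universe u
open CategoryTheory CategoryTheory.Limits CochainComplex HomologicalComplex
open Groth.Agent.Helper21.KF Groth.Agent.Helper21.KH Groth.Agent.Helper5.HS

namespace Groth.Agent.Helper12.KoszEuler

variable {A : Type u} [CommRing A]

section Main

variable (M : Type u) [AddCommGroup M] [Module A M] (q : Ideal A)

/-- the filtration submodules `q^(c+i) K^i` -/
noncomputable def filS (l : List A) (c : ℤ) (i : ℤ) : Submodule A ((Kz M l).X i) :=
  q ^ (c + i).toNat • ⊤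

theorem filS_stable (l : List A) (hl : ∀ x ∈ l, x ∈ q) (c : ℤ) (i j : ℤ) :
    filS M q l c i ≤ (filS M q l c j).comap ((Kz M l).d i j).hom := by
  intro z hz
  rw [Submodule.mem_comap]
  by_cases hij : i + 1 = j
  · subst hij
    have h1 : ((Kz M l).d i (i + 1)).hom z ∈
        (q ^ (c + i).toNat • ⊤ : Submodule A ((Kz M l).X i)).map ((Kz M l).d i (i + 1)).hom :=
      ⟨z, hz, rfl⟩
    rw [Submodule.map_smul'', Submodule.map_top] at h1
    have h2 := Submodule.smul_mono (le_refl (q ^ (c + i).toNat)) (range_d_le M q l hl i (i + 1)) h1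
    rw [← mul_smul, ← pow_succ] at h2
    have h3 : (c + (i + 1)).toNat ≤ (c + i).toNat + 1 := by omega
    exact Submodule.smul_mono (Ideal.pow_le_pow_right h3) le_rfl h2
  · rw [(Kz M l).shape i j hij]
    exact Submodule.zero_mem _

variable [IsNoetherianRing A] [Module.Finite A M]

/-- **Serre**: for `c` large, `χ(l; M) = Σ_i (-1)^i ℓ(K^i / q^(c+i) K^i)`, `q = (l)`. -/
theorem exists_chi_eq_Tq (l : List A) (hq : q = Ideal.span {x | x ∈ l}) (hfl : FLQ M q) :
    ∃ c₀ : ℤ, ∀ c : ℤ, c₀ ≤ c → chi M l = Tq M q l c := by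
  have hl : ∀ x ∈ l, x ∈ q := fun x hx => hq ▸ Ideal.subset_span hx
  have hhom : ∀ a ∈ q, Nonempty (Homotopy (a • 𝟙 (Kz M l)) 0) := fun a ha =>
    Groth.Agent.Helper21.KH.main _ l a (hq ▸ ha)
  have hfin : ∀ i, Module.Finite A ((Kz M l).X i) := fun i => finite_X (ModuleCat.of A M) l i
  have hex : ∀ i : ℤ, ∃ c : ℕ, ∀ n, c ≤ n →
      ∀ z ∈ (q ^ (n + 1) • ⊤ : Submodule A ((Kz M l).X i)),
      ((Kz M l).d i (i + 1)).hom z = 0 →
      ∃ w ∈ (q ^ n • ⊤ : Submodule A ((Kz M l).X (i - 1))), ((Kz M l).d (i - 1) i).hom w = z :=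
    fun i => exists_boundary_of_cycle (Kz M l) q hhom i
  choose cf hcf using hex
  set d : ℤ := (l.length : ℤ) with hd
  set B : ℕ := (Finset.Icc (-d) 0).sup cf with hB
  refine ⟨(B : ℤ) + d + 1, fun c hc => ?_⟩
  have hS := filS_stable M q l hl c
  -- the subcomplex is acyclic
  have hsub : ∀ i, IsZero ((subCx (Kz M l) (filS M q l c) hS).homology i) := by
    intro i
    apply subCx_isZero_homology
    intro z hz hdz
    by_cases hi : i < -d ∨ 0 < i
    · have hz0 : IsZero ((Kz M l).X i) := by
        rcases hi with hi | hi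
        · exact isZero_X_of_lt _ l i hi
        · exact isZero_X_of_pos _ l i hi
      have : Subsingleton ((Kz M l).X i) := ModuleCat.subsingleton_of_isZero hz0
      exact ⟨0, Submodule.zero_mem _, Subsingleton.elim _ _⟩
    · rw [not_or, not_lt, not_lt] at hi
      have hcfi : cf i ≤ B := Finset.le_sup (f := cf) (Finset.mem_Icc.mpr ⟨hi.1, hi.2⟩)
      have h1 : (c + i).toNat = (c + (i - 1)).toNat + 1 := by omega
      have h2 : cf i ≤ (c + (i - 1)).toNat := by omega
      unfold filS at hz ⊢
      rw [h1] at hz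
      exact hcf i _ h2 z hz hdz
  have hgsub : Good (subCx (Kz M l) (filS M q l c) hS) :=
    ⟨fun i => by
      have : Subsingleton ((subCx (Kz M l) (filS M q l c) hS).homology i) :=
        ModuleCat.subsingleton_of_isZero (hsub i)
      exact IsFiniteLength.of_subsingleton, ⟨0, 0, fun i _ => hsub i⟩⟩
  have hesub : euler (subCx (Kz M l) (filS M q l c) hS) = 0 := by
    unfold euler
    rw [alt_congr (g := fun _ => 0) (fun i => by
      unfold hlen
      rw [hln_of_isZero _ i (hsub i)]
      rfl)]
    exact alt_zero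
  -- the quotient complex has finite length terms
  have hqfl : ∀ i, IsFiniteLength A ((quoCx (Kz M l) (filS M q l c) hS).X i) := by
    intro i
    rw [← Module.length_ne_top_iff]
    exact qlen_X_ne_top M q hfl _ l i
  have hqb : ∃ a b : ℤ, ∀ i, (i < a ∨ b < i) →
      IsZero ((quoCx (Kz M l) (filS M q l c) hS).X i) := by
    refine ⟨-d, 0, fun i hi => ?_⟩
    have hz0 : IsZero ((Kz M l).X i) := by
      rcases hi with hi | hi
      · exact isZero_X_of_lt _ l i hi
      · exact isZero_X_of_pos _ l i hi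
    have : Subsingleton ((Kz M l).X i) := ModuleCat.subsingleton_of_isZero hz0
    have : Subsingleton ((Kz M l).X i ⧸ filS M q l c i) := inferInstance
    exact ModuleCat.isZero_of_subsingleton (ModuleCat.of A ((Kz M l).X i ⧸ filS M q l c i))
  have hgq := good_of_fl _ hqfl hqb
  have hK : Good (Kz M l) := good_Kz M l (hq ▸ hfl)
  have hses := euler_of_shortExact (sqSC (Kz M l) (filS M q l c) hS)
    (sqSC_shortExact (Kz M l) (filS M q l c) hS) hgsub hK hgq
  have heq : euler (quoCx (Kz M l) (filS M q l c) hS) = Tq M q l c :=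
    euler_eq_alt_length _ hqfl hqb
  unfold chi
  change euler (Kz M l) = euler (subCx (Kz M l) (filS M q l c) hS) +
    euler (quoCx (Kz M l) (filS M q l c) hS) at hses
  rw [hses, hesub, zero_add, heq]

end Main

end Groth.Agent.Helper12.KoszEuler
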