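import Mathlib
import Groth.Agent.Lib.Helper5.HS3
import Groth.Agent.Lib.Helper12.KoszEuler22
import Groth.Agent.Lib.Helper12.KoszEuler11

/-!
# Koszul Euler characteristics, part 23: the Samuel multiplicity of a system of parameters is the
Koszul Euler characteristic (Serre)
-/

set_option autoImplicit false
universe u
open CategoryTheory Polynomial Filter Topology
open Groth.Agent.Helper5.HS
open scoped fwdDiff

namespace Groth.Agent.Helper12.KoszEuler

/-- backward difference -/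
def nabla (f : ℤ → ℤ) : ℤ → ℤ := fun c => f c - f (c - 1)

theorem nabla_eq_fwdDiff (f : ℤ → ℤ) : nabla f = fun c => (Δ_[(1 : ℤ)] f) (c - 1) := by
  funext c
  unfold nabla fwdDiff
  rw [sub_add_cancel]

theorem iterate_nabla_eq (d : ℕ) : ∀ (f : ℤ → ℤ) (c : ℤ),
    (nabla^[d] f) c = ((fwdDiff (1 : ℤ))^[d] f) (c - d) := by
  induction d with
  | zero =>
    intro f c
    simp
  | succ d ih =>
    intro f c
    rw [Function.iterate_succ_apply, ih, nabla_eq_fwdDiff]
    have h := fwdDiff_iter_comp_add (h := (1 : ℤ)) (Δ_[(1 : ℤ)] f) (-1) d (c - d)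
    have h' : (fun r => (Δ_[(1 : ℤ)] f) (r + -1)) = fun c => (Δ_[(1 : ℤ)] f) (c - 1) := by
      funext r
      rw [sub_eq_add_neg]
    rw [h'] at h
    rw [h, Function.iterate_succ_apply]
    have e : c - (d : ℤ) + -1 = c - ((d + 1 : ℕ) : ℤ) := by
      push_cast
      ring
    rw [e]

/-- the `d`-th forward difference of a polynomial function of degree `≤ d` -/
theorem fwdDiff_iter_eval_of_natDegree_le (P : ℚ[X]) (d : ℕ) (hP : P.natDegree ≤ d) (y : ℚ) :
    ((fwdDiff (1 : ℚ))^[d] P.eval) y = (d.factorial : ℚ) * P.coeff d := by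
  rcases hP.lt_or_eq with h | h
  · rw [Polynomial.fwdDiff_iter_eq_zero_of_degree_lt h, coeff_eq_zero_of_natDegree_lt h]
    simp
  · subst h
    rw [Polynomial.fwdDiff_iter_degree_eq_factorial]
    simp only [Pi.smul_apply, Pi.natCast_apply, smul_eq_mul]
    rw [mul_comm]
    rfl

theorem tendsto_eval_div_pow (P : ℚ[X]) (d : ℕ) (hP : P.natDegree ≤ d) :
    Tendsto (fun n : ℕ => ((P.eval (n : ℚ) : ℚ) : ℝ) / (n : ℝ) ^ d) atTop
      (𝓝 ((P.coeff d : ℚ) : ℝ)) := by
  have hev : ∀ n : ℕ, ((P.eval (n : ℚ) : ℚ) : ℝ) = (P.map (algebraMap ℚ ℝ)).eval (n : ℝ) := by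
    intro n
    rw [← map_natCast (algebraMap ℚ ℝ) n, eval_map_apply]
    rfl
  have hX : ∀ n : ℕ, (n : ℝ) ^ d = ((X : ℝ[X]) ^ d).eval (n : ℝ) := by
    intro n
    simp
  simp_rw [hev, hX]
  rcases hP.lt_or_eq with h | h
  · have hdeg : (P.map (algebraMap ℚ ℝ)).degree < ((X : ℝ[X]) ^ d).degree := by
      rw [degree_X_pow, degree_map]
      exact lt_of_le_of_lt degree_le_natDegree (by exact_mod_cast h)
    have := (div_tendsto_atTop_zero_of_degree_lt _ _ hdeg).comp
      (tendsto_natCast_atTop_atTop (R := ℝ))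
    rw [coeff_eq_zero_of_natDegree_lt h]
    simpa [Function.comp_def] using this
  · by_cases hP0 : P = 0
    · subst hP0
      simp
    · have hdeg : (P.map (algebraMap ℚ ℝ)).degree = ((X : ℝ[X]) ^ d).degree := by
        rw [degree_X_pow, degree_map, degree_eq_natDegree hP0, h]
      have := (div_tendsto_atTop_leadingCoeff_div_of_degree_eq _ _ hdeg).comp
        (tendsto_natCast_atTop_atTop (R := ℝ))
      have hlc : (P.map (algebraMap ℚ ℝ)).leadingCoeff / ((X : ℝ[X]) ^ d).leadingCoeff =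
          ((P.coeff d : ℚ) : ℝ) := by
        rw [leadingCoeff_X_pow, div_one, leadingCoeff_map, leadingCoeff, h]
        rfl
      rw [hlc] at this
      exact this

variable {A : Type u} [CommRing A] [IsNoetherianRing A]

section Main

variable (M : Type u) [AddCommGroup M] [Module A M] [Module.Finite A M] (q : Ideal A)

/-- the Samuel function, extended to `ℤ` -/
noncomputable def samZ (c : ℤ) : ℤ := (colN (q ^ c.toNat • ⊤ : Submodule A M) : ℤ)

theorem Tq_eq_iterate_nabla (hq : FLQ M q) : ∀ (l : List A) (c : ℤ),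
    Tq M q l c = (nabla^[l.length] (samZ M q)) c
  | [], c => Tq_nil M q c
  | x :: l, c => by
    rw [Tq_cons M q hq, Tq_eq_iterate_nabla hq l c, Tq_eq_iterate_nabla hq l (c - 1),
      List.length_cons, Function.iterate_succ_apply']
    rfl

/-- `χ(l; M) = d! · (coefficient of degree `d` of the Hilbert–Samuel polynomial)` -/
theorem chi_eq_factorial_mul_coeff (l : List A) (hq : q = Ideal.span {x | x ∈ l}) (hfl : FLQ M q)
    (P : ℚ[X]) (hP : IsEP (fun n => colN (q ^ n • ⊤ : Submodule A M)) P)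
    (hdeg : P.natDegree ≤ l.length) :
    (chi M l : ℚ) = (l.length.factorial : ℚ) * P.coeff l.length := by
  obtain ⟨c₀, hc₀⟩ := exists_chi_eq_Tq M q l hq hfl
  obtain ⟨N, hN⟩ := hP
  set d := l.length with hd
  set c : ℤ := max c₀ ((N : ℤ) + d) with hc
  have h1 : chi M l = ((fwdDiff (1 : ℤ))^[d] (samZ M q)) (c - d) := by
    rw [hc₀ c (le_max_left _ _), Tq_eq_iterate_nabla M q hfl, iterate_nabla_eq]
  have hy : (N : ℤ) ≤ c - d := by
    have := le_max_right c₀ ((N : ℤ) + d)
    omega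
  obtain ⟨y, hy'⟩ : ∃ y : ℕ, c - d = (y : ℤ) := ⟨(c - d).toNat, by omega⟩
  have hNy : N ≤ y := by omega
  rw [h1, hy', fwdDiff_iter_eq_sum_shift,
    ← fwdDiff_iter_eval_of_natDegree_le P d hdeg (y : ℚ), fwdDiff_iter_eq_sum_shift]
  rw [Int.cast_sum]
  refine Finset.sum_congr rfl fun k _ => ?_
  have h3 : ((samZ M q ((y : ℤ) + k • (1 : ℤ)) : ℤ) : ℚ) = P.eval ((y : ℚ) + k • (1 : ℚ)) := by
    unfold samZ
    have h2 : ((y : ℤ) + k • (1 : ℤ)).toNat = y + k := by
      simp only [nsmul_eq_mul, mul_one]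
      omega
    rw [h2]
    have := hN (y + k) (by omega)
    simp only at this
    rw [Int.cast_natCast, this]
    congr 1
    push_cast
    simp
  rw [zsmul_eq_mul, zsmul_eq_mul, Int.cast_mul, h3, Int.cast_id]

/-- **Serre**: the Samuel multiplicity `lim d! ℓ(M/𝔞ⁿM)/n^d` of `𝔞 = (x₁,…,x_d)` on `M` is the Koszul
Euler characteristic `χ(x; M)`. -/
theorem tendsto_samuel_chi {d : ℕ} (x : Fin d → A)
    (hfl : IsFiniteLength A (M ⧸ (Ideal.span (Set.range x) • (⊤ : Submodule A M)))) :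
    Tendsto (fun n : ℕ => (d.factorial : ℝ) *
        ((Module.length A (M ⧸ (Ideal.span (Set.range x) ^ n • (⊤ : Submodule A M)))).toNat : ℝ) /
          (n : ℝ) ^ d)
      atTop (𝓝 ((chi M (List.ofFn x) : ℤ) : ℝ)) := by
  set q : Ideal A := Ideal.span (Set.range x) with hqdef
  have hq : q = Ideal.span {y | y ∈ List.ofFn x} := by rw [mem_ofFn_set]
  obtain ⟨P, hdeg, hP⟩ := exists_poly_colN (M := M) q x rfl hfl
  have hlen : (List.ofFn x).length = d := List.length_ofFn
  have hchi := chi_eq_factorial_mul_coeff M q (List.ofFn x) hq ((flq_iff q).mpr hfl) P hP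
    (by rw [hlen]; exact hdeg)
  rw [hlen] at hchi
  have hval : ((chi M (List.ofFn x) : ℤ) : ℝ) = (d.factorial : ℝ) * ((P.coeff d : ℚ) : ℝ) := by
    have := congrArg (fun r : ℚ => (r : ℝ)) hchi
    push_cast at this
    exact this
  rw [hval]
  have hlim := (tendsto_eval_div_pow P d hdeg).const_mul (d.factorial : ℝ)
  refine hlim.congr' ?_
  obtain ⟨N, hN⟩ := hP
  refine eventually_atTop.mpr ⟨N, fun n hn => ?_⟩
  have h1 := hN n hn
  simp only at h1
  show (d.factorial : ℝ) * (((P.eval (n : ℚ) : ℚ) : ℝ) / (n : ℝ) ^ d) = _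
  rw [← h1]
  have h2 : ((Module.length A (M ⧸ (q ^ n • (⊤ : Submodule A M)))).toNat : ℝ) =
      (((colN (q ^ n • ⊤ : Submodule A M) : ℕ) : ℚ) : ℝ) := by
    push_cast
    rfl
  show _ = (d.factorial : ℝ) *
    ((Module.length A (M ⧸ (q ^ n • (⊤ : Submodule A M)))).toNat : ℝ) / (n : ℝ) ^ d
  rw [h2, mul_div_assoc]

end Main

end Groth.Agent.Helper12.KoszEuler
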