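import Mathlib
import Groth.Agent.Lib.Helper12.KoszEuler12

/-!
# Koszul Euler characteristics, part 14: inequalities for lengths of individual Koszul homology
-/

set_option autoImplicit false
universe u
open CategoryTheory CategoryTheory.Limits CochainComplex HomologicalComplex Pointwise
open Groth.Agent.Helper21.KF Groth.Agent.Helper21.KH Groth.Agent.Helper5.HS

namespace Groth.Agent.Helper12.KoszEuler

variable {A : Type u} [CommRing A]

/-- length of the `i`-th Koszul cohomology, in `ℕ∞` -/
noncomputable def hl (M : Type u) [AddCommGroup M] [Module A M] (l : List A) (i : ℤ) : ℕ∞ :=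
  Module.length A ((Kz M l).homology i)

theorem hl_eq_zero_of_lt (M : Type u) [AddCommGroup M] [Module A M] (l : List A) (i : ℤ)
    (hi : i < -(l.length : ℤ) ∨ 0 < i) : hl M l i = 0 := by
  unfold hl
  have : Subsingleton ((Kz M l).homology i) :=
    ModuleCat.subsingleton_of_isZero (isZero_homology_Kz M l i hi)
  exact Module.length_eq_zero

theorem hl_of_subsingleton (M : Type u) [AddCommGroup M] [Module A M] [Subsingleton M]
    (l : List A) (i : ℤ) : hl M l i = 0 := by
  unfold hl
  have : Subsingleton ((Kz M l).homology i) :=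
    ⟨fun a b => by
      have h1 : (1 : A) ∈ Module.annihilator A M :=
        Module.mem_annihilator.mpr fun m => Subsingleton.elim _ _
      rw [← one_smul A a, ← one_smul A b, smul_homology_of_mem_annihilator M l 1 h1 i a,
        smul_homology_of_mem_annihilator M l 1 h1 i b]⟩
  exact Module.length_eq_zero

/-- (L1) subadditivity along short exact sequences -/
theorem hl_le_add {M' M M'' : Type u} [AddCommGroup M'] [Module A M']
    [AddCommGroup M] [Module A M] [AddCommGroup M''] [Module A M'']
    (g₁ : M' →ₗ[A] M) (g₂ : M →ₗ[A] M'') (hinj : Function.Injective g₁)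
    (hsurj : Function.Surjective g₂) (hex : Function.Exact g₁ g₂) (l : List A) (i : ℤ) :
    hl M l i ≤ hl M' l i + hl M'' l i := by
  have hinj' : Function.Injective (ModuleCat.ofHom g₁).hom := hinj
  have hsurj' : Function.Surjective (ModuleCat.ofHom g₂).hom := hsurj
  have hex' : Function.Exact (ModuleCat.ofHom g₁).hom (ModuleCat.ofHom g₂).hom := hex
  have hS := kSC_shortExact (ModuleCat.ofHom g₁) (ModuleCat.ofHom g₂) hinj' hsurj' hex' l
  have e := hS.homology_exact₂ i
  rw [ShortComplex.ShortExact.moduleCat_exact_iff_function_exact] at e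
  have e' : Function.Exact (homologyMap (kMap (ModuleCat.ofHom g₁) l) i).hom
      (homologyMap (kMap (ModuleCat.ofHom g₂) l) i).hom := e
  have h1 := length_eq_range_add_range _ _ e'
  unfold hl Kz
  refine le_trans (le_of_eq h1) (add_le_add ?_ ?_)
  · exact Module.length_le_of_surjective
      (LinearMap.rangeRestrict (homologyMap (kMap (ModuleCat.ofHom g₁) l) i).hom)
      (LinearMap.surjective_rangeRestrict _)
  · exact Module.length_le_of_injective
      (Submodule.subtype (LinearMap.range (homologyMap (kMap (ModuleCat.ofHom g₂) l) i).hom))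
      (Submodule.injective_subtype _)

/-- (L2) regular head -/
theorem hl_regular (M : Type u) [AddCommGroup M] [Module A M] (x : A) (l : List A)
    (hreg : IsSMulRegular M x) (i : ℤ) : hl M (x :: l) i = hl (QuotSMulTop x M) l i := by
  obtain ⟨e⟩ := homology_cone_iso M x hreg l i
  exact e.toLinearEquiv.length_eq

/-- (L3) head acting as zero -/
theorem hl_of_smul_eq_zero (M : Type u) [AddCommGroup M] [Module A M] (x : A) (l : List A)
    (h0 : ∀ m : M, x • m = 0) (i : ℤ) : hl M (x :: l) i = hl M l i + hl M l (i + 1) := by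
  unfold hl
  have hann : x ∈ Module.annihilator A M := Module.mem_annihilator.mpr h0
  rw [length_homology_cons, ck_of_smul_eq_zero _ x (smul_homology_of_mem_annihilator M l x hann i),
    kr_of_smul_eq_zero _ x (smul_homology_of_mem_annihilator M l x hann (i + 1))]

/-- (L4) `M/xⁿ⁺¹M` is an extension of `M/xM` by `M/xⁿM` when `x` is regular. -/
theorem hl_quot_pow_le (M : Type u) [AddCommGroup M] [Module A M] (x : A) (l : List A)
    (hreg : IsSMulRegular M x) (i : ℤ) :
    ∀ n : ℕ, hl (QuotSMulTop (x ^ n) M) l i ≤ n * hl (QuotSMulTop x M) l i := by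
  intro n
  induction n with
  | zero =>
    have : Subsingleton (QuotSMulTop (x ^ 0) M) := by
      unfold QuotSMulTop
      rw [pow_zero, one_smul]
      exact Submodule.Quotient.subsingleton_iff.mpr rfl
    rw [hl_of_subsingleton]
    exact zero_le
  | succ n ih =>
    have hle : (x ^ n • (⊤ : Submodule A M)) ≤
        (x ^ (n + 1) • (⊤ : Submodule A M)).comap (LinearMap.lsmul A M x) := by
      intro m hm
      obtain ⟨m', -, rfl⟩ := (Submodule.mem_smul_pointwise_iff_exists _ _ _).mp hm
      rw [Submodule.mem_comap]
      show x • (x ^ n • m') ∈ _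
      rw [← mul_smul, ← pow_succ']
      exact Submodule.smul_mem_pointwise_smul m' _ ⊤ Submodule.mem_top
    have hle2 : (x ^ (n + 1) • (⊤ : Submodule A M)) ≤ (x • (⊤ : Submodule A M)) := by
      intro m hm
      obtain ⟨m', -, rfl⟩ := (Submodule.mem_smul_pointwise_iff_exists _ _ _).mp hm
      rw [pow_succ', mul_smul]
      exact Submodule.smul_mem_pointwise_smul _ _ ⊤ Submodule.mem_top
    let f : QuotSMulTop (x ^ n) M →ₗ[A] QuotSMulTop (x ^ (n + 1)) M :=
      Submodule.mapQ _ _ (LinearMap.lsmul A M x) hle
    let g : QuotSMulTop (x ^ (n + 1)) M →ₗ[A] QuotSMulTop x M := Submodule.factor hle2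
    have hf : Function.Injective f := by
      rw [← LinearMap.ker_eq_bot, eq_bot_iff]
      intro q hq
      obtain ⟨m, rfl⟩ := Submodule.mkQ_surjective _ q
      rw [LinearMap.mem_ker] at hq
      have h1 : x • m ∈ x ^ (n + 1) • (⊤ : Submodule A M) :=
        (Submodule.Quotient.mk_eq_zero _).mp hq
      obtain ⟨m', -, hm'⟩ := (Submodule.mem_smul_pointwise_iff_exists _ _ _).mp h1
      rw [pow_succ', mul_smul] at hm'
      have h2 : x ^ n • m' = m := hreg hm'
      rw [Submodule.mem_bot, Submodule.mkQ_apply, Submodule.Quotient.mk_eq_zero, ← h2]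
      exact Submodule.smul_mem_pointwise_smul m' _ ⊤ Submodule.mem_top
    have hg : Function.Surjective g := Submodule.factor_surjective hle2
    have hfg : Function.Exact f g := by
      intro q
      obtain ⟨m, rfl⟩ := Submodule.mkQ_surjective _ q
      constructor
      · intro h
        have h1 : m ∈ x • (⊤ : Submodule A M) := (Submodule.Quotient.mk_eq_zero _).mp h
        obtain ⟨m', -, rfl⟩ := (Submodule.mem_smul_pointwise_iff_exists _ _ _).mp h1
        exact ⟨Submodule.Quotient.mk m', rfl⟩
      · rintro ⟨q', h⟩
        obtain ⟨m', rfl⟩ := Submodule.mkQ_surjective _ q'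
        rw [← h]
        exact (Submodule.Quotient.mk_eq_zero _).mpr
          (Submodule.smul_mem_pointwise_smul m' x ⊤ Submodule.mem_top)
    have h3 := hl_le_add f g hf hg hfg l i
    calc hl (QuotSMulTop (x ^ (n + 1)) M) l i
        ≤ hl (QuotSMulTop (x ^ n) M) l i + hl (QuotSMulTop x M) l i := h3
      _ ≤ n * hl (QuotSMulTop x M) l i + hl (QuotSMulTop x M) l i := add_le_add_left ih _
      _ = ((n + 1 : ℕ) : ℕ∞) * hl (QuotSMulTop x M) l i := by
        push_cast
        rw [add_mul, one_mul]

/-- regular head raised to a power -/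
theorem hl_regular_pow_le (M : Type u) [AddCommGroup M] [Module A M] (x : A) (l : List A)
    (hreg : IsSMulRegular M x) (i : ℤ) (n : ℕ) :
    hl M (x ^ n :: l) i ≤ n * hl (QuotSMulTop x M) l i := by
  rw [hl_regular M (x ^ n) l (hreg.pow n) i]
  exact hl_quot_pow_le M x l hreg i n

end Groth.Agent.Helper12.KoszEuler
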