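import Mathlib
import Groth.Agent.Lib.Helper12.KoszEuler14

/-!
# Koszul Euler characteristics, part 15: growth of `ℓ(H_i(x₁ⁿ, …, x_kⁿ; M))`
-/

set_option autoImplicit false
universe u
open CategoryTheory CategoryTheory.Limits CochainComplex HomologicalComplex Pointwise
open Groth.Agent.Helper21.KF Groth.Agent.Helper21.KH Groth.Agent.Helper5.HS

namespace Groth.Agent.Helper12.KoszEuler

variable {A : Type u} [CommRing A]

/-- the basic inequality for the head of the list -/
theorem hl_head_le (M : Type u) [AddCommGroup M] [Module A M] (x : A) (N₀ : ℕ)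
    (hreg : IsSMulRegular (x ^ N₀ • (⊤ : Submodule A M) : Submodule A M) x) (l : List A) (i : ℤ)
    (n : ℕ) (hn : N₀ ≤ n) :
    hl M (x ^ n :: l) i ≤
      n * hl (QuotSMulTop x (x ^ N₀ • (⊤ : Submodule A M) : Submodule A M)) l i +
        (hl (M ⧸ (x ^ N₀ • (⊤ : Submodule A M) : Submodule A M)) l i +
          hl (M ⧸ (x ^ N₀ • (⊤ : Submodule A M) : Submodule A M)) l (i + 1)) := by
  have h1 := hl_le_add (x ^ N₀ • (⊤ : Submodule A M) : Submodule A M).subtype
    (x ^ N₀ • (⊤ : Submodule A M) : Submodule A M).mkQ (Submodule.injective_subtype _)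
    (Submodule.mkQ_surjective _)
    (LinearMap.exact_subtype_mkQ (x ^ N₀ • (⊤ : Submodule A M) : Submodule A M)) (x ^ n :: l) i
  refine h1.trans (add_le_add (hl_regular_pow_le _ x l hreg i n) (le_of_eq ?_))
  apply hl_of_smul_eq_zero (M ⧸ (x ^ N₀ • (⊤ : Submodule A M) : Submodule A M)) (x ^ n) l
  intro q
  obtain ⟨m, rfl⟩ := Submodule.mkQ_surjective _ q
  rw [← _root_.map_smul, Submodule.mkQ_apply, Submodule.Quotient.mk_eq_zero]
  have h2 : x ^ n • m = x ^ N₀ • (x ^ (n - N₀) • m) := by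
    rw [← mul_smul, ← pow_add, Nat.add_sub_cancel' hn]
  rw [h2]
  exact Submodule.smul_mem_pointwise_smul (x ^ (n - N₀) • m) (x ^ N₀) (⊤ : Submodule A M)
    Submodule.mem_top

theorem hl_nil_le (M : Type u) [AddCommGroup M] [Module A M] (i : ℤ) :
    hl M ([] : List A) i ≤ Module.length A M := by
  by_cases hi : i = 0
  · subst hi
    have e : (Kz M ([] : List A)).homology 0 ≅ ModuleCat.of A M :=
      HomologicalComplex.singleObjHomologySelfIso (ComplexShape.up ℤ) (0 : ℤ) (ModuleCat.of A M)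
    unfold hl
    rw [e.toLinearEquiv.length_eq]
  · have : IsZero ((Kz M ([] : List A)).homology i) :=
      HomologicalComplex.isZero_single_obj_homology (ComplexShape.up ℤ) (0 : ℤ) _ i hi
    have : Subsingleton ((Kz M ([] : List A)).homology i) :=
      ModuleCat.subsingleton_of_isZero this
    unfold hl
    rw [Module.length_eq_zero]
    exact zero_le

theorem flq_quot_smul_top (M : Type u) [AddCommGroup M] [Module A M] (x : A) (n : ℕ)
    (l : List A) (h : FLQ M (Ideal.span {y | y ∈ x :: l})) :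
    FLQ (M ⧸ (x ^ n • (⊤ : Submodule A M) : Submodule A M)) (Ideal.span {y | y ∈ l}) := by
  intro p hp hle
  refine h p (Module.support_subset_of_surjective _ (Submodule.mkQ_surjective _) hp)
    (Ideal.span_le.mpr ?_)
  intro z hz
  rcases List.mem_cons.mp hz with rfl | hz
  · have h3 : z ^ n ∈ p.asIdeal := by
      refine Module.annihilator_le_of_mem_support hp (Module.mem_annihilator.mpr ?_)
      intro q
      obtain ⟨m, rfl⟩ := Submodule.mkQ_surjective _ q
      rw [← _root_.map_smul, Submodule.mkQ_apply, Submodule.Quotient.mk_eq_zero]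
      exact Submodule.smul_mem_pointwise_smul m (z ^ n) ⊤ Submodule.mem_top
    exact p.2.mem_of_pow_mem n h3
  · exact hle (Ideal.subset_span hz)

section Growth

variable [IsNoetherianRing A]

theorem flq_range_pow {k : ℕ} (x : Fin k → A) (M : Type u) [AddCommGroup M] [Module A M]
    (h : FLQ M (Ideal.span (Set.range x))) (n : ℕ) :
    FLQ M (Ideal.span (Set.range fun j => x j ^ n)) := by
  refine h.of_forall_prime fun p hp hle => Ideal.span_le.mpr ?_
  rintro _ ⟨j, rfl⟩
  exact hp.mem_of_pow_mem n (hle (Ideal.subset_span ⟨j, rfl⟩))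

theorem nat_bound (c₁ c₂ c₃ n e : ℕ) (hn : 1 ≤ n) :
    n * (c₁ * n ^ e) + (c₂ * n ^ e + c₃ * n ^ (e + 1)) ≤ (c₁ + c₂ + c₃) * n ^ (e + 1) := by
  have hp : n ^ e ≤ n ^ (e + 1) := Nat.pow_le_pow_right hn (Nat.le_succ e)
  have h1 : n * (c₁ * n ^ e) = c₁ * n ^ (e + 1) := by ring
  have h2 : c₂ * n ^ e ≤ c₂ * n ^ (e + 1) := Nat.mul_le_mul_left _ hp
  rw [h1]
  linarith [h2]

/-- `ℓ(H^i(x₁ⁿ, …, x_kⁿ; M)) ≤ c · n^{k + i}` for `-k ≤ i ≤ 0`. -/
theorem hl_pow_le : ∀ (k : ℕ) (x : Fin k → A) (M : Type u) [AddCommGroup M] [Module A M]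
    [Module.Finite A M], FLQ M (Ideal.span (Set.range x)) → ∀ i : ℤ, ∃ c N : ℕ, ∀ n : ℕ, N ≤ n →
      hl M (List.ofFn fun j => x j ^ n) i ≤ ((c * n ^ ((k : ℤ) + i).toNat : ℕ) : ℕ∞) := by
  intro k
  induction k with
  | zero =>
    intro x M _ _ _ h i
    have hfl : IsFiniteLength A M := by
      rw [isFiniteLength_iff_support]
      exact fun p hp => h p hp (by
        have : Set.range x = ∅ := Set.range_eq_empty x
        rw [this, Ideal.span_empty]
        exact bot_le)
    have h1 : Module.length A M ≠ ⊤ := Module.length_ne_top_iff.mpr hfl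
    refine ⟨(Module.length A M).toNat, 1, fun n hn => ?_⟩
    rw [List.ofFn_zero]
    refine (hl_nil_le M i).trans ?_
    rw [← ENat.coe_toNat h1]
    have h2 : 1 ≤ n ^ ((0 : ℕ) + i).toNat := Nat.one_le_pow _ _ hn
    exact_mod_cast Nat.le_mul_of_pos_right _ h2
  | succ k ih =>
    intro x M _ _ _ h i
    by_cases h1 : i < -((k : ℤ) + 1) ∨ 0 < i
    · refine ⟨0, 0, fun n _ => ?_⟩
      rw [hl_eq_zero_of_lt]
      · exact zero_le
      · rw [List.length_ofFn]
        push_cast
        exact h1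
    · rw [not_or, not_lt, not_lt] at h1
      obtain ⟨h1a, h1b⟩ := h1
      set x0 := x 0 with hx0
      set xt : Fin k → A := fun j => x j.succ with hxt
      have hfl : ∀ l : List A, {y | y ∈ l} = Set.range xt →
          FLQ M (Ideal.span {y | y ∈ x0 :: l}) := by
        intro l hl
        have : {y | y ∈ x0 :: l} = Set.range x := by
          ext y
          simp only [Set.mem_setOf_eq, List.mem_cons, Set.mem_range]
          constructor
          · rintro (rfl | hy)
            · exact ⟨0, rfl⟩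
            · have : y ∈ Set.range xt := hl ▸ hy
              obtain ⟨j, rfl⟩ := this
              exact ⟨j.succ, rfl⟩
          · rintro ⟨j, rfl⟩
            refine Fin.cases ?_ (fun j => ?_) j
            · exact Or.inl rfl
            · exact Or.inr (by
                have : xt j ∈ {y | y ∈ l} := hl ▸ ⟨j, rfl⟩
                exact this)
        rw [this]
        exact h
      obtain ⟨N₀, hreg⟩ := exists_regular_on_smul_top M x0
      have hflN := flq_quotSMulTop_smul_top M x0 N₀ (List.ofFn xt) (hfl _ (mem_ofFn_set xt))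
      have hflT := flq_quot_smul_top M x0 N₀ (List.ofFn xt) (hfl _ (mem_ofFn_set xt))
      rw [mem_ofFn_set] at hflN hflT
      obtain ⟨c₁, N₁, hc₁⟩ := ih xt _ hflN i
      obtain ⟨c₂, N₂, hc₂⟩ := ih xt _ hflT i
      obtain ⟨c₃, N₃, hc₃⟩ := ih xt _ hflT (i + 1)
      by_cases h2 : i = -((k : ℤ) + 1)
      · refine ⟨c₃, max N₀ N₃, fun n hn => ?_⟩
        rw [List.ofFn_succ]
        refine (hl_head_le M x0 N₀ hreg _ i n ((le_max_left _ _).trans hn)).trans ?_
        have hlen : ((List.ofFn fun j : Fin k => x j.succ ^ n).length : ℤ) = k := by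
          rw [List.length_ofFn]
        rw [hl_eq_zero_of_lt _ _ i (Or.inl (by rw [hlen, h2]; omega)),
          hl_eq_zero_of_lt _ _ i (Or.inl (by rw [hlen, h2]; omega)), mul_zero, zero_add, zero_add]
        refine (hc₃ n ((le_max_right _ _).trans hn)).trans (le_of_eq ?_)
        have e1 : ((k : ℤ) + (i + 1)).toNat = 0 := by rw [h2]; simp
        have e2 : (((k + 1 : ℕ) : ℤ) + i).toNat = 0 := by rw [h2]; simp
        rw [e1, e2]
      · have h3 : -(k : ℤ) ≤ i := by omega
        refine ⟨c₁ + c₂ + c₃, max (max N₀ N₁) (max (max N₂ N₃) 1), fun n hn => ?_⟩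
        have hn0 : N₀ ≤ n := ((le_max_left _ _).trans (le_max_left _ _)).trans hn
        have hn1 : N₁ ≤ n := ((le_max_right _ _).trans (le_max_left _ _)).trans hn
        have hn2 : N₂ ≤ n :=
          (((le_max_left _ _).trans (le_max_left _ _)).trans (le_max_right _ _)).trans hn
        have hn3 : N₃ ≤ n :=
          (((le_max_right _ _).trans (le_max_left _ _)).trans (le_max_right _ _)).trans hn
        have hn4 : 1 ≤ n := ((le_max_right _ _).trans (le_max_right _ _)).trans hn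
        rw [List.ofFn_succ]
        refine (hl_head_le M x0 N₀ hreg _ i n hn0).trans ?_
        obtain ⟨e, he⟩ : ∃ e : ℕ, (k : ℤ) + i = e := ⟨((k : ℤ) + i).toNat, by omega⟩
        have e1 : ((k : ℤ) + i).toNat = e := by rw [he]; simp
        have e2 : ((k : ℤ) + (i + 1)).toNat = e + 1 := by
          have : (k : ℤ) + (i + 1) = ((e + 1 : ℕ) : ℤ) := by push_cast; omega
          rw [this]; simp
        have e3 : (((k + 1 : ℕ) : ℤ) + i).toNat = e + 1 := by
          have : ((k + 1 : ℕ) : ℤ) + i = ((e + 1 : ℕ) : ℤ) := by push_cast; omega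
          rw [this]; simp
        have b1 := hc₁ n hn1
        have b2 := hc₂ n hn2
        have b3 := hc₃ n hn3
        rw [e1] at b1 b2
        rw [e2] at b3
        rw [e3]
        calc _ ≤ (n : ℕ∞) * ((c₁ * n ^ e : ℕ) : ℕ∞) +
              (((c₂ * n ^ e : ℕ) : ℕ∞) + ((c₃ * n ^ (e + 1) : ℕ) : ℕ∞)) :=
              add_le_add (mul_le_mul_right b1 _) (add_le_add b2 b3)
          _ ≤ (((c₁ + c₂ + c₃) * n ^ (e + 1) : ℕ) : ℕ∞) := by
            exact_mod_cast nat_bound c₁ c₂ c₃ n e hn4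

theorem bound_all (f : ℕ → ℕ∞) (hf : ∀ n, 0 < n → f n ≠ ⊤) (e c N : ℕ)
    (h : ∀ n, N ≤ n → f n ≤ ((c * n ^ e : ℕ) : ℕ∞)) :
    ∃ c' : ℕ, ∀ n, 0 < n → f n ≤ ((c' * n ^ e : ℕ) : ℕ∞) := by
  refine ⟨c + ∑ m ∈ Finset.range N, (f m).toNat, fun n hn => ?_⟩
  have hpow : 1 ≤ n ^ e := Nat.one_le_pow _ _ hn
  by_cases hN : N ≤ n
  · refine (h n hN).trans ?_
    exact_mod_cast Nat.mul_le_mul_right _ (Nat.le_add_right _ _)
  · rw [not_le] at hN
    rw [← ENat.coe_toNat (hf n hn)]
    have h1 : (f n).toNat ≤ ∑ m ∈ Finset.range N, (f m).toNat :=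
      Finset.single_le_sum (f := fun m => (f m).toNat) (fun _ _ => Nat.zero_le _)
        (Finset.mem_range.mpr hN)
    have h2 : (f n).toNat ≤ (c + ∑ m ∈ Finset.range N, (f m).toNat) * n ^ e :=
      (h1.trans (Nat.le_add_left _ _)).trans (Nat.le_mul_of_pos_right _ hpow)
    exact_mod_cast h2

theorem hl_ne_top_pow {k : ℕ} (x : Fin k → A) (M : Type u) [AddCommGroup M] [Module A M]
    [Module.Finite A M] (h : FLQ M (Ideal.span (Set.range x))) (i : ℤ) (n : ℕ) :
    hl M (List.ofFn fun j => x j ^ n) i ≠ ⊤ := by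
  have h1 := flq_range_pow x M h n
  rw [← mem_ofFn_set] at h1
  exact Module.length_ne_top_iff.mpr ((good_Kz M _ h1).fl i)

/-- `ℓ(H_i(x₁ⁿ, …, x_kⁿ; M)) ≤ c · n^{k - i}` for all `n ≥ 1`. -/
theorem hl_pow_le_all {k : ℕ} (x : Fin k → A) (M : Type u) [AddCommGroup M] [Module A M]
    [Module.Finite A M] (h : FLQ M (Ideal.span (Set.range x))) (i : ℕ) (hi : i ≤ k) :
    ∃ c : ℕ, ∀ n : ℕ, 0 < n →
      hl M (List.ofFn fun j => x j ^ n) (-(i : ℤ)) ≤ ((c * n ^ (k - i) : ℕ) : ℕ∞) := by
  obtain ⟨c, N, hc⟩ := hl_pow_le k x M h (-(i : ℤ))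
  have e1 : ((k : ℤ) + -(i : ℤ)).toNat = k - i := by omega
  rw [e1] at hc
  exact bound_all _ (fun n _ => hl_ne_top_pow x M h _ n) _ c N hc

end Growth

end Groth.Agent.Helper12.KoszEuler
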