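import Mathlib
import Groth.Agent.Lib.Helper12.KoszEuler15

/-!
# Koszul Euler characteristics, part 16: `ℓ(H^i(x₁ⁿ, …, x_kⁿ; M)) ≤ c · n^{dim M}`
-/

set_option autoImplicit false
universe u
open CategoryTheory CategoryTheory.Limits CochainComplex HomologicalComplex Pointwise
open Groth.Agent.Helper21.KF Groth.Agent.Helper21.KH Groth.Agent.Helper5.HS

namespace Groth.Agent.Helper12.KoszEuler

variable {A : Type u} [CommRing A]

theorem withBot_le_of_succ_le {a : WithBot ℕ∞} {d : ℕ}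
    (h : a + 1 ≤ ((d + 1 : ℕ) : WithBot ℕ∞)) : a ≤ (d : WithBot ℕ∞) := by
  induction a with
  | bot => exact bot_le
  | coe a =>
    induction a with
    | top =>
      exfalso
      have : ((⊤ : ℕ∞) : WithBot ℕ∞) + 1 = ((⊤ : ℕ∞) : WithBot ℕ∞) := rfl
      rw [this] at h
      have h2 : ((⊤ : ℕ∞) : WithBot ℕ∞) ≤ (((d + 1 : ℕ) : ℕ∞) : WithBot ℕ∞) := h
      have h3 := WithBot.coe_le_coe.mp h2
      exact absurd (top_le_iff.mp h3) (ENat.coe_ne_top _)
    | coe a =>
      have h4 : ((a + 1 : ℕ) : WithBot ℕ∞) ≤ ((d + 1 : ℕ) : WithBot ℕ∞) := by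
        simpa using h
      have h5 : a + 1 ≤ d + 1 := by exact_mod_cast h4
      have h6 : a ≤ d := by omega
      exact_mod_cast h6

theorem withBot_eq_bot_of_succ_le_zero {a : WithBot ℕ∞}
    (h : a + 1 ≤ ((0 : ℕ) : WithBot ℕ∞)) : a = ⊥ := by
  induction a with
  | bot => rfl
  | coe a =>
    exfalso
    induction a with
    | top =>
      have : ((⊤ : ℕ∞) : WithBot ℕ∞) + 1 = ((⊤ : ℕ∞) : WithBot ℕ∞) := rfl
      rw [this] at h
      have h2 : ((⊤ : ℕ∞) : WithBot ℕ∞) ≤ (((0 : ℕ) : ℕ∞) : WithBot ℕ∞) := h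
      have h3 := WithBot.coe_le_coe.mp h2
      exact absurd (top_le_iff.mp h3) (ENat.coe_ne_top _)
    | coe a =>
      have h4 : ((a + 1 : ℕ) : WithBot ℕ∞) ≤ ((0 : ℕ) : WithBot ℕ∞) := by
        simpa using h
      have h5 : a + 1 ≤ 0 := by exact_mod_cast h4
      omega

section Local

variable [IsNoetherianRing A] [IsLocalRing A]

/-- `ℓ(H^i(x₁ⁿ, …, x_kⁿ; M)) ≤ c · n^d` when `dim M ≤ d`. -/
theorem hl_pow_le_dim : ∀ (k : ℕ) (x : Fin k → A) (_ : ∀ j, x j ∈ IsLocalRing.maximalIdeal A)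
    (d : ℕ) (M : Type u) [AddCommGroup M] [Module A M] [Module.Finite A M],
    Module.supportDim A M ≤ (d : WithBot ℕ∞) → FLQ M (Ideal.span (Set.range x)) →
    ∀ i : ℤ, ∃ c N : ℕ, ∀ n : ℕ, N ≤ n →
      hl M (List.ofFn fun j => x j ^ n) i ≤ ((c * n ^ d : ℕ) : ℕ∞) := by
  intro k
  induction k with
  | zero =>
    intro x _ d M _ _ _ _ h i
    have hfl : IsFiniteLength A M := by
      rw [isFiniteLength_iff_support]
      exact fun p hp => h p hp (by
        have : Set.range x = ∅ := Set.range_eq_empty x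
        rw [this, Ideal.span_empty]
        exact bot_le)
    have h1 : Module.length A M ≠ ⊤ := Module.length_ne_top_iff.mpr hfl
    refine ⟨(Module.length A M).toNat, 1, fun n hn => ?_⟩
    rw [List.ofFn_zero]
    refine (hl_nil_le M i).trans ?_
    rw [← ENat.coe_toNat h1]
    have h2 : 1 ≤ n ^ d := Nat.one_le_pow _ _ hn
    exact_mod_cast Nat.le_mul_of_pos_right _ h2
  | succ k ih =>
    intro x hx d M _ _ _ hdim h i
    set x0 := x 0 with hx0
    set xt : Fin k → A := fun j => x j.succ with hxt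
    have hfl : FLQ M (Ideal.span {y | y ∈ x0 :: List.ofFn xt}) := by
      rw [hx0, hxt, ← List.ofFn_succ, mem_ofFn_set]
      exact h
    obtain ⟨N₀, hreg⟩ := exists_regular_on_smul_top M x0
    have hflN := flq_quotSMulTop_smul_top M x0 N₀ (List.ofFn xt) hfl
    have hflT := flq_quot_smul_top M x0 N₀ (List.ofFn xt) hfl
    rw [mem_ofFn_set] at hflN hflT
    have hdimT : Module.supportDim A (M ⧸ (x0 ^ N₀ • (⊤ : Submodule A M) : Submodule A M)) ≤
        (d : WithBot ℕ∞) :=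
      (Module.supportDim_le_of_surjective _ (Submodule.mkQ_surjective _)).trans hdim
    obtain ⟨c₂, N₂, hc₂⟩ := ih xt (fun j => hx j.succ) d _ hdimT hflT i
    obtain ⟨c₃, N₃, hc₃⟩ := ih xt (fun j => hx j.succ) d _ hdimT hflT (i + 1)
    have h1 := Module.supportDim_quotSMulTop_succ_eq_supportDim hreg (hx 0)
    have h2 : Module.supportDim A (x0 ^ N₀ • (⊤ : Submodule A M) : Submodule A M) ≤
        Module.supportDim A M :=
      Module.supportDim_le_of_injective _ (Submodule.injective_subtype _)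
    have h3 : Module.supportDim A
        (QuotSMulTop x0 (x0 ^ N₀ • (⊤ : Submodule A M) : Submodule A M)) + 1 ≤
        (d : WithBot ℕ∞) := h1.le.trans (h2.trans hdim)
    -- bound for the regular part
    have hN : ∃ c₁ N₁ : ℕ, ∀ n : ℕ, N₁ ≤ n →
        (n : ℕ∞) * hl (QuotSMulTop x0 (x0 ^ N₀ • (⊤ : Submodule A M) : Submodule A M))
          (List.ofFn fun j => xt j ^ n) i ≤ ((c₁ * n ^ d : ℕ) : ℕ∞) := by
      rcases Nat.eq_zero_or_pos d with rfl | hd
      · have hbot := withBot_eq_bot_of_succ_le_zero h3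
        have : Subsingleton (QuotSMulTop x0 (x0 ^ N₀ • (⊤ : Submodule A M) : Submodule A M)) :=
          (Module.supportDim_eq_bot_iff_subsingleton A _).mp hbot
        refine ⟨0, 0, fun n _ => ?_⟩
        rw [hl_of_subsingleton, mul_zero]
        exact zero_le
      · obtain ⟨d', rfl⟩ : ∃ d', d = d' + 1 := ⟨d - 1, by omega⟩
        obtain ⟨c₁, N₁, hc₁⟩ := ih xt (fun j => hx j.succ) d' _ (withBot_le_of_succ_le h3) hflN i
        refine ⟨c₁, N₁, fun n hn => ?_⟩
        refine (mul_le_mul_right (hc₁ n hn) _).trans (le_of_eq ?_)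
        have : n * (c₁ * n ^ d') = c₁ * n ^ (d' + 1) := by ring
        exact_mod_cast this
    obtain ⟨c₁, N₁, hc₁⟩ := hN
    refine ⟨c₁ + c₂ + c₃, max (max N₀ N₁) (max N₂ N₃), fun n hn => ?_⟩
    have hn0 : N₀ ≤ n := ((le_max_left _ _).trans (le_max_left _ _)).trans hn
    have hn1 : N₁ ≤ n := ((le_max_right _ _).trans (le_max_left _ _)).trans hn
    have hn2 : N₂ ≤ n := ((le_max_left _ _).trans (le_max_right _ _)).trans hn
    have hn3 : N₃ ≤ n := ((le_max_right _ _).trans (le_max_right _ _)).trans hn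
    rw [List.ofFn_succ]
    refine (hl_head_le M x0 N₀ hreg _ i n hn0).trans ?_
    calc _ ≤ ((c₁ * n ^ d : ℕ) : ℕ∞) + (((c₂ * n ^ d : ℕ) : ℕ∞) + ((c₃ * n ^ d : ℕ) : ℕ∞)) :=
          add_le_add (hc₁ n hn1) (add_le_add (hc₂ n hn2) (hc₃ n hn3))
      _ = (((c₁ + c₂ + c₃) * n ^ d : ℕ) : ℕ∞) := by
        have : c₁ * n ^ d + (c₂ * n ^ d + c₃ * n ^ d) = (c₁ + c₂ + c₃) * n ^ d := by ring
        exact_mod_cast this

theorem hl_pow_le_dim_all {k : ℕ} (x : Fin k → A) (hx : ∀ j, x j ∈ IsLocalRing.maximalIdeal A)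
    (d : ℕ) (M : Type u) [AddCommGroup M] [Module A M] [Module.Finite A M]
    (hdim : Module.supportDim A M ≤ (d : WithBot ℕ∞)) (h : FLQ M (Ideal.span (Set.range x)))
    (i : ℤ) :
    ∃ c : ℕ, ∀ n : ℕ, 0 < n →
      hl M (List.ofFn fun j => x j ^ n) i ≤ ((c * n ^ d : ℕ) : ℕ∞) := by
  obtain ⟨c, N, hc⟩ := hl_pow_le_dim k x hx d M hdim h i
  exact bound_all _ (fun n _ => hl_ne_top_pow x M h _ n) _ c N hc

end Local

end Groth.Agent.Helper12.KoszEuler
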