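import Mathlib
import Groth.Agent.Lib.Helper12.KoszEuler23
import Groth.Agent.Lib.Helper12.KoszEuler16
import Groth.Agent.Lib.Helper21.KoszTop

/-!
# Lech's limit formula: `ℓ(M/(x₁ⁿ,…,x_dⁿ)M)/n^d → χ(x; M) = e(x; M)`
-/

set_option autoImplicit false
universe u

open Filter Topology

namespace Groth.Agent.Helper12.Lech

open Groth.Agent.Helper12.KoszEuler

theorem alt_eq_sum_range (f : ℤ → ℤ) (d : ℕ) (hf : ∀ i : ℤ, (i < -(d : ℤ) ∨ 0 < i) → f i = 0) :
    alt f = ∑ j ∈ Finset.range (d + 1), (-1 : ℤ) ^ j * f (-(j : ℤ)) := by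
  unfold alt
  have hinj : Set.InjOn (fun j : ℕ => -(j : ℤ)) (Finset.range (d + 1) : Set ℕ) := by
    intro a _ b _ h
    simpa using h
  rw [finsum_eq_sum_of_support_subset (s := (Finset.range (d + 1)).image fun j : ℕ => -(j : ℤ))]
  · rw [Finset.sum_image hinj]
    refine Finset.sum_congr rfl fun j _ => ?_
    congr 1
    rw [Int.negOnePow_neg, Int.negOnePow_def, zpow_natCast]
    simp
  · intro i hi
    rw [Function.mem_support] at hi
    have h1 : ¬ (i < -(d : ℤ) ∨ 0 < i) := fun h => hi (by rw [hf i h, mul_zero])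
    push Not at h1
    simp only [Finset.coe_image, Finset.coe_range, Set.mem_image, Set.mem_Iio]
    exact ⟨(-i).toNat, by omega, by omega⟩

variable {A : Type u} [CommRing A]

theorem hl_zero_eq (M : Type u) [AddCommGroup M] [Module A M] (l : List A) :
    hl M l 0 = Module.length A (M ⧸ (Ideal.ofList l • (⊤ : Submodule A M))) := by
  obtain ⟨e⟩ := Groth.Agent.Helper21.KT.top_equiv M l
  exact e.length_eq

variable [IsNoetherianRing A] [IsLocalRing A]

/-- `|ℓ(M/(xⁿ)M) - n^d χ(x;M)| · n ≤ C · n^d`. -/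
theorem exists_bound {d : ℕ} (x : Fin d → A) (M : Type u) [AddCommGroup M] [Module A M]
    [Module.Finite A M] (h : FLQ M (Ideal.span (Set.range x))) :
    ∃ C : ℕ, ∀ n : ℕ, 0 < n →
      |((hl M (List.ofFn fun j => x j ^ n) 0).toNat : ℤ) - (n : ℤ) ^ d * chi M (List.ofFn x)| * n
        ≤ C * (n : ℤ) ^ d := by
  choose c hc using fun j : Fin d => hl_pow_le_all x M h (j.1 + 1) (by omega)
  refine ⟨∑ j, c j, fun n hn => ?_⟩
  have hchi : chi M (List.ofFn fun j => x j ^ n) = (n : ℤ) ^ d * chi M (List.ofFn x) := by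
    rw [chi_pow d x (fun _ => n) M h]
    simp
  have hzero : ∀ i : ℤ, (i < -(d : ℤ) ∨ 0 < i) →
      hlen (Kz M (List.ofFn fun j => x j ^ n)) i = 0 := by
    intro i hi
    unfold hlen hln
    have := hl_eq_zero_of_lt M (List.ofFn fun j => x j ^ n) i (by simpa using hi)
    unfold hl at this
    rw [this]
    rfl
  have h1 : chi M (List.ofFn fun j => x j ^ n) =
      ∑ j ∈ Finset.range (d + 1), (-1 : ℤ) ^ j * hlen (Kz M (List.ofFn fun j => x j ^ n)) (-(j : ℤ)) :=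
    alt_eq_sum_range _ d hzero
  rw [Finset.sum_range_succ', hchi] at h1
  simp only [pow_zero, one_mul, Nat.cast_zero, neg_zero] at h1
  have h0 : hlen (Kz M (List.ofFn fun j => x j ^ n)) 0 =
      ((hl M (List.ofFn fun j => x j ^ n) 0).toNat : ℤ) := rfl
  rw [h0] at h1
  have h2 : ((hl M (List.ofFn fun j => x j ^ n) 0).toNat : ℤ) - (n : ℤ) ^ d * chi M (List.ofFn x) =
      - ∑ j ∈ Finset.range d, (-1 : ℤ) ^ (j + 1) *
        hlen (Kz M (List.ofFn fun j => x j ^ n)) (-((j + 1 : ℕ) : ℤ)) := by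
    rw [h1]; ring
  rw [h2, abs_neg]
  have h3 : |∑ j ∈ Finset.range d, (-1 : ℤ) ^ (j + 1) *
        hlen (Kz M (List.ofFn fun j => x j ^ n)) (-((j + 1 : ℕ) : ℤ))| ≤
      ∑ j ∈ Finset.range d, hlen (Kz M (List.ofFn fun j => x j ^ n)) (-((j + 1 : ℕ) : ℤ)) := by
    refine (Finset.abs_sum_le_sum_abs _ _).trans (Finset.sum_le_sum fun j _ => ?_)
    rw [abs_mul, abs_pow, abs_neg, abs_one, one_pow, one_mul]
    unfold hlen
    rw [abs_of_nonneg (by positivity)]
  have hn0 : (0 : ℤ) ≤ n := by positivity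
  refine (mul_le_mul_of_nonneg_right h3 hn0).trans ?_
  rw [Finset.sum_mul, Finset.sum_range, Nat.cast_sum, Finset.sum_mul]
  refine Finset.sum_le_sum fun j _ => ?_
  have h4 := hc j n hn
  have h5 : (hl M (List.ofFn fun j => x j ^ n) (-((j.1 + 1 : ℕ) : ℤ))).toNat ≤ c j * n ^ (d - (j.1 + 1)) := by
    have := ENat.toNat_le_toNat h4 (ENat.natCast_ne_top _)
    rwa [ENat.toNat_natCast] at this
  have h6 : hlen (Kz M (List.ofFn fun j => x j ^ n)) (-((j.1 + 1 : ℕ) : ℤ)) ≤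
      ((c j * n ^ (d - (j.1 + 1)) : ℕ) : ℤ) := by
    unfold hlen hln
    exact_mod_cast h5
  refine (mul_le_mul_of_nonneg_right h6 hn0).trans ?_
  have h7 : n ^ (d - (j.1 + 1)) * n = n ^ (d - j.1) := by
    rw [← pow_succ]
    congr 1
    omega
  have h8 : n ^ (d - j.1) ≤ n ^ d := Nat.pow_le_pow_right hn (Nat.sub_le _ _)
  calc ((c j * n ^ (d - (j.1 + 1)) : ℕ) : ℤ) * (n : ℤ)
      = ((c j * (n ^ (d - (j.1 + 1)) * n) : ℕ) : ℤ) := by push_cast; ring
    _ ≤ ((c j * n ^ d : ℕ) : ℤ) := by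
        rw [h7]
        exact_mod_cast Nat.mul_le_mul_left _ h8
    _ = (c j : ℤ) * (n : ℤ) ^ d := by push_cast; ring

/-- **Lech's limit formula**: `ℓ(M/(x₁ⁿ,…,x_dⁿ)M)/n^d → χ(x; M)`. -/
theorem tendsto_lech {d : ℕ} (x : Fin d → A) (M : Type u) [AddCommGroup M] [Module A M]
    [Module.Finite A M]
    (hfl : IsFiniteLength A (M ⧸ (Ideal.span (Set.range x) • (⊤ : Submodule A M)))) :
    Tendsto (fun n : ℕ => ((Module.length A (M ⧸ (Ideal.span (Set.range fun i => x i ^ n) •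
      (⊤ : Submodule A M)))).toNat : ℝ) / (n : ℝ) ^ d) atTop (𝓝 ((chi M (List.ofFn x) : ℤ) : ℝ)) := by
  have h : FLQ M (Ideal.span (Set.range x)) := (flq_iff _).mpr hfl
  obtain ⟨C, hC⟩ := exists_bound x M h
  have hlen : ∀ n : ℕ, Module.length A (M ⧸ (Ideal.span (Set.range fun i => x i ^ n) •
      (⊤ : Submodule A M))) = hl M (List.ofFn fun j => x j ^ n) 0 := by
    intro n
    rw [hl_zero_eq, Ideal.ofList, mem_ofFn_set]
  simp only [hlen]
  rw [tendsto_iff_norm_sub_tendsto_zero]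
  have hlim : Tendsto (fun n : ℕ => (C : ℝ) / (n : ℝ)) atTop (𝓝 0) :=
    tendsto_const_div_atTop_nhds_zero_nat (C : ℝ)
  refine squeeze_zero' (Eventually.of_forall fun n => norm_nonneg _) ?_ hlim
  refine eventually_atTop.mpr ⟨1, fun n hn => ?_⟩
  have hnpos : (0 : ℝ) < n := by exact_mod_cast hn
  have hnd : (0 : ℝ) < (n : ℝ) ^ d := by positivity
  have h1 := hC n hn
  have h2 : (|((hl M (List.ofFn fun j => x j ^ n) 0).toNat : ℝ) -
      (n : ℝ) ^ d * ((chi M (List.ofFn x) : ℤ) : ℝ)|) * (n : ℝ) ≤ (C : ℝ) * (n : ℝ) ^ d := by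
    have := (Int.cast_le (R := ℝ)).mpr h1
    push_cast at this
    exact this
  rw [Real.norm_eq_abs]
  have h3 : ((hl M (List.ofFn fun j => x j ^ n) 0).toNat : ℝ) / (n : ℝ) ^ d -
      ((chi M (List.ofFn x) : ℤ) : ℝ) =
      (((hl M (List.ofFn fun j => x j ^ n) 0).toNat : ℝ) -
        (n : ℝ) ^ d * ((chi M (List.ofFn x) : ℤ) : ℝ)) / (n : ℝ) ^ d := by
    field_simp
  rw [h3, abs_div, abs_of_pos hnd, div_le_div_iff₀ hnd hnpos]
  exact h2

end Groth.Agent.Helper12.Lech
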