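import Mathlib
import Groth.Agent.Lib.Helper5.HS6

/-!
# Hilbert–Kunz functions: basic length estimates

`E I M = ℓ(M / I M)`; right exactness inequality, products, and the dimension estimate for
modules whose support consists of primes strictly containing other primes.
-/

open Groth.Agent.Helper5.HS

namespace Groth.Agent.Helper12.HK

universe u v w

variable {A : Type u} [CommRing A]

/-- `E I M = ℓ(M / I M)` -/
noncomputable def E (I : Ideal A) (M : Type v) [AddCommGroup M] [Module A M] : ℕ∞ :=
  Module.length A (M ⧸ (I • ⊤ : Submodule A M))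

section Basic

variable (I : Ideal A) {M : Type v} {N : Type w} [AddCommGroup M] [Module A M]
  [AddCommGroup N] [Module A N]

/-- the induced map `M / I M → N / I N` -/
noncomputable def mapE (f : M →ₗ[A] N) :
    (M ⧸ (I • ⊤ : Submodule A M)) →ₗ[A] (N ⧸ (I • ⊤ : Submodule A N)) :=
  Submodule.mapQ _ _ f (Submodule.smul_top_le_comap_smul_top I f)

@[simp]
theorem mapE_mk (f : M →ₗ[A] N) (m : M) :
    mapE I f (Submodule.Quotient.mk m) = Submodule.Quotient.mk (f m) := rfl

theorem mapE_surjective (f : M →ₗ[A] N) (hf : Function.Surjective f) :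
    Function.Surjective (mapE I f) := by
  intro y
  obtain ⟨y, rfl⟩ := Submodule.Quotient.mk_surjective _ y
  obtain ⟨x, rfl⟩ := hf y
  exact ⟨Submodule.Quotient.mk x, rfl⟩

theorem E_le_of_surjective (f : M →ₗ[A] N) (hf : Function.Surjective f) : E I N ≤ E I M :=
  Module.length_le_of_surjective (mapE I f) (mapE_surjective I f hf)

theorem E_congr (e : M ≃ₗ[A] N) : E I M = E I N :=
  le_antisymm (E_le_of_surjective I e.symm.toLinearMap e.symm.surjective)
    (E_le_of_surjective I e.toLinearMap e.surjective)

/-- right exactness: `ℓ(N/IN) ≤ ℓ(M/IM) + ℓ(C/IC)` for `C = coker (M → N)`. -/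
theorem E_le_add (f : M →ₗ[A] N) : E I N ≤ E I M + E I (N ⧸ LinearMap.range f) := by
  set π : N →ₗ[A] (N ⧸ LinearMap.range f) := (LinearMap.range f).mkQ with hπ
  have hπs : Function.Surjective π := Submodule.mkQ_surjective _
  have hex : LinearMap.ker (mapE I π) ≤ LinearMap.range (mapE I f) := by
    intro x hx
    obtain ⟨x, rfl⟩ := Submodule.Quotient.mk_surjective _ x
    rw [LinearMap.mem_ker, mapE_mk, Submodule.Quotient.mk_eq_zero] at hx
    have h1 : (I • ⊤ : Submodule A (N ⧸ LinearMap.range f)) =
        (I • ⊤ : Submodule A N).map π := by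
      rw [Submodule.map_smul'', Submodule.map_top, LinearMap.range_eq_top.mpr hπs]
    rw [h1] at hx
    obtain ⟨y, hy, hyx⟩ := hx
    have h2 : x - y ∈ LinearMap.range f := by
      have : π (x - y) = 0 := by rw [map_sub, hyx, sub_self]
      rwa [hπ, Submodule.mkQ_apply, Submodule.Quotient.mk_eq_zero] at this
    obtain ⟨m, hm⟩ := h2
    refine ⟨Submodule.Quotient.mk m, ?_⟩
    rw [mapE_mk, hm, Submodule.Quotient.mk_sub, sub_eq_self, Submodule.Quotient.mk_eq_zero]
    exact hy
  have h3 := Module.length_eq_add_of_exact (LinearMap.ker (mapE I π)).subtype (mapE I π)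
    (Submodule.subtype_injective _) (mapE_surjective I π hπs)
    (LinearMap.exact_subtype_ker_map _)
  have h4 : Module.length A (LinearMap.ker (mapE I π)) ≤ E I M := by
    refine (Module.length_le_of_injective (Submodule.inclusion hex)
      (Submodule.inclusion_injective hex)).trans ?_
    exact Module.length_le_of_surjective (mapE I f).rangeRestrict
      (LinearMap.surjective_rangeRestrict _)
  unfold E at *
  rw [h3]
  exact add_le_add h4 le_rfl

end Basic

section Pi

variable (I : Ideal A) {ι : Type*} [Fintype ι] (M : ι → Type v) [∀ i, AddCommGroup (M i)]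
  [∀ i, Module A (M i)]

theorem smul_top_pi :
    (I • ⊤ : Submodule A (Π i, M i)) =
      Submodule.pi Set.univ (fun i => (I • ⊤ : Submodule A (M i))) := by
  classical
  apply le_antisymm
  · rw [Submodule.smul_le]
    intro r hr x _
    rw [Submodule.mem_pi]
    intro i _
    exact Submodule.smul_mem_smul hr Submodule.mem_top
  · intro x hx
    rw [Submodule.mem_pi] at hx
    have hx' : x = ∑ i, LinearMap.single A M i (x i) := by
      ext j
      simp [Finset.sum_apply]
    rw [hx']
    refine Submodule.sum_mem _ fun i _ => ?_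
    have := Submodule.smul_top_le_comap_smul_top I (LinearMap.single A M i) (hx i trivial)
    exact this

theorem E_pi : E I (Π i, M i) = ∑ i, E I (M i) := by
  classical
  unfold E
  rw [← Module.length_pi_of_fintype]
  refine LinearEquiv.length_eq ?_
  exact (Submodule.quotEquivOfEq _ _ (smul_top_pi I M)).trans (Submodule.quotientPi _)

theorem E_fun (r : ℕ) (L : Type v) [AddCommGroup L] [Module A L] :
    E I (Fin r → L) = r • E I L := by
  rw [E_pi I (fun _ : Fin r => L)]
  simp

end Pi

/-- If every prime in the support of `C` strictly contains a prime containing `J`, then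
`dim C + 1 ≤ dim A/J`. -/
theorem supportDim_add_one_le (J : Ideal A) (C : Type v) [AddCommGroup C] [Module A C]
    (h : ∀ q ∈ Module.support A C, ∃ q' : PrimeSpectrum A, J ≤ q'.asIdeal ∧ q' < q) :
    Module.supportDim A C + 1 ≤ Order.krullDim (PrimeSpectrum.zeroLocus (J : Set A)) := by
  unfold Module.supportDim
  rcases isEmpty_or_nonempty (Module.support A C) with he | hne
  · rw [Order.krullDim_eq_bot]
    exact bot_le
  · rw [Order.krullDim_eq_iSup_length]
    have h1 : ((1 : ℕ∞) : WithBot ℕ∞) = 1 := rfl
    rw [← h1, ← WithBot.coe_add, ENat.iSup_add]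
    have hJ : ∀ q ∈ Module.support A C, q ∈ PrimeSpectrum.zeroLocus (J : Set A) := by
      intro q hq
      obtain ⟨q', hq', hlt⟩ := h q hq
      exact fun x hx => hlt.le (hq' hx)
    have : Nonempty (PrimeSpectrum.zeroLocus (J : Set A)) := by
      obtain ⟨q, hq⟩ := hne
      exact ⟨⟨q, hJ q hq⟩⟩
    rw [Order.krullDim_eq_iSup_length, WithBot.coe_le_coe]
    refine iSup_le fun s => ?_
    let f : Module.support A C → PrimeSpectrum.zeroLocus (J : Set A) := fun q => ⟨q.1, hJ q.1 q.2⟩
    have hf : StrictMono f := fun a b hab => hab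
    obtain ⟨q', hq', hlt⟩ := h s.head.1 s.head.2
    let s' : LTSeries (PrimeSpectrum.zeroLocus (J : Set A)) :=
      (s.map f hf).cons ⟨q', fun x hx => hq' hx⟩ hlt
    have : s'.length = s.length + 1 := by simp [s']
    calc (s.length : ℕ∞) + 1 = (s'.length : ℕ∞) := by rw [this]; push_cast; rfl
      _ ≤ _ := le_iSup (fun p : LTSeries (PrimeSpectrum.zeroLocus (J : Set A)) => (p.length : ℕ∞)) s'

end Groth.Agent.Helper12.HK
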