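import Mathlib
import Groth.Agent.Lib.Helper5.HS6
import Groth.Agent.Lib.Helper5.GrReg1

/-!
# Hilbert–Kunz functions and tight closure: `e_HK(𝔞) = e_HK(𝔟)` for `𝔞 ⊆ 𝔟 ⊆ 𝔞*`
-/

set_option autoImplicit false
universe u

open Polynomial Filter Topology IsLocalRing Groth.Agent.Helper5 Groth.Agent.Helper5.HS
  Groth.Agent.Helper5.GrReg

namespace Groth.Agent.Helper12.HKTight

variable {A : Type u} [CommRing A]

/-- `ℓ(A/J) ≤ ℓ(A/K) + ℓ(A/(J + (y)))` when `K y ⊆ J`. -/
theorem col_le_step (J K : Ideal A) (y : A) (hK : ∀ r ∈ K, r * y ∈ J) :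
    col (J : Submodule A A) ≤ col (K : Submodule A A) +
      col ((J ⊔ Ideal.span {y} : Ideal A) : Submodule A A) := by
  have h := col_inf_comap_add_col_sup_map (LinearMap.lsmul A A y) (J : Submodule A A) ⊤
  rw [col_top, zero_add] at h
  rw [← h]
  have h1 : (K : Submodule A A) ≤ ⊤ ⊓ Submodule.comap (LinearMap.lsmul A A y) J := by
    intro r hr
    refine ⟨Submodule.mem_top, ?_⟩
    change y • r ∈ J
    rw [smul_eq_mul, mul_comm]
    exact hK r hr
  have h2 : (J : Submodule A A) ⊔ Submodule.map (LinearMap.lsmul A A y) ⊤ =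
      (J ⊔ Ideal.span {y} : Ideal A) := by
    congr 1
    ext r
    rw [Submodule.mem_map, Ideal.mem_span_singleton']
    constructor
    · rintro ⟨s, -, rfl⟩
      exact ⟨s, by simp [mul_comm]⟩
    · rintro ⟨s, rfl⟩
      exact ⟨s, Submodule.mem_top, by simp [mul_comm]⟩
  rw [h2]
  exact add_le_add (col_anti h1) le_rfl

theorem col_le_finset (K : Ideal A) (S : Finset A) : ∀ (I : Ideal A),
    (∀ y ∈ S, ∀ r ∈ K, r * y ∈ I) →
    col (I : Submodule A A) ≤ S.card • col (K : Submodule A A) +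
      col ((I ⊔ Ideal.span (S : Set A) : Ideal A) : Submodule A A) := by
  classical
  induction S using Finset.induction_on with
  | empty =>
    intro I _
    simp
  | insert y S hy ih =>
    intro I h
    have h1 := col_le_step I K y (h y (Finset.mem_insert_self y S))
    have h2 := ih (I ⊔ Ideal.span {y}) (fun y' hy' r hr =>
      Ideal.mem_sup_left (h y' (Finset.mem_insert_of_mem hy') r hr))
    have h3 : I ⊔ Ideal.span {y} ⊔ Ideal.span (S : Set A) =
        I ⊔ Ideal.span ((insert y S : Finset A) : Set A) := by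
      rw [Finset.coe_insert, Ideal.span_insert, sup_assoc]
    rw [h3] at h2
    rw [Finset.card_insert_of_notMem hy, succ_nsmul]
    calc col (I : Submodule A A) ≤ col (K : Submodule A A) + col ((I ⊔ Ideal.span {y} : Ideal A) : Submodule A A) := h1
      _ ≤ col (K : Submodule A A) + (S.card • col (K : Submodule A A) +
          col ((I ⊔ Ideal.span ((insert y S : Finset A) : Set A) : Ideal A) : Submodule A A)) :=
        add_le_add le_rfl h2
      _ = _ := by abel

/-- pigeonhole: `𝔞^((t+1) q) ⊆ 𝔞^[q]` for `𝔞` generated by `t` elements. -/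
theorem pow_le_map_iterateFrobenius (p : ℕ) [Fact p.Prime] [CharP A p] {t : ℕ} (z : Fin t → A)
    (e : ℕ) :
    Ideal.span (Set.range z) ^ ((t + 1) * p ^ e) ≤
      Ideal.map (iterateFrobenius A p e) (Ideal.span (Set.range z)) := by
  rw [pow_eq_span, Ideal.span_le]
  rintro _ ⟨γ, hγ, rfl⟩
  rw [Finset.mem_coe, mem_D] at hγ
  have hq : 0 < p ^ e := pow_pos (Fact.out : p.Prime).pos e
  obtain ⟨j, hj⟩ : ∃ j, p ^ e ≤ γ j := by
    by_contra hcon
    push Not at hcon
    have h1 : ∑ i, γ i ≤ ∑ _i : Fin t, (p ^ e - 1) :=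
      Finset.sum_le_sum fun i _ => by have := hcon i; omega
    rw [Finset.sum_const, Finset.card_univ, Fintype.card_fin, smul_eq_mul, hγ] at h1
    have h2 : t * (p ^ e - 1) < (t + 1) * p ^ e := by
      calc t * (p ^ e - 1) ≤ t * p ^ e := Nat.mul_le_mul_left _ (Nat.sub_le _ _)
        _ < (t + 1) * p ^ e := by nlinarith
    omega
  rw [xx, Finsupp.prod_fintype _ _ (by simp), ← Finset.mul_prod_erase Finset.univ _ (Finset.mem_univ j)]
  apply Ideal.mul_mem_right
  have h3 : z j ^ γ j = z j ^ (γ j - p ^ e) * iterateFrobenius A p e (z j) := by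
    rw [iterateFrobenius_def, ← pow_add]; congr 1; omega
  rw [h3]
  exact Ideal.mul_mem_left _ _ (Ideal.mem_map_of_mem _ (Ideal.subset_span ⟨j, rfl⟩))

open scoped Pointwise

/-- colength of `𝔪^n + (c)` is the Samuel function of `A/cA`. -/
theorem col_pow_sup_span [IsLocalRing A] (c : A) (n : ℕ) :
    col ((maximalIdeal A ^ n ⊔ Ideal.span {c} : Ideal A) : Submodule A A) =
      col (maximalIdeal A ^ n • ⊤ : Submodule A (QuotSMulTop c A)) := by
  have hπ : Function.Surjective (Submodule.mkQ (c • (⊤ : Submodule A A))) :=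
    Submodule.mkQ_surjective _
  rw [← col_comap_of_surjective (Submodule.mkQ (c • (⊤ : Submodule A A))) hπ]
  congr 1
  have h1 : (maximalIdeal A ^ n • ⊤ : Submodule A (QuotSMulTop c A)) =
      Submodule.map (Submodule.mkQ (c • (⊤ : Submodule A A)))
        (maximalIdeal A ^ n • (⊤ : Submodule A A)) := by
    rw [Submodule.map_smul'', Submodule.map_top, LinearMap.range_eq_top.mpr hπ]
  rw [h1, Submodule.comap_map_eq, Submodule.ker_mkQ]
  have h2 : (c • (⊤ : Submodule A A)) = (Ideal.span {c} : Ideal A) := by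
    rw [← Submodule.ideal_span_singleton_smul, smul_eq_mul, Ideal.mul_top]
  have h3 : (maximalIdeal A ^ n • (⊤ : Submodule A A)) = (maximalIdeal A ^ n : Ideal A) := by
    rw [smul_eq_mul, Ideal.mul_top]
  rw [h2, h3]

/-- a common tight-closure multiplier for finitely many elements -/
theorem exists_common_mult [IsDomain A] (p : ℕ) [Fact p.Prime] [CharP A p] (a : Ideal A) (S : Finset A)
    (h : ∀ x ∈ S, ∃ c : A, c ≠ 0 ∧ ∀ e : ℕ, c * x ^ (p ^ e) ∈ Ideal.map (iterateFrobenius A p e) a) :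
    ∃ c : A, c ≠ 0 ∧ ∀ x ∈ S, ∀ e : ℕ, c * x ^ (p ^ e) ∈ Ideal.map (iterateFrobenius A p e) a := by
  classical
  induction S using Finset.induction_on with
  | empty => exact ⟨1, one_ne_zero, by simp⟩
  | insert y S hy ih =>
    obtain ⟨c₁, hc₁, h₁⟩ := ih (fun x hx => h x (Finset.mem_insert_of_mem hx))
    obtain ⟨c₂, hc₂, h₂⟩ := h y (Finset.mem_insert_self y S)
    refine ⟨c₁ * c₂, mul_ne_zero hc₁ hc₂, ?_⟩
    intro x hx e
    rcases Finset.mem_insert.mp hx with rfl | hx
    · rw [mul_assoc]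
      exact Ideal.mul_mem_left _ _ (h₂ e)
    · rw [mul_comm c₁ c₂, mul_assoc]
      exact Ideal.mul_mem_left _ _ (h₁ x hx e)

/-- analytic squeeze -/
theorem tendsto_of_bound (f g h : ℕ → ℕ) (P : ℚ[X]) (hP : IsEP h P) (d : ℕ)
    (hdeg : P.natDegree + 1 ≤ d) (p N' C : ℕ) (hp : 2 ≤ p) (hN' : 1 ≤ N')
    (h1 : ∀ e, g e ≤ f e) (h2 : ∀ e, f e ≤ C * h (N' * p ^ e) + g e) :
    Tendsto (fun e : ℕ => ((f e : ℝ) - (g e : ℝ)) / (p : ℝ) ^ (d * e)) atTop (𝓝 0) := by
  obtain ⟨N₁, hN₁⟩ := hP
  set P' : ℝ[X] := P.map (algebraMap ℚ ℝ) with hP'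
  have hdeg' : P'.degree < ((X : ℝ[X]) ^ d).degree := by
    rw [degree_X_pow, hP', degree_map]
    by_cases h0 : P = 0
    · rw [h0, degree_zero]; exact WithBot.bot_lt_coe _
    · rw [degree_eq_natDegree h0]
      exact_mod_cast (by omega : P.natDegree < d)
  have hlim0 := div_tendsto_atTop_zero_of_degree_lt _ _ hdeg'
  have hn_nat : Tendsto (fun e : ℕ => N' * p ^ e) atTop atTop := by
    refine tendsto_atTop_mono (fun e => ?_) tendsto_id
    exact ((Nat.lt_pow_self (by omega : 1 < p)).le).trans (Nat.le_mul_of_pos_left _ hN')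
  have hn : Tendsto (fun e : ℕ => ((N' * p ^ e : ℕ) : ℝ)) atTop atTop :=
    tendsto_natCast_atTop_atTop.comp hn_nat
  have hlim1 := (hlim0.comp hn).const_mul ((C : ℝ) * (N' : ℝ) ^ d)
  rw [mul_zero] at hlim1
  refine tendsto_of_tendsto_of_tendsto_of_le_of_le' tendsto_const_nhds hlim1 ?_ ?_
  · refine Eventually.of_forall fun e => ?_
    have : (g e : ℝ) ≤ f e := by exact_mod_cast h1 e
    have hp0 : (0 : ℝ) < (p : ℝ) ^ (d * e) := by positivity
    exact div_nonneg (by linarith) hp0.le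
  · filter_upwards [hn_nat.eventually_ge_atTop N₁] with e he
    simp only [Function.comp, eval_pow, eval_X]
    have hev : eval (((N' * p ^ e : ℕ) : ℝ)) P' = (h (N' * p ^ e) : ℝ) := by
      rw [hP', ← map_natCast (algebraMap ℚ ℝ) (N' * p ^ e), eval_map_apply, ← hN₁ _ he]
      simp
    rw [hev]
    have hpe : (0 : ℝ) < (p : ℝ) ^ e := by positivity
    have hN'0 : (0 : ℝ) < (N' : ℝ) := by exact_mod_cast hN'
    have hpow : (p : ℝ) ^ (d * e) = ((p : ℝ) ^ e) ^ d := by rw [pow_mul']
    have hcast : (((N' * p ^ e : ℕ)) : ℝ) = (N' : ℝ) * (p : ℝ) ^ e := by push_cast; ring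
    rw [hpow, hcast, mul_pow]
    have hb : ((f e : ℝ) - g e) ≤ (C : ℝ) * (h (N' * p ^ e) : ℝ) := by
      have := h2 e
      have : (f e : ℝ) ≤ (C : ℝ) * (h (N' * p ^ e) : ℝ) + g e := by exact_mod_cast this
      linarith
    have hden : (0 : ℝ) < ((p : ℝ) ^ e) ^ d := by positivity
    rw [div_le_iff₀ hden]
    have : (C : ℝ) * (N' : ℝ) ^ d * ((h (N' * p ^ e) : ℝ) / ((N' : ℝ) ^ d * ((p : ℝ) ^ e) ^ d)) *
        ((p : ℝ) ^ e) ^ d = (C : ℝ) * (h (N' * p ^ e) : ℝ) := by
      field_simp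
    rw [this]
    exact hb

section Main

variable [IsNoetherianRing A] [IsLocalRing A] [IsDomain A]

/-- the key inequality: `ℓ(A/𝔞^[q]) ≤ |S| · ℓ(A/(𝔞^[q] + c)) + ℓ(A/𝔟^[q])`. -/
theorem col_frob_le (p : ℕ) [Fact p.Prime] [CharP A p] (a : Ideal A) (S : Finset A)
    (haS : a ≤ Ideal.span (S : Set A)) (c : A)
    (hc : ∀ x ∈ S, ∀ e : ℕ, c * x ^ (p ^ e) ∈ Ideal.map (iterateFrobenius A p e) a) (e : ℕ) :
    col ((Ideal.map (iterateFrobenius A p e) a : Ideal A) : Submodule A A) ≤
      S.card • col ((Ideal.map (iterateFrobenius A p e) a ⊔ Ideal.span {c} : Ideal A) : Submodule A A) +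
      col ((Ideal.map (iterateFrobenius A p e) (Ideal.span (S : Set A)) : Ideal A) : Submodule A A) := by
  classical
  set aq := Ideal.map (iterateFrobenius A p e) a with haq
  set Sq : Finset A := S.image (fun x => x ^ (p ^ e)) with hSq
  have h1 := col_le_finset (aq ⊔ Ideal.span {c}) Sq aq (by
    intro y hy r hr
    obtain ⟨x, hx, rfl⟩ := Finset.mem_image.mp hy
    obtain ⟨α, hα, β, hβ, rfl⟩ := Submodule.mem_sup.mp hr
    obtain ⟨β', rfl⟩ := Ideal.mem_span_singleton'.mp hβ
    rw [add_mul]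
    refine Ideal.add_mem _ (Ideal.mul_mem_right _ _ hα) ?_
    rw [mul_assoc]
    exact Ideal.mul_mem_left _ _ (hc x hx e))
  have h2 : Ideal.map (iterateFrobenius A p e) (Ideal.span (S : Set A)) = Ideal.span (Sq : Set A) := by
    rw [Ideal.map_span, hSq, Finset.coe_image]
    rfl
  have h3 : aq ⊔ Ideal.span (Sq : Set A) = Ideal.span (Sq : Set A) := by
    rw [sup_eq_right, ← h2]
    exact Ideal.map_mono haS
  rw [h3, ← h2] at h1
  refine h1.trans (add_le_add ?_ le_rfl)
  exact nsmul_le_nsmul_left zero_le Finset.card_image_le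

theorem col_pow_ne_top (n : ℕ) :
    col ((maximalIdeal A ^ n : Ideal A) : Submodule A A) ≠ ⊤ := by
  have h := isFiniteLength_quot_jacobson_pow_smul A A n
  rw [IsLocalRing.ringJacobson_eq_maximalIdeal] at h
  have h3 : (maximalIdeal A ^ n • (⊤ : Submodule A A)) = (maximalIdeal A ^ n : Ideal A) := by
    rw [smul_eq_mul, Ideal.mul_top]
  rw [h3] at h
  exact Module.length_ne_top_iff.mpr h

theorem main (p : ℕ) [Fact p.Prime] [CharP A p] (d : ℕ) (hd : ringKrullDim A = d) (a b : Ideal A)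
    (hab : a ≤ b) (hb : b ≤ maximalIdeal A) (ha : ∃ N : ℕ, maximalIdeal A ^ N ≤ a)
    (htc : ∀ x ∈ b, ∃ c : A, c ≠ 0 ∧
      ∀ e : ℕ, c * x ^ (p ^ e) ∈ Ideal.map (iterateFrobenius A p e) a) :
    Tendsto (fun e : ℕ =>
      (((Module.length A (A ⧸ Ideal.map (iterateFrobenius A p e) a)).toNat : ℝ) -
        ((Module.length A (A ⧸ Ideal.map (iterateFrobenius A p e) b)).toNat : ℝ)) /
          (p : ℝ) ^ (d * e)) atTop (𝓝 0) := by
  classical
  obtain ⟨N, hN⟩ := ha
  obtain ⟨S, hS⟩ : ∃ S : Finset A, Ideal.span (S : Set A) = b := (IsNoetherian.noetherian b)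
  obtain ⟨t, z, hz⟩ := Submodule.fg_iff_exists_fin_generating_family.mp (IsNoetherian.noetherian a)
  have hz' : Ideal.span (Set.range z) = a := hz
  obtain ⟨c, hc0, hc⟩ := exists_common_mult p a S
    (fun x hx => htc x (hS ▸ Ideal.subset_span hx))
  set N' : ℕ := (N + 1) * (t + 1) with hN'
  have hN'1 : 1 ≤ N' := Nat.mul_pos (Nat.succ_pos N) (Nat.succ_pos t)
  have hp2 : 2 ≤ p := (Fact.out : p.Prime).two_le
  set aq : ℕ → Ideal A := fun e => Ideal.map (iterateFrobenius A p e) a with haq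
  set bq : ℕ → Ideal A := fun e => Ideal.map (iterateFrobenius A p e) b with hbq
  have hmle : ∀ e, maximalIdeal A ^ (N' * p ^ e) ≤ aq e := by
    intro e
    have h1 : N' * p ^ e = (N + 1) * ((t + 1) * p ^ e) := by rw [hN']; ring
    rw [h1, pow_mul]
    refine (Ideal.pow_right_mono ((Ideal.pow_le_pow_right (Nat.le_succ N)).trans hN) _).trans ?_
    have := pow_le_map_iterateFrobenius p z e
    rwa [hz'] at this
  have hafin : ∀ e, col ((aq e : Ideal A) : Submodule A A) ≠ ⊤ := fun e =>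
    ne_top_of_le_ne_top (col_pow_ne_top _) (col_anti (hmle e))
  have hbfin : ∀ e, col ((bq e : Ideal A) : Submodule A A) ≠ ⊤ := fun e =>
    ne_top_of_le_ne_top (hafin e) (col_anti (Ideal.map_mono hab))
  have hkey : ∀ e, col ((aq e : Ideal A) : Submodule A A) ≤
      S.card • col ((aq e ⊔ Ideal.span {c} : Ideal A) : Submodule A A) +
        col ((bq e : Ideal A) : Submodule A A) := by
    intro e
    have := col_frob_le p a S (hS ▸ hab) c hc e
    rwa [hS] at this
  set f : ℕ → ℕ := fun e => (col ((aq e : Ideal A) : Submodule A A)).toNat with hf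
  set g : ℕ → ℕ := fun e => (col ((bq e : Ideal A) : Submodule A A)).toNat with hg
  have hgf : ∀ e, g e ≤ f e := fun e =>
    ENat.toNat_le_toNat (col_anti (Ideal.map_mono hab)) (hafin e)
  change Tendsto (fun e : ℕ => ((f e : ℝ) - (g e : ℝ)) / (p : ℝ) ^ (d * e)) atTop (𝓝 0)
  by_cases hcu : IsUnit c
  · have hfg : ∀ e, f e = g e := by
      intro e
      refine le_antisymm ?_ (hgf e)
      have h1 := hkey e
      have h2 : (aq e ⊔ Ideal.span {c} : Ideal A) = ⊤ := by
        rw [Ideal.span_singleton_eq_top.mpr hcu, sup_top_eq]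
      rw [h2] at h1
      have h3 : col (((⊤ : Ideal A)) : Submodule A A) = 0 := col_top
      rw [h3, smul_zero, zero_add] at h1
      exact ENat.toNat_le_toNat h1 (hbfin e)
    refine tendsto_const_nhds.congr (fun e => ?_)
    rw [hfg e, sub_self, zero_div]
  · have hcm : c ∈ maximalIdeal A := (mem_maximalIdeal c).mpr hcu
    haveI : Nontrivial (QuotSMulTop c A) := by
      change Nontrivial (A ⧸ c • (⊤ : Submodule A A))
      rw [Submodule.Quotient.nontrivial_iff]
      intro htop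
      have h2 : (c • (⊤ : Submodule A A)) = (Ideal.span {c} : Ideal A) := by
        rw [← Submodule.ideal_span_singleton_smul, smul_eq_mul, Ideal.mul_top]
      rw [h2] at htop
      exact hcu (Ideal.span_singleton_eq_top.mp htop)
    obtain ⟨P, hP, hPdeg⟩ := exists_hilbertSamuel A (QuotSMulTop c A)
    have hreg : IsSMulRegular A c := IsSMulRegular.of_ne_zero hc0
    have hdim : Module.supportDim A (QuotSMulTop c A) + 1 ≤ Module.supportDim A A :=
      Module.supportDim_quotSMulTop_succ_le_of_notMem_minimalPrimes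
        (fun _ => hreg.notMem_of_mem_minimalPrimes)
    rw [Module.supportDim_self_eq_ringKrullDim, hd, ← hPdeg] at hdim
    have hdeg : P.natDegree + 1 ≤ d := by exact_mod_cast hdim
    refine tendsto_of_bound f g (sam A (QuotSMulTop c A)) P hP d hdeg p N' S.card hp2 hN'1 hgf ?_
    intro e
    have h1 := hkey e
    have h2 : col ((aq e ⊔ Ideal.span {c} : Ideal A) : Submodule A A) ≤
        col (maximalIdeal A ^ (N' * p ^ e) • ⊤ : Submodule A (QuotSMulTop c A)) := by
      rw [← col_pow_sup_span]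
      exact col_anti (sup_le_sup_right (hmle e) _)
    have h3 : col (maximalIdeal A ^ (N' * p ^ e) • ⊤ : Submodule A (QuotSMulTop c A)) ≠ ⊤ := by
      have := isFiniteLength_quot_jacobson_pow_smul A (QuotSMulTop c A) (N' * p ^ e)
      rw [IsLocalRing.ringJacobson_eq_maximalIdeal] at this
      exact Module.length_ne_top_iff.mpr this
    have h4 : sam A (QuotSMulTop c A) (N' * p ^ e) =
        (col (maximalIdeal A ^ (N' * p ^ e) • ⊤ : Submodule A (QuotSMulTop c A))).toNat := by
      rw [sam, colN, IsLocalRing.ringJacobson_eq_maximalIdeal]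
    have h5 : col ((aq e : Ideal A) : Submodule A A) ≤
        ((S.card * sam A (QuotSMulTop c A) (N' * p ^ e) + g e : ℕ) : ℕ∞) := by
      refine h1.trans ?_
      rw [h4, hg]
      push_cast
      rw [ENat.natCast_toNat h3, ENat.natCast_toNat (hbfin e)]
      exact add_le_add (by rw [nsmul_eq_mul]; exact mul_le_mul_right h2 _) le_rfl
    exact ENat.toNat_le_of_le_natCast h5

end Main

end Groth.Agent.Helper12.HKTight
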