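import Mathlib
import Groth.Agent.Lib.Helper12.HK1
import Groth.Agent.Lib.Helper12.HKTight

open Polynomial Filter Topology IsLocalRing Groth.Agent.Helper5 Groth.Agent.Helper5.HS

namespace Groth.Agent.Helper12.HK

universe u v w

section Poly

/-- polynomial upper bound for an eventually polynomial monotone function -/
theorem exists_upper_bound (f : ℕ → ℕ) (P : ℚ[X]) (hP : IsEP f P) (δ : ℕ) (hδ : P.natDegree ≤ δ)
    (hf : Monotone f) : ∃ K : ℕ, ∀ n : ℕ, 1 ≤ n → f n ≤ K * n ^ δ := by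
  obtain ⟨N₀, hN₀⟩ := hP
  set S : ℚ := ∑ i ∈ Finset.range (P.natDegree + 1), |P.coeff i| with hS
  have hS0 : 0 ≤ S := Finset.sum_nonneg fun i _ => abs_nonneg _
  have hclaim : ∀ m : ℕ, 1 ≤ m → P.eval (m : ℚ) ≤ S * (m : ℚ) ^ δ := by
    intro m hm
    rw [eval_eq_sum_range, hS, Finset.sum_mul]
    refine Finset.sum_le_sum fun i hi => ?_
    have hi' : i ≤ δ := (Nat.lt_succ_iff.mp (Finset.mem_range.mp hi)).trans hδ
    have hm1 : (1 : ℚ) ≤ m := by exact_mod_cast hm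
    have h1 : (m : ℚ) ^ i ≤ (m : ℚ) ^ δ := pow_le_pow_right₀ hm1 hi'
    have h2 : (0 : ℚ) ≤ (m : ℚ) ^ i := by positivity
    calc P.coeff i * (m : ℚ) ^ i ≤ |P.coeff i| * (m : ℚ) ^ i :=
          mul_le_mul_of_nonneg_right (le_abs_self _) h2
      _ ≤ |P.coeff i| * (m : ℚ) ^ δ := mul_le_mul_of_nonneg_left h1 (abs_nonneg _)
  set N₁ : ℕ := max N₀ 1 with hN₁
  refine ⟨⌈S⌉₊ * N₁ ^ δ, fun n hn => ?_⟩
  set m : ℕ := max n N₁ with hm
  have hm1 : 1 ≤ m := hn.trans (le_max_left _ _)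
  have hmN : N₀ ≤ m := (le_max_left _ _).trans (le_max_right _ _)
  have h1 : f n ≤ f m := hf (le_max_left _ _)
  have h2 : (f m : ℚ) ≤ S * (m : ℚ) ^ δ := by rw [hN₀ m hmN]; exact hclaim m hm1
  have h3 : m ≤ n * N₁ := by
    have hN11 : 1 ≤ N₁ := le_max_right _ _
    rcases le_total n N₁ with h | h
    · rw [hm, max_eq_right h]; exact Nat.le_mul_of_pos_left _ hn
    · rw [hm, max_eq_left h]; exact Nat.le_mul_of_pos_right _ hN11
  have h4 : (f m : ℚ) ≤ ((⌈S⌉₊ * N₁ ^ δ * n ^ δ : ℕ) : ℚ) := by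
    refine h2.trans ?_
    push_cast
    have h5 : (m : ℚ) ^ δ ≤ ((n : ℚ) * N₁) ^ δ := by
      apply pow_le_pow_left₀ (by positivity)
      exact_mod_cast h3
    calc S * (m : ℚ) ^ δ ≤ (⌈S⌉₊ : ℚ) * ((n : ℚ) * N₁) ^ δ :=
          mul_le_mul (Nat.le_ceil S) h5 (by positivity) (by positivity)
      _ = (⌈S⌉₊ : ℚ) * (N₁ : ℚ) ^ δ * (n : ℚ) ^ δ := by rw [mul_pow]; ring
  exact h1.trans (by exact_mod_cast h4)

/-- polynomial lower bound -/
theorem exists_lower_bound (f : ℕ → ℕ) (P : ℚ[X]) (hP : IsEP f P) (hP0 : P ≠ 0) :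
    ∃ c : ℝ, 0 < c ∧ ∃ n₀ : ℕ, ∀ n : ℕ, n₀ ≤ n → c * (n : ℝ) ^ P.natDegree ≤ f n := by
  obtain ⟨N₀, hN₀⟩ := hP
  have hlc : 0 < P.leadingCoeff := by
    have h1 := leadingCoeff_nonneg_of_eventually_nonneg P N₀ (fun n hn => by
      rw [← hN₀ n hn]; positivity)
    exact lt_of_le_of_ne h1 (Ne.symm (leadingCoeff_ne_zero.mpr hP0))
  set P' : ℝ[X] := P.map (algebraMap ℚ ℝ) with hP'
  have hdeg : P'.degree = ((X : ℝ[X]) ^ P.natDegree).degree := by
    rw [degree_X_pow, hP', degree_map, degree_eq_natDegree hP0]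
  have hlim := div_tendsto_atTop_leadingCoeff_div_of_degree_eq P' (X ^ P.natDegree) hdeg
  have hlc' : P'.leadingCoeff = ((P.leadingCoeff : ℚ) : ℝ) := by
    rw [hP', leadingCoeff_map]; rfl
  rw [leadingCoeff_X_pow, div_one, hlc'] at hlim
  have hpos : (0 : ℝ) < ((P.leadingCoeff : ℚ) : ℝ) := by exact_mod_cast hlc
  have hev := (hlim.comp (tendsto_natCast_atTop_atTop (R := ℝ))).eventually
    (lt_mem_nhds (half_lt_self hpos))
  obtain ⟨n₁, hn₁⟩ := eventually_atTop.mp hev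
  refine ⟨((P.leadingCoeff : ℚ) : ℝ) / 2, half_pos hpos, max (max n₁ N₀) 1, fun n hn => ?_⟩
  have hn1 : n₁ ≤ n := (le_max_left _ _).trans ((le_max_left _ _).trans hn)
  have hn0 : N₀ ≤ n := (le_max_right _ _).trans ((le_max_left _ _).trans hn)
  have hn2 : 1 ≤ n := (le_max_right _ _).trans hn
  have h1 := hn₁ n hn1
  simp only [Function.comp, eval_pow, eval_X] at h1
  have hev : eval (n : ℝ) P' = (f n : ℝ) := by
    rw [hP', ← map_natCast (algebraMap ℚ ℝ) n, eval_map_apply, ← hN₀ _ hn0]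
    simp
  rw [hev] at h1
  have hnpos : (0 : ℝ) < (n : ℝ) ^ P.natDegree := by
    have : (0 : ℝ) < n := by exact_mod_cast hn2
    positivity
  rw [lt_div_iff₀ hnpos] at h1
  exact h1.le

end Poly

section Setup

variable {A : Type u} [CommRing A] (p : ℕ) [Fact p.Prime] [CharP A p] (a : Ideal A)

/-- Frobenius power `𝔞^{[p^e]}` -/
noncomputable def aq (e : ℕ) : Ideal A := Ideal.map (iterateFrobenius A p e) a

/-- `ℓ(M/𝔞^{[p^e]}M)` as a natural number -/
noncomputable def EN (e : ℕ) (M : Type v) [AddCommGroup M] [Module A M] : ℕ :=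
  (E (aq p a e) M).toNat

theorem aq_map (e j : ℕ) : Ideal.map (iterateFrobenius A p j) (aq p a e) = aq p a (e + j) := by
  unfold aq
  rw [Ideal.map_map]
  congr 1
  ext x
  simp [iterateFrobenius_def, pow_add, pow_mul]

variable [IsLocalRing A]

theorem aq_le_pow (ha : a ≤ maximalIdeal A) (e : ℕ) : aq p a e ≤ maximalIdeal A ^ (p ^ e) := by
  unfold aq
  rw [Ideal.map_le_iff_le_comap]
  intro x hx
  rw [Ideal.mem_comap, iterateFrobenius_def]
  exact Ideal.pow_mem_pow (ha hx) _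

variable [IsNoetherianRing A]

theorem exists_pow_le_aq (ha : ∃ N : ℕ, maximalIdeal A ^ N ≤ a) :
    ∃ N' : ℕ, 1 ≤ N' ∧ ∀ e, maximalIdeal A ^ (N' * p ^ e) ≤ aq p a e := by
  obtain ⟨N, hN⟩ := ha
  obtain ⟨t, z, hz⟩ := Submodule.fg_iff_exists_fin_generating_family.mp (IsNoetherian.noetherian a)
  have hz' : Ideal.span (Set.range z) = a := hz
  refine ⟨(N + 1) * (t + 1), Nat.mul_pos (Nat.succ_pos N) (Nat.succ_pos t), fun e => ?_⟩
  have h1 : (N + 1) * (t + 1) * p ^ e = (N + 1) * ((t + 1) * p ^ e) := by ring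
  rw [h1, pow_mul]
  refine (Ideal.pow_right_mono ((Ideal.pow_le_pow_right (Nat.le_succ N)).trans hN) _).trans ?_
  have := HKTight.pow_le_map_iterateFrobenius p z e
  rwa [hz'] at this

section Fin

variable {M : Type v} [AddCommGroup M] [Module A M] [Module.Finite A M]

omit [IsLocalRing A] [IsNoetherianRing A] [Module.Finite A M] in
theorem E_anti {I J : Ideal A} (h : I ≤ J) : E J M ≤ E I M :=
  col_anti (Submodule.smul_mono h le_rfl)

theorem E_pow_eq_sam (n : ℕ) : E (maximalIdeal A ^ n) M ≠ ⊤ ∧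
    (E (maximalIdeal A ^ n) M).toNat = sam A M n := by
  have h := isFiniteLength_quot_jacobson_pow_smul A M n
  rw [IsLocalRing.ringJacobson_eq_maximalIdeal] at h
  refine ⟨Module.length_ne_top_iff.mpr h, ?_⟩
  unfold sam colN col E
  rw [IsLocalRing.ringJacobson_eq_maximalIdeal]

omit [Fact p.Prime] [CharP A p] in
theorem sam_mono : Monotone (sam A M) := by
  intro m n hmn
  rw [← (E_pow_eq_sam (M := M) m).2, ← (E_pow_eq_sam (M := M) n).2]
  exact ENat.toNat_le_toNat (E_anti (Ideal.pow_le_pow_right hmn)) (E_pow_eq_sam (M := M) n).1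

variable {p a} {N' : ℕ} (hN' : ∀ e, maximalIdeal A ^ (N' * p ^ e) ≤ aq p a e)
include hN'

theorem E_aq_ne_top (e : ℕ) : E (aq p a e) M ≠ ⊤ :=
  ne_top_of_le_ne_top (E_pow_eq_sam (M := M) _).1 (E_anti (hN' e))

theorem coe_EN (e : ℕ) : ((EN p a e M : ℕ) : ℕ∞) = E (aq p a e) M :=
  ENat.natCast_toNat (E_aq_ne_top hN' e)

theorem EN_le_sam (e : ℕ) : EN p a e M ≤ sam A M (N' * p ^ e) := by
  rw [← (E_pow_eq_sam (M := M) _).2]
  exact ENat.toNat_le_toNat (E_anti (hN' e)) (E_pow_eq_sam (M := M) _).1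

theorem sam_le_EN (ha : a ≤ maximalIdeal A) (e : ℕ) : sam A M (p ^ e) ≤ EN p a e M := by
  rw [← (E_pow_eq_sam (M := M) _).2]
  exact ENat.toNat_le_toNat (E_anti (aq_le_pow p a ha e)) (E_aq_ne_top hN' e)

end Fin

section Bounds

variable {A : Type u} [CommRing A] {p : ℕ} [Fact p.Prime] [CharP A p] {a : Ideal A}
  [IsLocalRing A] [IsNoetherianRing A]
  {M : Type u} [AddCommGroup M] [Module A M] [Module.Finite A M]
  {N' : ℕ} (hN' : ∀ e, maximalIdeal A ^ (N' * p ^ e) ≤ aq p a e)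
include hN'

omit [IsLocalRing A] [IsNoetherianRing A] [Module.Finite A M] hN' in
theorem EN_eq_zero_of_subsingleton [Subsingleton M] (e : ℕ) : EN p a e M = 0 := by
  unfold EN E
  rw [Module.length_eq_zero]
  rfl

/-- upper bound `ℓ(M/𝔞^{[q]}M) ≤ K q^δ` when `dim M ≤ δ` -/
theorem exists_EN_le (δ : ℕ) (hδ : Module.supportDim A M ≤ δ) :
    ∃ K : ℕ, ∀ e, EN p a e M ≤ K * (p ^ e) ^ δ := by
  rcases subsingleton_or_nontrivial M with hs | hn
  · exact ⟨0, fun e => by rw [EN_eq_zero_of_subsingleton]; simp⟩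
  · obtain ⟨P, hP, hdeg⟩ := exists_hilbertSamuel A M
    have hdeg' : P.natDegree ≤ δ := by
      rw [← hdeg] at hδ
      exact_mod_cast hδ
    obtain ⟨K, hK⟩ := exists_upper_bound (sam A M) P hP δ hdeg' sam_mono
    have hp1 : 1 ≤ p := (Fact.out : p.Prime).one_lt.le
    rcases Nat.eq_zero_or_pos N' with h0 | hpos
    · -- then `aq = ⊤`
      refine ⟨0, fun e => ?_⟩
      have h1 := hN' e
      rw [h0, zero_mul, pow_zero, Ideal.one_eq_top, top_le_iff] at h1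
      unfold EN E
      rw [h1]
      have : (⊤ : Ideal A) • (⊤ : Submodule A M) = ⊤ := Submodule.top_smul _
      rw [this]
      simp
    · refine ⟨K * N' ^ δ, fun e => ?_⟩
      have h1 : 1 ≤ N' * p ^ e := Nat.mul_pos hpos (Nat.pow_pos hp1)
      calc EN p a e M ≤ sam A M (N' * p ^ e) := EN_le_sam hN' e
        _ ≤ K * (N' * p ^ e) ^ δ := hK _ h1
        _ = K * N' ^ δ * (p ^ e) ^ δ := by rw [mul_pow]; ring

/-- modules of dimension `< D` have small Hilbert–Kunz function -/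
theorem exists_EN_small (D : ℕ) (hD : Module.supportDim A M + 1 ≤ D) :
    ∃ K : ℕ, ∀ e, EN p a e M * p ^ e ≤ K * (p ^ e) ^ D := by
  rcases subsingleton_or_nontrivial M with hs | hn
  · exact ⟨0, fun e => by rw [EN_eq_zero_of_subsingleton]; simp⟩
  · obtain ⟨δ, hδ⟩ := exists_nat_supportDim A M
    rw [hδ] at hD
    have hD' : δ + 1 ≤ D := by exact_mod_cast hD
    obtain ⟨K, hK⟩ := exists_EN_le hN' δ hδ.le
    refine ⟨K, fun e => ?_⟩
    have hp1 : 1 ≤ p ^ e := Nat.pow_pos (Fact.out : p.Prime).pos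
    calc EN p a e M * p ^ e ≤ K * (p ^ e) ^ δ * p ^ e := Nat.mul_le_mul_right _ (hK e)
      _ = K * (p ^ e) ^ (δ + 1) := by rw [pow_succ]; ring
      _ ≤ K * (p ^ e) ^ D := Nat.mul_le_mul_left _ (Nat.pow_le_pow_right hp1 hD')

/-- lower bound `c q^δ ≤ ℓ(M/𝔞^{[q]}M)` when `dim M = δ` -/
theorem exists_le_EN [Nontrivial M] (ha : a ≤ maximalIdeal A) (δ : ℕ)
    (hδ : Module.supportDim A M = δ) :
    ∃ c : ℝ, 0 < c ∧ ∃ e₀ : ℕ, ∀ e, e₀ ≤ e → c * ((p : ℝ) ^ e) ^ δ ≤ EN p a e M := by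
  obtain ⟨P, hP, hdeg⟩ := exists_hilbertSamuel A M
  have hdeg' : P.natDegree = δ := by
    rw [hδ] at hdeg
    exact_mod_cast hdeg
  have hP0 : P ≠ 0 := by
    rintro rfl
    obtain ⟨N₀, hN₀⟩ := hP
    have h1 := hN₀ (N₀ + 1) (Nat.le_succ _)
    rw [eval_zero] at h1
    have h2 : sam A M (N₀ + 1) = 0 := by exact_mod_cast h1
    have := subsingleton_of_sam_eq_zero A (N₀ + 1) (Nat.succ_pos _) h2
    exact not_subsingleton M this
  obtain ⟨c, hc, n₀, hn₀⟩ := exists_lower_bound (sam A M) P hP hP0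
  refine ⟨c, hc, n₀, fun e he => ?_⟩
  have hp : 1 < p := (Fact.out : p.Prime).one_lt
  have h1 : n₀ ≤ p ^ e := he.trans (Nat.lt_pow_self hp).le
  have h2 := hn₀ (p ^ e) h1
  rw [hdeg'] at h2
  have h3 : (sam A M (p ^ e) : ℝ) ≤ EN p a e M := by exact_mod_cast sam_le_EN hN' ha e
  push_cast at h2
  exact h2.trans h3

end Bounds

end Setup

end Groth.Agent.Helper12.HK
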