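import Mathlib
import Groth.Agent.Lib.Helper12.HK2

/-!
# Additivity of the Samuel multiplicity on short exact sequences
-/

open Filter Topology IsLocalRing Groth.Agent.Helper5 Groth.Agent.Helper5.HS Groth.Agent.Helper12.HK

namespace Groth.Agent.Helper12.SamuelAdd

universe u v w

section Alg

variable {A : Type u} [CommRing A] (I : Ideal A) {M' : Type v} {M : Type w} {M'' : Type*}
  [AddCommGroup M'] [Module A M'] [AddCommGroup M] [Module A M] [AddCommGroup M''] [Module A M'']

/-- `ℓ(M/IM) = ℓ(M'/(M' ∩ IM)) + ℓ(M''/IM'')` for `0 → M' → M → M'' → 0` (only right exactness is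
used). -/
theorem E_eq_add_of_exact (f : M' →ₗ[A] M) (g : M →ₗ[A] M'') (hg : Function.Surjective g)
    (hfg : LinearMap.range f = LinearMap.ker g) :
    E I M = col ((I • ⊤ : Submodule A M).comap f) + E I M'' := by
  set φ : M' →ₗ[A] (M ⧸ (I • ⊤ : Submodule A M)) := (I • ⊤ : Submodule A M).mkQ ∘ₗ f with hφ
  have hker : LinearMap.ker φ = (I • ⊤ : Submodule A M).comap f := by
    rw [hφ, LinearMap.ker_comp, Submodule.ker_mkQ]
  have hgf : ∀ m', g (f m') = 0 := by
    intro m'
    have : f m' ∈ LinearMap.ker g := hfg ▸ LinearMap.mem_range_self f m'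
    exact this
  have hrange : LinearMap.range φ = LinearMap.ker (mapE I g) := by
    apply le_antisymm
    · rintro _ ⟨m', rfl⟩
      rw [LinearMap.mem_ker, hφ, LinearMap.comp_apply, Submodule.mkQ_apply, mapE_mk, hgf,
        Submodule.Quotient.mk_zero]
    · intro x hx
      obtain ⟨m, rfl⟩ := Submodule.Quotient.mk_surjective _ x
      rw [LinearMap.mem_ker, mapE_mk, Submodule.Quotient.mk_eq_zero] at hx
      have h1 : (I • ⊤ : Submodule A M'') = (I • ⊤ : Submodule A M).map g := by
        rw [Submodule.map_smul'', Submodule.map_top, LinearMap.range_eq_top.mpr hg]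
      rw [h1] at hx
      obtain ⟨y, hy, hym⟩ := hx
      have h2 : m - y ∈ LinearMap.range f := by
        rw [hfg, LinearMap.mem_ker, map_sub, hym, sub_self]
      obtain ⟨m', hm'⟩ := h2
      refine ⟨m', ?_⟩
      rw [hφ, LinearMap.comp_apply, Submodule.mkQ_apply, hm', Submodule.Quotient.mk_sub,
        sub_eq_self, Submodule.Quotient.mk_eq_zero]
      exact hy
  have h3 := Module.length_eq_add_of_exact (LinearMap.ker (mapE I g)).subtype (mapE I g)
    (Submodule.subtype_injective _) (mapE_surjective I g hg)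
    (LinearMap.exact_subtype_ker_map _)
  have h4 : Module.length A (LinearMap.ker (mapE I g)) =
      col ((I • ⊤ : Submodule A M).comap f) := by
    unfold col
    rw [← hrange, ← hker]
    exact (LinearMap.quotKerEquivRange φ).symm.length_eq
  unfold E at *
  rw [h3, h4]

end Alg

section Analysis

/-- the squeeze argument -/
theorem tendsto_of_sandwich (a b c : ℕ → ℕ) (k d : ℕ) (e' e'' : ℝ)
    (hlow : ∀ t, k ≤ t → c t + b (t - k) ≤ a t) (hup : ∀ t, a t ≤ c t + b t)
    (hb : Tendsto (fun t : ℕ => (d.factorial : ℝ) * (b t : ℝ) / (t : ℝ) ^ d) atTop (𝓝 e'))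
    (hc : Tendsto (fun t : ℕ => (d.factorial : ℝ) * (c t : ℝ) / (t : ℝ) ^ d) atTop (𝓝 e'')) :
    Tendsto (fun t : ℕ => (d.factorial : ℝ) * (a t : ℝ) / (t : ℝ) ^ d) atTop (𝓝 (e' + e'')) := by
  -- shifted sequence
  have hshift : Tendsto (fun t : ℕ => (d.factorial : ℝ) * (b (t - k) : ℝ) / (t : ℝ) ^ d) atTop
      (𝓝 e') := by
    rw [← tendsto_add_atTop_iff_nat k]
    have h1 : Tendsto (fun s : ℕ => ((s : ℝ) / ((s : ℝ) + (k : ℝ))) ^ d) atTop (𝓝 1) := by
      have := (tendsto_natCast_div_add_atTop (𝕜 := ℝ) (k : ℝ)).pow d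
      simpa using this
    have h2 := hb.mul h1
    rw [mul_one] at h2
    refine h2.congr' ?_
    filter_upwards [eventually_gt_atTop 0] with s hs
    have hs0 : (s : ℝ) ≠ 0 := by exact_mod_cast hs.ne'
    have hsk : (s : ℝ) + (k : ℝ) ≠ 0 := by positivity
    rw [Nat.add_sub_cancel]
    push_cast
    rw [div_pow]
    field_simp
  have hlo := hc.add hshift
  have hhi := hc.add hb
  rw [add_comm e'' e'] at hlo hhi
  refine tendsto_of_tendsto_of_tendsto_of_le_of_le' hlo hhi ?_ ?_
  · filter_upwards [eventually_ge_atTop k, eventually_gt_atTop 0] with t ht ht0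
    have htd : (0 : ℝ) < (t : ℝ) ^ d := by
      have : (0 : ℝ) < t := by exact_mod_cast ht0
      positivity
    have h := hlow t ht
    have h' : ((c t : ℝ) + (b (t - k) : ℝ)) ≤ (a t : ℝ) := by exact_mod_cast h
    rw [← add_div, ← mul_add]
    exact div_le_div_of_nonneg_right (mul_le_mul_of_nonneg_left h' (by positivity)) htd.le
  · filter_upwards [eventually_gt_atTop 0] with t ht0
    have htd : (0 : ℝ) < (t : ℝ) ^ d := by
      have : (0 : ℝ) < t := by exact_mod_cast ht0
      positivity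
    have h := hup t
    have h' : (a t : ℝ) ≤ ((c t : ℝ) + (b t : ℝ)) := by exact_mod_cast h
    rw [← add_div, ← mul_add]
    exact div_le_div_of_nonneg_right (mul_le_mul_of_nonneg_left h' (by positivity)) htd.le

end Analysis

section Main

variable {A : Type u} [CommRing A] [IsNoetherianRing A] [IsLocalRing A]
  (I : Ideal A) (hI : ∃ n : ℕ, maximalIdeal A ^ n ≤ I)
include hI

theorem E_pow_ne_top' (X : Type u) [AddCommGroup X] [Module A X]
    [Module.Finite A X] (t : ℕ) : E (I ^ t) X ≠ ⊤ := by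
  obtain ⟨n, hn⟩ := hI
  have h1 : maximalIdeal A ^ (n * t) ≤ I ^ t := by
    rw [pow_mul]; exact Ideal.pow_right_mono hn t
  exact ne_top_of_le_ne_top (E_pow_eq_sam (M := X) _).1 (E_anti h1)

/-- additivity of the Samuel multiplicity (Stacks 00PT) -/
theorem tendsto_of_exact {M' M M'' : Type u} [AddCommGroup M'] [Module A M'] [AddCommGroup M]
    [Module A M] [AddCommGroup M''] [Module A M''] [Module.Finite A M'] [Module.Finite A M]
    [Module.Finite A M'']
    (f : M' →ₗ[A] M) (g : M →ₗ[A] M'') (hf : Function.Injective f) (hg : Function.Surjective g)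
    (hfg : LinearMap.range f = LinearMap.ker g) (d : ℕ) (e' e'' : ℝ)
    (h' : Tendsto (fun t : ℕ => (d.factorial : ℝ) * ((E (I ^ t) M').toNat : ℝ) / (t : ℝ) ^ d)
      atTop (𝓝 e'))
    (h'' : Tendsto (fun t : ℕ => (d.factorial : ℝ) * ((E (I ^ t) M'').toNat : ℝ) / (t : ℝ) ^ d)
      atTop (𝓝 e'')) :
    Tendsto (fun t : ℕ => (d.factorial : ℝ) * ((E (I ^ t) M).toNat : ℝ) / (t : ℝ) ^ d)
      atTop (𝓝 (e' + e'')) := by
  have hfin : ∀ (X : Type u) [AddCommGroup X] [Module A X] [Module.Finite A X] (t : ℕ),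
      E (I ^ t) X ≠ ⊤ := fun X _ _ _ t => E_pow_ne_top' I hI X t
  obtain ⟨k, hk⟩ := exists_comap_pow_le f hf I
  have hkey : ∀ t, E (I ^ t) M = col ((I ^ t • ⊤ : Submodule A M).comap f) + E (I ^ t) M'' :=
    fun t => E_eq_add_of_exact (I ^ t) f g hg hfg
  have hup : ∀ t, (E (I ^ t) M).toNat ≤ (E (I ^ t) M'').toNat + (E (I ^ t) M').toNat := by
    intro t
    have h1 : col ((I ^ t • ⊤ : Submodule A M).comap f) ≤ E (I ^ t) M' :=
      col_anti (Submodule.smul_top_le_comap_smul_top (I ^ t) f)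
    have h2 : E (I ^ t) M ≤ E (I ^ t) M'' + E (I ^ t) M' := by
      rw [hkey t, add_comm]; exact add_le_add le_rfl h1
    have h3 : E (I ^ t) M'' + E (I ^ t) M' ≠ ⊤ :=
      WithTop.add_ne_top.mpr ⟨hfin M'' t, hfin M' t⟩
    have h4 := ENat.toNat_le_toNat h2 h3
    rwa [ENat.toNat_add (hfin M'' t) (hfin M' t)] at h4
  have hlow : ∀ t, k ≤ t →
      (E (I ^ t) M'').toNat + (E (I ^ (t - k)) M').toNat ≤ (E (I ^ t) M).toNat := by
    intro t ht
    have h0 : (I ^ t • ⊤ : Submodule A M).comap f ≤ I ^ (t - k) • ⊤ := by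
      have := hk (t - k)
      rwa [Nat.sub_add_cancel ht] at this
    have h1 : E (I ^ (t - k)) M' ≤ col ((I ^ t • ⊤ : Submodule A M).comap f) := col_anti h0
    have h2 : E (I ^ t) M'' + E (I ^ (t - k)) M' ≤ E (I ^ t) M := by
      rw [hkey t, add_comm]; exact add_le_add h1 le_rfl
    have h4 := ENat.toNat_le_toNat h2 (hfin M t)
    rwa [ENat.toNat_add (hfin M'' t) (hfin M' (t - k))] at h4
  exact tendsto_of_sandwich (fun t => (E (I ^ t) M).toNat) (fun t => (E (I ^ t) M').toNat)
    (fun t => (E (I ^ t) M'').toNat) k d e' e'' hlow hup h' h''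

end Main

end Groth.Agent.Helper12.SamuelAdd
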