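import Mathlib
import Groth.Agent.Lib.Helper12.SamuelAdd
import Groth.Agent.Lib.Helper12.HK1

open Filter Topology IsLocalRing Groth.Agent.Helper5 Groth.Agent.Helper5.HS Groth.Agent.Helper12.HK

namespace Groth.Agent.Helper12.SamuelAssoc

universe u

variable {A : Type u} [CommRing A]

/-- length of the localization at `p` -/
noncomputable def lenAt (p : PrimeSpectrum A) (N : Type u) [AddCommGroup N] [Module A N] : ℕ∞ :=
  Module.length (Localization.AtPrime p.asIdeal) (LocalizedModule p.asIdeal.primeCompl N)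

theorem lenAt_exact (p : PrimeSpectrum A) {N₁ N₂ N₃ : Type u} [AddCommGroup N₁] [Module A N₁]
    [AddCommGroup N₂] [Module A N₂] [AddCommGroup N₃] [Module A N₃]
    (f : N₁ →ₗ[A] N₂) (g : N₂ →ₗ[A] N₃) (hf : Function.Injective f) (hg : Function.Surjective g)
    (hfg : Function.Exact f g) : lenAt p N₂ = lenAt p N₁ + lenAt p N₃ := by
  unfold lenAt
  refine Module.length_eq_add_of_exact (LocalizedModule.map p.asIdeal.primeCompl f)
    (LocalizedModule.map p.asIdeal.primeCompl g) (LocalizedModule.map_injective _ f hf)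
    (LocalizedModule.map_surjective _ g hg) ?_
  exact LocalizedModule.map_exact p.asIdeal.primeCompl f g hfg

theorem lenAt_congr (p : PrimeSpectrum A) {N₁ N₂ : Type u} [AddCommGroup N₁] [Module A N₁]
    [AddCommGroup N₂] [Module A N₂] (e : N₁ ≃ₗ[A] N₂) : lenAt p N₁ = lenAt p N₂ := by
  unfold lenAt
  exact (IsLocalizedModule.mapEquiv p.asIdeal.primeCompl
    (LocalizedModule.mkLinearMap p.asIdeal.primeCompl N₁)
    (LocalizedModule.mkLinearMap p.asIdeal.primeCompl N₂) (Localization.AtPrime p.asIdeal) e).length_eq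

theorem lenAt_eq_zero_of_notMem_support (p : PrimeSpectrum A) (N : Type u) [AddCommGroup N]
    [Module A N] (hp : p ∉ Module.support A N) : lenAt p N = 0 := by
  unfold lenAt
  rw [Module.length_eq_zero_iff]
  rw [Module.mem_support_iff, not_nontrivial_iff_subsingleton] at hp
  exact hp

/-- a prime of the support below a prime of maximal dimension equals it -/
theorem eq_of_le_of_mem_support (N : Type u) [AddCommGroup N] [Module A N]
    (d : ℕ) (hd : Module.supportDim A N ≤ d) (p P' : PrimeSpectrum A) (hP' : P' ∈ Module.support A N)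
    (hle : P' ≤ p) (hp : ringKrullDim (A ⧸ p.asIdeal) = d) : P' = p := by
  by_contra hne
  have hlt : P' < p := lt_of_le_of_ne hle hne
  have h1 : Module.supportDim A (A ⧸ p.asIdeal) + 1 ≤
      Order.krullDim (PrimeSpectrum.zeroLocus (P'.asIdeal : Set A)) := by
    apply supportDim_add_one_le
    intro q hq
    rw [Module.mem_support_iff_of_finite, Ideal.annihilator_quotient] at hq
    exact ⟨P', le_rfl, lt_of_lt_of_le hlt hq⟩
  have h2 : Order.krullDim (PrimeSpectrum.zeroLocus (P'.asIdeal : Set A)) ≤
      Module.supportDim A N := by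
    unfold Module.supportDim
    have hsub : ∀ q ∈ PrimeSpectrum.zeroLocus (P'.asIdeal : Set A), q ∈ Module.support A N :=
      fun q hq => Module.mem_support_mono (show P' ≤ q from hq) hP'
    exact Order.krullDim_le_of_strictMono
      (fun q : PrimeSpectrum.zeroLocus (P'.asIdeal : Set A) =>
        (⟨q.1, hsub q.1 q.2⟩ : Module.support A N)) (fun _ _ h => h)
  rw [Module.supportDim_quotient_eq_ringKrullDim, hp] at h1
  have h3 := (h1.trans h2).trans hd
  have h4 : ((d + 1 : ℕ) : WithBot ℕ∞) ≤ (d : WithBot ℕ∞) := by exact_mod_cast h3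
  have h5 : d + 1 ≤ d := by exact_mod_cast h4
  omega

/-- finiteness of the localized length at primes of maximal dimension -/
theorem lenAt_ne_top [IsNoetherianRing A] (N : Type u) [AddCommGroup N] [Module A N]
    [Module.Finite A N] (d : ℕ) (hd : Module.supportDim A N ≤ d) (p : PrimeSpectrum A)
    (hp : ringKrullDim (A ⧸ p.asIdeal) = d) : lenAt p N ≠ ⊤ := by
  unfold lenAt
  rw [Module.length_ne_top_iff]
  apply isFiniteLength_of_support
  intro P hP
  set P' : PrimeSpectrum A := PrimeSpectrum.comap (algebraMap A (Localization.AtPrime p.asIdeal)) P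
    with hP'
  have hP'le : P' ≤ p := by
    intro x hx
    by_contra hxp
    have hu : IsUnit (algebraMap A (Localization.AtPrime p.asIdeal) x) :=
      IsLocalization.map_units (Localization.AtPrime p.asIdeal) (⟨x, hxp⟩ : p.asIdeal.primeCompl)
    exact P.isPrime.ne_top (Ideal.eq_top_of_isUnit_mem _ hx hu)
  have hP'supp : P' ∈ Module.support A N := by
    rw [Module.mem_support_iff_of_finite]
    intro a ha
    rw [Module.mem_support_iff_of_finite] at hP
    apply hP
    rw [Module.mem_annihilator]
    intro x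
    induction x using LocalizedModule.induction_on with
    | h m s =>
      rw [algebraMap_smul, LocalizedModule.smul'_mk, Module.mem_annihilator.mp ha m,
        LocalizedModule.zero_mk]
  have heq := eq_of_le_of_mem_support N d hd p P' hP'supp hP'le hp
  have h1 : P.asIdeal = Ideal.map (algebraMap A (Localization.AtPrime p.asIdeal)) P'.asIdeal :=
    (IsLocalization.map_under p.asIdeal.primeCompl _ P.asIdeal).symm
  rw [h1, heq, Localization.AtPrime.map_eq_maximalIdeal]
  exact IsLocalRing.maximalIdeal.isMaximal _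

/-- `(A/q)_q` is a simple `A_q`-module -/
theorem lenAt_quotient_self (q : PrimeSpectrum A) : lenAt q (A ⧸ q.asIdeal) = 1 := by
  unfold lenAt
  rw [Module.length_eq_one_iff]
  rw [isSimpleModule_iff_toSpanSingleton_surjective]
  constructor
  · have : q ∈ Module.support A (A ⧸ q.asIdeal) := by
      rw [Module.mem_support_iff_of_finite, Ideal.annihilator_quotient]
    exact this
  · intro x hx y
    induction x using LocalizedModule.induction_on with
    | h a s =>
    induction y using LocalizedModule.induction_on with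
    | h b t =>
    obtain ⟨a, rfl⟩ := Ideal.Quotient.mk_surjective a
    obtain ⟨b, rfl⟩ := Ideal.Quotient.mk_surjective b
    have ha : a ∉ q.asIdeal := by
      intro ha
      apply hx
      rw [Ideal.Quotient.eq_zero_iff_mem.mpr ha, LocalizedModule.zero_mk]
    refine ⟨Localization.mk (b * s) ((⟨a, ha⟩ : q.asIdeal.primeCompl) * t), ?_⟩
    rw [LinearMap.toSpanSingleton_apply, LocalizedModule.mk_smul_mk, LocalizedModule.mk_eq]
    refine ⟨1, ?_⟩
    simp only [one_smul, Submonoid.smul_def, Submonoid.coe_mul]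
    rw [smul_smul]
    simp only [Algebra.smul_def, Ideal.Quotient.algebraMap_eq, ← map_mul]
    congr 1
    ring

/-- the weight `ℓ(N_p)` as a real number -/
noncomputable def wt (p : PrimeSpectrum A) (N : Type u) [AddCommGroup N] [Module A N] : ℝ :=
  ((lenAt p N).toNat : ℝ)

theorem mem_minimalPrimes_of_wt_ne_zero [IsNoetherianRing A] (N : Type u) [AddCommGroup N]
    [Module A N] [Module.Finite A N] (d : ℕ) (hd : Module.supportDim A N ≤ d)
    (p : PrimeSpectrum A) (hp : ringKrullDim (A ⧸ p.asIdeal) = d) (hw : wt p N ≠ 0) :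
    p.asIdeal ∈ (Module.annihilator A N).minimalPrimes := by
  have hsupp : p ∈ Module.support A N := by
    by_contra hns
    apply hw
    unfold wt
    rw [lenAt_eq_zero_of_notMem_support p N hns]
    simp
  have hann : Module.annihilator A N ≤ p.asIdeal := Module.mem_support_iff_of_finite.mp hsupp
  obtain ⟨P', hP', hP'le⟩ := Ideal.exists_minimalPrimes_le hann
  have hP'prime : P'.IsPrime := hP'.1.1
  have h1 : (⟨P', hP'prime⟩ : PrimeSpectrum A) ∈ Module.support A N :=
    Module.mem_support_iff_of_finite.mpr hP'.1.2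
  have h2 := eq_of_le_of_mem_support N d hd p ⟨P', hP'prime⟩ h1 hP'le hp
  rw [← h2]
  exact hP'

theorem finite_support_wt [IsNoetherianRing A] (N : Type u) [AddCommGroup N]
    [Module A N] [Module.Finite A N] (d : ℕ) (hd : Module.supportDim A N ≤ d) (e : PrimeSpectrum A → ℝ) :
    ({p : PrimeSpectrum A | ringKrullDim (A ⧸ p.asIdeal) = d} ∩
      Function.support (fun p => wt p N * e p)).Finite := by
  have hfin : {p : PrimeSpectrum A | p.asIdeal ∈ (Module.annihilator A N).minimalPrimes}.Finite := by
    have := (Ideal.finite_minimalPrimes_of_isNoetherianRing A (Module.annihilator A N)).preimage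
      (f := PrimeSpectrum.asIdeal) (fun p _ q _ h => PrimeSpectrum.ext h)
    exact this
  refine hfin.subset ?_
  rintro p ⟨hp, hsupp⟩
  rw [Function.mem_support] at hsupp
  exact mem_minimalPrimes_of_wt_ne_zero N d hd p hp (left_ne_zero_of_mul hsupp)

section Main

variable [IsNoetherianRing A] [IsLocalRing A]

/-- growth bound for `ℓ(N/I^t N)` -/
theorem exists_E_pow_le (I : Ideal A) (hI : ∃ n : ℕ, maximalIdeal A ^ n ≤ I)
    (N : Type u) [AddCommGroup N] [Module A N] [Module.Finite A N] (δ : ℕ)
    (hδ : Module.supportDim A N ≤ δ) :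
    ∃ K : ℕ, ∀ t : ℕ, 1 ≤ t → (E (I ^ t) N).toNat ≤ K * t ^ δ := by
  obtain ⟨n, hn⟩ := hI
  rcases subsingleton_or_nontrivial N with hs | hnt
  · refine ⟨0, fun t _ => ?_⟩
    have : E (I ^ t) N = 0 := by
      unfold E
      rw [Module.length_eq_zero_iff]
      infer_instance
    rw [this]; simp
  · obtain ⟨P, hP, hdeg⟩ := exists_hilbertSamuel A N
    have hdeg' : P.natDegree ≤ δ := by
      rw [← hdeg] at hδ
      exact_mod_cast hδ
    obtain ⟨K, hK⟩ := exists_upper_bound (sam A N) P hP δ hdeg' sam_mono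
    refine ⟨K * (n + 1) ^ δ, fun t ht => ?_⟩
    have h1 : maximalIdeal A ^ ((n + 1) * t) ≤ I ^ t := by
      rw [pow_mul]
      exact Ideal.pow_right_mono ((Ideal.pow_le_pow_right (Nat.le_succ n)).trans hn) t
    have h2 : (E (I ^ t) N).toNat ≤ sam A N ((n + 1) * t) := by
      rw [← (E_pow_eq_sam (M := N) _).2]
      exact ENat.toNat_le_toNat (E_anti h1) (E_pow_eq_sam (M := N) _).1
    calc (E (I ^ t) N).toNat ≤ sam A N ((n + 1) * t) := h2
      _ ≤ K * ((n + 1) * t) ^ δ := hK _ (Nat.mul_pos (Nat.succ_pos n) ht)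
      _ = K * (n + 1) ^ δ * t ^ δ := by rw [mul_pow]; ring

/-- **Associativity formula** for Samuel multiplicities (Stacks 02QH-type statement). -/
theorem assoc_formula (I : Ideal A) (hI : ∃ n : ℕ, maximalIdeal A ^ n ≤ I) (d : ℕ)
    (e : PrimeSpectrum A → ℝ)
    (he : ∀ p : PrimeSpectrum A, ringKrullDim (A ⧸ p.asIdeal) = d →
      Tendsto (fun t : ℕ => (d.factorial : ℝ) * ((E (I ^ t) (A ⧸ p.asIdeal)).toNat : ℝ) / (t : ℝ) ^ d)
        atTop (𝓝 (e p)))
    (M : Type u) [AddCommGroup M] [Module A M] [hM : Module.Finite A M]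
    (hd : Module.supportDim A M ≤ d) :
    Tendsto (fun t : ℕ => (d.factorial : ℝ) * ((E (I ^ t) M).toNat : ℝ) / (t : ℝ) ^ d) atTop
      (𝓝 (∑ᶠ p ∈ {p : PrimeSpectrum A | ringKrullDim (A ⧸ p.asIdeal) = d}, wt p M * e p)) := by
  revert hd
  induction hM using IsNoetherianRing.induction_on_isQuotientEquivQuotientPrime A with
  | subsingleton N =>
    intro _
    have h1 : ∀ t, E (I ^ t) N = 0 := by
      intro t
      unfold E
      rw [Module.length_eq_zero_iff]
      infer_instance
    have h2 : ∀ p : PrimeSpectrum A, wt p N = 0 := by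
      intro p
      unfold wt
      rw [lenAt_eq_zero_of_notMem_support p N (by
        rw [Module.support_eq_empty]; exact Set.notMem_empty p)]
      simp
    simp only [h1, h2]
    simp
  | quotient N q f =>
    intro hd
    have hd' : Module.supportDim A (A ⧸ q.asIdeal) ≤ d := by
      rwa [← Module.supportDim_eq_of_equiv f]
    have hwt : ∀ p : PrimeSpectrum A, wt p N = wt p (A ⧸ q.asIdeal) := by
      intro p
      unfold wt
      rw [lenAt_congr p f]
    have hE : ∀ t, E (I ^ t) N = E (I ^ t) (A ⧸ q.asIdeal) := fun t => E_congr _ f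
    simp only [hwt, hE]
    have hq : q.asIdeal.IsPrime := q.isPrime
    have hne : ∀ p : PrimeSpectrum A, ringKrullDim (A ⧸ p.asIdeal) = d →
        wt p (A ⧸ q.asIdeal) ≠ 0 → p = q := by
      intro p hp hw
      have := mem_minimalPrimes_of_wt_ne_zero (A ⧸ q.asIdeal) d hd' p hp hw
      rw [Ideal.annihilator_quotient, Ideal.minimalPrimes_eq_subsingleton_self] at this
      exact PrimeSpectrum.ext this
    by_cases hqd : ringKrullDim (A ⧸ q.asIdeal) = d
    · have hsum : (∑ᶠ p ∈ {p : PrimeSpectrum A | ringKrullDim (A ⧸ p.asIdeal) = d},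
          wt p (A ⧸ q.asIdeal) * e p) = e q := by
        rw [finsum_mem_inter_support_eq _ _ ({q} : Set (PrimeSpectrum A)), finsum_mem_singleton]
        · unfold wt
          rw [lenAt_quotient_self]
          simp
        · ext p
          constructor
          · rintro ⟨hp, hs⟩
            exact ⟨hne p hp (left_ne_zero_of_mul hs), hs⟩
          · rintro ⟨hp, hs⟩
            rw [Set.mem_singleton_iff] at hp
            exact ⟨by rw [hp]; exact hqd, hs⟩
      rw [hsum]
      exact he q hqd
    · have hsum : (∑ᶠ p ∈ {p : PrimeSpectrum A | ringKrullDim (A ⧸ p.asIdeal) = d},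
          wt p (A ⧸ q.asIdeal) * e p) = 0 := by
        apply finsum_mem_of_eqOn_zero
        intro p hp
        by_contra hw
        have := hne p hp (left_ne_zero_of_mul hw)
        rw [this] at hp
        exact hqd hp
      rw [hsum]
      obtain ⟨δ, hδ⟩ := exists_nat_supportDim A (A ⧸ q.asIdeal)
      have hδd : δ < d := by
        have h1 : δ ≤ d := by
          rw [hδ] at hd'
          exact_mod_cast hd'
        refine lt_of_le_of_ne h1 (fun h => hqd ?_)
        rw [← Module.supportDim_quotient_eq_ringKrullDim, hδ, h]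
      obtain ⟨K, hK⟩ := exists_E_pow_le I hI (A ⧸ q.asIdeal) δ hδ.le
      have hlim : Tendsto (fun t : ℕ => ((d.factorial : ℝ) * K) / (t : ℝ)) atTop (𝓝 0) :=
        tendsto_const_div_atTop_nhds_zero_nat _
      refine squeeze_zero' (Eventually.of_forall fun t => by positivity) ?_ hlim
      filter_upwards [eventually_ge_atTop 1] with t ht
      have ht0 : (0 : ℝ) < t := by exact_mod_cast ht
      have ht1 : (1 : ℝ) ≤ t := by exact_mod_cast ht
      have h1 : ((E (I ^ t) (A ⧸ q.asIdeal)).toNat : ℝ) ≤ (K : ℝ) * (t : ℝ) ^ δ := by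
        exact_mod_cast hK t ht
      rw [div_le_div_iff₀ (by positivity) ht0]
      calc (d.factorial : ℝ) * ((E (I ^ t) (A ⧸ q.asIdeal)).toNat : ℝ) * (t : ℝ)
          ≤ (d.factorial : ℝ) * ((K : ℝ) * (t : ℝ) ^ δ) * (t : ℝ) := by
            apply mul_le_mul_of_nonneg_right _ ht0.le
            exact mul_le_mul_of_nonneg_left h1 (by positivity)
        _ = (d.factorial : ℝ) * K * (t : ℝ) ^ (δ + 1) := by rw [pow_succ]; ring
        _ ≤ (d.factorial : ℝ) * K * (t : ℝ) ^ d :=
            mul_le_mul_of_nonneg_left (pow_le_pow_right₀ ht1 hδd) (by positivity)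
  | exact N₁ N₂ N₃ f g hf hg hfg ih₁ ih₃ =>
    intro hd
    have hd₁ : Module.supportDim A N₁ ≤ d := (Module.supportDim_le_of_injective f hf).trans hd
    have hd₃ : Module.supportDim A N₃ ≤ d := (Module.supportDim_le_of_surjective g hg).trans hd
    have hlim := SamuelAdd.tendsto_of_exact I hI f g hf hg
      ((LinearMap.exact_iff.mp hfg).symm) d _ _ (ih₁ hd₁) (ih₃ hd₃)
    have hsum : (∑ᶠ p ∈ {p : PrimeSpectrum A | ringKrullDim (A ⧸ p.asIdeal) = d}, wt p N₂ * e p) =
        (∑ᶠ p ∈ {p : PrimeSpectrum A | ringKrullDim (A ⧸ p.asIdeal) = d}, wt p N₁ * e p) +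
        (∑ᶠ p ∈ {p : PrimeSpectrum A | ringKrullDim (A ⧸ p.asIdeal) = d}, wt p N₃ * e p) := by
      rw [← finsum_mem_add_distrib' (finite_support_wt N₁ d hd₁ e) (finite_support_wt N₃ d hd₃ e)]
      apply finsum_mem_congr rfl
      intro p hp
      have h1 := lenAt_exact p f g hf hg hfg
      have h2 := lenAt_ne_top N₁ d hd₁ p hp
      have h3 := lenAt_ne_top N₃ d hd₃ p hp
      unfold wt
      rw [h1, ENat.toNat_add h2 h3]
      push_cast
      ring
    rw [hsum]
    exact hlim

end Main

end Groth.Agent.Helper12.SamuelAssoc
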