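import Groth.Agent.Lib.Helper12.LenTransfer
import Groth.Agent.Lib.Helper12.DimOneMult3
import Groth.Agent.S2517
import Groth.Agent.S2518

/-!
# Multiplicity in dimension one, support version (helper12)

Transfer of the statements of `DimOneMult2/3` from a local ring of dimension one to a finite module
with one-dimensional support over an arbitrary Noetherian local ring, by passing to `B ⧸ Ann M`.
-/

set_option autoImplicit false
set_option linter.style.haveILetI false
universe u

namespace Groth.Agent.Helper12.DimOneMult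

open IsLocalRing

section Transfer

variable {B : Type u} [CommRing B] (I : Ideal B)

theorem primeCompl_map_eq (p : Ideal B) [p.IsPrime] (hIp : I ≤ p)
    [hq : (p.map (Ideal.Quotient.mk I)).IsPrime] :
    (p.map (Ideal.Quotient.mk I)).primeCompl =
      Algebra.algebraMapSubmonoid (B ⧸ I) p.primeCompl := by
  ext b
  constructor
  · intro hb
    obtain ⟨x, rfl⟩ := Ideal.Quotient.mk_surjective b
    refine ⟨x, ?_, rfl⟩
    intro hx
    exact hb (Ideal.mem_map_of_mem _ hx)
  · rintro ⟨x, hx, rfl⟩
    change ¬ (Ideal.Quotient.mk I x ∈ p.map (Ideal.Quotient.mk I))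
    rw [Ideal.mem_quotient_iff_mem hIp]
    exact hx

variable (M : Type u) [AddCommGroup M] [Module B M] [Module (B ⧸ I) M]
  [IsScalarTower B (B ⧸ I) M]

theorem length_localizedModule_map (p : Ideal B) [p.IsPrime] (hIp : I ≤ p)
    [hq : (p.map (Ideal.Quotient.mk I)).IsPrime] :
    Module.length (Localization.AtPrime p) (LocalizedModule p.primeCompl M) =
      Module.length (Localization.AtPrime (p.map (Ideal.Quotient.mk I)))
        (LocalizedModule (p.map (Ideal.Quotient.mk I)).primeCompl M) :=
  Groth.Agent.Helper12.LenTransfer.length_localizedModule_of_surjective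
    Ideal.Quotient.mk_surjective p.primeCompl _ (primeCompl_map_eq I p hIp) M

theorem map_mem_minimalPrimes {p : Ideal B} (hp : p ∈ I.minimalPrimes) :
    p.map (Ideal.Quotient.mk I) ∈ minimalPrimes (B ⧸ I) := by
  have := hp
  rw [Ideal.minimalPrimes_eq_comap] at this
  obtain ⟨p', hp', hp'q⟩ := this
  rw [← hp'q, Ideal.map_comap_of_surjective _ Ideal.Quotient.mk_surjective]
  exact hp'

theorem comap_map_eq {p : Ideal B} (hIp : I ≤ p) :
    (p.map (Ideal.Quotient.mk I)).comap (Ideal.Quotient.mk I) = p := by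
  rw [Ideal.comap_map_of_surjective _ Ideal.Quotient.mk_surjective, ← RingHom.ker_eq_comap_bot,
    Ideal.mk_ker, sup_eq_left.mpr hIp]

theorem finsum_minimalPrimes_eq :
    (∑ᶠ p : I.minimalPrimes,
        haveI : p.1.IsPrime := p.2.1.1
        Module.length (Localization.AtPrime p.1) (LocalizedModule p.1.primeCompl M)) =
      ∑ᶠ q : minimalPrimes (B ⧸ I),
        haveI : q.1.IsPrime := q.2.1.1
        Module.length (Localization.AtPrime q.1) (LocalizedModule q.1.primeCompl M) := by
  refine finsum_eq_of_bijective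
    (fun p : I.minimalPrimes => (⟨p.1.map (Ideal.Quotient.mk I), map_mem_minimalPrimes I p.2⟩ :
      minimalPrimes (B ⧸ I))) ⟨?_, ?_⟩ ?_
  · intro p p' h
    have h1 : p.1.map (Ideal.Quotient.mk I) = p'.1.map (Ideal.Quotient.mk I) :=
      congrArg Subtype.val h
    apply Subtype.ext
    rw [← comap_map_eq I p.2.1.2, ← comap_map_eq I p'.2.1.2, h1]
  · intro q
    have hq : q.1.comap (Ideal.Quotient.mk I) ∈ I.minimalPrimes := by
      rw [Ideal.minimalPrimes_eq_comap]
      exact ⟨q.1, q.2, rfl⟩
    refine ⟨⟨_, hq⟩, ?_⟩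
    apply Subtype.ext
    exact Ideal.map_comap_of_surjective _ Ideal.Quotient.mk_surjective _
  · intro p
    haveI : p.1.IsPrime := p.2.1.1
    haveI : (p.1.map (Ideal.Quotient.mk I)).IsPrime := (map_mem_minimalPrimes I p.2).1.1
    exact length_localizedModule_map I M p.1 p.2.1.2

end Transfer


section Local

variable {B : Type u} [CommRing B] [IsLocalRing B] (I : Ideal B)

theorem map_maximalIdeal_eq (hI : I ≠ ⊤) [IsLocalRing (B ⧸ I)] :
    (maximalIdeal B).map (Ideal.Quotient.mk I) = maximalIdeal (B ⧸ I) := by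
  have hIm : I ≤ maximalIdeal B := IsLocalRing.le_maximalIdeal hI
  rcases Ideal.map_eq_top_or_isMaximal_of_surjective (Ideal.Quotient.mk I)
    Ideal.Quotient.mk_surjective (maximalIdeal.isMaximal B) with h | h
  · exfalso
    have h1 := comap_map_eq I hIm
    rw [h, Ideal.comap_top] at h1
    exact (maximalIdeal.isMaximal B).ne_top h1.symm
  · exact IsLocalRing.eq_maximalIdeal h

theorem map_generates_iff (hI : I ≠ ⊤) [IsLocalRing (B ⧸ I)] (t : B) (p : Ideal B) [p.IsPrime]
    (hIp : I ≤ p) [hq : (p.map (Ideal.Quotient.mk I)).IsPrime] :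
    Ideal.map (Ideal.Quotient.mk (p.map (Ideal.Quotient.mk I))) (maximalIdeal (B ⧸ I)) =
        Ideal.span {Ideal.Quotient.mk (p.map (Ideal.Quotient.mk I)) (Ideal.Quotient.mk I t)} ↔
      Ideal.map (Ideal.Quotient.mk p) (maximalIdeal B) = Ideal.span {Ideal.Quotient.mk p t} := by
  rw [← sup_eq_maximalIdeal_iff, ← sup_eq_maximalIdeal_iff]
  have hIm : I ≤ maximalIdeal B := IsLocalRing.le_maximalIdeal hI
  have h1 : p.map (Ideal.Quotient.mk I) ⊔ Ideal.span {Ideal.Quotient.mk I t} =
      (p ⊔ Ideal.span {t}).map (Ideal.Quotient.mk I) := by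
    rw [Ideal.map_sup, Ideal.map_span, Set.image_singleton]
  rw [h1, ← map_maximalIdeal_eq I hI]
  constructor
  · intro h
    have h2 := congrArg (Ideal.comap (Ideal.Quotient.mk I)) h
    rwa [comap_map_eq I (hIp.trans le_sup_left), comap_map_eq I hIm] at h2
  · intro h
    rw [h]

end Local

end Groth.Agent.Helper12.DimOneMult
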