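import Mathlib
import Groth.Agent.Lib.Helper4.TraceSep

/-!
# Purity of the branch locus for finite flat algebras via the discriminant (helper12)

`A` Noetherian, `B` a finite flat `A`-algebra.  If `Ω[B⁄A]` vanishes at every prime of a set `G`
and every prime outside `G` has height `≥ 2`, then `B` is unramified over `A`.
-/

set_option autoImplicit false
set_option linter.style.haveILetI false
universe u
open TensorProduct Matrix

namespace Groth.Agent.Helper12.DiscPurity

open Groth.Agent.Helper4.TraceSep

section Basis

variable {A B : Type*} [CommRing A] [CommRing B] [Algebra A B] {ι : Type*} [Fintype ι]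
  [DecidableEq ι]

lemma toMatrix_traceForm (b : Module.Basis ι A B) :
    LinearMap.toMatrix b b.dualBasis (Algebra.traceForm A B) = (Algebra.traceMatrix A b)ᵀ := by
  ext i j
  rw [LinearMap.toMatrix_apply, Module.Basis.dualBasis_repr, Matrix.transpose_apply,
    Algebra.traceMatrix_apply]

lemma traceForm_bijective_iff (b : Module.Basis ι A B) :
    Function.Bijective (Algebra.traceForm A B) ↔ IsUnit (Algebra.traceMatrix A b).det := by
  constructor
  · intro h
    let e : B ≃ₗ[A] Module.Dual A B := LinearEquiv.ofBijective (Algebra.traceForm A B) h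
    have h1 := LinearEquiv.isUnit_det e b b.dualBasis
    have h2 : (e : B →ₗ[A] Module.Dual A B) = Algebra.traceForm A B := rfl
    rwa [h2, toMatrix_traceForm, Matrix.det_transpose] at h1
  · intro h
    have h' : IsUnit (LinearMap.toMatrix b b.dualBasis (Algebra.traceForm A B)).det := by
      rwa [toMatrix_traceForm, Matrix.det_transpose]
    have h3 := (LinearEquiv.ofIsUnitDet h').bijective
    have h4 : ⇑(LinearEquiv.ofIsUnitDet h') = ⇑(Algebra.traceForm A B) := by
      ext x : 1
      rfl
    rwa [h4] at h3

end Basis

section Core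

variable (A B : Type u) [CommRing A] [CommRing B] [Algebra A B]

/-- `Ω[B⁄A]` vanishes after localizing at the prime `q` of `A`. -/
def Van (q : Ideal A) : Prop := ∀ ω : Ω[B⁄A], ∃ t : A, t ∉ q ∧ t • ω = 0

variable {A B} in
theorem Van.subsingleton {q : Ideal A} [q.IsPrime] (h : Van A B q)
    (Aq Bq : Type u) [CommRing Aq] [CommRing Bq] [Algebra A Aq] [Algebra B Bq] [Algebra Aq Bq]
    [Algebra A Bq] [IsScalarTower A Aq Bq] [IsScalarTower A B Bq] [IsLocalization.AtPrime Aq q]
    [IsLocalization (Algebra.algebraMapSubmonoid B q.primeCompl) Bq] :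
    Subsingleton Ω[Bq⁄Aq] := by
  haveI := KaehlerDifferential.isLocalizedModule (R := A) (S := Aq) (A := B) (B := Bq) q.primeCompl
  suffices hz : ∀ z : Ω[Bq⁄Aq], z = 0 from ⟨fun x y => by rw [hz x, hz y]⟩
  intro z
  obtain ⟨⟨ω, s⟩, hs⟩ := IsLocalizedModule.surj q.primeCompl
    ((KaehlerDifferential.map A Aq B Bq).restrictScalars A) z
  obtain ⟨t, ht, htω⟩ := h ω
  have hu := IsLocalizedModule.map_units
    ((KaehlerDifferential.map A Aq B Bq).restrictScalars A) s
  have hinj := ((Module.End.isUnit_iff _).mp hu).injective
  have hfω : ((KaehlerDifferential.map A Aq B Bq).restrictScalars A) ω = 0 := by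
    rw [IsLocalizedModule.eq_zero_iff q.primeCompl]
    exact ⟨⟨t, ht⟩, htω⟩
  apply hinj
  rw [map_zero]
  rw [hfω] at hs
  exact hs

theorem van_of_subsingleton (q : Ideal A) [q.IsPrime]
    (Aq Bq : Type u) [CommRing Aq] [CommRing Bq] [Algebra A Aq] [Algebra B Bq] [Algebra Aq Bq]
    [Algebra A Bq] [IsScalarTower A Aq Bq] [IsScalarTower A B Bq] [IsLocalization.AtPrime Aq q]
    [IsLocalization (Algebra.algebraMapSubmonoid B q.primeCompl) Bq]
    [Subsingleton Ω[Bq⁄Aq]] : Van A B q := by
  haveI := KaehlerDifferential.isLocalizedModule (R := A) (S := Aq) (A := B) (B := Bq) q.primeCompl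
  intro ω
  have h0 : ((KaehlerDifferential.map A Aq B Bq).restrictScalars A) ω = 0 :=
    Subsingleton.elim _ _
  rw [IsLocalizedModule.eq_zero_iff q.primeCompl] at h0
  obtain ⟨c, hc⟩ := h0
  exact ⟨c.1, c.2, hc⟩

theorem core [IsLocalRing A] [IsNoetherianRing A] {ι : Type*} [Fintype ι] [DecidableEq ι]
    (b : Module.Basis ι A B)
    (hdim : 2 ≤ (IsLocalRing.maximalIdeal A).height)
    (h : ∀ q : Ideal A, q.IsPrime → q ≠ IsLocalRing.maximalIdeal A → Van A B q) :
    Algebra.FormallyUnramified A B := by
  haveI : Module.Finite A B := Module.Finite.of_basis b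
  apply formallyUnramified_of_traceForm_bijective b
  rw [traceForm_bijective_iff b]
  by_contra hd
  have hdm : (Algebra.traceMatrix A b).det ∈ IsLocalRing.maximalIdeal A :=
    (IsLocalRing.mem_maximalIdeal _).2 hd
  have hle : Ideal.span {(Algebra.traceMatrix A b).det} ≤ IsLocalRing.maximalIdeal A := by
    rw [Ideal.span_le]
    exact Set.singleton_subset_iff.mpr hdm
  obtain ⟨q, hq, hqm⟩ := Ideal.exists_minimalPrimes_le hle
  haveI : q.IsPrime := hq.1.1
  have hht : q.height ≤ 1 :=
    Ideal.height_le_one_of_isPrincipal_of_mem_minimalPrimes _ q hq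
  have hqne : q ≠ IsLocalRing.maximalIdeal A := by
    intro e
    rw [e] at hht
    have := hdim.trans hht
    norm_num at this
  have hV := h q inferInstance hqne
  haveI : Subsingleton Ω[Localization (Algebra.algebraMapSubmonoid B q.primeCompl)⁄
      Localization.AtPrime q] :=
    hV.subsingleton (Localization.AtPrime q)
      (Localization (Algebra.algebraMapSubmonoid B q.primeCompl))
  haveI : Algebra.FormallyUnramified (Localization.AtPrime q)
      (Localization (Algebra.algebraMapSubmonoid B q.primeCompl)) := ⟨inferInstance⟩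
  let b' := b.localizationLocalization (Localization.AtPrime q) q.primeCompl
    (Localization (Algebra.algebraMapSubmonoid B q.primeCompl))
  haveI : Module.Finite (Localization.AtPrime q)
      (Localization (Algebra.algebraMapSubmonoid B q.primeCompl)) := Module.Finite.of_basis b'
  have h1 : Function.Bijective (Algebra.traceForm (Localization.AtPrime q)
      (Localization (Algebra.algebraMapSubmonoid B q.primeCompl))) := by
    obtain ⟨c, hc⟩ := exists_dual_family b'
    exact traceForm_bijective_of_dual_family b' c hc
  rw [traceForm_bijective_iff b', Algebra.traceMatrix_localizationLocalization,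
    ← RingHom.map_det] at h1
  have h2 : (Algebra.traceMatrix A b).det ∈ q.primeCompl :=
    (IsLocalization.AtPrime.isUnit_to_map_iff (Localization.AtPrime q) q _).1 h1
  exact h2 (hq.1.2 (Ideal.subset_span rfl))

end Core

section Global

variable (A B : Type u) [CommRing A] [CommRing B] [Algebra A B]

theorem van_of_not_le [Module.Finite A B] (q : Ideal A)
    (h : ¬ Module.annihilator A Ω[B⁄A] ≤ q) : Van A B q := by
  obtain ⟨t, htJ, htq⟩ := SetLike.not_le_iff_exists.mp h
  intro ω
  exact ⟨t, htq, Module.mem_annihilator.mp htJ ω⟩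

theorem not_le_of_van [IsNoetherianRing A] [Module.Finite A B] (q : Ideal A) [q.IsPrime]
    (h : Van A B q) : ¬ Module.annihilator A Ω[B⁄A] ≤ q := by
  classical
  haveI : Module.Finite B Ω[B⁄A] := inferInstance
  haveI : Module.Finite A Ω[B⁄A] := Module.Finite.trans B _
  obtain ⟨s, hs⟩ := (Module.Finite.fg_top : (⊤ : Submodule A Ω[B⁄A]).FG)
  choose t ht htω using h
  have hprod : (∏ ω ∈ s, t ω) ∉ q := by
    intro hmem
    obtain ⟨ω, -, hω⟩ := (Ideal.IsPrime.prod_mem_iff).mp hmem
    exact ht ω hω
  intro hJ
  apply hprod
  apply hJ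
  rw [Module.mem_annihilator]
  have hlin : ((∏ ω ∈ s, t ω) • LinearMap.id : Ω[B⁄A] →ₗ[A] Ω[B⁄A]) = 0 := by
    apply LinearMap.ext_on hs
    intro ω hω
    simp only [LinearMap.smul_apply, LinearMap.id_coe, id_eq, LinearMap.zero_apply]
    have hω' : ω ∈ s := hω
    rw [← Finset.mul_prod_erase s t hω', mul_comm, mul_smul, htω, smul_zero]
  intro m
  have := LinearMap.congr_fun hlin m
  simpa using this

theorem main [IsNoetherianRing A] [Module.Finite A B] [Module.Flat A B]
    (G : Set (Ideal A))
    (hG : ∀ q : Ideal A, q.IsPrime → q ∈ G → Van A B q)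
    (hdim : ∀ q : Ideal A, q.IsPrime → q ∉ G → 2 ≤ q.height) :
    Algebra.FormallyUnramified A B := by
  classical
  rw [Algebra.formallyUnramified_iff]
  by_contra hne
  rw [not_subsingleton_iff_nontrivial] at hne
  have hJ : Module.annihilator A Ω[B⁄A] ≠ ⊤ := by
    rw [Ne, Module.annihilator_eq_top_iff]
    exact not_subsingleton _
  obtain ⟨p, hp⟩ := Ideal.nonempty_minimalPrimes hJ
  haveI hpp : p.IsPrime := hp.1.1
  have hnotvan : ¬ Van A B p := fun h => not_le_of_van A B p h hp.1.2
  have hpG : p ∉ G := fun h => hnotvan (hG p inferInstance h)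
  have hht := hdim p inferInstance hpG
  have hlt : ∀ q : Ideal A, q.IsPrime → q < p → Van A B q := by
    intro q hq hqp
    apply van_of_not_le
    intro hJq
    exact absurd (hp.2 ⟨hq, hJq⟩ hqp.le) (not_le_of_gt hqp)
  -- localize at p
  haveI : Module.Finite (Localization.AtPrime p)
      (Localization (Algebra.algebraMapSubmonoid B p.primeCompl)) :=
    Module.Finite.of_isLocalization A B p.primeCompl
  haveI : Module.Flat (Localization.AtPrime p)
      (Localization (Algebra.algebraMapSubmonoid B p.primeCompl)) := inferInstance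
  haveI : Module.Free (Localization.AtPrime p)
      (Localization (Algebra.algebraMapSubmonoid B p.primeCompl)) :=
    Module.free_of_flat_of_isLocalRing
  have hcore : Algebra.FormallyUnramified (Localization.AtPrime p)
      (Localization (Algebra.algebraMapSubmonoid B p.primeCompl)) := by
    refine core (Localization.AtPrime p)
      (Localization (Algebra.algebraMapSubmonoid B p.primeCompl))
      (Module.Free.chooseBasis (Localization.AtPrime p)
        (Localization (Algebra.algebraMapSubmonoid B p.primeCompl))) ?_ ?_
    · have h1 : (((IsLocalRing.maximalIdeal (Localization.AtPrime p)).height : ℕ∞) :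
          WithBot ℕ∞) = ((p.height : ℕ∞) : WithBot ℕ∞) := by
        rw [IsLocalRing.maximalIdeal_height_eq_ringKrullDim,
          IsLocalization.AtPrime.ringKrullDim_eq_height p (Localization.AtPrime p)]
      rw [WithBot.coe_injective h1]
      exact hht
    · intro q' hq' hne'
      haveI := hq'
      have hq : (q'.comap (algebraMap A (Localization.AtPrime p))).IsPrime := inferInstance
      have hqle : q'.comap (algebraMap A (Localization.AtPrime p)) ≤ p := by
        have h1 : Ideal.comap (algebraMap A (Localization.AtPrime p))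
            (IsLocalRing.maximalIdeal (Localization.AtPrime p)) = p :=
          IsLocalization.AtPrime.under_maximalIdeal (Localization.AtPrime p) p
        exact (Ideal.comap_mono (IsLocalRing.le_maximalIdeal hq'.ne_top)).trans h1.le
      have hqne : q'.comap (algebraMap A (Localization.AtPrime p)) ≠ p := by
        intro e
        apply hne'
        have h2 : Ideal.map (algebraMap A (Localization.AtPrime p))
            (q'.comap (algebraMap A (Localization.AtPrime p))) = q' :=
          IsLocalization.map_under p.primeCompl (Localization.AtPrime p) q'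
        rw [← h2, ← IsLocalization.AtPrime.map_eq_maximalIdeal p (Localization.AtPrime p)]
        exact congrArg (Ideal.map (algebraMap A (Localization.AtPrime p))) e
      have hV := hlt _ hq (lt_of_le_of_ne hqle hqne)
      haveI := KaehlerDifferential.isLocalizedModule (R := A) (S := Localization.AtPrime p)
        (A := B) (B := Localization (Algebra.algebraMapSubmonoid B p.primeCompl)) p.primeCompl
      intro z
      obtain ⟨⟨ω, s⟩, hs⟩ := IsLocalizedModule.surj p.primeCompl
        ((KaehlerDifferential.map A (Localization.AtPrime p) B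
          (Localization (Algebra.algebraMapSubmonoid B p.primeCompl))).restrictScalars A) z
      obtain ⟨t, ht, htω⟩ := hV ω
      refine ⟨algebraMap A (Localization.AtPrime p) t, ht, ?_⟩
      have hu := IsLocalizedModule.map_units
        ((KaehlerDifferential.map A (Localization.AtPrime p) B
          (Localization (Algebra.algebraMapSubmonoid B p.primeCompl))).restrictScalars A) s
      have hinj := ((Module.End.isUnit_iff _).mp hu).injective
      apply hinj
      rw [map_zero, algebraMap_smul]
      show (s : A) • t • z = 0
      rw [smul_comm]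
      have hs' : (s : A) • z = ((KaehlerDifferential.map A (Localization.AtPrime p) B
          (Localization (Algebra.algebraMapSubmonoid B p.primeCompl))).restrictScalars A) ω := hs
      rw [hs', ← map_smul, htω, map_zero]
  haveI : Subsingleton Ω[Localization (Algebra.algebraMapSubmonoid B p.primeCompl)⁄
      Localization.AtPrime p] :=
    hcore.subsingleton_kaehlerDifferential
  exact hnotvan (van_of_subsingleton A B p (Localization.AtPrime p)
    (Localization (Algebra.algebraMapSubmonoid B p.primeCompl)))

theorem van_of_forall_mem_unramifiedLocus (q : Ideal A) [q.IsPrime]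
    (h : ∀ Q : PrimeSpectrum B, Q.asIdeal.comap (algebraMap A B) ≤ q →
      Q ∈ Algebra.unramifiedLocus A B) : Van A B q := by
  intro ω
  by_contra hcon
  push Not at hcon
  have hdisj : Disjoint (((Submodule.span B {ω}).annihilator : Ideal B) : Set B)
      (Algebra.algebraMapSubmonoid B q.primeCompl : Set B) := by
    rw [Set.disjoint_left]
    rintro _ hI ⟨t, ht, rfl⟩
    apply hcon t ht
    have h1 := (Submodule.mem_annihilator_span_singleton _ _).mp hI
    rwa [algebraMap_smul] at h1
  obtain ⟨Q, hQ, hIQ, hQS⟩ := Ideal.exists_le_prime_disjoint _ _ hdisj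
  have hQq : Q.comap (algebraMap A B) ≤ q := by
    intro a ha
    by_contra haq
    exact Set.disjoint_left.mp hQS ha ⟨a, haq, rfl⟩
  have hmem := h ⟨Q, hQ⟩ hQq
  rw [Algebra.unramifiedLocus_eq_compl_support] at hmem
  apply hmem
  rw [Module.mem_support_iff_exists_annihilator]
  exact ⟨ω, hIQ⟩

theorem main' [IsNoetherianRing A] [Module.Finite A B] [Module.Flat A B]
    (G : Set (Ideal A))
    (hgen : ∀ q ∈ G, ∀ q' : Ideal A, q'.IsPrime → q' ≤ q → q' ∈ G)
    (hG : ∀ Q : PrimeSpectrum B, Q.asIdeal.comap (algebraMap A B) ∈ G →
      Q ∈ Algebra.unramifiedLocus A B)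
    (hdim : ∀ q : Ideal A, q.IsPrime → q ∉ G → 2 ≤ q.height) :
    Algebra.FormallyUnramified A B :=
  main A B G (fun q hq hqG => by
    haveI := hq
    exact van_of_forall_mem_unramifiedLocus A B q fun Q hQq =>
      hG Q (hgen q hqG _ inferInstance hQq)) hdim

end Global

end Groth.Agent.Helper12.DiscPurity
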