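import Mathlib
import Groth.Agent.Lib.Helper16.Sch.UnrFib

/-!
# Étale morphisms and dense opens (helper12)

* `etale_of_smooth_of_dense`: a smooth morphism which is unramified on a dense open is étale.
* `mono_of_dense`: an étale separated morphism `φ : M ⟶ N` of étale `S`-schemes which is a
  monomorphism over a dense open of `S` is a monomorphism, hence an open immersion.
-/

set_option autoImplicit false
set_option linter.style.haveILetI false
universe u
open CategoryTheory CategoryTheory.Limits AlgebraicGeometry TopologicalSpace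

namespace Groth.Agent.Helper12.EtDense

open Groth.Agent.Helper16.UnramLocus

/-- a finite free module with a vanishing localization at a prime is zero -/
theorem subsingleton_of_free_of_notMem_support {B M : Type*} [CommRing B] [AddCommGroup M]
    [Module B M] [Module.Free B M] (Q : PrimeSpectrum B) (h : Q ∉ Module.support B M) :
    Subsingleton M := by
  classical
  rw [Module.notMem_support_iff'] at h
  let b := Module.Free.chooseBasis B M
  by_cases hι : IsEmpty (Module.Free.ChooseBasisIndex B M)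
  · exact b.repr.toEquiv.subsingleton
  · rw [not_isEmpty_iff] at hι
    obtain ⟨i⟩ := hι
    obtain ⟨r, hr, hrb⟩ := h (b i)
    exfalso
    apply hr
    have h1 : b.repr (r • b i) i = r := by simp
    rw [hrb] at h1
    simp at h1
    rw [← h1]
    exact Q.asIdeal.zero_mem

/-- A smooth morphism which is formally unramified on a dense open is étale. -/
theorem etale_of_smooth_of_dense {N S : Scheme.{u}} (p : N ⟶ S) [Smooth p] (W : N.Opens)
    (hW : Dense (W : Set N)) (hunr : FormallyUnramified (W.ι ≫ p)) : Etale p := by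
  haveI : FormallyUnramified p := by
    refine formallyUnramified_of_forall_unrAt p fun x => ?_
    obtain ⟨U, hU, V, hV, hxV, e, hstd⟩ := Smooth.exists_isStandardSmooth p x
    rw [unrAt_iff_mem_unramifiedLocus U hU V hV e hxV]
    letI := (p.appLE U V e).hom.toAlgebra
    haveI : Algebra.IsStandardSmooth Γ(S, U) Γ(N, V) := hstd
    obtain ⟨x', hx'V, hx'W⟩ := hW.inter_open_nonempty (V : Set N) V.2 ⟨x, hxV⟩
    have hunr' : UnrAt p x' := ⟨W, hx'W, hunr⟩
    rw [unrAt_iff_mem_unramifiedLocus U hU V hV e hx'V,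
      Algebra.unramifiedLocus_eq_compl_support] at hunr'
    haveI : Subsingleton Ω[Γ(N, V)⁄Γ(S, U)] :=
      subsingleton_of_free_of_notMem_support _ hunr'
    rw [Algebra.unramifiedLocus_eq_compl_support, Set.mem_compl_iff, Module.notMem_support_iff]
    infer_instance
  exact Etale.of_formallyUnramified_of_flat p

/-- Let `φ : M ⟶ N` be étale and separated with `φ ≫ a : M ⟶ S` étale, `S₀` a dense open of `S`,
and suppose `φ` restricts to a monomorphism `φ₀ : M₀ ⟶ N₀` between open parts, where `M₀` contains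
all points of `M` over `S₀`.  Then `φ` is a monomorphism. -/
theorem mono_of_dense {M N S : Scheme.{u}} (φ : M ⟶ N) (a : N ⟶ S) [Etale φ] [IsSeparated φ]
    [Etale (φ ≫ a)] (S₀ : S.Opens) (hS₀ : Dense (S₀ : Set S))
    {M₀ N₀ : Scheme.{u}} (jM : M₀ ⟶ M) [IsOpenImmersion jM] (jN : N₀ ⟶ N) [Mono jN]
    (φ₀ : M₀ ⟶ N₀) [Mono φ₀] (comm : jM ≫ φ = φ₀ ≫ jN)
    (hrange : ∀ m : M, (φ ≫ a) m ∈ S₀ → m ∈ Set.range jM) : Mono φ := by
  rw [← pullback.isIso_diagonal_iff]
  haveI : IsOpenImmersion (pullback.diagonal φ) := inferInstance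
  haveI : IsClosedImmersion (pullback.diagonal φ) := IsSeparated.isClosedImmersion_diagonal
  suffices hsurj : Function.Surjective (pullback.diagonal φ) by
    refine isIso_of_isOpenImmersion_of_opensRange_eq_top _ ?_
    ext x
    simp only [Scheme.Hom.coe_opensRange, TopologicalSpace.Opens.coe_top, Set.mem_univ, iff_true]
    exact hsurj x
  by_contra hns
  rw [Function.Surjective] at hns
  push Not at hns
  obtain ⟨c, hc⟩ := hns
  let π : pullback φ φ ⟶ S := pullback.fst φ φ ≫ φ ≫ a
  haveI : Etale π := inferInstanceAs (Etale (pullback.fst φ φ ≫ φ ≫ a))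
  have hCo : IsOpen (Set.range (pullback.diagonal φ))ᶜ :=
    (pullback.diagonal φ).isClosedEmbedding.isClosed_range.isOpen_compl
  have himg : IsOpen (π '' (Set.range (pullback.diagonal φ))ᶜ) := π.isOpenMap _ hCo
  obtain ⟨s, ⟨c', hc'C, rfl⟩, hs₀⟩ :=
    hS₀.inter_open_nonempty _ himg ⟨π c, c, fun ⟨m, hm⟩ => hc m hm, rfl⟩
  apply hc'C
  let Z : (pullback φ φ).Opens := π ⁻¹ᵁ S₀
  have hc'Z : c' ∈ Z := hs₀
  have hr1 : Set.range (Z.ι ≫ pullback.fst φ φ) ⊆ Set.range jM := by
    rintro _ ⟨z, rfl⟩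
    apply hrange
    have : (φ ≫ a) ((Z.ι ≫ pullback.fst φ φ) z) = π (Z.ι z) := by
      simp only [π, Scheme.Hom.comp_apply]
    rw [this]
    exact z.2
  have hr2 : Set.range (Z.ι ≫ pullback.snd φ φ) ⊆ Set.range jM := by
    rintro _ ⟨z, rfl⟩
    apply hrange
    have : (φ ≫ a) ((Z.ι ≫ pullback.snd φ φ) z) = π (Z.ι z) := by
      have h1 : pullback.snd φ φ ≫ φ ≫ a = π := by
        simp only [π]
        rw [← Category.assoc, ← pullback.condition, Category.assoc]
      rw [← h1]
      simp only [Scheme.Hom.comp_apply]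
    rw [this]
    exact z.2
  let a1 := IsOpenImmersion.lift jM (Z.ι ≫ pullback.fst φ φ) hr1
  let a2 := IsOpenImmersion.lift jM (Z.ι ≫ pullback.snd φ φ) hr2
  have ha1 : a1 ≫ jM = Z.ι ≫ pullback.fst φ φ := IsOpenImmersion.lift_fac _ _ _
  have ha2 : a2 ≫ jM = Z.ι ≫ pullback.snd φ φ := IsOpenImmersion.lift_fac _ _ _
  have h12 : a1 = a2 := by
    rw [← cancel_mono φ₀, ← cancel_mono jN]
    simp only [Category.assoc]
    rw [← comm, ← Category.assoc, ← Category.assoc, ha1, ha2, Category.assoc, Category.assoc,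
      pullback.condition]
  have hfs : Z.ι ≫ pullback.fst φ φ = Z.ι ≫ pullback.snd φ φ := by
    rw [← ha1, ← ha2, h12]
  have hfac : Z.ι = (Z.ι ≫ pullback.fst φ φ) ≫ pullback.diagonal φ := by
    apply pullback.hom_ext
    · simp
    · simp [hfs]
  refine ⟨(Z.ι ≫ pullback.fst φ φ) ⟨c', hc'Z⟩, ?_⟩
  rw [← Scheme.Hom.comp_apply, ← hfac]
  rfl

/-- the resulting open immersion -/
theorem isOpenImmersion_of_dense {M N S : Scheme.{u}} (φ : M ⟶ N) (a : N ⟶ S) [Etale φ]
    [IsSeparated φ] [Etale (φ ≫ a)] (S₀ : S.Opens) (hS₀ : Dense (S₀ : Set S))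
    {M₀ N₀ : Scheme.{u}} (jM : M₀ ⟶ M) [IsOpenImmersion jM] (jN : N₀ ⟶ N) [Mono jN]
    (φ₀ : M₀ ⟶ N₀) [Mono φ₀] (comm : jM ≫ φ = φ₀ ≫ jN)
    (hrange : ∀ m : M, (φ ≫ a) m ∈ S₀ → m ∈ Set.range jM) : IsOpenImmersion φ := by
  haveI := mono_of_dense φ a S₀ hS₀ jM jN φ₀ comm hrange
  exact IsOpenImmersion.of_flat_of_mono φ

end Groth.Agent.Helper12.EtDense
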