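import Groth.Prelude.Def_Wider
import Groth.Agent.Lib.Helper11.DCBridge2
import Mathlib.Algebra.Homology.DerivedCategory.SingleTriangle
import Mathlib.RingTheory.Filtration
import Mathlib.Algebra.Category.ModuleCat.Projective

/-!
# Artin–Rees for `Ext^p(M, N) → Ext^p(IⁿM, N)` (helper12)
Algebraic preliminaries.
-/

set_option autoImplicit false
universe u

open CategoryTheory Limits

namespace Groth.Agent.Helper12.ExtAR

variable {A : Type u} [CommRing A] (I : Ideal A)

section Alg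

variable {M N : Type u} [AddCommGroup M] [Module A M] [AddCommGroup N] [Module A N]

theorem map_mem (φ : M →ₗ[A] N) {n m : ℕ} (h : m ≤ n) (x : ↥(I ^ n • ⊤ : Submodule A M)) :
    φ x.1 ∈ (I ^ m • ⊤ : Submodule A N) := by
  have h1 : φ x.1 ∈ (I ^ n • ⊤ : Submodule A M).map φ := Submodule.mem_map_of_mem x.2
  rw [Submodule.map_smul''] at h1
  exact Submodule.smul_mono (Ideal.pow_le_pow_right h) le_top h1

/-- restriction of `φ` to `IⁿM → IᵐN`, `m ≤ n`. -/
noncomputable def restrictPow (φ : M →ₗ[A] N) {n m : ℕ} (h : m ≤ n) :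
    ↥(I ^ n • ⊤ : Submodule A M) →ₗ[A] ↥(I ^ m • ⊤ : Submodule A N) :=
  LinearMap.codRestrict _ (φ ∘ₗ (I ^ n • ⊤ : Submodule A M).subtype) (fun x => map_mem I φ h x)

@[simp] theorem coe_restrictPow (φ : M →ₗ[A] N) {n m : ℕ} (h : m ≤ n)
    (x : ↥(I ^ n • ⊤ : Submodule A M)) : (restrictPow I φ h x : N) = φ x.1 := rfl

theorem subtype_comp_restrictPow (φ : M →ₗ[A] N) {n m : ℕ} (h : m ≤ n) :
    (I ^ m • ⊤ : Submodule A N).subtype ∘ₗ restrictPow I φ h =
      φ ∘ₗ (I ^ n • ⊤ : Submodule A M).subtype := rfl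

theorem restrictPow_surjective (φ : M →ₗ[A] N) (hφ : Function.Surjective φ) (n : ℕ) :
    Function.Surjective (restrictPow I φ (le_refl n)) := by
  intro y
  have h1 : (I ^ n • ⊤ : Submodule A M).map φ = I ^ n • ⊤ := by
    rw [Submodule.map_smul'', Submodule.map_top, LinearMap.range_eq_top.2 hφ]
  have h2 : y.1 ∈ (I ^ n • ⊤ : Submodule A M).map φ := by rw [h1]; exact y.2
  obtain ⟨x, hx, hxy⟩ := h2
  exact ⟨⟨x, hx⟩, Subtype.ext hxy⟩

/-- `ker (IⁿF → IⁿM) → ker (F → M)`. -/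
noncomputable def kerMap (f : M →ₗ[A] N) (n : ℕ) :
    ↥(LinearMap.ker (restrictPow I f (le_refl n))) →ₗ[A] ↥(LinearMap.ker f) :=
  LinearMap.codRestrict _
    ((I ^ n • ⊤ : Submodule A M).subtype ∘ₗ (LinearMap.ker (restrictPow I f (le_refl n))).subtype)
    (fun x => by
      have h1 : restrictPow I f (le_refl n) x.1 = 0 := x.2
      have h2 : (restrictPow I f (le_refl n) x.1 : N) = 0 := by rw [h1]; rfl
      exact h2)

@[simp] theorem coe_kerMap (f : M →ₗ[A] N) (n : ℕ)
    (x : ↥(LinearMap.ker (restrictPow I f (le_refl n)))) : (kerMap I f n x : M) = x.1.1 := rfl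

theorem kerMap_mem (f : M →ₗ[A] N) (n m : ℕ)
    (h : (I ^ n • ⊤ : Submodule A M) ⊓ LinearMap.ker f ≤ I ^ m • LinearMap.ker f)
    (x : ↥(LinearMap.ker (restrictPow I f (le_refl n)))) :
    kerMap I f n x ∈ (I ^ m • ⊤ : Submodule A ↥(LinearMap.ker f)) := by
  have h1 : (I ^ m • ⊤ : Submodule A ↥(LinearMap.ker f)).map (LinearMap.ker f).subtype =
      I ^ m • LinearMap.ker f := by
    rw [Submodule.map_smul'', Submodule.map_top, Submodule.range_subtype]
  have h2 : (kerMap I f n x : M) ∈ I ^ m • LinearMap.ker f :=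
    h ⟨x.1.2, (kerMap I f n x).2⟩
  rw [← h1] at h2
  obtain ⟨y, hy, hyx⟩ := h2
  have : y = kerMap I f n x := Subtype.ext hyx
  rwa [this] at hy

/-- `ker (IⁿF → IⁿM) → Iᵐ ker (F → M)` under an Artin–Rees hypothesis. -/
noncomputable def kerMapPow (f : M →ₗ[A] N) (n m : ℕ)
    (h : (I ^ n • ⊤ : Submodule A M) ⊓ LinearMap.ker f ≤ I ^ m • LinearMap.ker f) :
    ↥(LinearMap.ker (restrictPow I f (le_refl n))) →ₗ[A]
      ↥(I ^ m • ⊤ : Submodule A ↥(LinearMap.ker f)) :=
  LinearMap.codRestrict _ (kerMap I f n) (kerMap_mem I f n m h)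

theorem subtype_comp_kerMapPow (f : M →ₗ[A] N) (n m : ℕ)
    (h : (I ^ n • ⊤ : Submodule A M) ⊓ LinearMap.ker f ≤ I ^ m • LinearMap.ker f) :
    (I ^ m • ⊤ : Submodule A ↥(LinearMap.ker f)).subtype ∘ₗ kerMapPow I f n m h =
      kerMap I f n := rfl

theorem artinRees_le [IsNoetherianRing A] [Module.Finite A M] (K : Submodule A M) :
    ∃ c : ℕ, ∀ n m : ℕ, m + c ≤ n → (I ^ n • ⊤ : Submodule A M) ⊓ K ≤ I ^ m • K := by
  obtain ⟨c, hc⟩ := Ideal.exists_pow_inf_eq_pow_smul I K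
  refine ⟨c, fun n m hnm => ?_⟩
  rw [hc n (by omega)]
  exact Submodule.smul_mono (Ideal.pow_le_pow_right (by omega)) inf_le_right

/-- the short complex `0 → ker g → X → Y → 0`. -/
noncomputable def kerSC (g : M →ₗ[A] N) : ShortComplex (ModuleCat.{u} A) :=
  ShortComplex.mk (ModuleCat.ofHom (LinearMap.ker g).subtype) (ModuleCat.ofHom g) (by
    apply ModuleCat.hom_ext
    apply LinearMap.ext
    intro x
    exact x.2)

theorem kerSC_shortExact (g : M →ₗ[A] N) (hg : Function.Surjective g) : (kerSC g).ShortExact where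
  exact := by
    rw [ShortComplex.moduleCat_exact_iff_range_eq_ker]
    show LinearMap.range (LinearMap.ker g).subtype = LinearMap.ker g
    rw [Submodule.range_subtype]
  mono_f := (ModuleCat.mono_iff_injective _).2 (LinearMap.ker g).injective_subtype
  epi_g := (ModuleCat.epi_iff_surjective _).2 hg

/-- the morphism of short complexes `(ker fₙ → IⁿF → IⁿM) → (ker f → F → M)`. -/
noncomputable def kerSCMap (f : M →ₗ[A] N) (n : ℕ) :
    kerSC (restrictPow I f (le_refl n)) ⟶ kerSC f where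
  τ₁ := ModuleCat.ofHom (kerMap I f n)
  τ₂ := ModuleCat.ofHom (I ^ n • ⊤ : Submodule A M).subtype
  τ₃ := ModuleCat.ofHom (I ^ n • ⊤ : Submodule A N).subtype
  comm₁₂ := by
    apply ModuleCat.hom_ext
    apply LinearMap.ext
    intro x
    rfl
  comm₂₃ := by
    apply ModuleCat.hom_ext
    apply LinearMap.ext
    intro x
    rfl

end Alg

end Groth.Agent.Helper12.ExtAR
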