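import Groth.Agent.Lib.Helper12.ExtAR1

/-!
# Artin–Rees for `Ext^p(M, N) → Ext^p(IⁿM, N)` (helper12)
Derived-category part.
-/

set_option autoImplicit false
universe u

open CategoryTheory Limits DerivedCategory Pretriangulated

attribute [local instance] HasDerivedCategory.standard

namespace Groth.Agent.Helper12.ExtAR

theorem abstract_step {C : Type*} [Category C] [HasShift C ℤ] (p q : ℤ)
    (α : shiftFunctor C q ≅ shiftFunctor C p ⋙ shiftFunctor C (1 : ℤ))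
    {M Mn K Kn K' N N' : C}
    (δn : Mn ⟶ Kn⟦(1 : ℤ)⟧) (δ : M ⟶ K⟦(1 : ℤ)⟧) (iM : Mn ⟶ M) (τ : Kn ⟶ K)
    (hδ : iM ≫ δ = δn ≫ τ⟦(1 : ℤ)⟧')
    (e : M ⟶ N⟦q⟧) (e2 : K⟦(1 : ℤ)⟧ ⟶ N⟦q⟧) (he2 : e = δ ≫ e2)
    (e0 : K ⟶ N⟦p⟧) (he0 : e0⟦(1 : ℤ)⟧' = e2 ≫ α.hom.app N)
    (j : Kn ⟶ K') (iK : K' ⟶ K) (hj : j ≫ iK = τ)
    (e0' : K' ⟶ N'⟦p⟧) (iN : N' ⟶ N) (he0' : e0' ≫ iN⟦p⟧' = iK ≫ e0) :
    (δn ≫ (j ≫ e0')⟦(1 : ℤ)⟧' ≫ α.inv.app N') ≫ iN⟦q⟧' = iM ≫ e := by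
  have hnat := α.inv.naturality iN
  dsimp only [Functor.comp_obj, Functor.comp_map] at hnat
  have s1 : (j ≫ e0')⟦(1 : ℤ)⟧' ≫ (iN⟦p⟧')⟦(1 : ℤ)⟧' = τ⟦(1 : ℤ)⟧' ≫ e2 ≫ α.hom.app N := by
    rw [← Functor.map_comp, Category.assoc, he0', ← Category.assoc, hj, Functor.map_comp, he0]
  calc _ = δn ≫ (j ≫ e0')⟦(1 : ℤ)⟧' ≫ (α.inv.app N' ≫ iN⟦q⟧') := by
        simp only [Category.assoc]
    _ = δn ≫ ((j ≫ e0')⟦(1 : ℤ)⟧' ≫ (iN⟦p⟧')⟦(1 : ℤ)⟧') ≫ α.inv.app N := by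
        rw [← hnat]; simp only [Category.assoc]
    _ = (δn ≫ τ⟦(1 : ℤ)⟧') ≫ e2 := by
        rw [s1]
        simp only [Category.assoc, Iso.hom_inv_id_app, Category.comp_id]
    _ = _ := by
        rw [← hδ, Category.assoc, ← he2]

variable {A : Type u} [CommRing A] (I : Ideal A)
variable (N : Type u) [AddCommGroup N] [Module A N]

/-- `e : M → N[p]` restricted to `IⁿM` factors through `IᵐN[p]`. -/
def Fac (M : Type u) [AddCommGroup M] [Module A M] (p : ℤ) (n m : ℕ)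
    (e : Dual.inD A M ⟶ (Dual.inD A N)⟦p⟧) : Prop :=
  ∃ e' : Dual.inD A ↥(I ^ n • ⊤ : Submodule A M) ⟶
      (Dual.inD A ↥(I ^ m • ⊤ : Submodule A N))⟦p⟧,
    e' ≫ ((singleFunctor (ModuleCat.{u} A) 0).map
        (ModuleCat.ofHom (I ^ m • ⊤ : Submodule A N).subtype))⟦p⟧' =
      (singleFunctor (ModuleCat.{u} A) 0).map
        (ModuleCat.ofHom (I ^ n • ⊤ : Submodule A M).subtype) ≫ e

theorem fac_zero (M : Type u) [AddCommGroup M] [Module A M] (n m : ℕ) (h : m ≤ n)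
    (e : Dual.inD A M ⟶ (Dual.inD A N)⟦((0 : ℕ) : ℤ)⟧) : Fac I N M ((0 : ℕ) : ℤ) n m e := by
  have h0 : ((0 : ℕ) : ℤ) = 0 := rfl
  let z := shiftFunctorZero' (Dual.D A) ((0 : ℕ) : ℤ) h0
  obtain ⟨φ, hφ⟩ := (singleFunctor (ModuleCat.{u} A) 0).map_surjective
    (e ≫ z.hom.app (Dual.inD A N))
  refine ⟨(singleFunctor (ModuleCat.{u} A) 0).map (ModuleCat.ofHom (restrictPow I φ.hom h)) ≫
    z.inv.app (Dual.inD A ↥(I ^ m • ⊤ : Submodule A N)), ?_⟩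
  have hnat := z.inv.naturality ((singleFunctor (ModuleCat.{u} A) 0).map
        (ModuleCat.ofHom (I ^ m • ⊤ : Submodule A N).subtype))
  dsimp only [Functor.id_obj, Functor.id_map] at hnat
  rw [Category.assoc, ← hnat, ← Category.assoc, ← Functor.map_comp]
  have h1 : ModuleCat.ofHom (restrictPow I φ.hom h) ≫
      ModuleCat.ofHom (I ^ m • ⊤ : Submodule A N).subtype =
      ModuleCat.ofHom (I ^ n • ⊤ : Submodule A M).subtype ≫ φ := by
    apply ModuleCat.hom_ext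
    apply LinearMap.ext
    intro x
    rfl
  rw [h1, Functor.map_comp, hφ, Category.assoc, Category.assoc, Iso.hom_inv_id_app,
    Category.comp_id]

theorem ofHom_kerMapPow_comp {M M' : Type u} [AddCommGroup M] [Module A M] [AddCommGroup M']
    [Module A M'] (f : M →ₗ[A] M') (n m : ℕ)
    (h : (I ^ n • ⊤ : Submodule A M) ⊓ LinearMap.ker f ≤ I ^ m • LinearMap.ker f) :
    (ModuleCat.ofHom (kerMapPow I f n m h) :
        ModuleCat.of A ↥(LinearMap.ker (restrictPow I f (le_refl n))) ⟶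
          ModuleCat.of A ↥(I ^ m • ⊤ : Submodule A ↥(LinearMap.ker f))) ≫
      (ModuleCat.ofHom (I ^ m • ⊤ : Submodule A ↥(LinearMap.ker f)).subtype :
        ModuleCat.of A ↥(I ^ m • ⊤ : Submodule A ↥(LinearMap.ker f)) ⟶
          ModuleCat.of A ↥(LinearMap.ker f)) = (kerSCMap I f n).τ₁ := rfl

theorem fac_succ [IsNoetherianRing A] (p : ℕ)
    (IH : ∀ (K : Type u) [AddCommGroup K] [Module A K] [Module.Finite A K],
      ∃ c : ℕ, ∀ n m : ℕ, m + c ≤ n → ∀ e : Dual.inD A K ⟶ (Dual.inD A N)⟦(p : ℤ)⟧,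
        Fac I N K (p : ℤ) n m e)
    (M : Type u) [AddCommGroup M] [Module A M] [Module.Finite A M] :
    ∃ c : ℕ, ∀ n m : ℕ, m + c ≤ n →
      ∀ e : Dual.inD A M ⟶ (Dual.inD A N)⟦((p + 1 : ℕ) : ℤ)⟧,
        Fac I N M ((p + 1 : ℕ) : ℤ) n m e := by
  obtain ⟨k, f, hf⟩ := Module.Finite.exists_fin' A M
  obtain ⟨c1, hc1⟩ := artinRees_le I (LinearMap.ker f)
  obtain ⟨c2, hc2⟩ := IH ↥(LinearMap.ker f)
  refine ⟨c1 + c2, fun n m hnm e => ?_⟩
  have hS := kerSC_shortExact f hf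
  have hT := hS.singleTriangle_distinguished
  have : Projective (ModuleCat.of A (Fin k → A)) :=
    (IsProjective.iff_projective (R := A) (P := (Fin k → A))).1 inferInstance
  have h0 : (singleFunctor (ModuleCat.{u} A) 0).map (ModuleCat.ofHom f) ≫ e = 0 :=
    Groth.Agent.Helper11.DC.single_hom_pos (ModuleCat.of A (Fin k → A)) (ModuleCat.of A N)
      ((p + 1 : ℕ) : ℤ) (by positivity) _
  obtain ⟨e2, he2⟩ := Triangle.yoneda_exact₃ _ hT e h0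
  have hadd : (p : ℤ) + 1 = ((p + 1 : ℕ) : ℤ) := by push_cast; rfl
  let α := shiftFunctorAdd' (Dual.D A) (p : ℤ) 1 ((p + 1 : ℕ) : ℤ) hadd
  obtain ⟨e0, he0⟩ := (shiftFunctor (Dual.D A) (1 : ℤ)).map_surjective
    (e2 ≫ α.hom.app (Dual.inD A N))
  obtain ⟨e0', he0'⟩ := hc2 (m + c2) m le_rfl e0
  have hAR := hc1 n (m + c2) (by omega)
  have hSn := kerSC_shortExact (restrictPow I f (le_refl n)) (restrictPow_surjective I f hf n)
  have hmap := (ShortComplex.ShortExact.singleTriangle.map hSn hS (kerSCMap I f n)).comm₃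
  refine ⟨hSn.singleδ ≫ ((singleFunctor (ModuleCat.{u} A) 0).map
      (ModuleCat.ofHom (kerMapPow I f n (m + c2) hAR)) ≫ e0')⟦(1 : ℤ)⟧' ≫
      α.inv.app (Dual.inD A ↥(I ^ m • ⊤ : Submodule A N)), ?_⟩
  exact abstract_step (C := Dual.D A) (p : ℤ) ((p + 1 : ℕ) : ℤ) α hSn.singleδ hS.singleδ
    ((singleFunctor (ModuleCat.{u} A) 0).map (ModuleCat.ofHom (I ^ n • ⊤ : Submodule A M).subtype))
    ((singleFunctor (ModuleCat.{u} A) 0).map (kerSCMap I f n).τ₁) hmap.symm e e2 he2 e0 he0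
    ((singleFunctor (ModuleCat.{u} A) 0).map (ModuleCat.ofHom (kerMapPow I f n (m + c2) hAR)))
    ((singleFunctor (ModuleCat.{u} A) 0).map
      (ModuleCat.ofHom (I ^ (m + c2) • ⊤ : Submodule A ↥(LinearMap.ker f)).subtype))
    (by rw [← Functor.map_comp]; rfl) e0'
    ((singleFunctor (ModuleCat.{u} A) 0).map (ModuleCat.ofHom (I ^ m • ⊤ : Submodule A N).subtype))
    he0'

theorem fac_main [IsNoetherianRing A] (p : ℕ) :
    ∀ (M : Type u) [AddCommGroup M] [Module A M] [Module.Finite A M],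
      ∃ c : ℕ, ∀ n m : ℕ, m + c ≤ n → ∀ e : Dual.inD A M ⟶ (Dual.inD A N)⟦(p : ℤ)⟧,
        Fac I N M (p : ℤ) n m e := by
  induction p with
  | zero =>
    intro M _ _ _
    exact ⟨0, fun n m h e => fac_zero I N M n m (by omega) e⟩
  | succ p ih =>
    intro M _ _ _
    exact fac_succ I N p ih M

end Groth.Agent.Helper12.ExtAR
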