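import Groth.Agent.Lib.Helper8.LCColim
import Groth.Prelude.Def_Wider
import Mathlib.Algebra.Homology.DerivedCategory.Ext.EnoughProjectives
import Mathlib.Algebra.Homology.DerivedCategory.Ext.EnoughInjectives
import Mathlib.Algebra.Homology.DerivedCategory.Ext.ExactSequences
import Mathlib.Algebra.Category.ModuleCat.Projective
import Mathlib.Algebra.Category.ModuleCat.EnoughInjectives

/-!
# Universal Ext classes and uniform vanishing of transition maps above `cd` (helper12)
-/

set_option autoImplicit false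
universe u

open CategoryTheory Limits Abelian

namespace Groth.Agent.Helper12.ExtCd

section Abstract

variable {C : Type (u + 1)} [Category.{u} C] [Abelian C] [HasExt.{u} C]

theorem shortExact_kernel {P X : C} (π : P ⟶ X) [Epi π] :
    (ShortComplex.mk (kernel.ι π) π (kernel.condition π)).ShortExact :=
  { exact := ShortComplex.exact_kernel π
    mono_f := by dsimp; infer_instance
    epi_g := by dsimp; infer_instance }

theorem shortExact_cokernel {X E : C} (j : X ⟶ E) [Mono j] :
    (ShortComplex.mk j (cokernel.π j) (cokernel.condition j)).ShortExact :=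
  { exact := ShortComplex.exact_cokernel j
    mono_f := by dsimp; infer_instance
    epi_g := by dsimp; infer_instance }

/-- every `Ext^k(X, -)` has a universal class. -/
theorem exists_universal [EnoughProjectives C] (k : ℕ) : ∀ (X : C), ∃ (Ω : C) (ξ : Ext X Ω k),
    ∀ (N : C) (φ : Ext X N k), ∃ g : Ω ⟶ N, φ = ξ.comp (Ext.mk₀ g) (add_zero k) := by
  induction k with
  | zero =>
    intro X
    refine ⟨X, Ext.mk₀ (𝟙 X), fun N φ => ⟨Ext.homEquiv₀ φ, ?_⟩⟩
    rw [Ext.mk₀_comp_mk₀, Category.id_comp, Ext.mk₀_homEquiv₀_apply]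
  | succ k ih =>
    intro X
    have hS := shortExact_kernel (Projective.π X)
    obtain ⟨Ω, ξ', hξ'⟩ := ih (kernel (Projective.π X))
    refine ⟨Ω, hS.extClass.comp ξ' (Nat.add_comm 1 k), fun N φ => ?_⟩
    have h0 : (Ext.mk₀ (Projective.π X)).comp φ (zero_add (k + 1)) = 0 :=
      Ext.eq_zero_of_projective _
    obtain ⟨y, hy⟩ := Ext.contravariant_sequence_exact₃ hS N φ h0 (Nat.add_comm 1 k)
    obtain ⟨g, hg⟩ := hξ' N y
    refine ⟨g, ?_⟩
    rw [← hy, hg, Ext.comp_assoc_of_third_deg_zero]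

/-- dimension shifting in the second variable: if precomposition with `t` kills `Ext^k(X, N)` for
every `N`, it kills `Ext^i(X, N)` for all `i ≥ k` and every `N`. -/
theorem precomp_eq_zero_of_le [EnoughInjectives C] {X' X : C} (t : X' ⟶ X) (k : ℕ)
    (h : ∀ (N : C) (φ : Ext X N k), (Ext.mk₀ t).comp φ (zero_add k) = 0) :
    ∀ (i : ℕ), k ≤ i → ∀ (N : C) (φ : Ext X N i), (Ext.mk₀ t).comp φ (zero_add i) = 0 := by
  intro i hi
  induction i, hi using Nat.le_induction with
  | base => exact h
  | succ i hi ih =>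
    intro N φ
    have hS := shortExact_cokernel (Injective.ι N)
    have h0 : φ.comp (Ext.mk₀ (Injective.ι N)) (add_zero (i + 1)) = 0 :=
      Ext.eq_zero_of_injective _
    obtain ⟨y, hy⟩ := Ext.covariant_sequence_exact₁ X hS φ h0 rfl
    rw [← hy, ← Ext.comp_assoc (Ext.mk₀ t) y hS.extClass (zero_add i) rfl (by omega), ih, Ext.zero_comp]

end Abstract

end Groth.Agent.Helper12.ExtCd

namespace Groth.Agent.Helper12.ExtCd

open Groth.Agent.Helper8.LC

variable {R : Type u} [CommRing R] (I : Ideal R)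

theorem trans_comp {n m k : ℕ} (h : n ≤ m) (h' : m ≤ k) :
    trans I (h.trans h') = trans I h' ≫ trans I h := by
  apply ModuleCat.hom_ext
  apply LinearMap.ext
  intro x
  obtain ⟨x, rfl⟩ := Submodule.Quotient.mk_surjective _ x
  rfl

/-- if `cd(R, I) ≤ e`, then for every `n` there is `m > n` such that `R/I^m → R/I^n` kills
`Ext^i(R/I^n, N)` for all `i > e` and all `N`. -/
theorem exists_transition_kills (e : ℕ) (he : LocCoh.CdLE R I e) (n : ℕ) :
    ∃ (m : ℕ) (hm : n < m), ∀ (N : ModuleCat.{u} R) (i : ℕ), e < i →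
      ∀ φ : Ext (RmodPow I n) N i, (Ext.mk₀ (trans I (Nat.le_of_lt hm))).comp φ (zero_add i) = 0 := by
  obtain ⟨Ω, ξ, hξ⟩ := exists_universal (e + 1) (RmodPow I n)
  have hsub : Subsingleton ((localCohomology I (e + 1)).obj Ω) := he Ω (e + 1) (by omega)
  obtain ⟨m, h, hm⟩ := (ι_eq_zero_iff I (e + 1) Ω n ξ).1 (Subsingleton.elim _ _)
  have hm' : n < max m (n + 1) := by omega
  refine ⟨max m (n + 1), hm', fun N i hi φ => ?_⟩
  have hle : m ≤ max m (n + 1) := le_max_left _ _
  have hT : trans I (Nat.le_of_lt hm') = trans I hle ≫ trans I h := trans_comp I h hle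
  have hξ0 : (Ext.mk₀ (trans I (Nat.le_of_lt hm'))).comp ξ (zero_add (e + 1)) = 0 := by
    rw [hT, ← Ext.mk₀_comp_mk₀_assoc, hm, Ext.comp_zero]
  refine precomp_eq_zero_of_le (trans I (Nat.le_of_lt hm')) (e + 1) (fun N φ => ?_) i (by omega) N φ
  obtain ⟨g, rfl⟩ := hξ N φ
  rw [← Ext.comp_assoc_of_third_deg_zero, hξ0, Ext.zero_comp]

end Groth.Agent.Helper12.ExtCd
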