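import Mathlib
import Groth.Agent.Lib.Helper12.KoszEuler2

/-!
# Long exact `Ext` sequences with linear maps, and the nine-term length identity (helper12)
-/

set_option autoImplicit false
universe u

open CategoryTheory Abelian

namespace Groth.Agent.Helper12.ExtChi

variable {R : Type u} [CommRing R]

/-- precomposition with a morphism, as a linear map -/
noncomputable def pre {X X' : ModuleCat.{u} R} (g : X ⟶ X') (Y : ModuleCat.{u} R) (n : ℕ) :
    Ext X' Y n →ₗ[R] Ext X Y n :=
  (Ext.mk₀ g).precompOfLinear R Y (zero_add n)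

theorem pre_apply {X X' : ModuleCat.{u} R} (g : X ⟶ X') (Y : ModuleCat.{u} R) (n : ℕ)
    (a : Ext X' Y n) : pre g Y n a = (Ext.mk₀ g).comp a (zero_add n) := rfl

/-- postcomposition with a morphism, as a linear map -/
noncomputable def post (X : ModuleCat.{u} R) {Y Y' : ModuleCat.{u} R} (g : Y ⟶ Y') (n : ℕ) :
    Ext X Y n →ₗ[R] Ext X Y' n :=
  (Ext.mk₀ g).postcompOfLinear R X (add_zero n)

theorem post_apply (X : ModuleCat.{u} R) {Y Y' : ModuleCat.{u} R} (g : Y ⟶ Y') (n : ℕ)
    (a : Ext X Y n) : post X g n a = a.comp (Ext.mk₀ g) (add_zero n) := rfl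

theorem pre_comp {X X' X'' : ModuleCat.{u} R} (g : X ⟶ X') (g' : X' ⟶ X'')
    (Y : ModuleCat.{u} R) (n : ℕ) (a : Ext X'' Y n) :
    pre g Y n (pre g' Y n a) = pre (g ≫ g') Y n a := by
  rw [pre_apply, pre_apply, pre_apply, Ext.mk₀_comp_mk₀_assoc]

theorem post_comp (X : ModuleCat.{u} R) {Y Y' Y'' : ModuleCat.{u} R} (g : Y ⟶ Y') (g' : Y' ⟶ Y'')
    (n : ℕ) (a : Ext X Y n) :
    post X g' n (post X g n a) = post X (g ≫ g') n a := by
  rw [post_apply, post_apply, post_apply, Ext.comp_assoc_of_third_deg_zero, Ext.mk₀_comp_mk₀]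

theorem pre_smul_id {X : ModuleCat.{u} R} (Y : ModuleCat.{u} R) (n : ℕ) (x : R) (a : Ext X Y n) :
    pre (x • 𝟙 X) Y n a = x • a := by
  rw [pre_apply, Ext.mk₀_smul, Ext.smul_comp, Ext.mk₀_id_comp]

theorem post_smul_id (X : ModuleCat.{u} R) {Y : ModuleCat.{u} R} (n : ℕ) (x : R) (a : Ext X Y n) :
    post X (x • 𝟙 Y) n a = x • a := by
  rw [post_apply, Ext.mk₀_smul, Ext.comp_smul, Ext.comp_mk₀_id]

section Contra

variable {S : ShortComplex (ModuleCat.{u} R)} (hS : S.ShortExact) (Y : ModuleCat.{u} R)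

/-- the connecting map `Ext^n(X₁,Y) → Ext^{n+1}(X₃,Y)` -/
noncomputable def dl (n : ℕ) : Ext S.X₁ Y n →ₗ[R] Ext S.X₃ Y (n + 1) :=
  hS.extClass.precompOfLinear R Y (add_comm 1 n)

theorem dl_apply (n : ℕ) (a : Ext S.X₁ Y n) :
    dl hS Y n a = hS.extClass.comp a (add_comm 1 n) := rfl

include hS in
theorem exact_pre_pre (n : ℕ) : Function.Exact (pre S.g Y n) (pre S.f Y n) := by
  intro y
  constructor
  · intro hy
    obtain ⟨x, hx⟩ := Ext.contravariant_sequence_exact₂ hS Y y hy
    exact ⟨x, hx⟩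
  · rintro ⟨x, rfl⟩
    rw [pre_comp, S.zero, pre_apply, Ext.mk₀_zero, Ext.zero_comp]

theorem exact_pre_dl (n : ℕ) : Function.Exact (pre S.f Y n) (dl hS Y n) := by
  intro y
  constructor
  · intro hy
    obtain ⟨x, hx⟩ := Ext.contravariant_sequence_exact₁ hS Y y (add_comm 1 n) hy
    exact ⟨x, hx⟩
  · rintro ⟨x, rfl⟩
    rw [dl_apply, pre_apply]
    exact hS.extClass_comp_assoc x

theorem exact_dl_pre (n : ℕ) : Function.Exact (dl hS Y n) (pre S.g Y (n + 1)) := by
  intro y
  constructor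
  · intro hy
    obtain ⟨x, hx⟩ := Ext.contravariant_sequence_exact₃ hS Y y hy (add_comm 1 n)
    exact ⟨x, hx⟩
  · rintro ⟨x, rfl⟩
    rw [dl_apply, pre_apply]
    exact hS.comp_extClass_assoc x (add_comm 1 n)

include hS in
theorem pre_g_zero_injective : Function.Injective (pre S.g Y 0) := by
  have := hS.epi_g
  exact Ext.precomp_mk₀_injective_of_epi Y S.g

include hS in
theorem pre_f_surjective (n : ℕ) (h : Subsingleton (Ext S.X₃ Y (n + 1))) :
    Function.Surjective (pre S.f Y n) := by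
  intro y
  exact (exact_pre_dl hS Y n y).mp (Subsingleton.elim _ _)

include hS in
/-- The nine-term identity (in `ℕ∞`) when `Ext³(X₃, Y) = 0`. -/
theorem nine_term (h3 : Subsingleton (Ext S.X₃ Y 3)) :
    Module.length R (Ext S.X₃ Y 0) + Module.length R (Ext S.X₁ Y 0) +
        Module.length R (Ext S.X₂ Y 1) + Module.length R (Ext S.X₃ Y 2) +
        Module.length R (Ext S.X₁ Y 2) =
      Module.length R (Ext S.X₂ Y 0) + Module.length R (Ext S.X₃ Y 1) +
        Module.length R (Ext S.X₁ Y 1) + Module.length R (Ext S.X₂ Y 2) := by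
  have e1 : Module.length R (Ext S.X₃ Y 0) = Module.length R (LinearMap.range (pre S.g Y 0)) :=
    (KoszEuler.length_range_of_injective _ (pre_g_zero_injective hS Y)).symm
  have e2 := KoszEuler.length_eq_range_add_range _ _ (exact_pre_pre hS Y 0)
  have e3 := KoszEuler.length_eq_range_add_range _ _ (exact_pre_dl hS Y 0)
  have e4 := KoszEuler.length_eq_range_add_range _ _ (exact_dl_pre hS Y 0)
  have e5 := KoszEuler.length_eq_range_add_range _ _ (exact_pre_pre hS Y 1)
  have e6 := KoszEuler.length_eq_range_add_range _ _ (exact_pre_dl hS Y 1)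
  have e7 := KoszEuler.length_eq_range_add_range _ _ (exact_dl_pre hS Y 1)
  have e8 := KoszEuler.length_eq_range_add_range _ _ (exact_pre_pre hS Y 2)
  have e9 : Module.length R (Ext S.X₁ Y 2) = Module.length R (LinearMap.range (pre S.f Y 2)) :=
    (KoszEuler.length_range_of_surjective _ (pre_f_surjective hS Y 2 h3)).symm
  rw [e1, e2, e3, e4, e5, e6, e7, e8, e9]
  ring

end Contra

section Co

variable {S : ShortComplex (ModuleCat.{u} R)} (hS : S.ShortExact) (X : ModuleCat.{u} R)

/-- the connecting map `Ext^n(X,Y₃) → Ext^{n+1}(X,Y₁)` -/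
noncomputable def dr (n : ℕ) : Ext X S.X₃ n →ₗ[R] Ext X S.X₁ (n + 1) :=
  hS.extClass.postcompOfLinear R X rfl

theorem dr_apply (n : ℕ) (a : Ext X S.X₃ n) :
    dr hS X n a = a.comp hS.extClass rfl := rfl

include hS in
theorem exact_post_post (n : ℕ) : Function.Exact (post X S.f n) (post X S.g n) := by
  intro y
  constructor
  · intro hy
    obtain ⟨x, hx⟩ := Ext.covariant_sequence_exact₂ X hS y hy
    exact ⟨x, hx⟩
  · rintro ⟨x, rfl⟩
    rw [post_comp, S.zero, post_apply, Ext.mk₀_zero, Ext.comp_zero]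

theorem exact_post_dr (n : ℕ) : Function.Exact (post X S.g n) (dr hS X n) := by
  intro y
  constructor
  · intro hy
    obtain ⟨x, hx⟩ := Ext.covariant_sequence_exact₃ X hS y rfl hy
    exact ⟨x, hx⟩
  · rintro ⟨x, rfl⟩
    rw [dr_apply, post_apply, Ext.comp_assoc_of_second_deg_zero, hS.comp_extClass, Ext.comp_zero]

include hS in
theorem post_g_surjective (n : ℕ) (h : Subsingleton (Ext X S.X₁ (n + 1))) :
    Function.Surjective (post X S.g n) := by
  intro y
  exact (exact_post_dr hS X n y).mp (Subsingleton.elim _ _)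

end Co

end Groth.Agent.Helper12.ExtChi
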