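import Mathlib
import Groth.Agent.Lib.Lead.Bass5

/-!
# Ext vanishing into a Gorenstein local ring from depth (helper12)

For a Gorenstein local ring `R` of dimension `n` and a finite module `M` with `depth M ≥ t`,
`Ext^i(M, R) = 0` for `i + t > n`.
-/

set_option autoImplicit false
set_option linter.style.haveILetI false
universe u
open CategoryTheory Abelian RingTheory.Sequence LocCoh Pointwise IsLocalRing

namespace Groth.Agent.Helper12.GorLink

open Groth.Agent.Lead.Depth

variable {R : Type u} [CommRing R] [LocCoh.IsGorensteinLocalRing R]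

theorem ext_self_subsingleton_of_depth (n : ℕ) (hn : ringKrullDim R = n) :
    ∀ (t : ℕ) (M : Type u) [AddCommGroup M] [Module R M] [Module.Finite R M],
      (t : ℕ∞) ≤ LocCoh.depth R M → ∀ i : ℕ, n < i + t →
      Subsingleton (Ext (ModuleCat.of R M) (ModuleCat.of R R) i) := by
  intro t
  induction t with
  | zero =>
    intro M _ _ _ _ i hi
    exact gorenstein_ext_subsingleton n hn M i (by omega)
  | succ t ih =>
    intro M _ _ _ hd i hi
    rcases subsingleton_or_nontrivial M with hM | hM
    · exact ext_subsingleton_of_isZero_left (ModuleCat.isZero_of_subsingleton _) _ i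
    · have h1 : ((1 : ℕ) : ℕ∞) ≤ idealDepth (maximalIdeal R) M := by
        rw [← depth_def]
        refine le_trans ?_ hd
        exact_mod_cast Nat.succ_le_succ (Nat.zero_le t)
      obtain ⟨rs, hlen, hreg, hmem⟩ := exists_of_le_idealDepth (maximalIdeal R) M
        (maximalIdeal_smul_top_ne_top M) 1 h1
      obtain ⟨x, rfl⟩ := List.length_eq_one_iff.mp hlen
      have hx : x ∈ maximalIdeal R := hmem x (by simp)
      have hxreg : IsSMulRegular M x := ((isWeaklyRegular_cons_iff M x []).mp hreg).1
      have hx' : IsSMulRegular (ModuleCat.of R M) x := hxreg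
      have hS := hx'.smulShortComplex_shortExact
      have hdq : (t : ℕ∞) ≤ LocCoh.depth R (QuotSMulTop x M) := by
        have h2 := idealDepth_quotSMulTop_add_one (maximalIdeal R) M
          (maximalIdeal_smul_top_ne_top M) x hx hxreg
        rw [depth_def] at hd ⊢
        rw [← h2] at hd
        have h3 : ((t : ℕ∞) + 1) ≤ idealDepth (maximalIdeal R) (QuotSMulTop x M) + 1 := by
          exact_mod_cast hd
        exact (WithTop.add_le_add_iff_right (ENat.one_ne_top)).mp h3
      have h3 : Subsingleton (Ext (ModuleCat.smulShortComplex (ModuleCat.of R M) x).X₃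
          (ModuleCat.of R R) (1 + i)) :=
        ih (QuotSMulTop x M) hdq (1 + i) (by omega)
      refine ext_subsingleton_of_smul_surjective (ModuleCat.of R M) (ModuleCat.of R R) i hx ?_
      intro a
      obtain ⟨x₂, hx₂⟩ := Ext.contravariant_sequence_exact₁ hS (ModuleCat.of R R)
        (show Ext (ModuleCat.smulShortComplex (ModuleCat.of R M) x).X₁ (ModuleCat.of R R) i from a)
        rfl (Subsingleton.elim _ _)
      refine ⟨(show Ext (ModuleCat.of R M) (ModuleCat.of R R) i from x₂), ?_⟩
      rw [← hx₂]
      show _ = (Ext.mk₀ (x • 𝟙 (ModuleCat.of R M))).comp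
        (show Ext (ModuleCat.of R M) (ModuleCat.of R R) i from x₂) (zero_add i)
      rw [Ext.mk₀_smul, Ext.smul_comp, Ext.mk₀_id_comp]

end Groth.Agent.Helper12.GorLink
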