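import Mathlib
import Groth.Agent.Lib.Helper12.GorLink1
import Groth.Agent.Lib.Helper8.Canon11
import Groth.Agent.Lib.Helper21.DepthFin
import Groth.Agent.Lib.Lead.Kap1

/-!
# Linkage modulo a regular sequence in a Gorenstein local ring (helper12)

`A` Gorenstein local of dimension `d`, `I` an ideal with `depth_A (A/I) ≥ d`, `x` regular.
* `colon_span_le`: `((x) : I) ≤ (0 : I) + (x)`.
* `inf_span_le`: `(0 : I) ∩ (x) ≤ (x) (0 : I)`.
* `isSMulRegular_quot`: `x ∈ 𝔪` regular on `A` is regular on `A/I`.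
-/

set_option autoImplicit false
set_option linter.style.haveILetI false
universe u
open CategoryTheory Abelian RingTheory.Sequence LocCoh Pointwise IsLocalRing

namespace Groth.Agent.Helper12.GorLink

open Groth.Agent.Lead.Depth Groth.Agent.Helper8.LC Groth.Agent.Helper8.Canon

variable {A : Type u} [CommRing A] [LocCoh.IsGorensteinLocalRing A]

omit [LocCoh.IsGorensteinLocalRing A] in
theorem isSES_span (x : A) (hx : IsSMulRegular A x) :
    IsSES (x • (LinearMap.id : A →ₗ[A] A)) (Submodule.mkQ (Ideal.span {x})) where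
  inj := hx
  exact := by
    intro a
    rw [Submodule.mkQ_apply, Submodule.Quotient.mk_eq_zero]
    constructor
    · intro h
      obtain ⟨b, rfl⟩ := Ideal.mem_span_singleton'.mp h
      exact ⟨b, by simp [mul_comm]⟩
    · rintro ⟨b, rfl⟩
      exact Ideal.mem_span_singleton'.mpr ⟨b, by simp [mul_comm]⟩
  surj := Submodule.mkQ_surjective _

theorem colon_span_le (d : ℕ) (hd : ringKrullDim A = d) (I : Ideal A)
    (hdep : (d : ℕ∞) ≤ LocCoh.depth A (A ⧸ I)) (x : A) (hx : IsSMulRegular A x) :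
    Submodule.colon (Ideal.span {x}) (I : Set A) ≤
      Submodule.annihilator I ⊔ Ideal.span {x} := by
  intro a ha
  have hext : Subsingleton (Abelian.Ext (ModuleCat.of A (A ⧸ I)) (ModuleCat.of A A) 1) :=
    ext_self_subsingleton_of_depth d hd d (A ⧸ I) hdep 1 (by omega)
  have hS := isSES_span x hx
  have hker : I ≤ LinearMap.ker
      ((Submodule.mkQ (Ideal.span {x})) ∘ₗ (a • (LinearMap.id : A →ₗ[A] A))) := by
    intro b hb
    rw [LinearMap.mem_ker, LinearMap.comp_apply, Submodule.mkQ_apply,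
      Submodule.Quotient.mk_eq_zero]
    have := (Submodule.mem_colon.mp ha) b hb
    simpa using this
  let φ : (A ⧸ I) →ₗ[A] (A ⧸ Ideal.span {x}) := Submodule.liftQ I _ hker
  obtain ⟨ψ, hψ⟩ := exists_lift_of_ext_one hS (A ⧸ I) hext φ
  set y : A := ψ (Submodule.Quotient.mk 1) with hy
  have hyann : y ∈ Submodule.annihilator I := by
    rw [Submodule.mem_annihilator]
    intro b hb
    have h1 : b • y = ψ (b • Submodule.Quotient.mk 1) := by rw [map_smul]
    have h2 : (b • (Submodule.Quotient.mk (1 : A) : A ⧸ I)) = 0 := by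
      rw [← Submodule.Quotient.mk_smul, Submodule.Quotient.mk_eq_zero]
      simpa using hb
    rw [h2, map_zero] at h1
    rw [smul_eq_mul, mul_comm]
    exact h1
  have hya : a - y ∈ Ideal.span {x} := by
    have h1 := congrArg (fun g => g (Submodule.Quotient.mk 1)) hψ
    simp only [LinearMap.comp_apply] at h1
    have h2 : φ (Submodule.Quotient.mk 1) = Submodule.Quotient.mk a := by
      show Submodule.liftQ I _ hker (Submodule.Quotient.mk 1) = _
      rw [Submodule.liftQ_apply]
      simp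
    rw [h2, Submodule.mkQ_apply, ← hy] at h1
    have h3 := (Submodule.Quotient.eq _).mp h1
    have h4 := (Ideal.span {x}).neg_mem h3
    rwa [neg_sub] at h4
  have : a = y + (a - y) := by ring
  rw [this]
  exact Submodule.add_mem_sup hyann hya

omit [LocCoh.IsGorensteinLocalRing A] in
theorem inf_span_le (I : Ideal A) (x : A) (hx : IsSMulRegular A x) :
    Submodule.annihilator I ⊓ Ideal.span {x} ≤ Ideal.span {x} * Submodule.annihilator I := by
  rintro a ⟨ha1, ha2⟩
  obtain ⟨b, rfl⟩ := Ideal.mem_span_singleton'.mp ha2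
  have hb : b ∈ Submodule.annihilator I := by
    have ha1' : b * x ∈ Submodule.annihilator I := ha1
    rw [Submodule.mem_annihilator] at ha1' ⊢
    intro i hi
    have h1 := ha1' i hi
    rw [smul_eq_mul, mul_comm b x, mul_assoc] at h1
    have h2 : x • (b * i) = x • (0 : A) := by rw [smul_eq_mul, h1, smul_zero]
    rw [smul_eq_mul]
    exact hx h2
  rw [mul_comm b x]
  exact Ideal.mul_mem_mul (Ideal.mem_span_singleton_self x) hb

theorem not_le_of_add_one_eq {e : WithBot ℕ∞} {d : ℕ} (h : e + 1 = (d : WithBot ℕ∞)) :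
    ¬ ((d : ℕ) : WithBot ℕ∞) ≤ e := by
  intro hle
  induction e with
  | bot => simp at h
  | coe e =>
    induction e with
    | top =>
      have : ((⊤ : ℕ∞) : WithBot ℕ∞) + 1 = ((⊤ : ℕ∞) : WithBot ℕ∞) := rfl
      rw [this] at h
      have h2 : ((⊤ : ℕ∞) : WithBot ℕ∞) = (((d : ℕ) : ℕ∞) : WithBot ℕ∞) := h
      have h3 := WithBot.coe_injective h2
      exact ENat.top_ne_natCast d h3
    | coe e =>
      have h2 : (((e + 1 : ℕ) : ℕ∞) : WithBot ℕ∞) = (((d : ℕ) : ℕ∞) : WithBot ℕ∞) := by
        have : (((e + 1 : ℕ) : ℕ∞) : WithBot ℕ∞) = (((e : ℕ) : ℕ∞) : WithBot ℕ∞) + 1 := by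
          push_cast; rfl
        rw [this]; exact h
      have h3 : e + 1 = d := by exact_mod_cast h2
      have h4 : (((d : ℕ) : ℕ∞) : WithBot ℕ∞) ≤ (((e : ℕ) : ℕ∞) : WithBot ℕ∞) := hle
      have h5 : d ≤ e := by exact_mod_cast h4
      omega

theorem isSMulRegular_quot (d : ℕ) (hd : ringKrullDim A = d) (I : Ideal A)
    (hdep : (d : ℕ∞) ≤ LocCoh.depth A (A ⧸ I)) (x : A) (hx : IsSMulRegular A x)
    (hxm : x ∈ maximalIdeal A) : IsSMulRegular (A ⧸ I) x := by
  apply Groth.Agent.Lead.Kap.isSMulRegular_of_notMem_ass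
  intro P hP hxP
  have h1 := depth_le_ringKrullDim_quotient_of_mem_associatedPrimes (A ⧸ I) P hP
  have h2 : ((d : ℕ) : WithBot ℕ∞) ≤ ringKrullDim (A ⧸ P) := by
    refine le_trans ?_ h1
    exact_mod_cast hdep
  have h3 : ringKrullDim (A ⧸ P) ≤ ringKrullDim (A ⧸ Ideal.span {x}) :=
    ringKrullDim_le_of_surjective
      (Ideal.Quotient.factor ((Ideal.span_singleton_le_iff_mem P).mpr hxP))
      (Ideal.Quotient.factor_surjective _)
  have h4 := ringKrullDim_quotient_span_singleton_succ_eq_ringKrullDim_of_mem_jacobson hx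
    (by rw [← Ideal.jacobson_bot]; exact (IsLocalRing.maximalIdeal_le_jacobson ⊥) hxm)
  rw [hd] at h4
  exact not_le_of_add_one_eq h4 (h2.trans h3)

end Groth.Agent.Helper12.GorLink
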