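import Mathlib

/-!
# Pure ideal-theoretic step for linkage modulo a regular sequence (helper12)
-/

set_option autoImplicit false
universe u

namespace Groth.Agent.Helper12.GorLink

variable {A : Type u} [CommRing A]

theorem annihilator_map_eq (I : Ideal A) (x : A)
    (h6a : Submodule.colon (Ideal.span {x}) (I : Set A) ≤
      Submodule.annihilator I ⊔ Ideal.span {x}) :
    Submodule.annihilator (I.map (Ideal.Quotient.mk (Ideal.span {x}))) =
      (Submodule.annihilator I).map (Ideal.Quotient.mk (Ideal.span {x})) := by
  set π := Ideal.Quotient.mk (Ideal.span {x}) with hπ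
  have hsurj : Function.Surjective π := Ideal.Quotient.mk_surjective
  apply le_antisymm
  · intro b hb
    obtain ⟨a, rfl⟩ := hsurj b
    rw [Submodule.mem_annihilator] at hb
    have ha : a ∈ Submodule.colon (Ideal.span {x}) (I : Set A) := by
      rw [Submodule.mem_colon]
      intro i hi
      have h1 := hb (π i) (Ideal.mem_map_of_mem π hi)
      rw [smul_eq_mul, ← map_mul] at h1
      rw [smul_eq_mul]
      exact Ideal.Quotient.eq_zero_iff_mem.mp h1
    obtain ⟨y, hy, c, hc, rfl⟩ := Submodule.mem_sup.mp (h6a ha)
    rw [map_add, Ideal.Quotient.eq_zero_iff_mem.mpr hc, add_zero]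
    exact Ideal.mem_map_of_mem π hy
  · intro b hb
    obtain ⟨a, ha, rfl⟩ := (Ideal.mem_map_iff_of_surjective π hsurj).mp hb
    rw [Submodule.mem_annihilator] at ha ⊢
    intro z hz
    obtain ⟨i, hi, rfl⟩ := (Ideal.mem_map_iff_of_surjective π hsurj).mp hz
    have := ha i hi
    rw [smul_eq_mul] at this ⊢
    rw [← map_mul, this, map_zero]

theorem combine (I r : Ideal A) (x : A)
    (h6a : Submodule.colon (Ideal.span {x}) (I : Set A) ≤
      Submodule.annihilator I ⊔ Ideal.span {x})
    (h6b : Submodule.annihilator I ⊓ Ideal.span {x} ≤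
      Ideal.span {x} * Submodule.annihilator I)
    (ih1 : Submodule.annihilator (I.map (Ideal.Quotient.mk (Ideal.span {x}))) ⊔
        r.map (Ideal.Quotient.mk (Ideal.span {x})) =
      Submodule.colon (r.map (Ideal.Quotient.mk (Ideal.span {x})))
        ((I.map (Ideal.Quotient.mk (Ideal.span {x})) : Ideal _) : Set (A ⧸ Ideal.span {x})))
    (ih2 : Submodule.annihilator (I.map (Ideal.Quotient.mk (Ideal.span {x}))) ⊓
        r.map (Ideal.Quotient.mk (Ideal.span {x})) =
      r.map (Ideal.Quotient.mk (Ideal.span {x})) *
        Submodule.annihilator (I.map (Ideal.Quotient.mk (Ideal.span {x})))) :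
    Submodule.annihilator I ⊔ (Ideal.span {x} ⊔ r) =
        Submodule.colon (Ideal.span {x} ⊔ r) (I : Set A) ∧
      Submodule.annihilator I ⊓ (Ideal.span {x} ⊔ r) =
        (Ideal.span {x} ⊔ r) * Submodule.annihilator I := by
  have hann := annihilator_map_eq I x h6a
  set π := Ideal.Quotient.mk (Ideal.span {x}) with hπ
  have hsurj : Function.Surjective π := Ideal.Quotient.mk_surjective
  have hker : ∀ a b : A, π a = π b → a - b ∈ Ideal.span {x} := fun a b h =>
    Ideal.Quotient.eq.mp h
  rw [hann] at ih1 ih2
  constructor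
  · apply le_antisymm
    · apply sup_le
      · intro a ha
        rw [Submodule.mem_annihilator] at ha
        rw [Submodule.mem_colon]
        intro i hi
        rw [ha i hi]
        exact Submodule.zero_mem _
      · intro a ha
        rw [Submodule.mem_colon]
        intro i hi
        rw [smul_eq_mul]
        exact Ideal.mul_mem_right _ _ ha
    · intro a ha
      rw [Submodule.mem_colon] at ha
      have h1 : π a ∈ Submodule.colon (r.map π) ((I.map π : Ideal _) : Set (A ⧸ Ideal.span {x})) := by
        rw [Submodule.mem_colon]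
        intro z hz
        obtain ⟨i, hi, rfl⟩ := (Ideal.mem_map_iff_of_surjective π hsurj).mp hz
        have h2 := ha i hi
        rw [smul_eq_mul] at h2 ⊢
        rw [← map_mul]
        obtain ⟨c, hc, t, ht, hct⟩ := Submodule.mem_sup.mp h2
        rw [← hct, map_add, Ideal.Quotient.eq_zero_iff_mem.mpr hc, zero_add]
        exact Ideal.mem_map_of_mem π ht
      rw [← ih1, ← Ideal.map_sup] at h1
      obtain ⟨b, hb, hba⟩ := (Ideal.mem_map_iff_of_surjective π hsurj).mp h1
      have h3 := hker a b hba.symm
      have : a = b + (a - b) := by ring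
      rw [this]
      obtain ⟨y, hy, t, ht, rfl⟩ := Submodule.mem_sup.mp hb
      have e1 : y + t + (a - (y + t)) = y + ((a - (y + t)) + t) := by ring
      rw [e1]
      exact Submodule.add_mem_sup hy (Submodule.add_mem_sup h3 ht)
  · apply le_antisymm
    · rintro a ⟨ha1, ha2⟩
      have ha1' : a ∈ Submodule.annihilator I := ha1
      have h1 : π a ∈ (Submodule.annihilator I).map π ⊓ r.map π := by
        refine ⟨Ideal.mem_map_of_mem π ha1', ?_⟩
        obtain ⟨c, hc, t, ht, rfl⟩ := Submodule.mem_sup.mp ha2
        rw [SetLike.mem_coe, map_add, Ideal.Quotient.eq_zero_iff_mem.mpr hc, zero_add]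
        exact Ideal.mem_map_of_mem π ht
      rw [ih2, ← Ideal.map_mul] at h1
      obtain ⟨b, hb, hba⟩ := (Ideal.mem_map_iff_of_surjective π hsurj).mp h1
      have h3 := hker a b hba.symm
      have hbann : b ∈ Submodule.annihilator I := Ideal.mul_le_left (I := Submodule.annihilator I) (J := r) (by rw [mul_comm]; exact hb)
      have hcann : a - b ∈ Submodule.annihilator I := Submodule.sub_mem _ ha1' hbann
      have h4 : a - b ∈ Ideal.span {x} * Submodule.annihilator I := h6b ⟨hcann, h3⟩
      have : a = b + (a - b) := by ring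
      rw [this, Ideal.sup_mul, sup_comm]
      exact Submodule.add_mem_sup hb h4
    · rw [inf_comm]
      exact Ideal.mul_le_inf

end Groth.Agent.Helper12.GorLink
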