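import Mathlib
import Groth.Agent.Lib.Helper12.GorLink2
import Groth.Agent.Lib.Helper12.GorLink3
import Groth.Agent.Lib.Lead.Depth17
import Groth.Agent.S0343

/-!
# Linkage modulo a regular sequence in a Gorenstein local ring: the induction (helper12)
-/

set_option autoImplicit false
set_option linter.style.haveILetI false
universe u
open CategoryTheory Abelian RingTheory.Sequence LocCoh Pointwise IsLocalRing

namespace Groth.Agent.Helper12.GorLink

open Groth.Agent.Lead.Depth

section Equiv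

variable {A : Type u} [CommRing A]

theorem map_mkQ_sup_span (J : Ideal A) (f : A) :
    Submodule.map (Submodule.mkQ J) (J ⊔ Ideal.span {f}) =
      f • (⊤ : Submodule A (A ⧸ J)) := by
  ext x
  obtain ⟨x, rfl⟩ := Submodule.Quotient.mk_surjective _ x
  constructor
  · rintro ⟨y, hy, hyx⟩
    obtain ⟨j, hj, w, hw, rfl⟩ := Submodule.mem_sup.mp hy
    obtain ⟨a, rfl⟩ := Ideal.mem_span_singleton'.mp hw
    rw [← hyx, Submodule.mem_smul_pointwise_iff_exists]
    refine ⟨Submodule.Quotient.mk a, trivial, ?_⟩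
    rw [map_add, Submodule.mkQ_apply, Submodule.mkQ_apply,
      (Submodule.Quotient.mk_eq_zero J (x := j)).mpr hj, zero_add, mul_comm]
    rfl
  · intro hx
    obtain ⟨z, -, hz⟩ := (Submodule.mem_smul_pointwise_iff_exists _ _ _).mp hx
    obtain ⟨a, rfl⟩ := Submodule.Quotient.mk_surjective _ z
    exact ⟨f * a, Ideal.mem_sup_right (Ideal.mem_span_singleton'.mpr ⟨a, mul_comm _ _⟩), hz⟩

/-- `A/(J + (f)) ≃ (A/J)/f(A/J)` as `A`-modules. -/
noncomputable def quotSupEquiv (J : Ideal A) (f : A) :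
    (A ⧸ (J ⊔ Ideal.span {f})) ≃ₗ[A] QuotSMulTop f (A ⧸ J) :=
  (Submodule.quotientQuotientEquivQuotient J (J ⊔ Ideal.span {f}) le_sup_left).symm ≪≫ₗ
    Submodule.quotEquivOfEq _ _ (map_mkQ_sup_span J f)

/-- `(A/(x))/I(A/(x)) ≃ A/((x) + I)` as `A`-modules. -/
noncomputable def doubleQuotEquiv (I : Ideal A) (x : A) :
    ((A ⧸ Ideal.span {x}) ⧸ I.map (Ideal.Quotient.mk (Ideal.span {x}))) ≃ₗ[A]
      (A ⧸ (Ideal.span {x} ⊔ I)) :=
  (AlgEquiv.ofRingEquiv (R := A) (f := DoubleQuot.quotQuotEquivQuotSup (Ideal.span {x}) I)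
    (fun a => DoubleQuot.quotQuotEquivQuotSup_quotQuotMk (Ideal.span {x}) I a)).toLinearEquiv

/-- `(A/I)/x(A/I) ≃ (A/(x))/I(A/(x))` as `A`-modules. -/
noncomputable def quotQuotEquiv (I : Ideal A) (x : A) :
    QuotSMulTop x (A ⧸ I) ≃ₗ[A]
      ((A ⧸ Ideal.span {x}) ⧸ I.map (Ideal.Quotient.mk (Ideal.span {x}))) :=
  (quotSupEquiv I x).symm ≪≫ₗ
    Submodule.quotEquivOfEq (I ⊔ Ideal.span {x}) (Ideal.span {x} ⊔ I) (sup_comm _ _) ≪≫ₗ
    (doubleQuotEquiv I x).symm

end Equiv

section Step

variable {A : Type u} [CommRing A] [LocCoh.IsGorensteinLocalRing A]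

theorem depth_step (d : ℕ) (hd : ringKrullDim A = ((d + 1 : ℕ) : WithBot ℕ∞)) (I : Ideal A)
    (hI : I ≠ ⊤) (hdep : ((d + 1 : ℕ) : ℕ∞) ≤ LocCoh.depth A (A ⧸ I)) (x : A)
    (hx : IsSMulRegular A x) (hxm : x ∈ maximalIdeal A)
    [IsLocalRing (A ⧸ Ideal.span {x})] :
    (d : ℕ∞) ≤ LocCoh.depth (A ⧸ Ideal.span {x})
      ((A ⧸ Ideal.span {x}) ⧸ I.map (Ideal.Quotient.mk (Ideal.span {x}))) := by
  haveI : Nontrivial (A ⧸ I) := Ideal.Quotient.nontrivial_iff.mpr hI
  have hreg := isSMulRegular_quot (d + 1) hd I hdep x hx hxm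
  have h2 := idealDepth_quotSMulTop_add_one (maximalIdeal A) (A ⧸ I)
    (maximalIdeal_smul_top_ne_top _) x hxm hreg
  have h3 : (d : ℕ∞) ≤ idealDepth (maximalIdeal A) (QuotSMulTop x (A ⧸ I)) := by
    rw [depth_def, ← h2] at hdep
    have h4 : ((d : ℕ∞) + 1) ≤ idealDepth (maximalIdeal A) (QuotSMulTop x (A ⧸ I)) + 1 := by
      exact_mod_cast hdep
    exact (WithTop.add_le_add_iff_right (ENat.one_ne_top)).mp h4
  rw [idealDepth_congr (maximalIdeal A) (quotQuotEquiv I x),
    Groth.Agent.Helper21.DF.idealDepth_eq_map (B := A ⧸ Ideal.span {x}) (maximalIdeal A)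
      ((A ⧸ Ideal.span {x}) ⧸ I.map (Ideal.Quotient.mk (Ideal.span {x})))] at h3
  have h5 : (maximalIdeal A).map (algebraMap A (A ⧸ Ideal.span {x})) =
      maximalIdeal (A ⧸ Ideal.span {x}) :=
    IsLocalRing.map_maximalIdeal_of_surjective _
      (Ideal.Quotient.mk_surjective (I := Ideal.span {x}))
  rw [h5] at h3
  exact h3

end Step

section Main

theorem link_aux : ∀ (n : ℕ) (A : Type u) [CommRing A] [LocCoh.IsGorensteinLocalRing A]
    (d : ℕ) (_ : ringKrullDim A = d) (I : Ideal A)
    (_ : (d : ℕ∞) ≤ LocCoh.depth A (A ⧸ I)) (xs : List A), xs.length = n →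
    IsWeaklyRegular A xs → (∀ x ∈ xs, x ∈ maximalIdeal A) →
    Submodule.annihilator I ⊔ Ideal.ofList xs = Submodule.colon (Ideal.ofList xs) (I : Set A) ∧
      Submodule.annihilator I ⊓ Ideal.ofList xs = Ideal.ofList xs * Submodule.annihilator I := by
  intro n
  induction n with
  | zero =>
    intro A _ _ d hd I hdep xs hlen hreg hmem
    obtain rfl := List.length_eq_zero_iff.mp hlen
    rw [Ideal.ofList_nil]
    refine ⟨?_, by simp⟩
    rw [sup_bot_eq]
    ext a
    rw [Submodule.mem_annihilator, Submodule.mem_colon]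
    simp
  | succ n ih =>
    intro A _ _ d hd I hdep xs hlen hreg hmem
    obtain ⟨x, xs, rfl⟩ := List.exists_cons_of_length_eq_add_one hlen
    have hlen' : xs.length = n := by simpa using hlen
    by_cases hI : I = ⊤
    · subst hI
      have hann : Submodule.annihilator (⊤ : Ideal A) = ⊥ := by
        rw [eq_bot_iff]
        intro a ha
        rw [Submodule.mem_annihilator] at ha
        have := ha 1 Submodule.mem_top
        simpa using this
      rw [hann]
      refine ⟨?_, by simp⟩
      rw [bot_sup_eq]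
      ext a
      rw [Submodule.mem_colon]
      constructor
      · intro ha s _
        rw [smul_eq_mul]
        exact Ideal.mul_mem_right _ _ ha
      · intro ha
        have := ha 1 (by trivial)
        simpa using this
    · obtain ⟨hxreg, hxs⟩ := (isWeaklyRegular_cons_iff A x xs).mp hreg
      have hxm : x ∈ maximalIdeal A := hmem x (List.mem_cons_self)
      have hne : Ideal.span {x} ≠ ⊤ := by
        intro h
        have h2 : Ideal.span {x} ≤ maximalIdeal A := (Ideal.span_singleton_le_iff_mem _).mpr hxm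
        exact (maximalIdeal.isMaximal A).ne_top (top_le_iff.mp (h ▸ h2))
      haveI : Nontrivial (A ⧸ Ideal.span {x}) := Ideal.Quotient.nontrivial_iff.mpr hne
      haveI : IsLocalRing (A ⧸ Ideal.span {x}) :=
        IsLocalRing.of_surjective' (Ideal.Quotient.mk (Ideal.span {x}))
          Ideal.Quotient.mk_surjective
      haveI : LocCoh.IsGorensteinLocalRing (A ⧸ Ideal.span {x}) :=
        (Groth.Agent.S0343.result A x hxm hxreg).mp inferInstance
      -- dimension
      have h4 := ringKrullDim_quotient_span_singleton_succ_eq_ringKrullDim_of_mem_jacobson hxreg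
        (by rw [← Ideal.jacobson_bot]; exact (IsLocalRing.maximalIdeal_le_jacobson ⊥) hxm)
      obtain ⟨d', hd'⟩ := exists_nat_ringKrullDim (R := A ⧸ Ideal.span {x})
      have hdd : d = d' + 1 := by
        rw [hd, hd'] at h4
        have : (((d' + 1 : ℕ) : ℕ∞) : WithBot ℕ∞) = (((d : ℕ) : ℕ∞) : WithBot ℕ∞) := by
          have e : (((d' + 1 : ℕ) : ℕ∞) : WithBot ℕ∞) = (((d' : ℕ) : ℕ∞) : WithBot ℕ∞) + 1 := by
            push_cast; rfl
          rw [e]; exact h4
        exact_mod_cast this.symm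
      subst hdd
      -- depth
      have hdep' := depth_step d' hd I hI hdep x hxreg hxm
      -- regular sequence on the quotient
      have hreg' : IsWeaklyRegular (A ⧸ Ideal.span {x})
          (xs.map (algebraMap A (A ⧸ Ideal.span {x}))) := by
        rw [isWeaklyRegular_map_algebraMap_iff]
        exact ((quotSpanSelfEquiv x).isWeaklyRegular_congr xs).mpr hxs
      have hmem' : ∀ y ∈ xs.map (algebraMap A (A ⧸ Ideal.span {x})),
          y ∈ maximalIdeal (A ⧸ Ideal.span {x}) := by
        intro y hy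
        obtain ⟨z, hz, rfl⟩ := List.mem_map.mp hy
        have h5 : (maximalIdeal A).map (algebraMap A (A ⧸ Ideal.span {x})) =
            maximalIdeal (A ⧸ Ideal.span {x}) :=
          IsLocalRing.map_maximalIdeal_of_surjective _
            (Ideal.Quotient.mk_surjective (I := Ideal.span {x}))
        rw [← h5]
        exact Ideal.mem_map_of_mem _ (hmem z (List.mem_cons_of_mem _ hz))
      obtain ⟨ih1, ih2⟩ := ih (A ⧸ Ideal.span {x}) d' hd'
        (I.map (Ideal.Quotient.mk (Ideal.span {x}))) hdep'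
        (xs.map (algebraMap A (A ⧸ Ideal.span {x}))) (by simpa using hlen') hreg' hmem'
      have hmapl : Ideal.ofList (xs.map (algebraMap A (A ⧸ Ideal.span {x}))) =
          (Ideal.ofList xs).map (Ideal.Quotient.mk (Ideal.span {x})) := by
        rw [Ideal.map_ofList]; rfl
      rw [hmapl] at ih1 ih2
      have h6a := colon_span_le (d' + 1) hd I hdep x hxreg
      have h6b := inf_span_le I x hxreg
      rw [Ideal.ofList_cons]
      exact combine I (Ideal.ofList xs) x h6a h6b ih1 ih2

end Main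

end Groth.Agent.Helper12.GorLink
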