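import Mathlib

/-!
# Elementwise description of quasi-isomorphisms of (short) complexes of modules
-/

set_option autoImplicit false

open CategoryTheory

namespace Groth.Agent.Helper12.ModHomology

universe v u

variable {R : Type u} [Ring R] {S₁ S₂ : ShortComplex (ModuleCat.{v} R)} (φ : S₁ ⟶ S₂)

theorem g_τ₂ (x : S₁.X₂) : S₂.g (φ.τ₂ x) = φ.τ₃ (S₁.g x) := by
  have := congrArg (fun f => f.hom x) φ.comm₂₃
  exact this

theorem τ₂_f (x : S₁.X₁) : φ.τ₂ (S₁.f x) = S₂.f (φ.τ₁ x) := by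
  have := congrArg (fun f => f.hom x) φ.comm₁₂
  exact this.symm

/-- restriction of `τ₂` to kernels -/
noncomputable def kerMap : LinearMap.ker S₁.g.hom →ₗ[R] LinearMap.ker S₂.g.hom :=
  (φ.τ₂.hom.comp (LinearMap.ker S₁.g.hom).subtype).codRestrict _ (by
    intro x
    rw [LinearMap.mem_ker]
    change S₂.g (φ.τ₂ x.1) = 0
    rw [g_τ₂]
    have : S₁.g x.1 = 0 := x.2
    rw [this, map_zero])

@[simp] theorem kerMap_coe (x : LinearMap.ker S₁.g.hom) : ((kerMap φ x : LinearMap.ker S₂.g.hom) : S₂.X₂) = φ.τ₂ x.1 := rfl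

/-- the induced map on homology modules -/
noncomputable def homMap : (LinearMap.ker S₁.g.hom ⧸ LinearMap.range S₁.moduleCatToCycles) →ₗ[R]
    (LinearMap.ker S₂.g.hom ⧸ LinearMap.range S₂.moduleCatToCycles) :=
  Submodule.mapQ _ _ (kerMap φ) (by
    rintro _ ⟨x, rfl⟩
    refine ⟨φ.τ₁ x, ?_⟩
    apply Subtype.ext
    change S₂.f (φ.τ₁ x) = φ.τ₂ (S₁.f x)
    rw [τ₂_f])

/-- the left homology map data -/
noncomputable def mapData : ShortComplex.LeftHomologyMapData φ S₁.moduleCatLeftHomologyData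
    S₂.moduleCatLeftHomologyData where
  φK := ModuleCat.ofHom (kerMap φ)
  φH := ModuleCat.ofHom (homMap φ)
  commi := by
    ext x
    rfl
  commf' := by
    ext x
    apply Subtype.ext
    change φ.τ₂ (S₁.f x) = S₂.f (φ.τ₁ x)
    rw [τ₂_f]
  commπ := by
    ext x
    rfl

theorem quasiIso_iff_bijective : ShortComplex.QuasiIso φ ↔ Function.Bijective (homMap φ) := by
  rw [(mapData φ).quasiIso_iff]
  change IsIso (ModuleCat.ofHom (homMap φ)) ↔ _
  rw [ConcreteCategory.isIso_iff_bijective]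
  rfl

/-- injectivity on homology, elementwise -/
theorem exists_of_quasiIso [ShortComplex.QuasiIso φ] (x : S₁.X₂) (hx : S₁.g x = 0)
    (h : ∃ y, S₂.f y = φ.τ₂ x) : ∃ z, S₁.f z = x := by
  have hb := (quasiIso_iff_bijective φ).mp inferInstance
  let xk : LinearMap.ker S₁.g.hom := ⟨x, hx⟩
  have h0 : homMap φ (Submodule.Quotient.mk xk) = 0 := by
    change Submodule.Quotient.mk (kerMap φ xk) = 0
    rw [Submodule.Quotient.mk_eq_zero]
    obtain ⟨y, hy⟩ := h
    exact ⟨y, Subtype.ext hy⟩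
  have h1 : (Submodule.Quotient.mk xk : LinearMap.ker S₁.g.hom ⧸ _) = 0 :=
    hb.1 (by rw [h0, map_zero])
  rw [Submodule.Quotient.mk_eq_zero] at h1
  obtain ⟨z, hz⟩ := h1
  exact ⟨z, congrArg Subtype.val hz⟩

/-- surjectivity on homology, elementwise -/
theorem exists_cycle_of_quasiIso [ShortComplex.QuasiIso φ] (y : S₂.X₂) (hy : S₂.g y = 0) :
    ∃ x : S₁.X₂, S₁.g x = 0 ∧ ∃ w, S₂.f w = y - φ.τ₂ x := by
  have hb := (quasiIso_iff_bijective φ).mp inferInstance
  let yk : LinearMap.ker S₂.g.hom := ⟨y, hy⟩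
  obtain ⟨q, hq⟩ := hb.2 (Submodule.Quotient.mk yk)
  obtain ⟨xk, rfl⟩ := Submodule.Quotient.mk_surjective _ q
  refine ⟨xk.1, xk.2, ?_⟩
  have h1 : (Submodule.Quotient.mk (kerMap φ xk) : LinearMap.ker S₂.g.hom ⧸ _) =
      Submodule.Quotient.mk yk := hq
  rw [eq_comm, Submodule.Quotient.eq] at h1
  obtain ⟨w, hw⟩ := h1
  exact ⟨w, congrArg Subtype.val hw⟩

section Complex

variable {ι : Type*} {c : ComplexShape ι} {E F : HomologicalComplex (ModuleCat.{v} R) c} (f : E ⟶ F)

theorem f_d (i j : ι) (x : E.X i) : f.f j (E.d i j x) = F.d i j (f.f i x) := by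
  have := congrArg (fun g => g.hom x) (f.comm i j)
  exact this.symm

theorem d_d (K : HomologicalComplex (ModuleCat.{v} R) c) (i j k : ι) (x : K.X i) :
    K.d j k (K.d i j x) = 0 := by
  have := congrArg (fun g => g.hom x) (K.d_comp_d i j k)
  exact this

theorem d_eq_zero_of_not_rel (K : HomologicalComplex (ModuleCat.{v} R) c) (i j : ι)
    (h : ¬ c.Rel i j) (x : K.X i) : K.d i j x = 0 := by
  rw [K.shape i j h]
  rfl

theorem inj_of_quasiIsoAt (i j k : ι) (hi : c.prev j = i) (hk : c.next j = k) [QuasiIsoAt f j]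
    (x : E.X j) (hx : E.d j k x = 0) (h : ∃ y : F.X i, F.d i j y = f.f j x) :
    ∃ z : E.X i, E.d i j z = x := by
  have : ShortComplex.QuasiIso ((HomologicalComplex.shortComplexFunctor' _ c i j k).map f) :=
    (quasiIsoAt_iff' f i j k hi hk).mp inferInstance
  exact exists_of_quasiIso ((HomologicalComplex.shortComplexFunctor' _ c i j k).map f) x hx h

theorem surj_of_quasiIsoAt (i j k : ι) (hi : c.prev j = i) (hk : c.next j = k) [QuasiIsoAt f j]
    (y : F.X j) (hy : F.d j k y = 0) :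
    ∃ x : E.X j, E.d j k x = 0 ∧ ∃ w : F.X i, F.d i j w = y - f.f j x := by
  have : ShortComplex.QuasiIso ((HomologicalComplex.shortComplexFunctor' _ c i j k).map f) :=
    (quasiIsoAt_iff' f i j k hi hk).mp inferInstance
  exact exists_cycle_of_quasiIso ((HomologicalComplex.shortComplexFunctor' _ c i j k).map f) y hy

end Complex

end Groth.Agent.Helper12.ModHomology
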