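import Mathlib
import Groth.Agent.Lib.Helper12.ExtChi1
import Groth.Agent.Lib.Helper8.Gor8
import Groth.Agent.Lib.Lead.Hom3
import Groth.Agent.Lib.Helper12.MinimalDepthMain
import Groth.Agent.Lib.Helper12.GorLink4

/-!
# Vanishing of the `Ext` Euler characteristic of finite length modules over a two-dimensional
regular local ring (helper12)
-/

set_option autoImplicit false
universe u

open CategoryTheory Abelian IsLocalRing

namespace Groth.Agent.Helper12.ExtChi

variable {R : Type u} [CommRing R]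

/-- `ℓ Hom + ℓ Ext² = ℓ Ext¹` -/
def Chi0 (X Y : ModuleCat.{u} R) : Prop :=
  Module.length R (Ext X Y 0) + Module.length R (Ext X Y 2) = Module.length R (Ext X Y 1)

theorem chi0_X₂ {S : ShortComplex (ModuleCat.{u} R)} (hS : S.ShortExact) (Y : ModuleCat.{u} R)
    (h3 : Subsingleton (Ext S.X₃ Y 3))
    (hf1 : Module.length R (Ext S.X₁ Y 1) ≠ ⊤) (hf3 : Module.length R (Ext S.X₃ Y 1) ≠ ⊤)
    (h1 : Chi0 S.X₁ Y) (h3' : Chi0 S.X₃ Y) : Chi0 S.X₂ Y := by
  have h9 := nine_term hS Y h3
  unfold Chi0 at h1 h3' ⊢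
  have key : (Module.length R (Ext S.X₂ Y 0) + Module.length R (Ext S.X₂ Y 2)) +
      (Module.length R (Ext S.X₁ Y 1) + Module.length R (Ext S.X₃ Y 1)) =
      Module.length R (Ext S.X₂ Y 1) +
        (Module.length R (Ext S.X₁ Y 1) + Module.length R (Ext S.X₃ Y 1)) := by
    calc _ = Module.length R (Ext S.X₂ Y 0) + Module.length R (Ext S.X₃ Y 1) +
          Module.length R (Ext S.X₁ Y 1) + Module.length R (Ext S.X₂ Y 2) := by ring
      _ = _ := h9.symm
      _ = Module.length R (Ext S.X₂ Y 1) +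
          ((Module.length R (Ext S.X₁ Y 0) + Module.length R (Ext S.X₁ Y 2)) +
            (Module.length R (Ext S.X₃ Y 0) + Module.length R (Ext S.X₃ Y 2))) := by ring
      _ = _ := by rw [h1, h3']
  exact ENat.add_left_injective_of_ne_top (WithTop.add_ne_top.mpr ⟨hf1, hf3⟩) key

theorem chi0_X₃ {S : ShortComplex (ModuleCat.{u} R)} (hS : S.ShortExact) (Y : ModuleCat.{u} R)
    (h3 : Subsingleton (Ext S.X₃ Y 3))
    (hf1 : Module.length R (Ext S.X₁ Y 1) ≠ ⊤) (hf2 : Module.length R (Ext S.X₂ Y 1) ≠ ⊤)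
    (h1 : Chi0 S.X₁ Y) (h2 : Chi0 S.X₂ Y) : Chi0 S.X₃ Y := by
  have h9 := nine_term hS Y h3
  unfold Chi0 at h1 h2 ⊢
  have key : (Module.length R (Ext S.X₃ Y 0) + Module.length R (Ext S.X₃ Y 2)) +
      (Module.length R (Ext S.X₁ Y 1) + Module.length R (Ext S.X₂ Y 1)) =
      Module.length R (Ext S.X₃ Y 1) +
        (Module.length R (Ext S.X₁ Y 1) + Module.length R (Ext S.X₂ Y 1)) := by
    calc _ = Module.length R (Ext S.X₃ Y 0) +
          (Module.length R (Ext S.X₁ Y 0) + Module.length R (Ext S.X₁ Y 2)) +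
          Module.length R (Ext S.X₂ Y 1) + Module.length R (Ext S.X₃ Y 2) := by rw [h1]; ring
      _ = Module.length R (Ext S.X₃ Y 0) + Module.length R (Ext S.X₁ Y 0) +
        Module.length R (Ext S.X₂ Y 1) + Module.length R (Ext S.X₃ Y 2) +
        Module.length R (Ext S.X₁ Y 2) := by ring
      _ = _ := h9
      _ = Module.length R (Ext S.X₃ Y 1) + (Module.length R (Ext S.X₁ Y 1) +
          (Module.length R (Ext S.X₂ Y 0) + Module.length R (Ext S.X₂ Y 2))) := by ring
      _ = _ := by rw [h2]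
  exact ENat.add_left_injective_of_ne_top (WithTop.add_ne_top.mpr ⟨hf1, hf2⟩) key

section Finite

variable [IsLocalRing R] [IsNoetherianRing R]

theorem length_ext_ne_top (M N : Type u) [AddCommGroup M] [Module R M] [AddCommGroup N]
    [Module R N] [Module.Finite R M] (hN : IsFiniteLength R N) (i : ℕ) :
    Module.length R (Ext (ModuleCat.of R M) (ModuleCat.of R N) i) ≠ ⊤ := by
  have : IsNoetherian R N := (isFiniteLength_iff_isNoetherian_isArtinian.mp hN).1
  obtain ⟨t, ht⟩ := MinimalDepth.exists_pow_le_annihilator hN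
  rw [Module.length_ne_top_iff]
  apply Groth.Agent.Helper8.Canon.isFiniteLength_of_pow_le_annihilator _ t
  intro x hx
  rw [Module.mem_annihilator]
  intro b
  rw [← post_smul_id]
  have : (x • 𝟙 (ModuleCat.of R N)) = 0 := by
    ext y
    exact Module.mem_annihilator.mp (ht hx) y
  rw [this, post_apply, Ext.mk₀_zero, Ext.comp_zero]

end Finite

section Reg

open Groth.Agent.Helper8.LC

variable [IsRegularLocalRing R] (hdim : ringKrullDim R = 2)

include hdim in
theorem ext3_subsingleton (X Y : ModuleCat.{u} R) : Subsingleton (Ext X Y 3) := by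
  have : HasProjectiveDimensionLT X (2 + 1) :=
    Groth.Agent.Lead.Hom.hasProjectiveDimensionLT_of_isRegularLocalRing (d := 2)
      (by rw [hdim]; rfl) X
  exact HasProjectiveDimensionLT.subsingleton X 3 3 le_rfl Y

omit [IsRegularLocalRing R] in
theorem isSES_smul_mkQ (x : R) (hx : IsSMulRegular R x) :
    IsSES (LinearMap.lsmul R R x) (Submodule.mkQ (Ideal.span {x})) where
  inj := hx
  exact := by
    intro y
    rw [Submodule.mkQ_apply, Submodule.Quotient.mk_eq_zero, Ideal.mem_span_singleton']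
    constructor
    · rintro ⟨a, rfl⟩
      exact ⟨a, by simp [mul_comm]⟩
    · rintro ⟨a, rfl⟩
      exact ⟨a, by simp [mul_comm]⟩
  surj := Submodule.mkQ_surjective _

include hdim in
theorem chi0_quot_regular (x : R) (hx : IsSMulRegular R x) (N : Type u) [AddCommGroup N]
    [Module R N] (hN : IsFiniteLength R N) :
    Chi0 (ModuleCat.of R (R ⧸ Ideal.span {x})) (ModuleCat.of R N) := by
  have hS := isSES_smul_mkQ x hx
  have h9 := nine_term hS.shortExact (ModuleCat.of R N) (ext3_subsingleton hdim _ _)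
  have hproj : Projective (ModuleCat.of R R) :=
    (IsProjective.iff_projective (R := R) (P := R)).1 inferInstance
  have z1 : Module.length R (Ext (ModuleCat.of R R) (ModuleCat.of R N) 1) = 0 := by
    rw [Module.length_eq_zero_iff]
    exact ⟨fun a b => (Ext.eq_zero_of_projective a).trans (Ext.eq_zero_of_projective b).symm⟩
  have z2 : Module.length R (Ext (ModuleCat.of R R) (ModuleCat.of R N) 2) = 0 := by
    rw [Module.length_eq_zero_iff]
    exact ⟨fun a b => (Ext.eq_zero_of_projective a).trans (Ext.eq_zero_of_projective b).symm⟩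
  have hfin := length_ext_ne_top R N hN 0
  change Module.length R (Ext (ModuleCat.of R (R ⧸ Ideal.span {x})) (ModuleCat.of R N) 0) +
      Module.length R (Ext (ModuleCat.of R R) (ModuleCat.of R N) 0) +
      Module.length R (Ext (ModuleCat.of R R) (ModuleCat.of R N) 1) +
      Module.length R (Ext (ModuleCat.of R (R ⧸ Ideal.span {x})) (ModuleCat.of R N) 2) +
      Module.length R (Ext (ModuleCat.of R R) (ModuleCat.of R N) 2) =
      Module.length R (Ext (ModuleCat.of R R) (ModuleCat.of R N) 0) +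
      Module.length R (Ext (ModuleCat.of R (R ⧸ Ideal.span {x})) (ModuleCat.of R N) 1) +
      Module.length R (Ext (ModuleCat.of R R) (ModuleCat.of R N) 1) +
      Module.length R (Ext (ModuleCat.of R R) (ModuleCat.of R N) 2) at h9
  rw [z1, z2, add_zero, add_zero, add_zero, add_zero] at h9
  unfold Chi0
  apply ENat.add_left_injective_of_ne_top hfin
  show _ + _ = _ + _
  rw [add_comm (Module.length R (Ext (ModuleCat.of R (R ⧸ Ideal.span {x})) (ModuleCat.of R N) 1)),
    ← h9]
  ring

omit [IsRegularLocalRing R] in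
theorem chi0_congr_left {A B : Type u} [AddCommGroup A] [Module R A] [AddCommGroup B]
    [Module R B] (e : A ≃ₗ[R] B) (Y : ModuleCat.{u} R) (h : Chi0 (ModuleCat.of R B) Y) :
    Chi0 (ModuleCat.of R A) Y := by
  unfold Chi0 at h ⊢
  rw [← (Groth.Agent.Helper8.Canon.extCongrLeft e Y 0).length_eq,
    ← (Groth.Agent.Helper8.Canon.extCongrLeft e Y 1).length_eq,
    ← (Groth.Agent.Helper8.Canon.extCongrLeft e Y 2).length_eq]
  exact h

include hdim in
theorem chi0_residue (N : Type u) [AddCommGroup N] [Module R N] (hN : IsFiniteLength R N) :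
    Chi0 (ModuleCat.of R (R ⧸ maximalIdeal R)) (ModuleCat.of R N) := by
  have := Groth.Agent.Lead.RLR.isDomain R
  have hsf : (maximalIdeal R).spanFinrank = 2 :=
    Groth.Agent.Lead.RLR.spanFinrank_maximalIdeal_eq_of_dim (n := 2) (by rw [hdim]; rfl)
  have hne : maximalIdeal R ≠ ⊥ := by
    intro h0
    rw [h0, Submodule.spanFinrank_bot] at hsf
    omega
  obtain ⟨x, hxm, hx2⟩ := Groth.Agent.Lead.Hom.exists_mem_maximalIdeal_notMem_sq hne
  have hx0 : x ≠ 0 := fun h => hx2 (h ▸ Ideal.zero_mem _)
  obtain ⟨n', y, hn', hspan⟩ := Groth.Agent.Lead.RLR.exists_generators_of_notMem_sq hxm hx2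
  have hnn : n' = 1 := by omega
  subst hnn
  have := Groth.Agent.Lead.RLR.isLocalRing_quotient
    (Groth.Agent.Lead.RLR.span_singleton_ne_top hxm)
  obtain ⟨hreg, hdimQ⟩ := Groth.Agent.Lead.RLR.isRegularLocalRing_quotient_aux x y hspan hn'
  have := hreg
  have : IsDomain (R ⧸ Ideal.span {x}) := Groth.Agent.Lead.RLR.isDomain _
  have hm : Ideal.span {x} ⊔ Ideal.span {y 0} = maximalIdeal R := by
    rw [← hspan, ← Ideal.span_union]
    congr 1
    ext z
    simp only [Set.union_singleton, Set.mem_insert_iff, Set.mem_singleton_iff, Set.mem_range,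
      Fin.exists_fin_one]
    constructor
    · rintro (h | h)
      · exact Or.inr h.symm
      · exact Or.inl h
    · rintro (h | h)
      · exact Or.inr h
      · exact Or.inl h.symm
  have hy0 : y 0 ∉ Ideal.span {x} := by
    intro h
    have h1 : maximalIdeal R = Ideal.span {x} := by
      rw [← hm]
      exact sup_eq_left.mpr ((Ideal.span_singleton_le_iff_mem _).mpr h)
    have h2 := Groth.Agent.Lead.RLR.spanFinrank_span_singleton_le x
    rw [← h1, hsf] at h2
    omega
  have hregx : IsSMulRegular R x := fun a b h => mul_left_cancel₀ hx0 h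
  have hregy : IsSMulRegular (R ⧸ Ideal.span {x}) (y 0) := by
    intro a b hab
    have h1 : (Ideal.Quotient.mk (Ideal.span {x}) (y 0)) * a =
        (Ideal.Quotient.mk (Ideal.span {x}) (y 0)) * b := hab
    exact mul_left_cancel₀ (by rwa [Ne, Ideal.Quotient.eq_zero_iff_mem]) h1
  have c1 := chi0_quot_regular hdim x hregx N hN
  have hS := isSES_of_injective (f := LinearMap.lsmul R (R ⧸ Ideal.span {x}) (y 0)) hregy
  have hf1 := length_ext_ne_top (R ⧸ Ideal.span {x}) N hN 1
  have c3 := chi0_X₃ hS.shortExact (ModuleCat.of R N) (ext3_subsingleton hdim _ _) hf1 hf1 c1 c1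
  let e : (R ⧸ maximalIdeal R) ≃ₗ[R]
      ((R ⧸ Ideal.span {x}) ⧸ LinearMap.range (LinearMap.lsmul R (R ⧸ Ideal.span {x}) (y 0))) :=
    (Submodule.quotEquivOfEq _ _ hm.symm) ≪≫ₗ
      (Groth.Agent.Helper12.GorLink.quotSupEquiv (Ideal.span {x}) (y 0)) ≪≫ₗ
      (Submodule.quotEquivOfEq _ _ (KoszEuler.range_lsmul (R ⧸ Ideal.span {x}) (y 0)).symm)
  exact chi0_congr_left e _ c3

include hdim in
theorem chi0_of_isFiniteLength (M N : Type u) [AddCommGroup M] [Module R M] [AddCommGroup N]
    [Module R N] (hM : IsFiniteLength R M) (hN : IsFiniteLength R N) :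
    Chi0 (ModuleCat.of R M) (ModuleCat.of R N) := by
  induction hM with
  | of_subsingleton =>
    rename_i M _ _ _
    have h : ∀ i, Module.length R (Ext (ModuleCat.of R M) (ModuleCat.of R N) i) = 0 := by
      intro i
      rw [Module.length_eq_zero_iff]
      exact Groth.Agent.Lead.Depth.ext_subsingleton_of_isZero_left
        (ModuleCat.isZero_of_subsingleton _) _ i
    unfold Chi0
    rw [h 0, h 1, h 2, add_zero]
  | @of_simple_quotient M _ _ N' _ hN' ih =>
    have hS := isSES_subtype_mkQ N'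
    obtain ⟨I, hI, ⟨e⟩⟩ := isSimpleModule_iff_quot_maximal.1
      (inferInstance : IsSimpleModule R (M ⧸ N'))
    obtain rfl : I = maximalIdeal R := IsLocalRing.eq_maximalIdeal hI
    have c3 : Chi0 (ModuleCat.of R (M ⧸ N')) (ModuleCat.of R N) :=
      chi0_congr_left e _ (chi0_residue hdim N hN)
    have : IsNoetherian R N' := (isFiniteLength_iff_isNoetherian_isArtinian.mp hN').1
    have hQ : IsFiniteLength R (M ⧸ N') := by
      rw [← Module.length_ne_top_iff, Module.length_eq_one]
      exact ENat.one_ne_top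
    have : IsNoetherian R (M ⧸ N') := (isFiniteLength_iff_isNoetherian_isArtinian.mp hQ).1
    exact chi0_X₂ hS.shortExact (ModuleCat.of R N) (ext3_subsingleton hdim _ _)
      (length_ext_ne_top N' N hN 1) (length_ext_ne_top (M ⧸ N') N hN 1) ih c3

end Reg

end Groth.Agent.Helper12.ExtChi
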