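import Mathlib
import Groth.Agent.Lib.Helper12.ExtChi2
import Groth.Agent.Lib.Lead.Depth2

/-!
# Duality `ℓ Ext²(M, R/J) = ℓ Hom(R/J, M)` over a two-dimensional regular local ring (helper12)
-/

set_option autoImplicit false
universe u

open CategoryTheory Abelian IsLocalRing

namespace Groth.Agent.Helper12.ExtChi

variable {R : Type u} [CommRing R]

section Abstract

variable {E E1 E2 : Type*} [AddCommGroup E] [Module R E] [AddCommGroup E1] [Module R E1]
  [AddCommGroup E2] [Module R E2]

theorem length_of_factor (j : R) (a : E →ₗ[R] E1) (b : E1 →ₗ[R] E) (c : E →ₗ[R] E2)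
    (ha : Function.Surjective a) (hc : Function.Surjective c) (hbc : Function.Exact b c)
    (hba : ∀ e, b (a e) = j • e) :
    Module.length R E2 = Module.length R (E ⧸ LinearMap.range (LinearMap.lsmul R E j)) := by
  have hker : LinearMap.ker c = LinearMap.range (LinearMap.lsmul R E j) := by
    ext e
    rw [LinearMap.mem_ker, hbc e]
    constructor
    · rintro ⟨e1, rfl⟩
      obtain ⟨e0, rfl⟩ := ha e1
      exact ⟨e0, (hba e0).symm⟩
    · rintro ⟨e0, rfl⟩
      exact ⟨a e0, hba e0⟩
  rw [← (LinearMap.quotKerEquivOfSurjective c hc).length_eq]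
  exact (Submodule.quotEquivOfEq _ _ hker).length_eq

end Abstract

section Hom

variable {M N : Type u} [AddCommGroup M] [Module R M] [AddCommGroup N] [Module R N]

/-- `Hom(N/jN, M) ≃ Hom(N, M[j])`. -/
noncomputable def homQuotEquiv (j : R) :
    ((N ⧸ LinearMap.range (LinearMap.lsmul R N j)) →ₗ[R] M) ≃ₗ[R]
      (N →ₗ[R] ↥(LinearMap.ker (LinearMap.lsmul R M j))) where
  toFun φ := LinearMap.codRestrict _ (φ ∘ₗ (LinearMap.range (LinearMap.lsmul R N j)).mkQ)
    (fun n => by
      rw [LinearMap.mem_ker, LinearMap.lsmul_apply, LinearMap.comp_apply, ← map_smul,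
        ← map_smul]
      have : (LinearMap.range (LinearMap.lsmul R N j)).mkQ (j • n) = 0 := by
        rw [Submodule.mkQ_apply, Submodule.Quotient.mk_eq_zero]
        exact ⟨n, rfl⟩
      rw [this, map_zero])
  map_add' φ ψ := by
    ext n
    rfl
  map_smul' r φ := by
    ext n
    rfl
  invFun ψ := Submodule.liftQ _ ((LinearMap.ker (LinearMap.lsmul R M j)).subtype ∘ₗ ψ)
    (by
      rintro _ ⟨n, rfl⟩
      rw [LinearMap.mem_ker, LinearMap.comp_apply, LinearMap.lsmul_apply, map_smul,
        Submodule.subtype_apply, Submodule.coe_smul]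
      exact (ψ n).2)
  left_inv φ := by
    ext n
    rfl
  right_inv ψ := by
    ext n
    rfl

end Hom

section Step

open Groth.Agent.Helper8.LC

variable [IsRegularLocalRing R] (hdim : ringKrullDim R = 2)
variable (M N : Type u) [AddCommGroup M] [Module R M] [AddCommGroup N] [Module R N]

include hdim in
theorem length_ext_two_quot (j : R) :
    Module.length R (Ext (ModuleCat.of R M)
      (ModuleCat.of R (N ⧸ LinearMap.range (LinearMap.lsmul R N j))) 2) =
    Module.length R (Ext (ModuleCat.of R M) (ModuleCat.of R N) 2 ⧸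
      LinearMap.range (LinearMap.lsmul R (Ext (ModuleCat.of R M) (ModuleCat.of R N) 2) j)) := by
  have hA := isSES_of_surjective (f := (LinearMap.lsmul R N j).rangeRestrict)
    (LinearMap.lsmul R N j).surjective_rangeRestrict
  have hB := isSES_subtype_mkQ (LinearMap.range (LinearMap.lsmul R N j))
  refine length_of_factor j (post (ModuleCat.of R M) hA.sc.g 2)
    (post (ModuleCat.of R M) hB.sc.f 2) (post (ModuleCat.of R M) hB.sc.g 2) ?_ ?_ ?_ ?_
  · exact post_g_surjective hA.shortExact _ 2 (ext3_subsingleton hdim _ _)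
  · exact post_g_surjective hB.shortExact _ 2 (ext3_subsingleton hdim _ _)
  · exact exact_post_post hB.shortExact _ 2
  · intro e
    rw [post_comp]
    have : hA.sc.g ≫ hB.sc.f = j • 𝟙 (ModuleCat.of R N) := by
      ext n
      rfl
    rw [this, post_smul_id]

include hdim in
theorem length_ext_two_ker (j : R) :
    Module.length R (Ext (ModuleCat.of R ↥(LinearMap.ker (LinearMap.lsmul R M j)))
      (ModuleCat.of R N) 2) =
    Module.length R (Ext (ModuleCat.of R M) (ModuleCat.of R N) 2 ⧸
      LinearMap.range (LinearMap.lsmul R (Ext (ModuleCat.of R M) (ModuleCat.of R N) 2) j)) := by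
  have hA := isSES_of_surjective (f := (LinearMap.lsmul R M j).rangeRestrict)
    (LinearMap.lsmul R M j).surjective_rangeRestrict
  have hB := isSES_subtype_mkQ (LinearMap.range (LinearMap.lsmul R M j))
  have hk : LinearMap.ker (LinearMap.lsmul R M j).rangeRestrict =
      LinearMap.ker (LinearMap.lsmul R M j) := LinearMap.ker_rangeRestrict _
  have key : Module.length R (Ext (ModuleCat.of R
      ↥(LinearMap.ker (LinearMap.lsmul R M j).rangeRestrict)) (ModuleCat.of R N) 2) =
    Module.length R (Ext (ModuleCat.of R M) (ModuleCat.of R N) 2 ⧸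
      LinearMap.range (LinearMap.lsmul R (Ext (ModuleCat.of R M) (ModuleCat.of R N) 2) j)) := by
    refine length_of_factor j (pre hB.sc.f (ModuleCat.of R N) 2)
      (pre hA.sc.g (ModuleCat.of R N) 2) (pre hA.sc.f (ModuleCat.of R N) 2) ?_ ?_ ?_ ?_
    · exact pre_f_surjective hB.shortExact _ 2 (ext3_subsingleton hdim _ _)
    · exact pre_f_surjective hA.shortExact _ 2 (ext3_subsingleton hdim _ _)
    · exact exact_pre_pre hA.shortExact _ 2
    · intro e
      rw [pre_comp]
      have : hA.sc.g ≫ hB.sc.f = j • 𝟙 (ModuleCat.of R M) := by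
        ext n
        rfl
      rw [this, pre_smul_id]
  rw [← key]
  exact (Groth.Agent.Helper8.Canon.extCongrLeft (LinearEquiv.ofEq _ _ hk) _ 2).length_eq

end Step

section Dual

/-- `Ext` is invariant under isomorphisms in the second variable -/
noncomputable def extCongrRight (X : ModuleCat.{u} R) {A B : Type u} [AddCommGroup A] [Module R A]
    [AddCommGroup B] [Module R B] (e : A ≃ₗ[R] B) (n : ℕ) :
    Ext X (ModuleCat.of R A) n ≃ₗ[R] Ext X (ModuleCat.of R B) n :=
  LinearEquiv.ofLinearMap (post X (ModuleCat.ofHom e.toLinearMap) n)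
    (post X (ModuleCat.ofHom e.symm.toLinearMap) n)
    (by
      refine LinearMap.ext fun a => ?_
      rw [LinearMap.comp_apply, post_comp, LinearMap.id_apply]
      have : ModuleCat.ofHom e.symm.toLinearMap ≫ ModuleCat.ofHom e.toLinearMap =
          𝟙 (ModuleCat.of R B) := by
        ext x
        exact e.apply_symm_apply x
      rw [this, post_apply, Ext.comp_mk₀_id])
    (by
      refine LinearMap.ext fun a => ?_
      rw [LinearMap.comp_apply, post_comp, LinearMap.id_apply]
      have : ModuleCat.ofHom e.toLinearMap ≫ ModuleCat.ofHom e.symm.toLinearMap =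
          𝟙 (ModuleCat.of R A) := by
        ext x
        exact e.symm_apply_apply x
      rw [this, post_apply, Ext.comp_mk₀_id])

variable (R) in
/-- the duality property `ℓ Ext²(M, N) = ℓ Hom(N, M)` for all finite length `M` -/
def Dual2 (N : Type u) [AddCommGroup N] [Module R N] : Prop :=
  ∀ (M : Type u) [AddCommGroup M] [Module R M], IsFiniteLength R M →
    Module.length R (Ext (ModuleCat.of R M) (ModuleCat.of R N) 2) = Module.length R (N →ₗ[R] M)

theorem dual2_congr {N N' : Type u} [AddCommGroup N] [Module R N] [AddCommGroup N'] [Module R N']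
    (e : N ≃ₗ[R] N') (h : Dual2 R N) : Dual2 R N' := by
  intro M _ _ hM
  rw [← (extCongrRight (ModuleCat.of R M) e 2).length_eq, h M hM]
  exact (LinearEquiv.congrLeft M R e).length_eq

variable [IsRegularLocalRing R] (hdim : ringKrullDim R = 2)

include hdim in
theorem dual2_quot (N : Type u) [AddCommGroup N] [Module R N] (j : R) (h : Dual2 R N) :
    Dual2 R (N ⧸ LinearMap.range (LinearMap.lsmul R N j)) := by
  intro M _ _ hM
  rw [length_ext_two_quot hdim M N j, ← length_ext_two_ker hdim M N j,
    h _ (IsFiniteLength.of_injective hM (Submodule.injective_subtype _))]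
  exact (homQuotEquiv j).length_eq.symm

include hdim in
theorem dual2_self : Dual2 R R := by
  intro M _ _ hM
  have := Groth.Agent.Lead.Depth.isGorensteinLocalRing_of_isRegularLocalRing R
  rw [(Groth.Agent.Helper8.Gor.gorenstein_ext_finiteLength (R := R) (n := 2)
    (by rw [hdim]; rfl) M hM).2]
  exact (LinearMap.ringLmapEquivSelf R R M).length_eq.symm

include hdim in
theorem dual2_quot_span (s : Finset R) : Dual2 R (R ⧸ Ideal.span (s : Set R)) := by
  classical
  induction s using Finset.induction_on with
  | empty =>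
    refine dual2_congr (Submodule.quotEquivOfEqBot _ ?_).symm (dual2_self hdim)
    simp
  | insert j s _ ih =>
    have h1 := dual2_quot hdim _ j ih
    have hs : Ideal.span ((insert j s : Finset R) : Set R) =
        Ideal.span (s : Set R) ⊔ Ideal.span {j} := by
      rw [Finset.coe_insert, Ideal.span_insert, sup_comm]
    refine dual2_congr ?_ h1
    exact (Submodule.quotEquivOfEq _ _
        (KoszEuler.range_lsmul (R ⧸ Ideal.span (s : Set R)) j)) ≪≫ₗ
      (Groth.Agent.Helper12.GorLink.quotSupEquiv (Ideal.span (s : Set R)) j).symm ≪≫ₗ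
      (Submodule.quotEquivOfEq _ _ hs.symm)

include hdim in
theorem dual2_quot_ideal (J : Ideal R) : Dual2 R (R ⧸ J) := by
  obtain ⟨s, hs⟩ := (isNoetherianRing_iff_ideal_fg R).mp inferInstance J
  have := dual2_quot_span hdim s
  rwa [hs] at this

end Dual

section Four

variable {S : ShortComplex (ModuleCat.{u} R)} (hS : S.ShortExact) (Y : ModuleCat.{u} R)

include hS in
theorem four_term (h : Subsingleton (Ext S.X₂ Y 1)) :
    Module.length R (Ext S.X₁ Y 0) + Module.length R (Ext S.X₃ Y 0) =
      Module.length R (Ext S.X₂ Y 0) + Module.length R (Ext S.X₃ Y 1) := by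
  have e1 : Module.length R (Ext S.X₃ Y 0) = Module.length R (LinearMap.range (pre S.g Y 0)) :=
    (KoszEuler.length_range_of_injective _ (pre_g_zero_injective hS Y)).symm
  have e2 := KoszEuler.length_eq_range_add_range _ _ (exact_pre_pre hS Y 0)
  have e3 := KoszEuler.length_eq_range_add_range _ _ (exact_pre_dl hS Y 0)
  have e4 := KoszEuler.length_eq_range_add_range _ _ (exact_dl_pre hS Y 0)
  have e5 : Module.length R (LinearMap.range (pre S.g Y (0 + 1))) = 0 := by
    rw [Module.length_eq_zero_iff]
    exact ⟨fun a b => Subtype.ext (Subsingleton.elim _ _)⟩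
  rw [e1, e2, e3, e4, e5, add_zero]
  ring

end Four

section Colon

theorem length_hom_quot_add_colon (I J : Ideal R) :
    Module.length R ((R ⧸ J) →ₗ[R] (R ⧸ I)) + Module.length R (R ⧸ I.colon (J : Set R)) =
      Module.length R (R ⧸ I) := by
  have hle : I ≤ Submodule.comap (LinearMap.id : R →ₗ[R] R) (I.colon (J : Set R)) := by
    intro x hx
    rw [Submodule.mem_comap, LinearMap.id_apply, Submodule.mem_colon]
    intro s _
    exact I.mul_mem_right s hx
  let g : (R ⧸ I) →ₗ[R] (R ⧸ I.colon (J : Set R)) :=
    Submodule.mapQ I (I.colon (J : Set R)) LinearMap.id hle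
  have hg : Function.Surjective g := by
    intro y
    obtain ⟨r, rfl⟩ := Submodule.Quotient.mk_surjective _ y
    exact ⟨Submodule.Quotient.mk r, rfl⟩
  have hker : LinearMap.ker g = Submodule.torsionBySet R (R ⧸ I) (J : Set R) := by
    ext y
    obtain ⟨r, rfl⟩ := Submodule.Quotient.mk_surjective _ y
    rw [LinearMap.mem_ker, Submodule.mem_torsionBySet_iff]
    change Submodule.Quotient.mk r = 0 ↔ _
    rw [Submodule.Quotient.mk_eq_zero, Submodule.mem_colon]
    constructor
    · intro h a
      rw [← Submodule.Quotient.mk_smul, Submodule.Quotient.mk_eq_zero, smul_eq_mul, mul_comm]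
      exact h a.1 a.2
    · intro h s hs
      have := h ⟨s, hs⟩
      rw [← Submodule.Quotient.mk_smul, Submodule.Quotient.mk_eq_zero, smul_eq_mul,
        mul_comm] at this
      exact this
  have h1 := Module.length_eq_add_of_exact (LinearMap.ker g).subtype g
    (Submodule.injective_subtype _) hg (LinearMap.exact_subtype_ker_map g)
  rw [h1, (Groth.Agent.Helper8.Canon.homQuotEquivTorsion J (R ⧸ I)).length_eq, hker]

end Colon

end Groth.Agent.Helper12.ExtChi
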