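import Mathlib

/-!
# Coordinates in a pushout of commutative rings along a finite free algebra (helper12)
-/

set_option autoImplicit false

universe u

open CategoryTheory CategoryTheory.Limits TensorProduct

namespace Groth.Agent.Helper12.FEtPush

section alg

variable {R C D E : Type u} [CommRing R] [CommRing C] [CommRing D] [CommRing E]
  [Algebra R C] [Algebra R D] (γ : C →+* E) (δ : D →+* E)
  (hpo : IsPushout (CommRingCat.ofHom (algebraMap R D)) (CommRingCat.ofHom (algebraMap R C))
      (CommRingCat.ofHom δ) (CommRingCat.ofHom γ))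

/-- the comparison isomorphism `D ⊗[R] C ≃+* E` of a pushout square of commutative rings -/
noncomputable def tensorEquiv : D ⊗[R] C ≃+* E :=
  ((CommRingCat.isPushout_tensorProduct R D C).isoPushout ≪≫
      hpo.isoPushout.symm).commRingCatIsoToRingEquiv

theorem tensorEquiv_left (d : D) : tensorEquiv γ δ hpo (d ⊗ₜ 1) = δ d := by
  have h2 : (CommRingCat.isPushout_tensorProduct R D C).isoPushout.hom
      (d ⊗ₜ 1) = (pushout.inl (CommRingCat.ofHom (algebraMap R D))
        (CommRingCat.ofHom (algebraMap R C))) d :=
    congr($((CommRingCat.isPushout_tensorProduct R D C).inl_isoPushout_hom).hom d)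
  have h3 := congr($(hpo.inl_isoPushout_inv) d)
  simp only [CommRingCat.hom_comp, RingHom.coe_comp, Function.comp_apply,
    CommRingCat.hom_ofHom] at h3
  change (CommRingCat.Hom.hom hpo.isoPushout.inv)
      ((CommRingCat.Hom.hom (CommRingCat.isPushout_tensorProduct R D C).isoPushout.hom) _) = _
  erw [h2]
  exact h3

theorem tensorEquiv_right (c : C) : tensorEquiv γ δ hpo (1 ⊗ₜ c) = γ c := by
  have h2 : (CommRingCat.isPushout_tensorProduct R D C).isoPushout.hom
      (1 ⊗ₜ c) = (pushout.inr (CommRingCat.ofHom (algebraMap R D))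
        (CommRingCat.ofHom (algebraMap R C))) c :=
    congr($((CommRingCat.isPushout_tensorProduct R D C).inr_isoPushout_hom).hom c)
  have h3 := congr($(hpo.inr_isoPushout_inv) c)
  simp only [CommRingCat.hom_comp, RingHom.coe_comp, Function.comp_apply,
    CommRingCat.hom_ofHom] at h3
  change (CommRingCat.Hom.hom hpo.isoPushout.inv)
      ((CommRingCat.Hom.hom (CommRingCat.isPushout_tensorProduct R D C).isoPushout.hom) _) = _
  erw [h2]
  exact h3

variable {ι : Type*} [Fintype ι] (b : Module.Basis ι R C)

/-- the coordinate map `(ι → D) → E`, `d ↦ ∑ δ (d i) * γ (b i)` -/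
noncomputable def coordMap (d : ι → D) : E := ∑ i, δ (d i) * γ (b i)

theorem coordMap_eq (d : ι → D) :
    coordMap γ δ b d =
      tensorEquiv γ δ hpo ((Algebra.TensorProduct.basis D b).equivFun.symm d) := by
  classical
  rw [Module.Basis.equivFun_symm_apply, map_sum]
  refine Finset.sum_congr rfl (fun i _ => ?_)
  rw [Algebra.TensorProduct.basis_apply, TensorProduct.smul_tmul', smul_eq_mul, mul_one]
  have : (d i ⊗ₜ[R] b i : D ⊗[R] C) = (d i ⊗ₜ 1) * (1 ⊗ₜ b i) := by
    rw [Algebra.TensorProduct.tmul_mul_tmul, mul_one, one_mul]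
  rw [this, map_mul, tensorEquiv_left, tensorEquiv_right]

include hpo in
theorem coordMap_bijective : Function.Bijective (coordMap (E := E) γ δ b) := by
  have : coordMap (E := E) γ δ b =
      (tensorEquiv γ δ hpo) ∘ (Algebra.TensorProduct.basis D b).equivFun.symm := by
    funext d
    exact coordMap_eq γ δ hpo b d
  rw [this]
  exact (tensorEquiv γ δ hpo).bijective.comp (LinearEquiv.bijective _)

end alg

end Groth.Agent.Helper12.FEtPush
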