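import Mathlib
import Groth.Agent.Lib.Helper12.FEtPushA

/-!
# Coordinate functionals in a pushout of commutative rings along a finite projective algebra
(helper12)
-/

set_option autoImplicit false

universe u

open CategoryTheory CategoryTheory.Limits TensorProduct

namespace Groth.Agent.Helper12.FEtPush

section alg

variable {R C D E : Type u} [CommRing R] [CommRing C] [CommRing D] [CommRing E]
  [Algebra R C] [Algebra R D] (γ : C →+* E) (δ : D →+* E)
  (hpo : IsPushout (CommRingCat.ofHom (algebraMap R D)) (CommRingCat.ofHom (algebraMap R C))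
      (CommRingCat.ofHom δ) (CommRingCat.ofHom γ))

theorem tensorEquiv_tmul (d : D) (c : C) : tensorEquiv γ δ hpo (d ⊗ₜ c) = δ d * γ c := by
  have : (d ⊗ₜ[R] c : D ⊗[R] C) = (d ⊗ₜ 1) * (1 ⊗ₜ c) := by
    rw [Algebra.TensorProduct.tmul_mul_tmul, mul_one, one_mul]
  rw [this, map_mul, tensorEquiv_left, tensorEquiv_right]

include hpo in
theorem addHom_ext_of_isPushout' {M : Type*} [AddCommMonoid M] (F G : E →+ M)
    (h : ∀ d x, F (δ d * γ x) = G (δ d * γ x)) : F = G := by
  ext e
  obtain ⟨z, rfl⟩ := (tensorEquiv γ δ hpo).surjective e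
  induction z using TensorProduct.induction_on with
  | zero => simp
  | tmul d x => rw [tensorEquiv_tmul]; exact h d x
  | add a b ha hb => rw [map_add, map_add, map_add, ha, hb]

/-- the coordinate functional attached to a linear functional `l : C → R` -/
noncomputable def coordFun (l : C →ₗ[R] R) : E →+ D :=
  ((TensorProduct.rid R D).toLinearMap.comp (LinearMap.lTensor D l)).toAddMonoidHom.comp
    (tensorEquiv γ δ hpo).symm.toAddMonoidHom

theorem coordFun_apply (l : C →ₗ[R] R) (d : D) (x : C) :
    coordFun γ δ hpo l (δ d * γ x) = d * algebraMap R D (l x) := by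
  rw [← tensorEquiv_tmul γ δ hpo]
  simp only [coordFun, AddMonoidHom.coe_comp, Function.comp_apply]
  change (TensorProduct.rid R D) ((LinearMap.lTensor D l)
    ((tensorEquiv γ δ hpo).symm ((tensorEquiv γ δ hpo) (d ⊗ₜ[R] x)))) = _
  rw [RingEquiv.symm_apply_apply, LinearMap.lTensor_tmul, TensorProduct.rid_tmul,
    Algebra.smul_def, mul_comm]

end alg

/-- dual basis data for a ring map, instance free -/
structure DualData {R C : CommRingCat.{u}} (φ : R ⟶ C) where
  n : ℕ
  c : Fin n → C
  ℓ : Fin n → (C →+ R)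
  lin : ∀ j r x, ℓ j (φ.hom r * x) = r * ℓ j x
  recon : ∀ x, x = ∑ j, φ.hom (ℓ j x) * c j

variable {R C D E : CommRingCat.{u}} {φ : R ⟶ C} {ψ : R ⟶ D} {γ : C ⟶ E} {δ : D ⟶ E}

theorem addHom_ext_of_isPushout (hpo : IsPushout ψ φ δ γ) {M : Type*} [AddCommMonoid M]
    (F G : E →+ M) (h : ∀ d x, F (δ.hom d * γ.hom x) = G (δ.hom d * γ.hom x)) : F = G := by
  letI : Algebra R C := φ.hom.toAlgebra
  letI : Algebra R D := ψ.hom.toAlgebra
  have hpo' : IsPushout (CommRingCat.ofHom (algebraMap R D)) (CommRingCat.ofHom (algebraMap R C))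
      (CommRingCat.ofHom δ.hom) (CommRingCat.ofHom γ.hom) := hpo
  exact addHom_ext_of_isPushout' γ.hom δ.hom hpo' F G h

theorem exists_coordFun (hpo : IsPushout ψ φ δ γ) (dd : DualData φ) :
    ∃ Λ : Fin dd.n → (E →+ D),
      (∀ j d x, Λ j (δ.hom d * γ.hom x) = d * ψ.hom (dd.ℓ j x)) ∧
      (∀ e, e = ∑ j, δ.hom (Λ j e) * γ.hom (dd.c j)) := by
  letI : Algebra R C := φ.hom.toAlgebra
  letI : Algebra R D := ψ.hom.toAlgebra
  have hpo' : IsPushout (CommRingCat.ofHom (algebraMap R D)) (CommRingCat.ofHom (algebraMap R C))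
      (CommRingCat.ofHom δ.hom) (CommRingCat.ofHom γ.hom) := hpo
  let l : Fin dd.n → (C →ₗ[R] R) := fun j =>
    { toFun := dd.ℓ j
      map_add' := (dd.ℓ j).map_add
      map_smul' := fun r x => by
        simp only [Algebra.smul_def, RingHom.id_apply, smul_eq_mul]
        exact dd.lin j r x }
  refine ⟨fun j => coordFun γ.hom δ.hom hpo' (l j), ?_, ?_⟩
  · intro j d x
    exact coordFun_apply γ.hom δ.hom hpo' (l j) d x
  · -- both sides additive in `e`
    have hw : δ.hom.comp ψ.hom = γ.hom.comp φ.hom := by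
      have := hpo.w
      exact congrArg CommRingCat.Hom.hom this
    let F : E →+ E := AddMonoidHom.id E
    let G : E →+ E := ∑ j, ((AddMonoidHom.mulRight (γ.hom (dd.c j))).comp
      (δ.hom.toAddMonoidHom.comp (coordFun γ.hom δ.hom hpo' (l j))))
    have hFG : F = G := by
      apply addHom_ext_of_isPushout hpo
      intro d x
      simp only [F, G, AddMonoidHom.id_apply, AddMonoidHom.finset_sum_apply,
        AddMonoidHom.coe_comp, Function.comp_apply, AddMonoidHom.coe_mulRight,
        RingHom.toAddMonoidHom_eq_coe, AddMonoidHom.coe_coe]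
      have h1 : ∀ j, δ.hom ((coordFun γ.hom δ.hom hpo' (l j)) (δ.hom d * γ.hom x)) *
          γ.hom (dd.c j) = δ.hom d * γ.hom (φ.hom (dd.ℓ j x) * dd.c j) := by
        intro j
        rw [coordFun_apply γ.hom δ.hom hpo' (l j) d x, map_mul, map_mul]
        have : δ.hom (algebraMap R D ((l j) x)) = γ.hom (φ.hom (dd.ℓ j x)) := by
          have := congrArg (fun h : R →+* E => h (dd.ℓ j x)) hw
          exact this
        rw [this]
        ring
      simp only [h1]
      rw [← Finset.mul_sum, ← map_sum, ← dd.recon x]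
    intro e
    have := congrArg (fun H : E →+ E => H e) hFG
    simp only [F, G, AddMonoidHom.id_apply, AddMonoidHom.finset_sum_apply,
      AddMonoidHom.coe_comp, Function.comp_apply, AddMonoidHom.coe_mulRight,
      RingHom.toAddMonoidHom_eq_coe, AddMonoidHom.coe_coe] at this
    exact this

end Groth.Agent.Helper12.FEtPush
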