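import Mathlib
import Groth.Agent.Lib.Helper12.FEtPushA

/-!
# Base change of sections along a finite free morphism, without finiteness on the other leg
(helper12)
-/

set_option autoImplicit false

universe u

open CategoryTheory CategoryTheory.Limits TensorProduct AlgebraicGeometry Opposite
  TopologicalSpace

namespace Groth.Agent.Helper12.FEtPush

/-- instance-free form of `coordMap_bijective` -/
theorem coords_bijective_of_isPushout {R C D E : CommRingCat.{u}} {φ : R ⟶ C} {ψ : R ⟶ D}
    {γ : C ⟶ E} {δ : D ⟶ E} (hpo : IsPushout ψ φ δ γ) {ι : Type} [Fintype ι] (b : ι → C)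
    (hb : Function.Bijective (fun r : ι → R => ∑ i, φ.hom (r i) * b i)) :
    Function.Bijective (fun d : ι → D => ∑ i, δ.hom (d i) * γ.hom (b i)) := by
  classical
  letI : Algebra R C := φ.hom.toAlgebra
  letI : Algebra R D := ψ.hom.toAlgebra
  let L : (ι → R) →ₗ[R] C := Fintype.linearCombination R b
  have hL : Function.Bijective L := by
    have : (L : (ι → R) → C) = fun r : ι → R => ∑ i, φ.hom (r i) * b i := by
      funext r
      simp only [L, Fintype.linearCombination_apply, Algebra.smul_def]
      rfl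
    rw [this]
    exact hb
  let eL : (ι → R) ≃ₗ[R] C := LinearEquiv.ofBijective L hL
  let B : Module.Basis ι R C := Module.Basis.ofEquivFun eL.symm
  have hB : ∀ i, B i = b i := by
    intro i
    simp only [B, Module.Basis.coe_ofEquivFun, LinearEquiv.symm_symm, eL,
      LinearEquiv.ofBijective_apply, L, Fintype.linearCombination_apply]
    rw [Finset.sum_eq_single i]
    · simp
    · intro j _ hj
      simp [Pi.single_apply, hj]
    · intro h
      exact absurd (Finset.mem_univ i) h
  have hpo' : IsPushout (CommRingCat.ofHom (algebraMap R D)) (CommRingCat.ofHom (algebraMap R C))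
      (CommRingCat.ofHom δ.hom) (CommRingCat.ofHom γ.hom) := hpo
  have := coordMap_bijective γ.hom δ.hom hpo' B
  have h2 : coordMap (E := E) γ.hom δ.hom B =
      fun d : ι → D => ∑ i, δ.hom (d i) * γ.hom (b i) := by
    funext d
    simp only [coordMap, hB]
  rw [← h2]
  exact this

section scheme

variable {X S P : Scheme.{u}} (f : X ⟶ S) (p : P ⟶ S)

/-- the open of `P ×_S X` over `p ⁻¹ US` and `W` -/
noncomputable abbrev VW (US : S.Opens) (W : X.Opens) : (pullback p f).Opens :=
  (pullback.snd p f) ⁻¹ᵁ W ⊓ (pullback.fst p f) ⁻¹ᵁ (p ⁻¹ᵁ US)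

theorem VW_le_snd (US : S.Opens) (W : X.Opens) : VW f p US W ≤ (pullback.snd p f) ⁻¹ᵁ W :=
  inf_le_left

theorem VW_le_fst (US : S.Opens) (W : X.Opens) :
    VW f p US W ≤ (pullback.fst p f) ⁻¹ᵁ (p ⁻¹ᵁ US) :=
  inf_le_right

theorem VW_mono (US : S.Opens) {W W' : X.Opens} (h : W' ≤ W) : VW f p US W' ≤ VW f p US W :=
  inf_le_inf_right _ ((pullback.snd p f).preimage_mono h)

/-- coordinates over an affine open `W` of `X` -/
theorem coords_bijective (US : S.Opens) (hUS : IsAffineOpen US)
    (hUT : IsAffineOpen (p ⁻¹ᵁ US)) (W : X.Opens) (hW : IsAffineOpen W) (hWU : W ≤ f ⁻¹ᵁ US)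
    {ι : Type} [Fintype ι] (b : ι → Γ(P, p ⁻¹ᵁ US))
    (hb : Function.Bijective (fun r : ι → Γ(S, US) => ∑ i, (p.app US).hom (r i) * b i)) :
    Function.Bijective (fun d : ι → Γ(X, W) =>
      ∑ i, ((pullback.snd p f).appLE W (VW f p US W) (VW_le_snd f p US W)).hom (d i) *
        ((pullback.fst p f).appLE (p ⁻¹ᵁ US) (VW f p US W) (VW_le_fst f p US W)).hom (b i)) := by
  have H : IsPullback (pullback.snd p f) (pullback.fst p f) f p :=
    (IsPullback.of_hasPullback p f).flip
  have hiso := isIso_pushoutSection_of_isAffineOpen H (US := US) (UT := p ⁻¹ᵁ US) (UX := W)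
    le_rfl hWU (UY := VW f p US W) rfl hUS hUT hW
  have hpo := (isIso_pushoutSection_iff H (US := US) (UT := p ⁻¹ᵁ US) (UX := W)
    le_rfl hWU (UY := VW f p US W) rfl).mp hiso
  refine coords_bijective_of_isPushout hpo b ?_
  have : p.appLE US (p ⁻¹ᵁ US) le_rfl = p.app US := Scheme.Hom.appLE_eq_app p
  rw [this]
  exact hb

end scheme

end Groth.Agent.Helper12.FEtPush
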