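import Mathlib
import Groth.Agent.Lib.Helper12.FEtPushB

/-!
# Sections of `P ×_S X` over an affine open of `S` on which `P` is free (helper12)
-/

set_option autoImplicit false

universe u

open CategoryTheory CategoryTheory.Limits TensorProduct AlgebraicGeometry Opposite
  TopologicalSpace

namespace Groth.Agent.Helper12.FEtPush

theorem appLE_congr_hom {X Y : Scheme.{u}} {f f' : X ⟶ Y} (h : f = f') (U : Y.Opens)
    (V : X.Opens) (e : V ≤ f ⁻¹ᵁ U) : f.appLE U V e = f'.appLE U V (h ▸ e) := by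
  subst h; rfl

section LS

variable {X S P : Scheme.{u}} (f : X ⟶ S) (p : P ⟶ S) (US : S.Opens)
  {ι : Type} [Fintype ι] (b : ι → Γ(P, p ⁻¹ᵁ US))

theorem appLE_square (W : X.Opens) (hWU : W ≤ f ⁻¹ᵁ US) (r : Γ(S, US)) :
    ((pullback.fst p f).appLE (p ⁻¹ᵁ US) (VW f p US W) (VW_le_fst f p US W)).hom
        ((p.app US).hom r) =
      ((pullback.snd p f).appLE W (VW f p US W) (VW_le_snd f p US W)).hom
        ((f.appLE US W hWU).hom r) := by
  have h1 := Scheme.Hom.appLE_comp_appLE (pullback.fst p f) p US (p ⁻¹ᵁ US) (VW f p US W)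
    le_rfl (VW_le_fst f p US W)
  have h2 := Scheme.Hom.appLE_comp_appLE (pullback.snd p f) f US W (VW f p US W)
    hWU (VW_le_snd f p US W)
  have h3 := appLE_congr_hom (pullback.condition (f := p) (g := f)) US (VW f p US W)
    ((VW_le_fst f p US W).trans ((Opens.map (pullback.fst p f).base).map (homOfLE le_rfl)).le)
  rw [Scheme.Hom.appLE_eq_app] at h1
  have e1 : ((pullback.fst p f).appLE (p ⁻¹ᵁ US) (VW f p US W) (VW_le_fst f p US W)).hom
        ((p.app US).hom r) =
      (p.app US ≫ (pullback.fst p f).appLE (p ⁻¹ᵁ US) (VW f p US W)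
        (VW_le_fst f p US W)).hom r := rfl
  have e2 : ((pullback.snd p f).appLE W (VW f p US W) (VW_le_snd f p US W)).hom
        ((f.appLE US W hWU).hom r) =
      (f.appLE US W hWU ≫ (pullback.snd p f).appLE W (VW f p US W)
        (VW_le_snd f p US W)).hom r := rfl
  rw [e1, e2, h1, h2, h3]

/-- the key computation: restriction of `q^*(∑ p^*(r i) b i)` to `VW W` -/
theorem res_app_sum (W : X.Opens) (hWU : W ≤ f ⁻¹ᵁ US) (r : ι → Γ(S, US)) :
    ((pullback p f).presheaf.map (homOfLE (VW_le_fst f p US W)).op).hom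
      (((pullback.fst p f).app (p ⁻¹ᵁ US)).hom (∑ i, (p.app US).hom (r i) * b i)) =
    ∑ i, ((pullback.snd p f).appLE W (VW f p US W) (VW_le_snd f p US W)).hom
          ((f.appLE US W hWU).hom (r i)) *
        ((pullback.fst p f).appLE (p ⁻¹ᵁ US) (VW f p US W) (VW_le_fst f p US W)).hom (b i) := by
  have e0 : ∀ x, ((pullback p f).presheaf.map (homOfLE (VW_le_fst f p US W)).op).hom
      (((pullback.fst p f).app (p ⁻¹ᵁ US)).hom x) =
      ((pullback.fst p f).appLE (p ⁻¹ᵁ US) (VW f p US W) (VW_le_fst f p US W)).hom x :=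
    fun x => rfl
  rw [e0, map_sum]
  refine Finset.sum_congr rfl (fun i _ => ?_)
  rw [map_mul, appLE_square f p US W hWU]

end LS

section LS2

variable {X S P : Scheme.{u}} (f : X ⟶ S) (p : P ⟶ S) (US : S.Opens) (hUS : IsAffineOpen US)
  (hUT : IsAffineOpen (p ⁻¹ᵁ US)) {ι : Type} [Fintype ι] (b : ι → Γ(P, p ⁻¹ᵁ US))
  (hb : Function.Bijective (fun r : ι → Γ(S, US) => ∑ i, (p.app US).hom (r i) * b i))
  (hf : Function.Bijective (f.app US))

theorem exists_affine_nbhd (U : X.Opens) (x : X) (hx : x ∈ U) :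
    ∃ W : X.Opens, IsAffineOpen W ∧ x ∈ W ∧ W ≤ U := by
  obtain ⟨W, hW, hxW, hWU⟩ := Opens.isBasis_iff_nbhd.mp X.isBasis_affineOpens hx
  exact ⟨W, hW, hxW, hWU⟩

include hUS hUT hb hf in
theorem injective_app_fst : Function.Injective ((pullback.fst p f).app (p ⁻¹ᵁ US)) := by
  intro t t' h
  obtain ⟨r, rfl⟩ := hb.2 t
  obtain ⟨r', rfl⟩ := hb.2 t'
  suffices r = r' by rw [this]
  funext i
  apply hf.1
  apply X.IsSheaf.section_ext (U := op (f ⁻¹ᵁ US))
  intro x hx
  obtain ⟨W, hW, hxW, hWU⟩ := exists_affine_nbhd (f ⁻¹ᵁ US) x hx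
  refine ⟨W, hWU, hxW, ?_⟩
  have key := (coords_bijective f p US hUS hUT W hW hWU b hb).1
  have h1 := res_app_sum f p US b W hWU r
  have h2 := res_app_sum f p US b W hWU r'
  dsimp only at h
  rw [h] at h1
  have h3 := key (h1.symm.trans h2)
  exact congrFun h3 i

include hUS hUT hb hf in
theorem surjective_app_fst : Function.Surjective ((pullback.fst p f).app (p ⁻¹ᵁ US)) := by
  intro s
  let 𝒲 := {W : X.Opens // IsAffineOpen W ∧ W ≤ f ⁻¹ᵁ US}
  let sW : ∀ W : 𝒲, Γ(pullback p f, VW f p US W.1) := fun W =>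
    ((pullback p f).presheaf.map (homOfLE (VW_le_fst f p US W.1)).op).hom s
  have hex : ∀ W : 𝒲, ∃ d : ι → Γ(X, W.1),
      (∑ i, ((pullback.snd p f).appLE W.1 (VW f p US W.1) (VW_le_snd f p US W.1)).hom (d i) *
        ((pullback.fst p f).appLE (p ⁻¹ᵁ US) (VW f p US W.1) (VW_le_fst f p US W.1)).hom (b i))
        = sW W :=
    fun W => (coords_bijective f p US hUS hUT W.1 W.2.1 W.2.2 b hb).2 (sW W)
  choose d hd using hex
  -- compatibility
  have hcompat : ∀ (W W' : 𝒲) (h : W'.1 ≤ W.1) (i : ι),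
      (X.presheaf.map (homOfLE h).op).hom (d W i) = d W' i := by
    intro W W' h i
    have key := (coords_bijective f p US hUS hUT W'.1 W'.2.1 W'.2.2 b hb).1
    refine congrFun (key (a₁ := fun i => (X.presheaf.map (homOfLE h).op).hom (d W i))
      (a₂ := d W') ?_) i
    dsimp only
    rw [hd W']
    have hres : sW W' = ((pullback p f).presheaf.map (homOfLE (VW_mono f p US h)).op).hom
        (sW W) := by
      simp only [sW]
      rw [← CommRingCat.comp_apply, ← Functor.map_comp]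
      rfl
    rw [hres, ← hd W, map_sum]
    refine Finset.sum_congr rfl (fun i _ => ?_)
    rw [map_mul]
    congr 1
    · have := Scheme.Hom.map_appLE (pullback.snd p f) (VW_le_snd f p US W'.1) (homOfLE h).op
      have e1 := congr($(this).hom (d W i))
      have := Scheme.Hom.appLE_map (pullback.snd p f) (VW_le_snd f p US W.1)
        (homOfLE (VW_mono f p US h)).op
      have e2 := congr($(this).hom (d W i))
      simp only [CommRingCat.comp_apply] at e1 e2
      rw [e1, e2]
    · have := Scheme.Hom.appLE_map (pullback.fst p f) (VW_le_fst f p US W.1)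
        (homOfLE (VW_mono f p US h)).op
      have e2 := congr($(this).hom (b i))
      simp only [CommRingCat.comp_apply] at e2
      rw [e2]
  -- gluing
  have hcover : f ⁻¹ᵁ US ≤ ⨆ W : 𝒲, W.1 := by
    intro x hx
    obtain ⟨W, hW, hxW, hWU⟩ := exists_affine_nbhd (f ⁻¹ᵁ US) x hx
    exact Opens.mem_iSup.mpr ⟨⟨W, hW, hWU⟩, hxW⟩
  have hglue : ∀ i : ι, ∃ w : Γ(X, f ⁻¹ᵁ US), ∀ W : 𝒲,
      (X.presheaf.map (homOfLE W.2.2).op).hom w = d W i := by
    intro i
    have hc : TopCat.Presheaf.IsCompatible X.sheaf.1 (fun W : 𝒲 => W.1) (fun W => d W i) := by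
      intro W W'
      apply X.IsSheaf.section_ext (U := op (W.1 ⊓ W'.1))
      intro x hx
      obtain ⟨W'', hW'', hxW'', hW''U⟩ := exists_affine_nbhd (W.1 ⊓ W'.1) x hx
      refine ⟨W'', hW''U, hxW'', ?_⟩
      let W3 : 𝒲 := ⟨W'', hW'', hW''U.trans (inf_le_left.trans W.2.2)⟩
      have h1 := hcompat W W3 (hW''U.trans inf_le_left) i
      have h2 := hcompat W' W3 (hW''U.trans inf_le_right) i
      change (X.presheaf.map (homOfLE hW''U).op).hom
          ((X.presheaf.map (Opens.infLELeft W.1 W'.1).op).hom (d W i)) =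
        (X.presheaf.map (homOfLE hW''U).op).hom
          ((X.presheaf.map (Opens.infLERight W.1 W'.1).op).hom (d W' i))
      rw [← CommRingCat.comp_apply, ← CommRingCat.comp_apply, ← Functor.map_comp,
        ← Functor.map_comp]
      exact h1.trans h2.symm
    obtain ⟨w, hw, -⟩ := X.sheaf.existsUnique_gluing' (fun W : 𝒲 => W.1) (f ⁻¹ᵁ US)
      (fun W => homOfLE W.2.2) hcover (fun W => d W i) hc
    exact ⟨w, hw⟩
  choose w hw using hglue
  choose r hr using fun i => hf.2 (w i)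
  refine ⟨∑ i, (p.app US).hom (r i) * b i, ?_⟩
  apply (pullback p f).IsSheaf.section_ext (U := op ((pullback.fst p f) ⁻¹ᵁ (p ⁻¹ᵁ US)))
  intro y hy
  have hgy : (pullback.snd p f).base y ∈ f ⁻¹ᵁ US := by
    have h1 : (pullback.fst p f ≫ p).base y ∈ US := hy
    rw [pullback.condition] at h1
    exact h1
  obtain ⟨W, hW, hxW, hWU⟩ := exists_affine_nbhd (f ⁻¹ᵁ US) _ hgy
  refine ⟨VW f p US W, VW_le_fst f p US W, ⟨hxW, hy⟩, ?_⟩
  have h1 := res_app_sum f p US b W hWU r
  refine h1.trans ?_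
  have h2 : ∀ i, (f.appLE US W hWU).hom (r i) = d ⟨W, hW, hWU⟩ i := by
    intro i
    rw [← hw i ⟨W, hW, hWU⟩, ← hr i]
    rfl
  simp only [h2]
  exact hd ⟨W, hW, hWU⟩

include hUS hUT hb hf in
theorem bijective_app_fst : Function.Bijective ((pullback.fst p f).app (p ⁻¹ᵁ US)) :=
  ⟨injective_app_fst f p US hUS hUT b hb hf, surjective_app_fst f p US hUS hUT b hb hf⟩

end LS2

end Groth.Agent.Helper12.FEtPush
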