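import Mathlib
import Groth.Agent.Lib.Helper12.FEtPushC
import Groth.Agent.Lib.Helper12.FEtProjA

/-!
# Sections of `P ×_S X` over an affine open of `S` on which `P` is finite projective (helper12)
-/

set_option autoImplicit false

universe u

open CategoryTheory CategoryTheory.Limits TensorProduct AlgebraicGeometry Opposite
  TopologicalSpace

namespace Groth.Agent.Helper12.FEtPush

section LSB

variable {X S P : Scheme.{u}} (f : X ⟶ S) (p : P ⟶ S) (US : S.Opens) (hUS : IsAffineOpen US)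
  (hUT : IsAffineOpen (p ⁻¹ᵁ US)) (dd : DualData (p.app US))
  (hf : Function.Bijective (f.app US))

include hUS hUT in
theorem isPushout_sections (W : X.Opens) (hW : IsAffineOpen W) (hWU : W ≤ f ⁻¹ᵁ US) :
    IsPushout (f.appLE US W hWU) (p.app US)
      ((pullback.snd p f).appLE W (VW f p US W) (VW_le_snd f p US W))
      ((pullback.fst p f).appLE (p ⁻¹ᵁ US) (VW f p US W) (VW_le_fst f p US W)) := by
  have H : IsPullback (pullback.snd p f) (pullback.fst p f) f p :=
    (IsPullback.of_hasPullback p f).flip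
  have hiso := isIso_pushoutSection_of_isAffineOpen H (US := US) (UT := p ⁻¹ᵁ US) (UX := W)
    le_rfl hWU (UY := VW f p US W) rfl hUS hUT hW
  have hpo := (isIso_pushoutSection_iff H (US := US) (UT := p ⁻¹ᵁ US) (UX := W)
    le_rfl hWU (UY := VW f p US W) rfl).mp hiso
  have : p.appLE US (p ⁻¹ᵁ US) le_rfl = p.app US := Scheme.Hom.appLE_eq_app p
  rw [this] at hpo
  exact hpo

theorem res_snd_appLE {W W' : X.Opens} (h : W' ≤ W) (d : Γ(X, W)) :
    ((pullback p f).presheaf.map (homOfLE (VW_mono f p US h)).op).hom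
      (((pullback.snd p f).appLE W (VW f p US W) (VW_le_snd f p US W)).hom d) =
    ((pullback.snd p f).appLE W' (VW f p US W') (VW_le_snd f p US W')).hom
      ((X.presheaf.map (homOfLE h).op).hom d) := by
  have := Scheme.Hom.map_appLE (pullback.snd p f) (VW_le_snd f p US W') (homOfLE h).op
  have e1 := congr($(this).hom d)
  have := Scheme.Hom.appLE_map (pullback.snd p f) (VW_le_snd f p US W)
    (homOfLE (VW_mono f p US h)).op
  have e2 := congr($(this).hom d)
  simp only [CommRingCat.comp_apply] at e1 e2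
  rw [e1, e2]

theorem res_fst_appLE {W W' : X.Opens} (h : W' ≤ W) (x : Γ(P, p ⁻¹ᵁ US)) :
    ((pullback p f).presheaf.map (homOfLE (VW_mono f p US h)).op).hom
      (((pullback.fst p f).appLE (p ⁻¹ᵁ US) (VW f p US W) (VW_le_fst f p US W)).hom x) =
    ((pullback.fst p f).appLE (p ⁻¹ᵁ US) (VW f p US W') (VW_le_fst f p US W')).hom x := by
  have := Scheme.Hom.appLE_map (pullback.fst p f) (VW_le_fst f p US W)
    (homOfLE (VW_mono f p US h)).op
  have e2 := congr($(this).hom x)
  simp only [CommRingCat.comp_apply] at e2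
  rw [e2]

theorem res_appLE {W W' : X.Opens} (h : W' ≤ W) (hWU : W ≤ f ⁻¹ᵁ US) (r : Γ(S, US)) :
    (X.presheaf.map (homOfLE h).op).hom ((f.appLE US W hWU).hom r) =
      (f.appLE US W' (h.trans hWU)).hom r := by
  have := Scheme.Hom.appLE_map f hWU (homOfLE h).op
  have e2 := congr($(this).hom r)
  simp only [CommRingCat.comp_apply] at e2
  rw [e2]

include hUS hUT hf dd in
theorem bijective_app_fst_of_dualData :
    Function.Bijective ((pullback.fst p f).app (p ⁻¹ᵁ US)) := by
  let 𝒲 := {W : X.Opens // IsAffineOpen W ∧ W ≤ f ⁻¹ᵁ US}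
  have hex : ∀ W : 𝒲, ∃ Λ : Fin dd.n → (Γ(pullback p f, VW f p US W.1) →+ Γ(X, W.1)),
      (∀ j d x, Λ j (((pullback.snd p f).appLE W.1 (VW f p US W.1) (VW_le_snd f p US W.1)).hom d *
        ((pullback.fst p f).appLE (p ⁻¹ᵁ US) (VW f p US W.1) (VW_le_fst f p US W.1)).hom x) =
          d * (f.appLE US W.1 W.2.2).hom (dd.ℓ j x)) ∧
      (∀ e, e = ∑ j,
        ((pullback.snd p f).appLE W.1 (VW f p US W.1) (VW_le_snd f p US W.1)).hom (Λ j e) *
        ((pullback.fst p f).appLE (p ⁻¹ᵁ US) (VW f p US W.1) (VW_le_fst f p US W.1)).hom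
          (dd.c j)) :=
    fun W => exists_coordFun (isPushout_sections f p US hUS hUT W.1 W.2.1 W.2.2) dd
  choose Λ ha hb using hex
  -- naturality
  have hnat : ∀ (W W' : 𝒲) (h : W'.1 ≤ W.1) (j : Fin dd.n)
      (e : Γ(pullback p f, VW f p US W.1)),
      (X.presheaf.map (homOfLE h).op).hom (Λ W j e) =
        Λ W' j (((pullback p f).presheaf.map (homOfLE (VW_mono f p US h)).op).hom e) := by
    intro W W' h j e
    let F : Γ(pullback p f, VW f p US W.1) →+ Γ(X, W'.1) :=
      (X.presheaf.map (homOfLE h).op).hom.toAddMonoidHom.comp (Λ W j)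
    let G : Γ(pullback p f, VW f p US W.1) →+ Γ(X, W'.1) :=
      (Λ W' j).comp ((pullback p f).presheaf.map (homOfLE (VW_mono f p US h)).op).hom.toAddMonoidHom
    have hFG : F = G := by
      apply addHom_ext_of_isPushout (isPushout_sections f p US hUS hUT W.1 W.2.1 W.2.2)
      intro d x
      simp only [F, G, AddMonoidHom.coe_comp, Function.comp_apply,
        RingHom.toAddMonoidHom_eq_coe, AddMonoidHom.coe_coe]
      rw [ha W j d x, map_mul, map_mul, res_snd_appLE f p US h d, res_fst_appLE f p US h x,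
        ha W' j, res_appLE f US h W.2.2]
    exact congrArg (fun H : Γ(pullback p f, VW f p US W.1) →+ Γ(X, W'.1) => H e) hFG
  constructor
  · -- injectivity
    intro t t' h
    rw [dd.recon t, dd.recon t']
    suffices ∀ j, dd.ℓ j t = dd.ℓ j t' by simp only [this]
    intro j
    apply hf.1
    apply X.IsSheaf.section_ext (U := op (f ⁻¹ᵁ US))
    intro x hx
    obtain ⟨W, hW, hxW, hWU⟩ := exists_affine_nbhd (f ⁻¹ᵁ US) x hx
    refine ⟨W, hWU, hxW, ?_⟩
    have h1 := ha ⟨W, hW, hWU⟩ j 1 t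
    have h2 := ha ⟨W, hW, hWU⟩ j 1 t'
    rw [map_one, one_mul, one_mul] at h1 h2
    have h3 : ((pullback.fst p f).appLE (p ⁻¹ᵁ US) (VW f p US W) (VW_le_fst f p US W)).hom t =
        ((pullback.fst p f).appLE (p ⁻¹ᵁ US) (VW f p US W) (VW_le_fst f p US W)).hom t' := by
      change ((pullback p f).presheaf.map (homOfLE (VW_le_fst f p US W)).op).hom
          (((pullback.fst p f).app (p ⁻¹ᵁ US)).hom t) =
        ((pullback p f).presheaf.map (homOfLE (VW_le_fst f p US W)).op).hom
          (((pullback.fst p f).app (p ⁻¹ᵁ US)).hom t')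
      rw [show ((pullback.fst p f).app (p ⁻¹ᵁ US)).hom t =
        ((pullback.fst p f).app (p ⁻¹ᵁ US)).hom t' from h]
    rw [h3] at h1
    exact h1.symm.trans h2
  · -- surjectivity
    intro s
    let sW : ∀ W : 𝒲, Γ(pullback p f, VW f p US W.1) := fun W =>
      ((pullback p f).presheaf.map (homOfLE (VW_le_fst f p US W.1)).op).hom s
    have hres : ∀ (W W' : 𝒲) (h : W'.1 ≤ W.1),
        ((pullback p f).presheaf.map (homOfLE (VW_mono f p US h)).op).hom (sW W) = sW W' := by
      intro W W' h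
      simp only [sW]
      rw [← CommRingCat.comp_apply, ← Functor.map_comp]
      rfl
    let d : ∀ W : 𝒲, Fin dd.n → Γ(X, W.1) := fun W j => Λ W j (sW W)
    have hcompat : ∀ (W W' : 𝒲) (h : W'.1 ≤ W.1) (j : Fin dd.n),
        (X.presheaf.map (homOfLE h).op).hom (d W j) = d W' j := by
      intro W W' h j
      simp only [d]
      rw [hnat W W' h j, hres W W' h]
    have hcover : f ⁻¹ᵁ US ≤ ⨆ W : 𝒲, W.1 := by
      intro x hx
      obtain ⟨W, hW, hxW, hWU⟩ := exists_affine_nbhd (f ⁻¹ᵁ US) x hx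
      exact Opens.mem_iSup.mpr ⟨⟨W, hW, hWU⟩, hxW⟩
    have hglue : ∀ j : Fin dd.n, ∃ w : Γ(X, f ⁻¹ᵁ US), ∀ W : 𝒲,
        (X.presheaf.map (homOfLE W.2.2).op).hom w = d W j := by
      intro j
      have hc : TopCat.Presheaf.IsCompatible X.sheaf.1 (fun W : 𝒲 => W.1) (fun W => d W j) := by
        intro W W'
        apply X.IsSheaf.section_ext (U := op (W.1 ⊓ W'.1))
        intro x hx
        obtain ⟨W'', hW'', hxW'', hW''U⟩ := exists_affine_nbhd (W.1 ⊓ W'.1) x hx
        refine ⟨W'', hW''U, hxW'', ?_⟩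
        let W3 : 𝒲 := ⟨W'', hW'', hW''U.trans (inf_le_left.trans W.2.2)⟩
        have h1 := hcompat W W3 (hW''U.trans inf_le_left) j
        have h2 := hcompat W' W3 (hW''U.trans inf_le_right) j
        change (X.presheaf.map (homOfLE hW''U).op).hom
            ((X.presheaf.map (Opens.infLELeft W.1 W'.1).op).hom (d W j)) =
          (X.presheaf.map (homOfLE hW''U).op).hom
            ((X.presheaf.map (Opens.infLERight W.1 W'.1).op).hom (d W' j))
        rw [← CommRingCat.comp_apply, ← CommRingCat.comp_apply, ← Functor.map_comp,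
          ← Functor.map_comp]
        exact h1.trans h2.symm
      obtain ⟨w, hw, -⟩ := X.sheaf.existsUnique_gluing' (fun W : 𝒲 => W.1) (f ⁻¹ᵁ US)
        (fun W => homOfLE W.2.2) hcover (fun W => d W j) hc
      exact ⟨w, hw⟩
    choose w hw using hglue
    choose r hr using fun j => hf.2 (w j)
    refine ⟨∑ j, (p.app US).hom (r j) * dd.c j, ?_⟩
    apply (pullback p f).IsSheaf.section_ext (U := op ((pullback.fst p f) ⁻¹ᵁ (p ⁻¹ᵁ US)))
    intro y hy
    have hgy : (pullback.snd p f).base y ∈ f ⁻¹ᵁ US := by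
      have h1 : (pullback.fst p f ≫ p).base y ∈ US := hy
      rw [pullback.condition] at h1
      exact h1
    obtain ⟨W, hW, hxW, hWU⟩ := exists_affine_nbhd (f ⁻¹ᵁ US) _ hgy
    refine ⟨VW f p US W, VW_le_fst f p US W, ⟨hxW, hy⟩, ?_⟩
    have h1 := res_app_sum f p US dd.c W hWU r
    refine h1.trans ?_
    have h2 : ∀ j, (f.appLE US W hWU).hom (r j) = d ⟨W, hW, hWU⟩ j := by
      intro j
      rw [← hw j ⟨W, hW, hWU⟩, ← hr j]
      rfl
    simp only [h2]
    exact (hb ⟨W, hW, hWU⟩ (sW ⟨W, hW, hWU⟩)).symm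

end LSB

end Groth.Agent.Helper12.FEtPush
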