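import Mathlib
import Groth.Agent.Lib.Helper12.FEtProjB

/-!
# Global sections of the base change of a finite étale cover along `f` with `O_S = f_* O_X`
(helper12)
-/

set_option autoImplicit false

universe u

open CategoryTheory CategoryTheory.Limits TensorProduct AlgebraicGeometry Opposite
  TopologicalSpace

namespace Groth.Agent.Helper12.FEtPush

/-- dual basis data from a finite projective algebra -/
theorem nonempty_dualData {R C : CommRingCat.{u}} (φ : R ⟶ C) (h1 : φ.hom.Finite)
    (h2 : φ.hom.Flat) (h3 : φ.hom.FinitePresentation) : Nonempty (DualData φ) := by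
  classical
  algebraize [φ.hom]
  haveI : Module.FinitePresentation R C := Module.FinitePresentation.of_finite_of_finitePresentation R C
  haveI : Module.Projective R C := Module.Flat.projective_of_finitePresentation
  obtain ⟨n, F, G, -, -, hFG⟩ := Module.Finite.exists_comp_eq_id_of_projective R C
  refine ⟨{ n := n
            c := fun j => F (Pi.single j 1)
            ℓ := fun j => ((LinearMap.proj j).comp G).toAddMonoidHom
            lin := ?_
            recon := ?_ }⟩
  · intro j r x
    have : φ.hom r * x = r • x := by rw [Algebra.smul_def]; rfl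
    rw [this]
    simp
  · intro x
    have h1 : x = F (G x) := by
      have := congrArg (fun L : C →ₗ[R] C => L x) hFG
      exact this.symm
    conv_lhs => rw [h1]
    rw [LinearMap.pi_apply_eq_sum_univ F (G x)]
    refine Finset.sum_congr rfl (fun j _ => ?_)
    rw [Algebra.smul_def]
    have : (fun j' => if j = j' then (1 : R) else 0) = Pi.single j 1 := by
      funext j'
      simp [Pi.single_apply, eq_comm]
    rw [this]
    rfl

/-- iso on sections over preimages of a basis of the base gives iso over all preimages -/
theorem isIso_app_preimage_of_isBasis {Q P S : Scheme.{u}} (g : Q ⟶ P) (p : P ⟶ S)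
    {ι : Type*} (B : ι → S.Opens) (hB : Opens.IsBasis (Set.range B))
    (h : ∀ i, IsIso (g.app (p ⁻¹ᵁ B i))) (U : S.Opens) : IsIso (g.app (p ⁻¹ᵁ U)) := by
  let F : TopCat.Sheaf CommRingCat S := (TopCat.Sheaf.pushforward CommRingCat p.base).obj P.sheaf
  let G : TopCat.Sheaf CommRingCat S := (TopCat.Sheaf.pushforward CommRingCat p.base).obj
    ((TopCat.Sheaf.pushforward CommRingCat g.base).obj Q.sheaf)
  let φ : F ⟶ G := (TopCat.Sheaf.pushforward CommRingCat p.base).map ⟨g.c⟩
  have hφ : IsIso φ := TopCat.Sheaf.isIso_iff_isIso_basis (B := B) hB (φ := φ) (fun i => h i)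
  have h2 : IsIso ((TopCat.Sheaf.forget CommRingCat S).map φ) := inferInstance
  have h3 : IsIso (((TopCat.Sheaf.forget CommRingCat S).map φ).app (op U)) := inferInstance
  exact h3

/-- **Key lemma**: if `O_S → f_* O_X` is bijective and `p : P ⟶ S` is finite étale, then
`Γ(P, ⊤) → Γ(P ×_S X, ⊤)` is bijective. -/
theorem bijective_appTop_fst {X S P : Scheme.{u}} (f : X ⟶ S)
    (hf : ∀ U : S.Opens, Function.Bijective (f.app U)) (p : P ⟶ S) [IsFinite p] [Etale p] :
    Function.Bijective (pullback.fst p f).appTop := by
  have hB : Opens.IsBasis (Set.range (fun U : S.affineOpens => (U.1 : S.Opens))) := by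
    have : Set.range (fun U : S.affineOpens => (U.1 : S.Opens)) = S.affineOpens :=
      Subtype.range_coe
    rw [this]
    exact S.isBasis_affineOpens
  have key : ∀ U : S.affineOpens, IsIso ((pullback.fst p f).app (p ⁻¹ᵁ U.1)) := by
    intro U
    rw [ConcreteCategory.isIso_iff_bijective]
    have hUT : IsAffineOpen (p ⁻¹ᵁ U.1) := U.2.preimage p
    have h1 : (p.app U.1).hom.Finite := IsFinite.finite_app p U.1 U.2
    have h2 : (p.app U.1).hom.Flat := by
      rw [Scheme.Hom.app_eq_appLE]
      exact HasRingHomProperty.appLE (P := @Flat) p inferInstance ⟨U.1, U.2⟩ ⟨_, hUT⟩ le_rfl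
    have h3 : (p.app U.1).hom.FinitePresentation := by
      rw [Scheme.Hom.app_eq_appLE]
      exact HasRingHomProperty.appLE (P := @LocallyOfFinitePresentation) p inferInstance
        ⟨U.1, U.2⟩ ⟨_, hUT⟩ le_rfl
    obtain ⟨dd⟩ := nonempty_dualData (p.app U.1) h1 h2 h3
    exact bijective_app_fst_of_dualData f p U.1 U.2 hUT dd (hf U.1)
  have := isIso_app_preimage_of_isBasis (pullback.fst p f) p
    (fun U : S.affineOpens => (U.1 : S.Opens)) hB key ⊤
  rw [ConcreteCategory.isIso_iff_bijective] at this
  exact this

end Groth.Agent.Helper12.FEtPush
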