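import Mathlib
import Groth.Agent.Lib.Helper12.FEtProjC
import Groth.Agent.Lib.Helper23.FEtFull

/-!
# Descent of morphisms of finite étale covers along `f` with `O_S = f_* O_X` (helper12)
-/

set_option autoImplicit false

universe u

open CategoryTheory CategoryTheory.Limits TensorProduct AlgebraicGeometry Opposite
  TopologicalSpace

namespace Groth.Agent.Helper12.FEtPush

section idem

variable (Y : Scheme.{u})

theorem germ_idem_eq_zero_or_isUnit (e : Γ(Y, ⊤)) (he : IsIdempotentElem e) (x : Y) :
    Y.presheaf.germ ⊤ x trivial e = 0 ∨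
      (IsUnit (Y.presheaf.germ ⊤ x trivial e) ∧ Y.presheaf.germ ⊤ x trivial e = 1) := by
  set ε := Y.presheaf.germ ⊤ x trivial e with hε
  have hid : ε * ε = ε := by
    rw [hε, ← map_mul, he.eq]
  rcases IsLocalRing.isUnit_or_isUnit_one_sub_self ε with h | h
  · right
    refine ⟨h, ?_⟩
    have h1 : ε * ε = ε * 1 := by rw [hid, mul_one]
    exact h.mul_left_cancel h1
  · left
    have h0 : (1 - ε) * ε = 0 := by rw [sub_mul, one_mul, hid, sub_self]
    exact (h.mul_right_eq_zero).mp h0

theorem isClopen_basicOpen_of_idem (e : Γ(Y, ⊤)) (he : IsIdempotentElem e) :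
    IsClopen (Y.basicOpen e : Set Y) := by
  refine ⟨?_, (Y.basicOpen e).2⟩
  have : ((Y.basicOpen e : Set Y))ᶜ = (Y.basicOpen (1 - e) : Set Y) := by
    ext x
    simp only [Set.mem_compl_iff, SetLike.mem_coe, Scheme.mem_basicOpen_top, map_sub, map_one]
    rcases germ_idem_eq_zero_or_isUnit Y e he x with h | ⟨hu, h1⟩
    · rw [h, sub_zero]
      simp
    · constructor
      · intro h; exact absurd hu h
      · intro h
        rw [h1, sub_self] at h
        exact absurd h not_isUnit_zero
  rw [← isOpen_compl_iff, this]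
  exact (Y.basicOpen (1 - e)).2

theorem eq_zero_of_basicOpen_eq_bot (e : Γ(Y, ⊤)) (he : IsIdempotentElem e)
    (h : Y.basicOpen e = ⊥) : e = 0 := by
  apply TopCat.Presheaf.section_ext Y.sheaf ⊤ e 0
  intro x hx
  rcases germ_idem_eq_zero_or_isUnit Y e he x with h0 | ⟨hu, -⟩
  · rw [map_zero]
    exact h0
  · exfalso
    have : x ∈ Y.basicOpen e := (Y.mem_basicOpen_top e x).mpr hu
    rw [h] at this
    exact this

/-- a clopen subset is the non-vanishing locus of an idempotent global section -/
theorem exists_idem_basicOpen (s : Set Y) (hs : IsClopen s) :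
    ∃ e : Γ(Y, ⊤), IsIdempotentElem e ∧ (Y.basicOpen e : Set Y) = s := by
  let U : Y.Opens := ⟨s, hs.isOpen⟩
  let V : Y.Opens := ⟨sᶜ, hs.isClosed.isOpen_compl⟩
  let Uf : Bool → Y.Opens := fun b => bif b then U else V
  let sf : ∀ b, Γ(Y, Uf b) := fun b => bif b then 1 else 0
  have hbot : U ⊓ V = ⊥ := by
    ext x
    simp [U, V]
  have hbot' : V ⊓ U = ⊥ := by rw [inf_comm]; exact hbot
  have hsub : ∀ W : Y.Opens, W = ⊥ → Subsingleton Γ(Y, W) := by
    rintro _ rfl; infer_instance
  have compat : TopCat.Presheaf.IsCompatible Y.sheaf.1 Uf sf := by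
    intro i j
    cases i <;> cases j
    · rfl
    · haveI := hsub _ hbot'
      exact Subsingleton.elim (α := Γ(Y, V ⊓ U)) _ _
    · haveI := hsub _ hbot
      exact Subsingleton.elim (α := Γ(Y, U ⊓ V)) _ _
    · rfl
  have hcover : (⊤ : Y.Opens) ≤ iSup Uf := by
    intro x _
    by_cases hx : x ∈ s
    · exact TopologicalSpace.Opens.mem_iSup.mpr ⟨true, hx⟩
    · exact TopologicalSpace.Opens.mem_iSup.mpr ⟨false, hx⟩
  obtain ⟨e0, he0, -⟩ := Y.sheaf.existsUnique_gluing' Uf ⊤ (fun b => homOfLE le_top) hcover sf compat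
  let e : Γ(Y, ⊤) := e0
  have he : ∀ b, (Y.presheaf.map (homOfLE (le_top : Uf b ≤ ⊤)).op).hom e = sf b := he0
  refine ⟨e, ?_, ?_⟩
  · refine Y.sheaf.eq_of_locally_eq' Uf ⊤ (fun b => homOfLE le_top) hcover (e * e) e (fun b => ?_)
    show (Y.presheaf.map (homOfLE (le_top : Uf b ≤ ⊤)).op).hom (e * e) =
      (Y.presheaf.map (homOfLE (le_top : Uf b ≤ ⊤)).op).hom e
    rw [map_mul, he b]
    cases b
    · exact mul_zero (0 : Γ(Y, V))
    · exact mul_one (1 : Γ(Y, U))
  · ext x
    simp only [SetLike.mem_coe, Scheme.mem_basicOpen_top]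
    by_cases hx : x ∈ s
    · have hxU : x ∈ U := hx
      have h1 := he true
      have h2 : Y.presheaf.germ ⊤ x trivial e =
          Y.presheaf.germ U x hxU ((Y.presheaf.map (homOfLE (le_top : U ≤ ⊤)).op).hom e) :=
        (TopCat.Presheaf.germ_res_apply Y.presheaf (homOfLE (le_top : U ≤ ⊤)) x hxU e).symm
      have h3 : (Y.presheaf.map (homOfLE (le_top : U ≤ ⊤)).op).hom e = 1 := h1
      rw [h2, h3, map_one]
      simp [hx]
    · have hxV : x ∈ V := hx
      have h1 := he false
      have h2 : Y.presheaf.germ ⊤ x trivial e =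
          Y.presheaf.germ V x hxV ((Y.presheaf.map (homOfLE (le_top : V ≤ ⊤)).op).hom e) :=
        (TopCat.Presheaf.germ_res_apply Y.presheaf (homOfLE (le_top : V ≤ ⊤)) x hxV e).symm
      have h3 : (Y.presheaf.map (homOfLE (le_top : V ≤ ⊤)).op).hom e = 0 := h1
      rw [h2, h3, map_zero]
      simp [hx]

end idem

section main

variable {X S : Scheme.{u}} (f : X ⟶ S) (hf : ∀ U : S.Opens, Function.Bijective (f.app U))

include hf in
theorem denseRange_of_bijective : DenseRange f.base := by
  rw [DenseRange, dense_iff_inter_open]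
  intro V hV hVne
  by_contra hemp
  rw [Set.not_nonempty_iff_eq_empty] at hemp
  let V' : S.Opens := ⟨V, hV⟩
  have hpre : f ⁻¹ᵁ V' = ⊥ := by
    ext x
    simp only [Opens.coe_bot, Set.mem_empty_iff_false, iff_false]
    intro hx
    have : f.base x ∈ V ∩ Set.range f.base := ⟨hx, x, rfl⟩
    rw [hemp] at this
    exact this
  haveI : Subsingleton Γ(X, f ⁻¹ᵁ V') := by rw [hpre]; infer_instance
  have hsub : Subsingleton Γ(S, V') := (hf V').1.subsingleton
  obtain ⟨x, hx⟩ := hVne
  have hxV : x ∈ V' := hx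
  have h01 : (1 : Γ(S, V')) = 0 := Subsingleton.elim _ _
  have := congrArg (S.presheaf.germ V' x hxV) h01
  rw [map_one, map_zero] at this
  exact one_ne_zero this

include hf in
/-- descent of morphisms of finite étale covers along `f` -/
theorem exists_descent {A B : Scheme.{u}} (a : A ⟶ S) (b : B ⟶ S) [IsFinite a] [Etale a]
    [IsFinite b] [Etale b] (φ : pullback a f ⟶ pullback b f)
    (hφ : φ ≫ pullback.snd b f = pullback.snd a f) :
    ∃ ψ : A ⟶ B, ψ ≫ b = a ∧ pullback.fst a f ≫ ψ = φ ≫ pullback.fst b f := by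
  refine Groth.Agent.Helper23.FEtFull.exists_descent_of_clopen f a b φ hφ ?_ ?_
  · intro Z hZ
    haveI : IsFinite (Groth.Agent.Helper23.FEtFull.cc a b) := by
      unfold Groth.Agent.Helper23.FEtFull.cc; infer_instance
    haveI : Etale (Groth.Agent.Helper23.FEtFull.cc a b) := by
      unfold Groth.Agent.Helper23.FEtFull.cc; infer_instance
    have hbij := bijective_appTop_fst f hf (Groth.Agent.Helper23.FEtFull.cc a b)
    obtain ⟨e', he', hZe⟩ := exists_idem_basicOpen _ Z hZ
    obtain ⟨e, rfl⟩ := hbij.2 e'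
    have he : IsIdempotentElem e := by
      apply hbij.1
      rw [map_mul]
      exact he'.eq
    refine ⟨((pullback a b).basicOpen e : Set _), isClopen_basicOpen_of_idem _ e he, ?_⟩
    rw [← hZe]
    have := Scheme.preimage_basicOpen_top
      (pullback.fst (Groth.Agent.Helper23.FEtFull.cc a b) f) e
    rw [← this]
    rfl
  · intro d hd h1 x
    by_contra hx
    have hbij := bijective_appTop_fst f hf a
    have hcl : IsClopen {y : A | d y ≠ 1} := by
      have : {y : A | d y ≠ 1} = d ⁻¹' {n | n ≠ 1} := rfl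
      rw [this]
      exact ⟨isOpen_compl_iff.mp (by rw [← Set.preimage_compl]; exact hd _), hd _⟩
    obtain ⟨e, he, hes⟩ := exists_idem_basicOpen A _ hcl
    have h0 : (pullback a f).basicOpen ((pullback.fst a f).appTop e) = ⊥ := by
      rw [← Scheme.preimage_basicOpen_top]
      ext z
      simp only [Opens.coe_bot, Set.mem_empty_iff_false, iff_false]
      intro hz
      have hz' : (pullback.fst a f).base z ∈ (A.basicOpen e : Set A) := hz
      rw [hes] at hz'
      exact hz' (h1 z)
    have he' : IsIdempotentElem ((pullback.fst a f).appTop e) := by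
      change (pullback.fst a f).appTop e * (pullback.fst a f).appTop e = _
      rw [← map_mul, he.eq]
    have h2 := eq_zero_of_basicOpen_eq_bot _ _ he' h0
    have h3 : e = 0 := by
      apply hbij.1
      rw [h2, map_zero]
    have hxe : x ∈ (A.basicOpen e : Set A) := by rw [hes]; exact hx
    rw [h3] at hxe
    have : A.basicOpen (0 : Γ(A, ⊤)) = ⊥ := Scheme.basicOpen_zero _ _
    rw [this] at hxe
    exact hxe

end main

end Groth.Agent.Helper12.FEtPush
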