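import Groth.Agent.Lib.Helper12.FinrankComp
import Groth.Agent.Lib.Helper28.FinrankKey

set_option autoImplicit false
set_option linter.style.haveILetI false
universe u
open CategoryTheory CategoryTheory.Limits AlgebraicGeometry Opposite TopologicalSpace
open Module

namespace Groth.Agent.Helper12.FinrankComp

open Groth.Agent.Helper13.PushFinite Groth.Agent.Helper28.FinrankKey

theorem finrank_comp {X Y Z : Scheme.{u}} (f : X ⟶ Y) (g : Y ⟶ Z) [IsFinite f] [Flat f]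
    [IsFinite g] [Flat g] (a : ℕ) (ha : ∀ y, f.finrank y = a) (z : Z) :
    (f ≫ g).finrank z = a * g.finrank z := by
  obtain ⟨_, ⟨W, hW, rfl⟩, hzW, -⟩ :=
    Z.isBasis_affineOpens.exists_subset_of_mem_open (Set.mem_univ z) isOpen_univ
  have hV : IsAffineOpen (g ⁻¹ᵁ W) := hW.preimage g
  have hU : IsAffineOpen (f ⁻¹ᵁ (g ⁻¹ᵁ W)) := hV.preimage f
  letI iAB := algApp g W
  letI iBC := algApp f (g ⁻¹ᵁ W)
  letI iAC : Algebra Γ(Z, W) Γ(X, f ⁻¹ᵁ (g ⁻¹ᵁ W)) := algApp (f ≫ g) W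
  haveI : IsScalarTower Γ(Z, W) Γ(Y, g ⁻¹ᵁ W) Γ(X, f ⁻¹ᵁ (g ⁻¹ᵁ W)) := by
    refine IsScalarTower.of_algebraMap_eq' ?_
    show ((f ≫ g).app W).hom = ((f.app (g ⁻¹ᵁ W)).hom).comp (g.app W).hom
    rw [Scheme.Hom.comp_app]
    rfl
  haveI : Module.Finite Γ(Z, W) Γ(Y, g ⁻¹ᵁ W) := g.finite_app W hW
  haveI : Module.Finite Γ(Y, g ⁻¹ᵁ W) Γ(X, f ⁻¹ᵁ (g ⁻¹ᵁ W)) := f.finite_app _ hV
  haveI : Module.Flat Γ(Z, W) Γ(Y, g ⁻¹ᵁ W) := by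
    have h := g.flat_appLE hW hV le_rfl
    rw [← Scheme.Hom.app_eq_appLE] at h
    exact h
  haveI : Module.Flat Γ(Y, g ⁻¹ᵁ W) Γ(X, f ⁻¹ᵁ (g ⁻¹ᵁ W)) := by
    have h := f.flat_appLE hV hU le_rfl
    rw [← Scheme.Hom.app_eq_appLE] at h
    exact h
  have h1 := finrank_eq_rankAtStalk (f ≫ g) hW z hzW
  have h2 := finrank_eq_rankAtStalk g hW z hzW
  have h3 : ∀ q : PrimeSpectrum Γ(Y, g ⁻¹ᵁ W),
      rankAtStalk (R := Γ(Y, g ⁻¹ᵁ W)) Γ(X, f ⁻¹ᵁ (g ⁻¹ᵁ W)) q = a := by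
    intro q
    have hy : hV.fromSpec q ∈ g ⁻¹ᵁ W := by
      have := hV.range_fromSpec
      rw [← SetLike.mem_coe, ← this]
      exact ⟨q, rfl⟩
    have h := finrank_eq_rankAtStalk f hV (hV.fromSpec q) hy
    have hq : hV.primeIdealOf ⟨hV.fromSpec q, hy⟩ = q := by
      apply hV.fromSpec.isOpenEmbedding.injective
      exact hV.fromSpec_primeIdealOf ⟨hV.fromSpec q, hy⟩
    rw [hq] at h
    rw [← h]
    exact ha _
  rw [h1, h2]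
  exact rankAtStalk_tower Γ(Z, W) Γ(Y, g ⁻¹ᵁ W) Γ(X, f ⁻¹ᵁ (g ⁻¹ᵁ W)) a h3 _

end Groth.Agent.Helper12.FinrankComp
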