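import Groth.Agent.Lib.Helper12.FEtTrivC
import Groth.Agent.Lib.Helper12.FinrankComp2

set_option autoImplicit false
set_option linter.style.haveILetI false
universe u
open CategoryTheory CategoryTheory.Limits AlgebraicGeometry

noncomputable section

namespace Groth.Agent.Helper12.FEtTriv

/-- a finite étale morphism of constant rank `n` is split by a finite étale surjective cover -/
theorem exists_split_factorial (n : ℕ) : ∀ {X S : Scheme.{u}} (φ : X ⟶ S) [IsFinite φ] [Etale φ],
    (∀ s, φ.finrank s = n) →
    ∃ (Y : Scheme.{u}) (ψ : Y ⟶ S), IsFinite ψ ∧ Etale ψ ∧ Surjective ψ ∧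
      (∀ s, ψ.finrank s = n.factorial) ∧ ∃ σ : Fin n → (Y ⟶ pullback φ ψ), (∀ i, σ i ≫ pullback.snd φ ψ = 𝟙 Y) ∧
        (∀ i j, i ≠ j → Disjoint (Set.range (σ i)) (Set.range (σ j))) ∧
        (⋃ i, Set.range (σ i)) = Set.univ := by
  induction n with
  | zero =>
    intro X S φ _ _ hr
    refine ⟨S, 𝟙 S, inferInstance, inferInstance, inferInstance, ?_, Fin.elim0, fun i => i.elim0,
      fun i => i.elim0, ?_⟩
    · intro s
      rw [Scheme.Hom.finrank_eq_one_of_isIso]; rfl
    have hX : IsEmpty X := ⟨fun x => by
      have := Scheme.Hom.one_le_finrank_map φ x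
      rw [hr] at this
      omega⟩
    have : IsEmpty ↥(pullback φ (𝟙 S)) := Function.isEmpty (pullback.fst φ (𝟙 S))
    ext z
    exact (this.false z).elim
  | succ n ih =>
    intro X S φ _ _ hr
    haveI : Surjective φ := (Scheme.Hom.one_le_finrank_iff_surjective φ).mp (fun s => by
      rw [hr]; simp)
    let p₁ : pullback φ φ ⟶ X := pullback.fst φ φ
    let p₂ : pullback φ φ ⟶ X := pullback.snd φ φ
    let Δ : X ⟶ pullback φ φ := pullback.diagonal φ
    haveI : IsOpenImmersion Δ := inferInstance
    haveI : IsClosedImmersion Δ := inferInstance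
    let U : (pullback φ φ).Opens := Δ.opensRange
    let V : (pullback φ φ).Opens :=
      ⟨(Set.range Δ)ᶜ, Δ.isClosedEmbedding.isClosed_range.isOpen_compl⟩
    have hUV : IsCompl U V := by
      constructor
      · rw [disjoint_iff]
        ext z
        simp only [TopologicalSpace.Opens.coe_inf, Set.mem_inter_iff, SetLike.mem_coe,
          TopologicalSpace.Opens.coe_bot, Set.mem_empty_iff_false, iff_false, not_and]
        intro h1 h2
        exact h2 h1
      · rw [codisjoint_iff]
        ext z
        simp only [TopologicalSpace.Opens.coe_sup, Set.mem_union, SetLike.mem_coe,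
          TopologicalSpace.Opens.coe_top, Set.mem_univ, iff_true]
        by_cases hz : z ∈ Set.range Δ
        · exact Or.inl hz
        · exact Or.inr hz
    haveI := isClosedImmersion_ι_of_isCompl V U hUV.symm
    haveI := isClosedImmersion_ι_of_isCompl U V hUV
    let φ' : (V : Scheme.{u}) ⟶ X := V.ι ≫ p₂
    have hrank : ∀ x, φ'.finrank x = n := by
      intro x
      have h1 := finrank_add p₂ U V hUV x
      have h2 : p₂.finrank x = n + 1 := by
        rw [Scheme.Hom.finrank_pullback_snd]; exact hr _
      have h3 : (U.ι ≫ p₂).finrank x = 1 := by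
        have : U.ι ≫ p₂ = (Δ.isoOpensRange).inv := by
          rw [← cancel_epi (Δ.isoOpensRange).hom, Iso.hom_inv_id, ← Category.assoc,
            Scheme.Hom.isoOpensRange_hom_ι]
          exact pullback.diagonal_snd φ
        rw [this, Scheme.Hom.finrank_eq_one_of_isIso]; rfl
      show (V.ι ≫ p₂).finrank x = n
      omega
    obtain ⟨Y, ψ', hfin, het, hsurj, hfact, σ', hσ'1, hσ'2, hσ'3⟩ := ih φ' hrank
    let ψ : Y ⟶ S := ψ' ≫ φ
    let q : pullback φ ψ ⟶ pullback φ φ :=
      pullback.lift (pullback.fst φ ψ) (pullback.snd φ ψ ≫ ψ')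
        (by rw [Category.assoc]; exact pullback.condition)
    have hq : IsPullback q (pullback.snd φ ψ) p₂ ψ' := by
      refine IsPullback.of_right ?_ (pullback.lift_snd _ _ _) (IsPullback.of_hasPullback φ φ)
      have : q ≫ pullback.fst φ φ = pullback.fst φ ψ := pullback.lift_fst _ _ _
      rw [this]
      exact IsPullback.of_hasPullback φ ψ
    let c : pullback φ' ψ' ⟶ pullback φ ψ :=
      pullback.lift (pullback.fst φ' ψ' ≫ V.ι ≫ p₁) (pullback.snd φ' ψ') (by
        have h1 : (V.ι ≫ p₁) ≫ φ = φ' ≫ φ := by
          simp only [φ', p₁, p₂, Category.assoc]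
          rw [pullback.condition]
        rw [Category.assoc, h1, ← Category.assoc, pullback.condition, Category.assoc])
    have hcq : pullback.fst φ' ψ' ≫ V.ι = c ≫ q := by
      apply pullback.hom_ext
      · simp only [Category.assoc, q, c, pullback.lift_fst]
        rfl
      · simp only [Category.assoc, q, c, pullback.lift_snd, pullback.lift_snd_assoc]
        exact pullback.condition
    have hc : IsPullback (pullback.fst φ' ψ') c V.ι q := by
      refine IsPullback.of_bot ?_ hcq hq
      have : c ≫ pullback.snd φ ψ = pullback.snd φ' ψ' := pullback.lift_snd _ _ _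
      rw [this]
      exact IsPullback.of_hasPullback φ' ψ'
    let σ0 : Y ⟶ pullback φ ψ := pullback.lift ψ' (𝟙 Y) (by simp [ψ])
    have hσ0q : ψ' ≫ Δ = σ0 ≫ q := by
      apply pullback.hom_ext
      · simp only [Category.assoc, q, σ0, Δ, pullback.lift_fst, pullback.diagonal_fst,
          Category.comp_id]
      · simp only [Category.assoc, q, σ0, Δ, pullback.lift_snd, pullback.lift_snd_assoc,
          pullback.diagonal_snd, Category.comp_id, Category.id_comp]
    have hσ0 : IsPullback ψ' σ0 Δ q := by
      refine IsPullback.of_bot ?_ hσ0q hq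
      have h1 : σ0 ≫ pullback.snd φ ψ = 𝟙 Y := pullback.lift_snd _ _ _
      have h2 : Δ ≫ p₂ = 𝟙 X := pullback.diagonal_snd φ
      rw [h1, h2]
      exact IsPullback.id_vert ψ'
    have hrc : Set.range c = q ⁻¹' (V : Set ↥(pullback φ φ)) := by
      rw [range_eq_preimage_of_isPullback hc, Scheme.Opens.range_ι]
    have hrσ0 : Set.range σ0 = q ⁻¹' (Set.range Δ) := range_eq_preimage_of_isPullback hσ0
    have hcompl : Set.range c = (Set.range σ0)ᶜ := by
      rw [hrc, hrσ0]; rfl
    haveI : IsOpenImmersion c :=
      MorphismProperty.of_isPullback (P := @IsOpenImmersion) hc inferInstance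
    have hcinj : Function.Injective c := c.isOpenEmbedding.injective
    refine ⟨Y, ψ, inferInstance, inferInstance, inferInstance, ?_,
      Fin.cons σ0 (fun i => σ' i ≫ c), ?_, ?_, ?_⟩
    · intro s
      show (ψ' ≫ φ).finrank s = (n + 1).factorial
      rw [Groth.Agent.Helper12.FinrankComp.finrank_comp ψ' φ n.factorial hfact s, hr s,
        Nat.factorial_succ, mul_comm]
    · intro i
      refine Fin.cases ?_ (fun i => ?_) i
      · simp only [Fin.cons_zero]
        exact pullback.lift_snd _ _ _
      · simp only [Fin.cons_succ, Category.assoc]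
        have : c ≫ pullback.snd φ ψ = pullback.snd φ' ψ' := pullback.lift_snd _ _ _
        rw [this]
        exact hσ'1 i
    · have hdisj0 : ∀ j : Fin n, Disjoint (Set.range σ0) (Set.range (σ' j ≫ c)) := by
        intro j
        rw [Set.disjoint_left]
        rintro z hz ⟨y, rfl⟩
        have : (σ' j ≫ c) y ∈ Set.range c := ⟨σ' j y, by simp⟩
        rw [hcompl] at this
        exact this hz
      intro i j
      refine Fin.cases ?_ (fun i => ?_) i
      · refine Fin.cases ?_ (fun j => ?_) j
        · intro h; exact absurd rfl h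
        · intro _
          simp only [Fin.cons_zero, Fin.cons_succ]
          exact hdisj0 j
      · refine Fin.cases ?_ (fun j => ?_) j
        · intro _
          simp only [Fin.cons_zero, Fin.cons_succ]
          exact (hdisj0 i).symm
        · intro hij
          simp only [Fin.cons_succ]
          have hij' : i ≠ j := fun h => hij (by rw [h])
          have hd := hσ'2 i j hij'
          rw [Set.disjoint_left] at hd ⊢
          rintro z ⟨y, rfl⟩ ⟨y', hy'⟩
          simp only [Scheme.Hom.comp_apply] at hy'
          have hyy := hcinj hy'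
          exact hd ⟨y, rfl⟩ ⟨y', hyy⟩
    · rw [Set.eq_univ_iff_forall]
      intro z
      rw [Set.mem_iUnion]
      by_cases hz : z ∈ Set.range σ0
      · exact ⟨0, by simpa using hz⟩
      · have hz' : z ∈ Set.range c := by rw [hcompl]; exact hz
        obtain ⟨w, rfl⟩ := hz'
        have hw : w ∈ ⋃ i, Set.range (σ' i) := by rw [hσ'3]; trivial
        rw [Set.mem_iUnion] at hw
        obtain ⟨i, y, rfl⟩ := hw
        exact ⟨i.succ, ⟨y, by simp⟩⟩

end Groth.Agent.Helper12.FEtTriv
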