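import Mathlib
import Groth.Prelude
import Groth.Agent.Lib.Helper16.Sch.Isog
import Groth.Agent.Lib.Helper16.Sch.KerTfae
import Groth.Agent.Lib.Helper16.Sch.HomDim
import Groth.Agent.Lib.Helper16.Sch.FTDim7
import Groth.Agent.Lib.Helper23.WeilDim
import Groth.Agent.Lib.Helper9.TopDim

set_option autoImplicit false
set_option linter.style.haveILetI false
universe u
open CategoryTheory CategoryTheory.Limits AlgebraicGeometry Opposite TopologicalSpace Topology
  MonoidalCategory CartesianMonoidalCategory MonObj GrpObj

noncomputable section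

namespace Groth.Agent.Helper12.IsogDim

open Groth.Agent.Helper14 Groth.Agent.Helper16 Groth.Agent.Helper16.FTDim

variable {k : Type u} [Field k] {G H : Over (Spec (CommRingCat.of k))} [GrpObj G] [GrpObj H]

instance : Subsingleton ↥(Spec (CommRingCat.of k)) :=
  inferInstanceAs (Subsingleton (PrimeSpectrum k))

/-- the (constant) fibre dimension of a homomorphism over a field. -/
theorem exists_fibreDim [LocallyOfFiniteType G.hom] [LocallyOfFiniteType H.hom]
    (u : G ⟶ H) [IsMonHom u] :
    ∃ d : ℕ, (∀ g : G.left, FlatMor.fibreDimAt u.left g = (d : WithBot ℕ∞)) ∧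
      topologicalKrullDim ↥(pullback u.left (η[H] : 𝟙_ (Over (Spec (CommRingCat.of k))) ⟶ H).left) =
        (d : WithBot ℕ∞) := by
  haveI : LocallyOfFiniteType (u.left ≫ H.hom) := by rw [Over.w]; infer_instance
  haveI : LocallyOfFiniteType u.left := locallyOfFiniteType_of_comp u.left H.hom
  let s : ↥(Spec (CommRingCat.of k)) := (show PrimeSpectrum k from ⊥)
  obtain ⟨z, d, -, -, -, -, h⟩ :=
    EquidimAt.exists_maximal_trdeg_eq_fibreDimAt u.left (η[G].left s)
  have hd : ∀ g : G.left, FlatMor.fibreDimAt u.left g = (d : WithBot ℕ∞) :=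
    fun g => (GrpHomFib.fibreDimAt_const_hom u g (η[G].left s)).trans h
  exact ⟨d, hd, HomDim.dim_ker u s d hd⟩

theorem lqf_iff_dim_ker [LocallyOfFiniteType G.hom] [LocallyOfFiniteType H.hom]
    (u : G ⟶ H) [IsMonHom u] :
    LocallyQuasiFinite u.left ↔
      topologicalKrullDim
        ↥(pullback u.left (η[H] : 𝟙_ (Over (Spec (CommRingCat.of k))) ⟶ H).left) = 0 := by
  haveI : LocallyOfFiniteType (u.left ≫ H.hom) := by rw [Over.w]; infer_instance
  haveI : LocallyOfFiniteType u.left := locallyOfFiniteType_of_comp u.left H.hom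
  obtain ⟨d, hd, hK⟩ := exists_fibreDim u
  rw [hK, FibMap.locallyQuasiFinite_iff_fibreDimAt]
  constructor
  · intro h
    have h1 := h (η[G].left (show PrimeSpectrum k from ⊥))
    rw [hd] at h1
    have h2 : d ≤ 0 := by exact_mod_cast h1
    have h3 : d = 0 := by omega
    subst h3
    rfl
  · intro h x
    rw [hd, h]

/-- homomorphism between group schemes of the same finite dimension over a field, with
irreducible target: quasi-finite iff surjective. -/
theorem lqf_iff_surjective [LocallyOfFiniteType G.hom] [LocallyOfFiniteType H.hom]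
    (u : G ⟶ H) [IsMonHom u] [QuasiCompact u.left] [IrreducibleSpace H.left] (n : ℕ)
    (hG : topologicalKrullDim G.left = n) (hH : topologicalKrullDim H.left = n) :
    LocallyQuasiFinite u.left ↔ Surjective u.left := by
  obtain ⟨hcl, hdim⟩ := HomDim.main3016 k G H u
  rw [lqf_iff_dim_ker]
  constructor
  · intro h0
    rw [h0, add_zero, hG] at hdim
    have hsub : (Set.univ : Set H.left) ⊆ Set.range u.left.base := by
      refine eq_of_dim_eq (IrreducibleSpace.isIrreducible_univ _) hcl ?_ n ?_ ?_
      · exact ⟨_, ⟨η[G].left (show PrimeSpectrum k from ⊥), rfl⟩, Set.mem_univ _⟩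
      · rw [dim_univ, hH]
      · rw [Set.inter_univ, ← hdim]
    exact ⟨fun y => hsub (Set.mem_univ y)⟩
  · intro hs
    have hr : Set.range u.left.base = Set.univ := Set.range_eq_univ.mpr u.left.surjective
    rw [hr, dim_univ, hH, hG] at hdim
    exact withBot_add_left_cancel n 0 _ (by rw [← hdim]; simp)

end Groth.Agent.Helper12.IsogDim


namespace Groth.Agent.Helper12.IsogDim

variable {k : Type u} [Field k]

/-- a nonempty quasi-compact scheme locally of finite type over a field has dimension a natural
number. -/
theorem exists_nat_dim {X : Scheme.{u}} (f : X ⟶ Spec (CommRingCat.of k))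
    [LocallyOfFiniteType f] [CompactSpace X] [Nonempty X] :
    ∃ n : ℕ, topologicalKrullDim X = (n : WithBot ℕ∞) := by
  have htop : topologicalKrullDim X ≠ ⊤ := Groth.Agent.Helper23.WeilDim.krullDim_ne_top f
  have h0 : 0 ≤ topologicalKrullDim X := Groth.Agent.Helper9.TopDim.dim_nonneg_of_nonempty
  generalize topologicalKrullDim X = N at htop h0
  induction N using WithBot.recBotCoe with
  | bot => exact absurd h0 (by simp)
  | coe N =>
    induction N using ENat.recTopCoe with
    | top => exact absurd rfl htop
    | coe n => exact ⟨n, rfl⟩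

end Groth.Agent.Helper12.IsogDim

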