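import Mathlib
import Groth.Prelude

set_option autoImplicit false
set_option linter.style.haveILetI false
universe u
open CategoryTheory CategoryTheory.Limits AlgebraicGeometry Opposite TopologicalSpace Topology
  MonoidalCategory CartesianMonoidalCategory MonObj GrpObj

noncomputable section

namespace Groth.Agent.Helper12.Tan

variable {k : Type u} [Field k]

/-- the test scheme `Spec R` over `Spec k`. -/
def T (R : Type u) [CommRing R] [Algebra k R] : Over (Spec (CommRingCat.of k)) :=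
  Over.mk (Spec.map (CommRingCat.ofHom (algebraMap k R)))

/-- functoriality of the test schemes. -/
def tmap {R R' : Type u} [CommRing R] [Algebra k R] [CommRing R'] [Algebra k R']
    (ψ : R →ₐ[k] R') : T (k := k) R' ⟶ T (k := k) R :=
  Over.homMk (Spec.map (CommRingCat.ofHom ψ.toRingHom)) (by
    show Spec.map _ ≫ Spec.map _ = Spec.map _
    rw [← Spec.map_comp, ← CommRingCat.ofHom_comp]
    congr 2
    exact ψ.comp_algebraMap)

variable (X : Over (Spec (CommRingCat.of k))) (x₀ : 𝟙_ (Over (Spec (CommRingCat.of k))) ⟶ X)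

/-- the rational point as a morphism from `Spec k`. -/
def x₀s : Spec (CommRingCat.of k) ⟶ X.left := x₀.left

/-- the image point of the rational point. -/
def pt₀ : X.left := x₀s X x₀ (IsLocalRing.closedPoint k)

/-- the local ring at the rational point. -/
abbrev Ost : CommRingCat := X.left.presheaf.stalk (pt₀ X x₀)

/-- `Spec` of the local ring. -/
def ιst : Spec (Ost X x₀) ⟶ X.left := X.left.fromSpecStalk (pt₀ X x₀)

instance : Mono (ιst X x₀) := inferInstanceAs (Mono (X.left.fromSpecStalk (pt₀ X x₀)))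

/-- the `k`-algebra structure of the local ring. -/
def cst : CommRingCat.of k ⟶ Ost X x₀ := Spec.preimage (ιst X x₀ ≫ X.hom)

theorem Spec_map_cst : Spec.map (cst X x₀) = ιst X x₀ ≫ X.hom := Spec.map_preimage _

/-- the augmentation of the local ring. -/
def ρst : Ost X x₀ ⟶ CommRingCat.of k := Scheme.stalkClosedPointTo (x₀s X x₀)

theorem Spec_map_ρst : Spec.map (ρst X x₀) ≫ ιst X x₀ = x₀s X x₀ :=
  Scheme.Spec_stalkClosedPointTo_fromSpecStalk _

theorem x₀s_hom : x₀s X x₀ ≫ X.hom = 𝟙 _ := Over.w x₀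

theorem cst_ρst : cst X x₀ ≫ ρst X x₀ = 𝟙 _ := by
  apply Spec.map_injective
  rw [Spec.map_comp, Spec_map_cst, ← Category.assoc, Spec_map_ρst, x₀s_hom, Spec.map_id]

section pts

variable {R R' : Type u} [CommRing R] [Algebra k R] [CommRing R'] [Algebra k R']

/-- the `R`-valued point attached to a `k`-algebra homomorphism from the local ring. -/
def pt (φ : Ost X x₀ ⟶ CommRingCat.of R)
    (hφ : cst X x₀ ≫ φ = CommRingCat.ofHom (algebraMap k R)) : T (k := k) R ⟶ X :=
  Over.homMk (Spec.map φ ≫ ιst X x₀) (by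
    show (Spec.map φ ≫ ιst X x₀) ≫ X.hom = Spec.map _
    rw [Category.assoc, ← Spec_map_cst, ← Spec.map_comp, hφ])

theorem pt_left (φ : Ost X x₀ ⟶ CommRingCat.of R)
    (hφ : cst X x₀ ≫ φ = CommRingCat.ofHom (algebraMap k R)) :
    (pt X x₀ φ hφ).left = Spec.map φ ≫ ιst X x₀ := rfl

theorem pt_injective {φ φ' : Ost X x₀ ⟶ CommRingCat.of R}
    {hφ : cst X x₀ ≫ φ = CommRingCat.ofHom (algebraMap k R)}
    {hφ' : cst X x₀ ≫ φ' = CommRingCat.ofHom (algebraMap k R)}
    (h : pt X x₀ φ hφ = pt X x₀ φ' hφ') : φ = φ' := by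
  have h1 : Spec.map φ ≫ ιst X x₀ = Spec.map φ' ≫ ιst X x₀ := congrArg CommaMorphism.left h
  exact Spec.map_injective ((cancel_mono _).mp h1)

theorem tmap_pt (ψ : R →ₐ[k] R') (φ : Ost X x₀ ⟶ CommRingCat.of R)
    (hφ : cst X x₀ ≫ φ = CommRingCat.ofHom (algebraMap k R)) :
    tmap ψ ≫ pt X x₀ φ hφ = pt X x₀ (φ ≫ CommRingCat.ofHom ψ.toRingHom) (by
      rw [← Category.assoc, hφ, ← CommRingCat.ofHom_comp]
      congr 1
      exact ψ.comp_algebraMap) := by
  ext1
  show Spec.map _ ≫ (Spec.map φ ≫ ιst X x₀) = Spec.map (φ ≫ _) ≫ ιst X x₀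
  rw [Spec.map_comp, Category.assoc]

theorem exists_pt [IsLocalRing R] (a : T (k := k) R ⟶ X)
    (ha : (show Spec (CommRingCat.of R) ⟶ X.left from a.left) (IsLocalRing.closedPoint R) =
      pt₀ X x₀) :
    ∃ (φ : Ost X x₀ ⟶ CommRingCat.of R)
      (hφ : cst X x₀ ≫ φ = CommRingCat.ofHom (algebraMap k R)), pt X x₀ φ hφ = a := by
  set al : Spec (CommRingCat.of R) ⟶ X.left := a.left with hal
  have hsp : al (IsLocalRing.closedPoint R) ⤳ pt₀ X x₀ := specializes_of_eq ha
  let φ : Ost X x₀ ⟶ CommRingCat.of R :=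
    X.left.presheaf.stalkSpecializes hsp ≫ Scheme.stalkClosedPointTo al
  have h1 : Spec.map φ ≫ ιst X x₀ = al := by
    rw [Spec.map_comp, Category.assoc]
    show _ ≫ Spec.map _ ≫ X.left.fromSpecStalk _ = _
    rw [Scheme.SpecMap_stalkSpecializes_fromSpecStalk]
    exact Scheme.Spec_stalkClosedPointTo_fromSpecStalk al
  have hφ : cst X x₀ ≫ φ = CommRingCat.ofHom (algebraMap k R) := by
    apply Spec.map_injective
    rw [Spec.map_comp, Spec_map_cst, ← Category.assoc, h1]
    exact Over.w a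
  refine ⟨φ, hφ, ?_⟩
  ext1
  exact h1

end pts

section functoriality

variable {X x₀}
variable {Y : Over (Spec (CommRingCat.of k))} {y₀ : 𝟙_ (Over (Spec (CommRingCat.of k))) ⟶ Y}
  (f : X ⟶ Y) (hf : x₀ ≫ f = y₀)

include hf in
theorem x₀s_comp : x₀s X x₀ ≫ f.left = x₀s Y y₀ := by
  rw [← hf]
  rfl

include hf in
theorem f_pt₀ : f.left (pt₀ X x₀) = pt₀ Y y₀ := by
  unfold pt₀
  rw [← x₀s_comp f hf]
  rfl

/-- the homomorphism of local rings at the rational points induced by a pointed morphism. -/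
def sharp : Ost Y y₀ ⟶ Ost X x₀ :=
  Y.left.presheaf.stalkSpecializes (specializes_of_eq (f_pt₀ f hf)) ≫
    f.left.stalkMap (pt₀ X x₀)

theorem Spec_map_sharp : Spec.map (sharp f hf) ≫ ιst Y y₀ = ιst X x₀ ≫ f.left := by
  unfold sharp
  rw [Spec.map_comp, Category.assoc]
  show _ ≫ Spec.map _ ≫ Y.left.fromSpecStalk _ = _
  rw [Scheme.SpecMap_stalkSpecializes_fromSpecStalk]
  exact Scheme.SpecMap_stalkMap_fromSpecStalk f.left

theorem cst_sharp : cst Y y₀ ≫ sharp f hf = cst X x₀ := by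
  apply Spec.map_injective
  rw [Spec.map_comp, Spec_map_cst, ← Category.assoc, Spec_map_sharp, Category.assoc, Over.w f,
    Spec_map_cst]

theorem sharp_ρst : sharp f hf ≫ ρst X x₀ = ρst Y y₀ := by
  apply Spec.map_injective
  rw [← cancel_mono (ιst Y y₀), Spec.map_comp, Category.assoc, Spec_map_sharp, ← Category.assoc,
    Spec_map_ρst, Spec_map_ρst, x₀s_comp f hf]

theorem pt_comp {R : Type u} [CommRing R] [Algebra k R] (φ : Ost X x₀ ⟶ CommRingCat.of R)
    (hφ : cst X x₀ ≫ φ = CommRingCat.ofHom (algebraMap k R)) :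
    pt X x₀ φ hφ ≫ f = pt Y y₀ (sharp f hf ≫ φ) (by
      rw [← Category.assoc, cst_sharp, hφ]) := by
  ext1
  show (Spec.map φ ≫ ιst X x₀) ≫ f.left = Spec.map (sharp f hf ≫ φ) ≫ ιst Y y₀
  rw [Spec.map_comp, Category.assoc, Category.assoc, Spec_map_sharp]

end functoriality

end Groth.Agent.Helper12.Tan
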