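import Mathlib
import Groth.Prelude
import Groth.Agent.Lib.Helper12.TanA

set_option autoImplicit false
set_option linter.style.haveILetI false
universe u
open CategoryTheory CategoryTheory.Limits AlgebraicGeometry Opposite TopologicalSpace Topology
  MonoidalCategory CartesianMonoidalCategory MonObj GrpObj

noncomputable section

namespace Groth.Agent.Helper12.Tan

open TrivSqZeroExt

variable {k : Type u} [Field k]

section tsze

variable {W : Type u} [AddCommGroup W] [Module k W] [Module kᵐᵒᵖ W] [IsCentralScalar k W]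
variable {W' : Type u} [AddCommGroup W'] [Module k W'] [Module kᵐᵒᵖ W'] [IsCentralScalar k W']
variable {W'' : Type u} [AddCommGroup W''] [Module k W''] [Module kᵐᵒᵖ W''] [IsCentralScalar k W'']

instance isLocalRing_tsze : IsLocalRing (TrivSqZeroExt k W) where
  isUnit_or_isUnit_of_add_one {a b} h := by
    rw [add_comm, ← eq_sub_iff_add_eq] at h
    rcases eq_or_ne (fst a) 0 with ha | ha <;>
    simp [isUnit_iff_isUnit_fst, h, ha]

variable (k W) in
/-- the closed point of the test scheme of a square zero extension. -/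
def pW : T (k := k) k ⟶ T (k := k) (TrivSqZeroExt k W) := tmap (fstHom k k W)

variable (k W) in
/-- the retraction of the test scheme of a square zero extension onto the point. -/
def zW : T (k := k) (TrivSqZeroExt k W) ⟶ T (k := k) k := tmap (inlAlgHom k k W)

theorem tmap_comp {R R' R'' : Type u} [CommRing R] [Algebra k R] [CommRing R'] [Algebra k R']
    [CommRing R''] [Algebra k R''] (ψ : R →ₐ[k] R') (ψ' : R' →ₐ[k] R'') :
    tmap ψ' ≫ tmap ψ = tmap (ψ'.comp ψ) := by
  ext1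
  show Spec.map _ ≫ Spec.map _ = Spec.map _
  rw [← Spec.map_comp]
  rfl

theorem tmap_id {R : Type u} [CommRing R] [Algebra k R] : tmap (AlgHom.id k R) = 𝟙 (T (k := k) R) := by
  ext1
  show Spec.map _ = 𝟙 _
  exact Spec.map_id _

theorem pW_map (L : W →ₗ[k] W') : pW k W' ≫ tmap (TrivSqZeroExt.map L) = pW k W := by
  unfold pW
  rw [tmap_comp]
  congr 1
  ext x
  simp

theorem tmap_map_zero : tmap (TrivSqZeroExt.map (0 : W →ₗ[k] W')) = zW k W' ≫ pW k W := by
  unfold pW zW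
  rw [tmap_comp]
  congr 1
  apply AlgHom.ext
  intro x
  apply TrivSqZeroExt.ext <;> simp

theorem tmap_map_comp (L : W →ₗ[k] W') (L' : W' →ₗ[k] W'') :
    tmap (TrivSqZeroExt.map L') ≫ tmap (TrivSqZeroExt.map L) =
      tmap (TrivSqZeroExt.map (L'.comp L)) := by
  rw [tmap_comp, TrivSqZeroExt.map_comp_map]

theorem tmap_map_id : tmap (TrivSqZeroExt.map (LinearMap.id : W →ₗ[k] W)) = 𝟙 _ := by
  rw [TrivSqZeroExt.map_id, tmap_id]

end tsze

section grp

variable (G : Over (Spec (CommRingCat.of k))) [GrpObj G]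
variable {W : Type u} [AddCommGroup W] [Module k W] [Module kᵐᵒᵖ W] [IsCentralScalar k W]
variable {W' : Type u} [AddCommGroup W'] [Module k W'] [Module kᵐᵒᵖ W'] [IsCentralScalar k W']

theorem toUnit_left (K : Over (Spec (CommRingCat.of k))) : (toUnit K).left = K.hom := by
  have := Over.w (toUnit K)
  rw [← this]
  exact (Category.comp_id _).symm

theorem hρ : cst G η[G] ≫ ρst G η[G] = CommRingCat.ofHom (algebraMap k k) := by
  rw [cst_ρst]
  rfl

theorem one_eq_pt : (1 : T (k := k) k ⟶ G) = pt G η[G] (ρst G η[G]) (hρ G) := by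
  ext1
  rw [pt_left, Spec_map_ρst, Hom.one_def, Over.comp_left, toUnit_left]
  have : (T (k := k) k).hom = 𝟙 _ := by
    show Spec.map _ = 𝟙 _
    exact Spec.map_id _
  rw [this]
  exact Category.id_comp _

instance isLocalHom_fstHom :
    IsLocalHom (CommRingCat.ofHom (fstHom k k W).toRingHom).hom := by
  constructor
  intro x hx
  rw [isUnit_iff_isUnit_fst]
  exact hx

theorem left_closedPoint (a : T (k := k) (TrivSqZeroExt k W) ⟶ G) (ha : pW k W ≫ a = 1) :
    (show Spec (CommRingCat.of (TrivSqZeroExt k W)) ⟶ G.left from a.left)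
      (IsLocalRing.closedPoint (TrivSqZeroExt k W)) = pt₀ G η[G] := by
  have h1 : (show Spec (CommRingCat.of k) ⟶ Spec (CommRingCat.of (TrivSqZeroExt k W)) from
      (pW k W).left) (IsLocalRing.closedPoint k) =
      IsLocalRing.closedPoint (TrivSqZeroExt k W) :=
    Spec_closedPoint (f := CommRingCat.ofHom (fstHom k k W).toRingHom)
  rw [← h1]
  have h2 : (pW k W).left ≫ a.left = (1 : T (k := k) k ⟶ G).left := by
    rw [← Over.comp_left, ha]
  have h3 := congrArg (fun (f : Spec (CommRingCat.of k) ⟶ G.left) =>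
    f (IsLocalRing.closedPoint k)) h2
  rw [one_eq_pt, pt_left, Spec_map_ρst] at h3
  exact h3

theorem pW_pt (φ : Ost G η[G] ⟶ CommRingCat.of (TrivSqZeroExt k W))
    (hφ : cst G η[G] ≫ φ = CommRingCat.ofHom (algebraMap k (TrivSqZeroExt k W)))
    (h1 : φ ≫ CommRingCat.ofHom (fstHom k k W).toRingHom = ρst G η[G]) :
    pW k W ≫ pt G η[G] φ hφ = 1 := by
  unfold pW
  rw [tmap_pt, one_eq_pt]
  congr 1

theorem exists_pt_of_mem (a : T (k := k) (TrivSqZeroExt k W) ⟶ G) (ha : pW k W ≫ a = 1) :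
    ∃ (φ : Ost G η[G] ⟶ CommRingCat.of (TrivSqZeroExt k W))
      (hφ : cst G η[G] ≫ φ = CommRingCat.ofHom (algebraMap k (TrivSqZeroExt k W))),
      pt G η[G] φ hφ = a ∧ φ ≫ CommRingCat.ofHom (fstHom k k W).toRingHom = ρst G η[G] := by
  obtain ⟨φ, hφ, hpt⟩ := exists_pt G η[G] a (left_closedPoint G a ha)
  refine ⟨φ, hφ, hpt, ?_⟩
  have h2 : pW k W ≫ pt G η[G] φ hφ = 1 := by rw [hpt, ha]
  unfold pW at h2
  rw [tmap_pt, one_eq_pt] at h2
  exact pt_injective G η[G] h2

/-- the derivation attached to a tangent vector at the unit. -/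
def der (a : T (k := k) (TrivSqZeroExt k W) ⟶ G) (ha : pW k W ≫ a = 1) : Ost G η[G] → W :=
  fun x => snd ((exists_pt_of_mem G a ha).choose.hom x)

theorem der_pt (φ : Ost G η[G] ⟶ CommRingCat.of (TrivSqZeroExt k W))
    (hφ : cst G η[G] ≫ φ = CommRingCat.ofHom (algebraMap k (TrivSqZeroExt k W)))
    (ha : pW k W ≫ pt G η[G] φ hφ = 1) (x : Ost G η[G]) :
    der G (pt G η[G] φ hφ) ha x = snd (φ.hom x) := by
  unfold der
  obtain ⟨hφ', hpt, -⟩ := (exists_pt_of_mem G (pt G η[G] φ hφ) ha).choose_spec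
  rw [pt_injective G η[G] hpt]

theorem der_congr {a b : T (k := k) (TrivSqZeroExt k W) ⟶ G} (h : a = b)
    (ha : pW k W ≫ a = 1) : der G a ha = der G b (h ▸ ha) := by
  subst h
  rfl

theorem mem_map (L : W →ₗ[k] W') (a : T (k := k) (TrivSqZeroExt k W) ⟶ G)
    (ha : pW k W ≫ a = 1) : pW k W' ≫ tmap (TrivSqZeroExt.map L) ≫ a = 1 := by
  rw [← Category.assoc, pW_map, ha]

theorem der_map (L : W →ₗ[k] W') (a : T (k := k) (TrivSqZeroExt k W) ⟶ G)
    (ha : pW k W ≫ a = 1) (x : Ost G η[G]) :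
    der G (tmap (TrivSqZeroExt.map L) ≫ a) (mem_map G L a ha) x = L (der G a ha x) := by
  obtain ⟨φ, hφ, rfl, h1⟩ := exists_pt_of_mem G a ha
  have h := tmap_pt G η[G] (TrivSqZeroExt.map L) φ hφ
  rw [der_congr G h, der_pt, der_pt]
  simp

theorem mem_mul (a b : T (k := k) (TrivSqZeroExt k W) ⟶ G)
    (ha : pW k W ≫ a = 1) (hb : pW k W ≫ b = 1) : pW k W ≫ (a * b) = 1 := by
  rw [MonObj.comp_mul, ha, hb, _root_.mul_one]

theorem mem_one : pW k W ≫ (1 : T (k := k) (TrivSqZeroExt k W) ⟶ G) = 1 := MonObj.comp_one _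

theorem mem_inv (a : T (k := k) (TrivSqZeroExt k W) ⟶ G)
    (ha : pW k W ≫ a = 1) : pW k W ≫ a⁻¹ = 1 := by
  rw [GrpObj.comp_inv, ha, inv_one]

theorem map_zero_comp (b : T (k := k) (TrivSqZeroExt k W) ⟶ G) (hb : pW k W ≫ b = 1) :
    tmap (TrivSqZeroExt.map (0 : W →ₗ[k] W')) ≫ b = 1 := by
  rw [tmap_map_zero, Category.assoc, hb, MonObj.comp_one]

/-- **Eckmann–Hilton**: the group law on tangent vectors is the addition of derivations. -/
theorem der_mul (a b : T (k := k) (TrivSqZeroExt k W) ⟶ G)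
    (ha : pW k W ≫ a = 1) (hb : pW k W ≫ b = 1) (x : Ost G η[G]) :
    der G (a * b) (mem_mul G a b ha hb) x = der G a ha x + der G b hb x := by
  let i₁ : W →ₗ[k] W × W := LinearMap.inl k W W
  let i₂ : W →ₗ[k] W × W := LinearMap.inr k W W
  let p₁ : W × W →ₗ[k] W := LinearMap.fst k W W
  let p₂ : W × W →ₗ[k] W := LinearMap.snd k W W
  let s : W × W →ₗ[k] W := LinearMap.coprod LinearMap.id LinearMap.id
  let c : T (k := k) (TrivSqZeroExt k (W × W)) ⟶ G :=
    (tmap (TrivSqZeroExt.map i₁) ≫ a) * (tmap (TrivSqZeroExt.map i₂) ≫ b)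
  have hc : pW k (W × W) ≫ c = 1 := mem_mul G _ _ (mem_map G i₁ a ha) (mem_map G i₂ b hb)
  have e11 : p₁.comp i₁ = LinearMap.id := LinearMap.fst_comp_inl k W W
  have e12 : p₁.comp i₂ = 0 := LinearMap.fst_comp_inr k W W
  have e21 : p₂.comp i₁ = 0 := LinearMap.snd_comp_inl k W W
  have e22 : p₂.comp i₂ = LinearMap.id := LinearMap.snd_comp_inr k W W
  have es1 : s.comp i₁ = LinearMap.id := LinearMap.coprod_inl _ _
  have es2 : s.comp i₂ = LinearMap.id := LinearMap.coprod_inr _ _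
  have h1 : tmap (TrivSqZeroExt.map p₁) ≫ c = a := by
    show tmap (TrivSqZeroExt.map p₁) ≫
      ((tmap (TrivSqZeroExt.map i₁) ≫ a) * (tmap (TrivSqZeroExt.map i₂) ≫ b)) = a
    rw [MonObj.comp_mul, ← Category.assoc, ← Category.assoc, tmap_map_comp, tmap_map_comp,
      e11, e12, tmap_map_id, Category.id_comp, map_zero_comp G b hb, _root_.mul_one]
  have h2 : tmap (TrivSqZeroExt.map p₂) ≫ c = b := by
    show tmap (TrivSqZeroExt.map p₂) ≫
      ((tmap (TrivSqZeroExt.map i₁) ≫ a) * (tmap (TrivSqZeroExt.map i₂) ≫ b)) = b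
    rw [MonObj.comp_mul, ← Category.assoc, ← Category.assoc, tmap_map_comp, tmap_map_comp,
      e21, e22, tmap_map_id, Category.id_comp, map_zero_comp G a ha, _root_.one_mul]
  have h3 : tmap (TrivSqZeroExt.map s) ≫ c = a * b := by
    show tmap (TrivSqZeroExt.map s) ≫
      ((tmap (TrivSqZeroExt.map i₁) ≫ a) * (tmap (TrivSqZeroExt.map i₂) ≫ b)) = a * b
    rw [MonObj.comp_mul, ← Category.assoc, ← Category.assoc, tmap_map_comp, tmap_map_comp,
      es1, es2, tmap_map_id, Category.id_comp, Category.id_comp]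
  have d1 := der_map G p₁ c hc x
  have d2 := der_map G p₂ c hc x
  have d3 := der_map G s c hc x
  rw [der_congr G h1] at d1
  rw [der_congr G h2] at d2
  rw [der_congr G h3] at d3
  rw [d1, d2, d3]
  show (der G c hc x).1 + (der G c hc x).2 = _
  rfl

theorem der_one (x : Ost G η[G]) :
    der G (1 : T (k := k) (TrivSqZeroExt k W) ⟶ G) (mem_one G) x = 0 := by
  have h1 : (1 : T (k := k) (TrivSqZeroExt k W) ⟶ G) = zW k W ≫ (1 : T (k := k) k ⟶ G) :=
    (MonObj.comp_one _).symm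
  have h2 := tmap_pt G η[G] (inlAlgHom k k W) (ρst G η[G]) (hρ G)
  have h3 : zW k W ≫ (1 : T (k := k) k ⟶ G) =
      tmap (inlAlgHom k k W) ≫ pt G η[G] (ρst G η[G]) (hρ G) := by
    rw [one_eq_pt]
    rfl
  rw [der_congr G (h1.trans (h3.trans h2)), der_pt]
  simp

theorem der_inv (a : T (k := k) (TrivSqZeroExt k W) ⟶ G) (ha : pW k W ≫ a = 1)
    (x : Ost G η[G]) : der G a⁻¹ (mem_inv G a ha) x = - der G a ha x := by
  have h := der_mul G a a⁻¹ ha (mem_inv G a ha) x
  rw [der_congr G (mul_inv_cancel a), der_one] at h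
  exact (neg_eq_of_add_eq_zero_right h.symm).symm

theorem mem_pow (a : T (k := k) (TrivSqZeroExt k W) ⟶ G) (ha : pW k W ≫ a = 1) (n : ℕ) :
    pW k W ≫ a ^ n = 1 := by
  rw [MonObj.comp_pow, ha, one_pow]

theorem der_pow (a : T (k := k) (TrivSqZeroExt k W) ⟶ G) (ha : pW k W ≫ a = 1) (n : ℕ)
    (x : Ost G η[G]) : der G (a ^ n) (mem_pow G a ha n) x = n • der G a ha x := by
  induction n with
  | zero =>
    rw [der_congr G (pow_zero a), der_one, zero_smul]
  | succ n ih =>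
    rw [der_congr G (pow_succ a n), der_mul G (a ^ n) a (mem_pow G a ha n) ha, ih, succ_nsmul]

theorem mem_zpow (a : T (k := k) (TrivSqZeroExt k W) ⟶ G) (ha : pW k W ≫ a = 1) (n : ℤ) :
    pW k W ≫ a ^ n = 1 := by
  rw [GrpObj.comp_zpow, ha, one_zpow]

theorem der_zpow (a : T (k := k) (TrivSqZeroExt k W) ⟶ G) (ha : pW k W ≫ a = 1) (n : ℤ)
    (x : Ost G η[G]) : der G (a ^ n) (mem_zpow G a ha n) x = n • der G a ha x := by
  obtain ⟨m, rfl | rfl⟩ := n.eq_nat_or_neg
  · rw [der_congr G (zpow_natCast a m), der_pow G a ha m, natCast_zsmul]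
  · have h : a ^ (-(m : ℤ)) = (a ^ m)⁻¹ := by rw [zpow_neg, zpow_natCast]
    rw [der_congr G h, der_inv G (a ^ m) (mem_pow G a ha m), der_pow G a ha m, neg_smul,
      natCast_zsmul]

variable {G} in
theorem mem_comp (u : G ⟶ G) (hu : η[G] ≫ u = η[G])
    (a : T (k := k) (TrivSqZeroExt k W) ⟶ G) (ha : pW k W ≫ a = 1) :
    pW k W ≫ a ≫ u = 1 := by
  rw [← Category.assoc, ha, Hom.one_def, Category.assoc, hu]

variable {G} in
theorem der_comp (u : G ⟶ G) (hu : η[G] ≫ u = η[G])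
    (a : T (k := k) (TrivSqZeroExt k W) ⟶ G) (ha : pW k W ≫ a = 1) (x : Ost G η[G]) :
    der G (a ≫ u) (mem_comp u hu a ha) x = der G a ha ((sharp u hu).hom x) := by
  obtain ⟨φ, hφ, rfl, h1⟩ := exists_pt_of_mem G a ha
  rw [der_congr G (pt_comp u hu φ hφ), der_pt, der_pt]
  rfl

theorem unit_zpow (n : ℤ) : η[G] ≫ (𝟙 G ^ n) = η[G] := by
  rw [GrpObj.comp_zpow, Category.comp_id, MonObj.one_eq_one, one_zpow]

/-- multiplication by `n` acts on tangent vectors at the unit as multiplication by `n`. -/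
theorem der_sharp_zpow (n : ℤ) (a : T (k := k) (TrivSqZeroExt k W) ⟶ G) (ha : pW k W ≫ a = 1)
    (x : Ost G η[G]) :
    der G a ha ((sharp (𝟙 G ^ n) (unit_zpow G n)).hom x) = n • der G a ha x := by
  rw [← der_comp (𝟙 G ^ n) (unit_zpow G n) a ha x]
  have h : a ≫ (𝟙 G ^ n) = a ^ n := by rw [GrpObj.comp_zpow, Category.comp_id]
  rw [der_congr G h, der_zpow]

end grp

end Groth.Agent.Helper12.Tan
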