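import Mathlib
import Groth.Prelude
import Groth.Agent.Lib.Helper12.TanB
import Groth.Agent.Lib.Helper16.Sch.StalkUnr

set_option autoImplicit false
set_option linter.style.haveILetI false
universe u
open CategoryTheory CategoryTheory.Limits AlgebraicGeometry Opposite TopologicalSpace Topology
  MonoidalCategory CartesianMonoidalCategory MonObj GrpObj

noncomputable section

namespace Groth.Agent.Helper12.Tan

open TrivSqZeroExt

variable {k : Type u} [Field k]

section alg

variable {A : Type u} [CommRing A] (c : k →+* A) (ρ : A →+* k) (N : Ideal A)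

/-- the quotient `A ⧸ N` as a `k`-vector space through `c`. -/
def QW (_c : k →+* A) (N : Ideal A) : Type u := A ⧸ N

instance : AddCommGroup (QW c N) := inferInstanceAs (AddCommGroup (A ⧸ N))

instance : Module k (QW c N) := Module.compHom (A ⧸ N) c

instance : Module kᵐᵒᵖ (QW c N) :=
  Module.compHom (QW c N) ((RingHom.id k).fromOpposite mul_comm)

instance : IsCentralScalar k (QW c N) := ⟨fun _ _ => rfl⟩

/-- the class of an element. -/
def qmk (x : A) : QW c N := Ideal.Quotient.mk N x

theorem qmk_eq_zero_iff (x : A) : qmk c N x = 0 ↔ x ∈ N := Ideal.Quotient.eq_zero_iff_mem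

theorem smul_qmk (r : k) (x : A) : r • qmk c N x = qmk c N (c r * x) := rfl

theorem qmk_add (x y : A) : qmk c N (x + y) = qmk c N x + qmk c N y := map_add _ _ _

theorem qmk_zero : qmk c N 0 = 0 := map_zero _

theorem qmk_eq_iff (x y : A) : qmk c N x = qmk c N y ↔ x - y ∈ N := Ideal.Quotient.eq

variable (hρc : ∀ r, ρ (c r) = r) (hN : RingHom.ker ρ * RingHom.ker ρ ≤ N)

include hρc in
theorem sub_mem_ker (x : A) : x - c (ρ x) ∈ RingHom.ker ρ := by
  rw [RingHom.mem_ker, map_sub, hρc, sub_self]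

include hρc hN in
theorem qmk_mul (x y : A) :
    qmk c N (x * y - c (ρ (x * y))) =
      qmk c N (c (ρ x) * (y - c (ρ y)) + c (ρ y) * (x - c (ρ x))) := by
  rw [qmk_eq_iff]
  have h : x * y - c (ρ (x * y)) - (c (ρ x) * (y - c (ρ y)) + c (ρ y) * (x - c (ρ x))) =
      (x - c (ρ x)) * (y - c (ρ y)) := by
    rw [map_mul, map_mul]
    ring
  rw [h]
  exact hN (Ideal.mul_mem_mul (sub_mem_ker c ρ hρc x) (sub_mem_ker c ρ hρc y))

/-- the universal derivation into `A ⧸ N` as a ring homomorphism into the square zero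
extension. -/
def phiN : A →+* TrivSqZeroExt k (QW c N) where
  toFun x := inl (ρ x) + inr (qmk c N (x - c (ρ x)))
  map_one' := by
    apply TrivSqZeroExt.ext
    · simp
    · simp only [map_one, snd_add, snd_inl, snd_inr, zero_add, snd_one]
      rw [qmk_eq_zero_iff, sub_self]
      exact N.zero_mem
  map_zero' := by
    apply TrivSqZeroExt.ext
    · simp
    · simp only [map_zero, snd_add, snd_inl, snd_inr, zero_add, snd_zero, sub_self]
      exact qmk_zero c N
  map_add' x y := by
    apply TrivSqZeroExt.ext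
    · simp
    · simp only [map_add, snd_add, snd_inl, snd_inr, zero_add]
      rw [← qmk_add]
      congr 1
      ring
  map_mul' x y := by
    apply TrivSqZeroExt.ext
    · simp
    · simp only [snd_add, snd_inl, snd_inr, zero_add, snd_mul, fst_add, fst_inl, fst_inr,
        add_zero, op_smul_eq_smul]
      rw [smul_qmk, smul_qmk, ← qmk_add]
      exact qmk_mul c ρ N hρc hN x y

theorem fst_phiN (x : A) : fst (phiN c ρ N hρc hN x) = ρ x := by
  simp [phiN]

theorem snd_phiN (x : A) : snd (phiN c ρ N hρc hN x) = qmk c N (x - c (ρ x)) := by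
  simp [phiN]

theorem phiN_c (r : k) : phiN c ρ N hρc hN (c r) = inl r := by
  apply TrivSqZeroExt.ext
  · rw [fst_phiN, hρc, fst_inl]
  · rw [snd_phiN, hρc, sub_self, snd_inl]
    exact qmk_zero c N

end alg

section unr

open Groth.Agent.Helper16.UnramLocus

/-- unramifiedness near a point from the maximal ideal and a surjective residue field map. -/
theorem unrAt_of_map_maximalIdeal {X Y : Scheme.{u}} (f : X ⟶ Y) [LocallyOfFiniteType f] (x : X)
    (hmax : (IsLocalRing.maximalIdeal (Y.presheaf.stalk (f.base x))).map (f.stalkMap x).hom =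
      IsLocalRing.maximalIdeal (X.presheaf.stalk x))
    (hres : Function.Surjective (f.residueFieldMap x).hom) : UnrAt f x := by
  show ∃ U : X.Opens, x ∈ U ∧ FormallyUnramified (U.ι ≫ f)
  rw [Groth.Agent.Helper16.StalkUnr.unrAt_iff_local]
  refine ⟨hmax, ?_⟩
  letI := (f.residueFieldMap x).hom.toAlgebra
  have hs : Function.Surjective (algebraMap (Y.residueField (f.base x)) (X.residueField x)) :=
    hres
  refine ⟨?_, ?_⟩
  · exact Module.Finite.of_surjective (Algebra.linearMap _ _) hs
  · exact ⟨fun r => by obtain ⟨a, rfl⟩ := hs r; exact isSeparable_algebraMap a⟩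

end unr

section main

variable (G : Over (Spec (CommRingCat.of k))) [GrpObj G]

/-- the structure map of the local ring at the unit. -/
abbrev cG : k →+* ↑(Ost G η[G]) := (cst G η[G]).hom

/-- the augmentation of the local ring at the unit. -/
abbrev ρG : ↑(Ost G η[G]) →+* k := (ρst G η[G]).hom

theorem ρG_cG (r : k) : ρG G (cG G r) = r := by
  have h := cst_ρst G η[G]
  exact congrArg (fun f : CommRingCat.of k ⟶ CommRingCat.of k => f.hom r) h

instance : IsLocalHom (ρG G) :=
  inferInstanceAs (IsLocalHom (Scheme.stalkClosedPointTo (x₀s G η[G])).hom)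

theorem ker_ρG : RingHom.ker (ρG G) = IsLocalRing.maximalIdeal ↑(Ost G η[G]) := by
  ext x
  rw [RingHom.mem_ker, IsLocalRing.mem_maximalIdeal, mem_nonunits_iff,
    ← isUnit_map_iff (ρG G) x, isUnit_iff_ne_zero, not_not]

variable (N : Ideal ↑(Ost G η[G]))
  (hN : IsLocalRing.maximalIdeal ↑(Ost G η[G]) * IsLocalRing.maximalIdeal ↑(Ost G η[G]) ≤ N)

include hN in
theorem hN' : RingHom.ker (ρG G) * RingHom.ker (ρG G) ≤ N := by
  rw [ker_ρG]
  exact hN

/-- the tangent vector attached to an ideal containing the square of the maximal ideal. -/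
def φN : Ost G η[G] ⟶ CommRingCat.of (TrivSqZeroExt k (QW (cG G) N)) :=
  CommRingCat.ofHom (phiN (cG G) (ρG G) N (ρG_cG G) (hN' G N hN))

include hN in
theorem hφN : cst G η[G] ≫ φN G N hN =
    CommRingCat.ofHom (algebraMap k (TrivSqZeroExt k (QW (cG G) N))) := by
  apply CommRingCat.hom_ext
  apply RingHom.ext
  intro r
  exact phiN_c (cG G) (ρG G) N (ρG_cG G) (hN' G N hN) r

include hN in
theorem hφN1 : φN G N hN ≫ CommRingCat.ofHom (fstHom k k (QW (cG G) N)).toRingHom =
    ρst G η[G] := by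
  apply CommRingCat.hom_ext
  apply RingHom.ext
  intro x
  exact fst_phiN (cG G) (ρG G) N (ρG_cG G) (hN' G N hN) x

/-- the homomorphism of the local ring at the unit induced by multiplication by `n`. -/
abbrev nsharp (n : ℤ) : ↑(Ost G η[G]) →+* ↑(Ost G η[G]) :=
  (sharp (𝟙 G ^ n) (unit_zpow G n)).hom

theorem nsharp_cG (n : ℤ) (r : k) : nsharp G n (cG G r) = cG G r := by
  have h := cst_sharp (𝟙 G ^ n) (unit_zpow G n)
  exact congrArg (fun f : CommRingCat.of k ⟶ Ost G η[G] => f.hom r) h

theorem ρG_nsharp (n : ℤ) (x : ↑(Ost G η[G])) : ρG G (nsharp G n x) = ρG G x := by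
  have h := sharp_ρst (𝟙 G ^ n) (unit_zpow G n)
  exact congrArg (fun f : Ost G η[G] ⟶ CommRingCat.of k => f.hom x) h

include hN in
theorem key (n : ℤ) (x : ↑(Ost G η[G])) :
    qmk (cG G) N (nsharp G n x - cG G (ρG G (nsharp G n x))) =
      n • qmk (cG G) N (x - cG G (ρG G x)) := by
  have h := der_sharp_zpow G n (pt G η[G] (φN G N hN) (hφN G N hN))
    (pW_pt G (φN G N hN) (hφN G N hN) (hφN1 G N hN)) x
  rw [der_pt, der_pt] at h
  have e : ∀ y, snd ((φN G N hN).hom y) = qmk (cG G) N (y - cG G (ρG G y)) :=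
    fun y => snd_phiN (cG G) (ρG G) N (ρG_cG G) (hN' G N hN) y
  rw [e, e] at h
  exact h

omit hN N in
theorem mem_maximalIdeal_iff (x : ↑(Ost G η[G])) :
    x ∈ IsLocalRing.maximalIdeal ↑(Ost G η[G]) ↔ ρG G x = 0 := by
  rw [← ker_ρG, RingHom.mem_ker]

omit hN N in
theorem nsharp_mem (n : ℤ) {x : ↑(Ost G η[G])} (hx : x ∈ IsLocalRing.maximalIdeal ↑(Ost G η[G])) :
    nsharp G n x ∈ IsLocalRing.maximalIdeal ↑(Ost G η[G]) := by
  rw [mem_maximalIdeal_iff] at hx ⊢
  rw [ρG_nsharp, hx]

omit hN N in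
theorem le_sup_map (n : ℤ) (hn : (n : k) ≠ 0) :
    IsLocalRing.maximalIdeal ↑(Ost G η[G]) ≤
      IsLocalRing.maximalIdeal ↑(Ost G η[G]) * IsLocalRing.maximalIdeal ↑(Ost G η[G]) ⊔
        (IsLocalRing.maximalIdeal ↑(Ost G η[G])).map (nsharp G n) := by
  set m := IsLocalRing.maximalIdeal ↑(Ost G η[G]) with hm
  set N := m * m ⊔ m.map (nsharp G n) with hNdef
  have hN : m * m ≤ N := le_sup_left
  intro x hx
  have hk := key G N hN n x
  have h1 : nsharp G n x - cG G (ρG G (nsharp G n x)) ∈ N := by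
    rw [ρG_nsharp]
    have : nsharp G n x - cG G (ρG G x) = nsharp G n (x - cG G (ρG G x)) := by
      rw [map_sub, nsharp_cG]
    rw [this]
    apply Ideal.mem_sup_right
    apply Ideal.mem_map_of_mem
    rw [hm, ← ker_ρG]
    exact sub_mem_ker (cG G) (ρG G) (ρG_cG G) x
  rw [(qmk_eq_zero_iff _ _ _).mpr h1] at hk
  have h2 : qmk (cG G) N (x - cG G (ρG G x)) = 0 := by
    have h3 : (n : k) • qmk (cG G) N (x - cG G (ρG G x)) = 0 := by
      rw [Int.cast_smul_eq_zsmul]
      exact hk.symm
    exact (smul_eq_zero.mp h3).resolve_left hn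
  rw [qmk_eq_zero_iff] at h2
  have h4 : ρG G x = 0 := (mem_maximalIdeal_iff G x).mp hx
  rwa [h4, map_zero, sub_zero] at h2

omit hN N in
/-- if `n` is invertible in `k`, multiplication by `n` maps the maximal ideal at the unit onto
itself. -/
theorem map_nsharp_eq (n : ℤ) (hn : (n : k) ≠ 0) [IsNoetherianRing ↑(Ost G η[G])] :
    (IsLocalRing.maximalIdeal ↑(Ost G η[G])).map (nsharp G n) =
      IsLocalRing.maximalIdeal ↑(Ost G η[G]) := by
  apply le_antisymm
  · rw [Ideal.map_le_iff_le_comap]
    intro x hx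
    exact nsharp_mem G n hx
  · have h := le_sup_map G n hn
    refine Submodule.le_of_le_smul_of_le_jacobson_bot (IsNoetherian.noetherian _)
      (IsLocalRing.maximalIdeal_le_jacobson ⊥) ?_
    rw [Ideal.smul_eq_mul, sup_comm]
    exact h

omit hN N in
/-- if `n` vanishes in `k`, multiplication by `n` maps the maximal ideal at the unit into its
square. -/
theorem map_nsharp_le (n : ℤ) (hn : (n : k) = 0) :
    (IsLocalRing.maximalIdeal ↑(Ost G η[G])).map (nsharp G n) ≤
      IsLocalRing.maximalIdeal ↑(Ost G η[G]) * IsLocalRing.maximalIdeal ↑(Ost G η[G]) := by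
  rw [Ideal.map_le_iff_le_comap]
  intro x hx
  have hk := key G _ (le_refl _) n x
  rw [← Int.cast_smul_eq_zsmul k, hn, zero_smul, qmk_eq_zero_iff, ρG_nsharp,
    (mem_maximalIdeal_iff G x).mp hx, map_zero, sub_zero] at hk
  exact hk

end main

end Groth.Agent.Helper12.Tan
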