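import Mathlib
import Groth.Prelude
import Groth.Agent.Lib.Helper12.TanC

set_option autoImplicit false
set_option linter.style.haveILetI false
universe u
open CategoryTheory CategoryTheory.Limits AlgebraicGeometry Opposite TopologicalSpace Topology
  MonoidalCategory CartesianMonoidalCategory MonObj GrpObj

noncomputable section

namespace Groth.Agent.Helper12.Tan

open Groth.Agent.Helper16.UnramLocus

variable {k : Type u} [Field k]

/-- mutually inverse homomorphisms of local rings map the maximal ideal onto the maximal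
ideal. -/
theorem map_maximalIdeal_of_inverse {A B : Type u} [CommRing A] [CommRing B] [IsLocalRing A]
    [IsLocalRing B] (f : A →+* B) (g : B →+* A) (hgf : ∀ a, g (f a) = a) (hfg : ∀ b, f (g b) = b) :
    (IsLocalRing.maximalIdeal A).map f = IsLocalRing.maximalIdeal B := by
  apply le_antisymm
  · rw [Ideal.map_le_iff_le_comap]
    intro a ha
    rw [Ideal.mem_comap, IsLocalRing.mem_maximalIdeal, mem_nonunits_iff]
    intro hu
    have : IsUnit (g (f a)) := hu.map g
    rw [hgf] at this
    exact ha this
  · intro b hb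
    have hgb : g b ∈ IsLocalRing.maximalIdeal A := by
      rw [IsLocalRing.mem_maximalIdeal, mem_nonunits_iff]
      intro hu
      have : IsUnit (f (g b)) := hu.map f
      rw [hfg] at this
      exact hb this
    rw [← hfg b]
    exact Ideal.mem_map_of_mem f hgb

variable (G : Over (Spec (CommRingCat.of k))) [GrpObj G] (n : ℤ)

/-- multiplication by `n` on the underlying scheme. -/
abbrev un : G.left ⟶ G.left := (𝟙 G ^ n).left

theorem un_e0 : (un G n) (pt₀ G η[G]) = pt₀ G η[G] := f_pt₀ (𝟙 G ^ n) (unit_zpow G n)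

/-- identification of the stalks at `e` and `[n](e)`. -/
def spec : G.left.presheaf.stalk (pt₀ G η[G]) ⟶ G.left.presheaf.stalk ((un G n) (pt₀ G η[G])) :=
  G.left.presheaf.stalkSpecializes (specializes_of_eq (un_e0 G n))

/-- identification of the stalks at `[n](e)` and `e`. -/
def spec' : G.left.presheaf.stalk ((un G n) (pt₀ G η[G])) ⟶ G.left.presheaf.stalk (pt₀ G η[G]) :=
  G.left.presheaf.stalkSpecializes (specializes_of_eq (un_e0 G n).symm)

theorem spec'_spec : spec' G n ≫ spec G n = 𝟙 _ := by
  unfold spec spec'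
  rw [TopCat.Presheaf.stalkSpecializes_comp, TopCat.Presheaf.stalkSpecializes_refl]

theorem spec_spec' : spec G n ≫ spec' G n = 𝟙 _ := by
  unfold spec spec'
  rw [TopCat.Presheaf.stalkSpecializes_comp, TopCat.Presheaf.stalkSpecializes_refl]

theorem nsharp_eq : sharp (𝟙 G ^ n) (unit_zpow G n) = spec G n ≫ (un G n).stalkMap (pt₀ G η[G]) :=
  rfl

theorem map_spec : (IsLocalRing.maximalIdeal ↑(Ost G η[G])).map (spec G n).hom =
    IsLocalRing.maximalIdeal ↑(G.left.presheaf.stalk ((un G n) (pt₀ G η[G]))) := by
  apply map_maximalIdeal_of_inverse (spec G n).hom (spec' G n).hom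
  · intro a
    have := spec_spec' G n
    exact congrArg (fun f : Ost G η[G] ⟶ Ost G η[G] => f.hom a) this
  · intro b
    have := spec'_spec G n
    exact congrArg (fun f : G.left.presheaf.stalk ((un G n) (pt₀ G η[G])) ⟶ _ => f.hom b) this

theorem map_stalkMap :
    (IsLocalRing.maximalIdeal ↑(G.left.presheaf.stalk ((un G n) (pt₀ G η[G])))).map
        ((un G n).stalkMap (pt₀ G η[G])).hom =
      (IsLocalRing.maximalIdeal ↑(Ost G η[G])).map (nsharp G n) := by
  rw [← map_spec G n, Ideal.map_map]
  rfl

theorem residueFieldMap_surjective :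
    Function.Surjective ((un G n).residueFieldMap (pt₀ G η[G])).hom := by
  intro r
  obtain ⟨b, rfl⟩ := G.left.residue_surjective (pt₀ G η[G]) r
  refine ⟨(G.left.residue ((un G n) (pt₀ G η[G]))).hom ((spec G n).hom (cG G (ρG G b))), ?_⟩
  have h := Scheme.residue_residueFieldMap (un G n) (pt₀ G η[G])
  have h1 := congrArg (fun f : G.left.presheaf.stalk ((un G n) (pt₀ G η[G])) ⟶
    G.left.residueField (pt₀ G η[G]) => f.hom ((spec G n).hom (cG G (ρG G b)))) h
  simp only [CommRingCat.hom_comp, RingHom.comp_apply] at h1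
  rw [h1]
  have h2 : ((un G n).stalkMap (pt₀ G η[G])).hom ((spec G n).hom (cG G (ρG G b))) =
      nsharp G n (cG G (ρG G b)) := rfl
  rw [h2, nsharp_cG]
  show IsLocalRing.residue _ _ = IsLocalRing.residue _ _
  rw [← sub_eq_zero, ← map_sub, IsLocalRing.residue_eq_zero_iff, mem_maximalIdeal_iff, map_sub,
    ρG_cG, sub_self]

/-- if `n` is invertible in `k`, multiplication by `n` on a `k`-group scheme locally of finite
type is unramified at the unit point. -/
theorem unrAt_zpow [LocallyOfFiniteType G.hom] (hn : (n : k) ≠ 0) :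
    UnrAt (un G n) (pt₀ G η[G]) := by
  haveI : LocallyOfFiniteType ((un G n) ≫ G.hom) := by
    have : (un G n) ≫ G.hom = G.hom := Over.w (𝟙 G ^ n)
    rw [this]
    infer_instance
  haveI : LocallyOfFiniteType (un G n) := locallyOfFiniteType_of_comp (un G n) G.hom
  haveI : IsLocallyNoetherian G.left := LocallyOfFiniteType.isLocallyNoetherian G.hom
  refine unrAt_of_map_maximalIdeal (un G n) (pt₀ G η[G]) ?_ (residueFieldMap_surjective G n)
  rw [map_stalkMap]
  exact map_nsharp_eq G n hn

/-- if `n` vanishes in `k` and multiplication by `n` is unramified at the unit point, the local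
ring at the unit point is a field. -/
theorem maximalIdeal_eq_bot_of_unrAt [LocallyOfFiniteType G.hom] (hn : (n : k) = 0)
    (h : UnrAt (un G n) (pt₀ G η[G])) : IsLocalRing.maximalIdeal ↑(Ost G η[G]) = ⊥ := by
  haveI : LocallyOfFiniteType ((un G n) ≫ G.hom) := by
    have : (un G n) ≫ G.hom = G.hom := Over.w (𝟙 G ^ n)
    rw [this]
    infer_instance
  haveI : LocallyOfFiniteType (un G n) := locallyOfFiniteType_of_comp (un G n) G.hom
  haveI : IsLocallyNoetherian G.left := LocallyOfFiniteType.isLocallyNoetherian G.hom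
  obtain ⟨hmax, -⟩ :=
    (Groth.Agent.Helper16.StalkUnr.unrAt_iff_local (un G n) (pt₀ G η[G])).mp h
  rw [map_stalkMap] at hmax
  have h2 := map_nsharp_le G n hn
  rw [hmax] at h2
  exact Submodule.eq_bot_of_le_smul_of_le_jacobson_bot _ _ (IsNoetherian.noetherian _)
    (by rwa [Ideal.smul_eq_mul]) (IsLocalRing.maximalIdeal_le_jacobson ⊥)

end Groth.Agent.Helper12.Tan
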