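import Mathlib
import Groth.Prelude
import Groth.Agent.Lib.Helper12.TanD
import Groth.Agent.Lib.Helper12.IsogDim
import Groth.Agent.Lib.Helper16.Sch.KerTfae
import Groth.Agent.Lib.Helper16.Sch.HomFibD
import Groth.Agent.Lib.Helper17.AB2
import Groth.Agent.Lib.Helper16.Sch.UnrFib

set_option autoImplicit false
set_option linter.style.haveILetI false
universe u
open CategoryTheory CategoryTheory.Limits AlgebraicGeometry Opposite TopologicalSpace Topology
  MonoidalCategory CartesianMonoidalCategory MonObj GrpObj

noncomputable section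

namespace Groth.Agent.Helper12.Tan

open Groth.Agent.Helper16.UnramLocus Groth.Agent.Helper16

variable {k : Type u} [Field k]

theorem locallyQuasiFinite_of_unramified {X Y : Scheme.{u}} (f : X ⟶ Y) [FormallyUnramified f]
    [LocallyOfFiniteType f] : LocallyQuasiFinite f := by
  refine ⟨fun {U} hU {V} hV e => ?_⟩
  have h1 : (f.appLE U V e).hom.FormallyUnramified :=
    HasRingHomProperty.appLE (P := @FormallyUnramified) f inferInstance ⟨U, hU⟩ ⟨V, hV⟩ e
  have h2 : (f.appLE U V e).hom.FiniteType := f.finiteType_appLE hU hV e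
  algebraize [(f.appLE U V e).hom]
  show @Algebra.QuasiFinite _ _ _ _ (f.appLE U V e).hom.toAlgebra
  infer_instance

variable (G : Over (Spec (CommRingCat.of k))) [GrpObj G] (n : ℤ)

theorem lft_zpow [LocallyOfFiniteType G.hom] : LocallyOfFiniteType (𝟙 G ^ n).left := by
  haveI : LocallyOfFiniteType ((𝟙 G ^ n).left ≫ G.hom) := by
    rw [Over.w (𝟙 G ^ n)]
    infer_instance
  exact locallyOfFiniteType_of_comp (𝟙 G ^ n).left G.hom

/-- if `n` is invertible in `k` and multiplication by `n` is a homomorphism, it is
unramified. -/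
theorem formallyUnramified_zpow [LocallyOfFiniteType G.hom] [IsMonHom (𝟙 G ^ n)]
    (hn : (n : k) ≠ 0) : FormallyUnramified (𝟙 G ^ n).left := by
  haveI := lft_zpow G n
  rw [KerTfae.unr_iff_fibres]
  intro s
  rw [GrpHomFib.unr_us_iff]
  have hs : GrpHomFib.e G s = pt₀ G η[G] := by
    have : s = IsLocalRing.closedPoint k := Subsingleton.elim _ _
    rw [this]
    rfl
  rw [hs]
  exact unrAt_zpow G n hn

section AV

variable [IsProper G.hom] [IsIntegral G.left]

/-- on an abelian variety multiplication by `n` is a homomorphism. -/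
theorem isMonHom_zpow : IsMonHom (𝟙 G ^ n) := by
  have hA := Groth.Agent.Helper17.AB2.antiAffine_of_point k G.hom η[G].left (Over.w η[G])
  exact Groth.Agent.Helper17.AA7.main14578 k G G hA (𝟙 G ^ n) (unit_zpow G n)

/-- on an abelian variety over `k`, multiplication by an integer invertible in `k` is finite
étale and surjective. -/
theorem etale_zpow (hn : (n : k) ≠ 0) :
    Etale (𝟙 G ^ n).left ∧ IsFinite (𝟙 G ^ n).left ∧ Surjective (𝟙 G ^ n).left := by
  haveI := isMonHom_zpow G n
  haveI := lft_zpow G n
  haveI := formallyUnramified_zpow G n hn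
  haveI : LocallyQuasiFinite (𝟙 G ^ n).left := locallyQuasiFinite_of_unramified _
  haveI : CompactSpace G.left := QuasiCompact.compactSpace_of_compactSpace G.hom
  obtain ⟨d, hd⟩ := Groth.Agent.Helper12.IsogDim.exists_nat_dim G.hom
  haveI : QuasiCompact ((𝟙 G ^ n).left ≫ G.hom) := by
    rw [Over.w (𝟙 G ^ n)]
    infer_instance
  haveI : QuasiCompact (𝟙 G ^ n).left := QuasiCompact.of_comp (𝟙 G ^ n).left G.hom
  haveI : Surjective (𝟙 G ^ n).left :=
    (Groth.Agent.Helper12.IsogDim.lqf_iff_surjective (𝟙 G ^ n) d hd hd).mp inferInstance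
  haveI : Flat (𝟙 G ^ n).left := Isog.flat_field (𝟙 G ^ n)
  haveI : LocallyOfFinitePresentation G.hom := inferInstance
  haveI := HomFibCrit.lfp_left (𝟙 G ^ n)
  exact ⟨Etale.of_formallyUnramified_of_flat _, (Isog.finite_surjective_field (𝟙 G ^ n)).1,
    inferInstance⟩

/-- on an abelian variety of positive dimension over `k`, multiplication by an integer
vanishing in `k` is not étale. -/
theorem not_etale_zpow (hn : (n : k) = 0) (hdim : 0 < topologicalKrullDim G.left) :
    ¬ Etale (𝟙 G ^ n).left := by
  intro h
  haveI := lft_zpow G n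
  have hm := maximalIdeal_eq_bot_of_unrAt G n hn
    (unrAt_of_formallyUnramified (un G n) (pt₀ G η[G]))
  have hgen : ∀ y : G.left, y ⤳ pt₀ G η[G] → y = pt₀ G η[G] := by
    intro y hy
    have hy' : y ∈ Set.range (G.left.fromSpecStalk (pt₀ G η[G])) := by
      rw [Scheme.range_fromSpecStalk]
      exact hy
    obtain ⟨p, rfl⟩ := hy'
    have hp : p = IsLocalRing.closedPoint _ := by
      apply PrimeSpectrum.ext
      show p.asIdeal = IsLocalRing.maximalIdeal _
      rw [hm]
      exact le_bot_iff.mp (hm ▸ IsLocalRing.le_maximalIdeal p.2.ne_top)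
    rw [hp, Scheme.fromSpecStalk_closedPoint]
  have hξ : genericPoint G.left = pt₀ G η[G] :=
    hgen _ ((genericPoint_spec G.left).specializes trivial)
  have hcl : IsClosed ({pt₀ G η[G]} : Set G.left) := by
    haveI : IsClosedImmersion (x₀s G η[G] ≫ G.hom) := by
      rw [x₀s_hom]
      infer_instance
    haveI : IsClosedImmersion (x₀s G η[G]) := IsClosedImmersion.of_comp _ G.hom
    have hr : ({pt₀ G η[G]} : Set G.left) = Set.range (x₀s G η[G]) := by
      ext y
      constructor
      · rintro rfl
        exact ⟨_, rfl⟩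
      · rintro ⟨s, rfl⟩
        have : s = IsLocalRing.closedPoint k := Subsingleton.elim _ _
        rw [this]
        rfl
    rw [hr]
    exact (x₀s G η[G]).isClosedEmbedding.isClosed_range
  have huniv : ∀ y : G.left, y = pt₀ G η[G] := by
    intro y
    have h1 : y ∈ closure ({genericPoint G.left} : Set G.left) := by
      rw [(genericPoint_spec G.left).def]
      trivial
    rw [hξ, hcl.closure_eq] at h1
    exact h1
  haveI : Subsingleton G.left := ⟨fun a b => (huniv a).trans (huniv b).symm⟩
  haveI : Subsingleton (IrreducibleCloseds G.left) := by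
    constructor
    intro a b
    apply IrreducibleCloseds.ext
    obtain ⟨x, hx⟩ := a.isIrreducible.nonempty
    obtain ⟨y, hy⟩ := b.isIrreducible.nonempty
    ext z
    have h1 : z = x := Subsingleton.elim _ _
    have h2 : z = y := Subsingleton.elim _ _
    constructor
    · intro _; rw [h2]; exact hy
    · intro _; rw [h1]; exact hx
  have h0 : topologicalKrullDim G.left ≤ 0 := Order.krullDim_nonpos_of_subsingleton
  exact absurd hdim (not_lt.mpr h0)

end AV

end Groth.Agent.Helper12.Tan
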