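import Mathlib
import Groth.Prelude
import Groth.Agent.Lib.Helper12.TanE

set_option autoImplicit false
set_option linter.style.haveILetI false
universe u
open CategoryTheory CategoryTheory.Limits AlgebraicGeometry Opposite TopologicalSpace Topology
  MonoidalCategory CartesianMonoidalCategory MonObj GrpObj

noncomputable section

namespace Groth.Agent.Helper12.Tan

open Groth.Agent.Helper16.UnramLocus Groth.Agent.Helper16 TrivSqZeroExt

variable {k : Type u} [Field k]
variable {G H : Over (Spec (CommRingCat.of k))} [GrpObj G] [GrpObj H]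

section general

variable {W : Type u} [AddCommGroup W] [Module k W] [Module kᵐᵒᵖ W] [IsCentralScalar k W]
variable (u : G ⟶ H) (hu : η[G] ≫ u = η[H])

include hu in
theorem mem_comp' (a : T (k := k) (TrivSqZeroExt k W) ⟶ G) (ha : pW k W ≫ a = 1) :
    pW k W ≫ a ≫ u = 1 := by
  rw [← Category.assoc, ha, Hom.one_def, Category.assoc, hu]
  rfl

theorem der_comp' (a : T (k := k) (TrivSqZeroExt k W) ⟶ G) (ha : pW k W ≫ a = 1)
    (x : Ost H η[H]) :
    der H (a ≫ u) (mem_comp' u hu a ha) x = der G a ha ((sharp u hu).hom x) := by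
  obtain ⟨φ, hφ, rfl, h1⟩ := exists_pt_of_mem G a ha
  rw [der_congr H (pt_comp u hu φ hφ), der_pt, der_pt]
  rfl

/-- the homomorphism of local rings at the units induced by a pointed morphism. -/
abbrev usharp : ↑(Ost H η[H]) →+* ↑(Ost G η[G]) := (sharp u hu).hom

theorem usharp_cG (r : k) : usharp u hu (cG H r) = cG G r := by
  have h := cst_sharp u hu
  exact congrArg (fun f : CommRingCat.of k ⟶ Ost G η[G] => f.hom r) h

theorem ρG_usharp (x : ↑(Ost H η[H])) : ρG G (usharp u hu x) = ρG H x := by
  have h := sharp_ρst u hu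
  exact congrArg (fun f : Ost H η[H] ⟶ CommRingCat.of k => f.hom x) h

theorem usharp_mem {x : ↑(Ost H η[H])} (hx : x ∈ IsLocalRing.maximalIdeal ↑(Ost H η[H])) :
    usharp u hu x ∈ IsLocalRing.maximalIdeal ↑(Ost G η[G]) := by
  rw [mem_maximalIdeal_iff] at hx ⊢
  rw [ρG_usharp, hx]

theorem map_usharp_le :
    (IsLocalRing.maximalIdeal ↑(Ost H η[H])).map (usharp u hu) ≤
      IsLocalRing.maximalIdeal ↑(Ost G η[G]) := by
  rw [Ideal.map_le_iff_le_comap]
  intro x hx
  exact usharp_mem u hu hx

end general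

section mul

variable {W : Type u} [AddCommGroup W] [Module k W] [Module kᵐᵒᵖ W] [IsCentralScalar k W]
variable (u v : G ⟶ H) (hu : η[G] ≫ u = η[H]) (hv : η[G] ≫ v = η[H])

include hu hv in
theorem unit_mul : η[G] ≫ (u * v) = η[H] := by
  rw [MonObj.comp_mul, hu, hv, MonObj.one_eq_one, _root_.mul_one]

/-- the tangent map of a product of pointed morphisms to a group is the sum of the tangent
maps. -/
theorem der_sharp_mul (a : T (k := k) (TrivSqZeroExt k W) ⟶ G) (ha : pW k W ≫ a = 1)
    (x : Ost H η[H]) :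
    der G a ha ((sharp (u * v) (unit_mul u v hu hv)).hom x) =
      der G a ha ((sharp u hu).hom x) + der G a ha ((sharp v hv).hom x) := by
  rw [← der_comp' (u * v) (unit_mul u v hu hv) a ha x, ← der_comp' u hu a ha x,
    ← der_comp' v hv a ha x]
  have h : a ≫ (u * v) = (a ≫ u) * (a ≫ v) := MonObj.comp_mul _ _ _
  rw [der_congr H h, der_mul]

variable (N : Ideal ↑(Ost G η[G]))
  (hN : IsLocalRing.maximalIdeal ↑(Ost G η[G]) * IsLocalRing.maximalIdeal ↑(Ost G η[G]) ≤ N)

include hN in
theorem key_mul (x : ↑(Ost H η[H])) :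
    qmk (cG G) N (usharp (u * v) (unit_mul u v hu hv) x -
        cG G (ρG G (usharp (u * v) (unit_mul u v hu hv) x))) =
      qmk (cG G) N (usharp u hu x - cG G (ρG G (usharp u hu x))) +
        qmk (cG G) N (usharp v hv x - cG G (ρG G (usharp v hv x))) := by
  have h := der_sharp_mul u v hu hv (pt G η[G] (φN G N hN) (hφN G N hN))
    (pW_pt G (φN G N hN) (hφN G N hN) (hφN1 G N hN)) x
  rw [der_pt, der_pt, der_pt] at h
  have e : ∀ y, snd ((φN G N hN).hom y) = qmk (cG G) N (y - cG G (ρG G y)) :=
    fun y => snd_phiN (cG G) (ρG G) N (ρG_cG G) (hN' G N hN) y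
  rw [e, e, e] at h
  exact h

/-- modulo the square of the maximal ideal, the local homomorphism of a product is the sum. -/
theorem usharp_mul_sub_mem {x : ↑(Ost H η[H])}
    (hx : x ∈ IsLocalRing.maximalIdeal ↑(Ost H η[H])) :
    usharp (u * v) (unit_mul u v hu hv) x - (usharp u hu x + usharp v hv x) ∈
      IsLocalRing.maximalIdeal ↑(Ost G η[G]) * IsLocalRing.maximalIdeal ↑(Ost G η[G]) := by
  have h := key_mul u v hu hv _ (le_refl _) x
  have hx0 : ρG H x = 0 := (mem_maximalIdeal_iff H x).mp hx
  rw [ρG_usharp, ρG_usharp, ρG_usharp, hx0, map_zero, sub_zero, sub_zero, sub_zero, ← qmk_add,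
    qmk_eq_iff] at h
  exact h

end mul

section stalk

variable (u : G ⟶ H) (hu : η[G] ≫ u = η[H])

include hu in
theorem u_e0 : u.left (pt₀ G η[G]) = pt₀ H η[H] := f_pt₀ u hu

/-- identification of the stalks at `e_H` and `u(e_G)`. -/
def specH : H.left.presheaf.stalk (pt₀ H η[H]) ⟶ H.left.presheaf.stalk (u.left (pt₀ G η[G])) :=
  H.left.presheaf.stalkSpecializes (specializes_of_eq (u_e0 u hu))

/-- identification of the stalks at `u(e_G)` and `e_H`. -/
def specH' : H.left.presheaf.stalk (u.left (pt₀ G η[G])) ⟶ H.left.presheaf.stalk (pt₀ H η[H]) :=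
  H.left.presheaf.stalkSpecializes (specializes_of_eq (u_e0 u hu).symm)

theorem specH'_specH : specH' u hu ≫ specH u hu = 𝟙 _ := by
  unfold specH specH'
  rw [TopCat.Presheaf.stalkSpecializes_comp, TopCat.Presheaf.stalkSpecializes_refl]

theorem specH_specH' : specH u hu ≫ specH' u hu = 𝟙 _ := by
  unfold specH specH'
  rw [TopCat.Presheaf.stalkSpecializes_comp, TopCat.Presheaf.stalkSpecializes_refl]

theorem usharp_eq : sharp u hu = specH u hu ≫ u.left.stalkMap (pt₀ G η[G]) := rfl

theorem map_specH : (IsLocalRing.maximalIdeal ↑(Ost H η[H])).map (specH u hu).hom =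
    IsLocalRing.maximalIdeal ↑(H.left.presheaf.stalk (u.left (pt₀ G η[G]))) := by
  apply map_maximalIdeal_of_inverse (specH u hu).hom (specH' u hu).hom
  · intro a
    have := specH_specH' u hu
    exact congrArg (fun f : Ost H η[H] ⟶ Ost H η[H] => f.hom a) this
  · intro b
    have := specH'_specH u hu
    exact congrArg (fun f : H.left.presheaf.stalk (u.left (pt₀ G η[G])) ⟶ _ => f.hom b) this

theorem map_stalkMap' :
    (IsLocalRing.maximalIdeal ↑(H.left.presheaf.stalk (u.left (pt₀ G η[G])))).map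
        (u.left.stalkMap (pt₀ G η[G])).hom =
      (IsLocalRing.maximalIdeal ↑(Ost H η[H])).map (usharp u hu) := by
  rw [← map_specH u hu, Ideal.map_map]
  rfl

include hu in
theorem residueFieldMap_surjective' :
    Function.Surjective (u.left.residueFieldMap (pt₀ G η[G])).hom := by
  intro r
  obtain ⟨b, rfl⟩ := G.left.residue_surjective (pt₀ G η[G]) r
  refine ⟨(H.left.residue (u.left (pt₀ G η[G]))).hom ((specH u hu).hom (cG H (ρG G b))), ?_⟩
  have h := Scheme.residue_residueFieldMap u.left (pt₀ G η[G])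
  have h1 := congrArg (fun f : H.left.presheaf.stalk (u.left (pt₀ G η[G])) ⟶
    G.left.residueField (pt₀ G η[G]) => f.hom ((specH u hu).hom (cG H (ρG G b)))) h
  simp only [CommRingCat.hom_comp, RingHom.comp_apply] at h1
  rw [h1]
  have h2 : (u.left.stalkMap (pt₀ G η[G])).hom ((specH u hu).hom (cG H (ρG G b))) =
      usharp u hu (cG H (ρG G b)) := rfl
  rw [h2, usharp_cG]
  show IsLocalRing.residue _ _ = IsLocalRing.residue _ _
  rw [← sub_eq_zero, ← map_sub, IsLocalRing.residue_eq_zero_iff, mem_maximalIdeal_iff, map_sub,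
    ρG_cG, sub_self]

/-- a pointed morphism of `k`-group schemes is unramified at the unit iff it maps the maximal
ideal at the unit onto the maximal ideal at the unit. -/
theorem unrAt_iff_map_usharp [LocallyOfFiniteType u.left] :
    UnrAt u.left (pt₀ G η[G]) ↔
      (IsLocalRing.maximalIdeal ↑(Ost H η[H])).map (usharp u hu) =
        IsLocalRing.maximalIdeal ↑(Ost G η[G]) := by
  constructor
  · intro h
    obtain ⟨hmax, -⟩ :=
      (Groth.Agent.Helper16.StalkUnr.unrAt_iff_local u.left (pt₀ G η[G])).mp h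
    rwa [map_stalkMap' u hu] at hmax
  · intro h
    refine unrAt_of_map_maximalIdeal u.left (pt₀ G η[G]) ?_ (residueFieldMap_surjective' u hu)
    rw [map_stalkMap' u hu]
    exact h

end stalk

end Groth.Agent.Helper12.Tan
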