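import Mathlib
import Groth.Prelude
import Groth.Agent.Lib.Helper12.TanH
import Groth.Agent.Lib.Helper12.GrpDim2
import Groth.Agent.Lib.Helper3.SmoothRegSch

set_option autoImplicit false
set_option linter.style.haveILetI false
universe u
open CategoryTheory CategoryTheory.Limits AlgebraicGeometry Opposite TopologicalSpace Topology
  MonoidalCategory CartesianMonoidalCategory MonObj GrpObj

noncomputable section

namespace Groth.Agent.Helper12.Tan

open Groth.Agent.Helper16.UnramLocus Groth.Agent.Helper16

variable {k : Type u} [Field k]
variable {G H : Over (Spec (CommRingCat.of k))} [GrpObj G] [GrpObj H]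

/-- a homomorphism of `k`-group schemes is unramified iff it is unramified at the unit. -/
theorem formallyUnramified_iff_unrAt (u : G ⟶ H) [IsMonHom u] [LocallyOfFiniteType u.left] :
    FormallyUnramified u.left ↔ UnrAt u.left (pt₀ G η[G]) := by
  have hs : ∀ s : ↥(Spec (CommRingCat.of k)), GrpHomFib.e G s = pt₀ G η[G] := by
    intro s
    have : s = IsLocalRing.closedPoint k := Subsingleton.elim _ _
    rw [this]
    rfl
  rw [KerTfae.unr_iff_fibres]
  constructor
  · intro h
    have := h (IsLocalRing.closedPoint k)
    rw [GrpHomFib.unr_us_iff, hs] at this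
    exact this
  · intro h s
    rw [GrpHomFib.unr_us_iff, hs]
    exact h

theorem unit_comp (u : G ⟶ H) [IsMonHom u] : η[G] ≫ u = η[H] := IsMonHom.one_hom u

/-- a homomorphism of `k`-group schemes is unramified iff it maps the maximal ideal at the unit
onto the maximal ideal at the unit. -/
theorem formallyUnramified_iff_map (u : G ⟶ H) [IsMonHom u] [LocallyOfFiniteType u.left] :
    FormallyUnramified u.left ↔
      (IsLocalRing.maximalIdeal ↑(Ost H η[H])).map (usharp u (unit_comp u)) =
        IsLocalRing.maximalIdeal ↑(Ost G η[G]) := by
  rw [formallyUnramified_iff_unrAt, unrAt_iff_map_usharp u (unit_comp u)]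

/-- in a local ring with principal maximal ideal, an ideal properly contained in the maximal
ideal is contained in its square. -/
theorem le_sq_of_ne {A : Type u} [CommRing A] [IsLocalRing A]
    (hp : (IsLocalRing.maximalIdeal A).IsPrincipal) (I : Ideal A)
    (hI : I ≤ IsLocalRing.maximalIdeal A) (hne : I ≠ IsLocalRing.maximalIdeal A) :
    I ≤ IsLocalRing.maximalIdeal A * IsLocalRing.maximalIdeal A := by
  obtain ⟨t, ht⟩ := hp.principal
  have ht' : IsLocalRing.maximalIdeal A = Ideal.span {t} := ht
  intro x hx
  have hxm := hI hx
  rw [ht', Ideal.mem_span_singleton'] at hxm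
  obtain ⟨a, rfl⟩ := hxm
  have htm : t ∈ IsLocalRing.maximalIdeal A := by
    rw [ht']
    exact Ideal.mem_span_singleton_self t
  by_cases ha : IsUnit a
  · exfalso
    apply hne
    apply le_antisymm hI
    rw [ht', Ideal.span_singleton_le_iff_mem]
    obtain ⟨b, hb⟩ := ha.exists_left_inv
    have : t = b * (a * t) := by rw [← _root_.mul_assoc, hb, _root_.one_mul]
    rw [this]
    exact I.mul_mem_left b hx
  · exact Ideal.mul_mem_mul ((IsLocalRing.mem_maximalIdeal a).mpr ha) htm

section isog

variable (u : G ⟶ H) [IsMonHom u] [IsProper G.hom] [IsProper H.hom] [IsIntegral H.left]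

/-- an unramified homomorphism between abelian varieties of the same dimension is finite,
étale and surjective. -/
theorem etale_of_unramified (d : ℕ) (hG : topologicalKrullDim G.left = d)
    (hH : topologicalKrullDim H.left = d) [LocallyOfFiniteType u.left]
    [FormallyUnramified u.left] :
    Etale u.left ∧ IsFinite u.left ∧ Surjective u.left := by
  haveI : LocallyQuasiFinite u.left := locallyQuasiFinite_of_unramified _
  haveI : QuasiCompact (u.left ≫ H.hom) := by
    rw [Over.w u]
    infer_instance
  haveI : QuasiCompact u.left := QuasiCompact.of_comp u.left H.hom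
  haveI : Surjective u.left :=
    (Groth.Agent.Helper12.IsogDim.lqf_iff_surjective u d hG hH).mp inferInstance
  haveI : Flat u.left := Isog.flat_field u
  haveI : LocallyOfFinitePresentation G.hom := inferInstance
  haveI := HomFibCrit.lfp_left u
  exact ⟨Etale.of_formallyUnramified_of_flat _, (Isog.finite_surjective_field u).1,
    inferInstance⟩

end isog

end Groth.Agent.Helper12.Tan
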