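import Mathlib

set_option autoImplicit false
set_option linter.style.haveILetI false
universe u

noncomputable section

namespace Groth.Agent.Helper12.UnrEndo

open IsLocalRing

/-- a surjective endomorphism of a Noetherian ring is injective. -/
theorem injective_of_surjective_endo {A : Type*} [CommRing A] [IsNoetherianRing A] (f : A →+* A)
    (hf : Function.Surjective f) : Function.Injective f := by
  let K : ℕ →o Ideal A :=
    { toFun := fun n => RingHom.ker (f ^ n)
      monotone' := by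
        apply monotone_nat_of_le_succ
        intro n x hx
        rw [RingHom.mem_ker] at hx ⊢
        rw [pow_succ', RingHom.mul_def, RingHom.comp_apply, hx, map_zero] }
  obtain ⟨N, hN⟩ := monotone_stabilizes_iff_noetherian.mpr (inferInstance : IsNoetherian A A) K
  rw [injective_iff_map_eq_zero]
  intro x hx
  have hsurj : Function.Surjective (f ^ N) := by
    rw [RingHom.coe_pow]
    exact hf.iterate N
  obtain ⟨y, rfl⟩ := hsurj x
  have hy : y ∈ K (N + 1) := by
    show y ∈ RingHom.ker (f ^ (N + 1))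
    rw [RingHom.mem_ker, pow_succ', RingHom.mul_def, RingHom.comp_apply, hx]
  rw [← hN (N + 1) (Nat.le_succ N)] at hy
  exact hy

variable {R : Type u} [CommRing R] [IsLocalRing R] (ψ : R →+* R)
  (hmap : (maximalIdeal R).map ψ = maximalIdeal R)
  (hres : ∀ x : R, ∃ y : R, x - ψ y ∈ maximalIdeal R)

include hmap in
theorem map_pow_eq (n : ℕ) : (maximalIdeal R ^ n).map ψ = maximalIdeal R ^ n := by
  rw [Ideal.map_pow, hmap]

include hmap hres in
theorem approx_aux (n : ℕ) (z : R) (hz : z ∈ (maximalIdeal R ^ n).map ψ) :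
    ∃ a : R, z - ψ a ∈ maximalIdeal R ^ (n + 1) := by
  induction hz using Submodule.span_induction with
  | mem z hz =>
    obtain ⟨b, -, rfl⟩ := hz
    exact ⟨b, by rw [sub_self]; exact Ideal.zero_mem _⟩
  | zero => exact ⟨0, by simp⟩
  | add z₁ z₂ _ _ h₁ h₂ =>
    obtain ⟨a₁, h₁⟩ := h₁
    obtain ⟨a₂, h₂⟩ := h₂
    refine ⟨a₁ + a₂, ?_⟩
    have : z₁ + z₂ - ψ (a₁ + a₂) = (z₁ - ψ a₁) + (z₂ - ψ a₂) := by rw [map_add]; ring
    rw [this]
    exact Ideal.add_mem _ h₁ h₂
  | smul r z hz h =>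
    obtain ⟨a, ha⟩ := h
    obtain ⟨s, hs⟩ := hres r
    have hz' : z ∈ maximalIdeal R ^ n := by
      have : z ∈ (maximalIdeal R ^ n).map ψ := hz
      rwa [map_pow_eq ψ hmap] at this
    refine ⟨s * a, ?_⟩
    have : r • z - ψ (s * a) = ψ s * (z - ψ a) + (r - ψ s) * z := by
      rw [map_mul, smul_eq_mul]; ring
    rw [this]
    refine Ideal.add_mem _ (Ideal.mul_mem_left _ _ ha) ?_
    rw [pow_succ']
    exact Ideal.mul_mem_mul hs hz'

include hmap hres in
theorem approx (n : ℕ) (x : R) : ∃ y : R, x - ψ y ∈ maximalIdeal R ^ n := by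
  induction n with
  | zero => exact ⟨0, by simp⟩
  | succ n ih =>
    obtain ⟨y, hy⟩ := ih
    rw [← map_pow_eq ψ hmap] at hy
    obtain ⟨a, ha⟩ := approx_aux ψ hmap hres n _ hy
    refine ⟨y + a, ?_⟩
    have : x - ψ (y + a) = x - ψ y - ψ a := by rw [map_add]; ring
    rw [this]
    exact ha

include hmap in
theorem pow_le_comap (n : ℕ) : maximalIdeal R ^ n ≤ (maximalIdeal R ^ n).comap ψ := by
  rw [← Ideal.map_le_iff_le_comap, map_pow_eq ψ hmap]

/-- the endomorphism of `R ⧸ m ^ n` induced by `ψ`. -/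
def quot (n : ℕ) : R ⧸ maximalIdeal R ^ n →+* R ⧸ maximalIdeal R ^ n :=
  Ideal.quotientMap (maximalIdeal R ^ n) ψ (pow_le_comap ψ hmap n)

theorem quot_mk (n : ℕ) (x : R) :
    quot ψ hmap n (Ideal.Quotient.mk _ x) = Ideal.Quotient.mk _ (ψ x) := rfl

include hres in
theorem quot_surjective (n : ℕ) : Function.Surjective (quot ψ hmap n) := by
  intro x
  obtain ⟨x, rfl⟩ := Ideal.Quotient.mk_surjective x
  obtain ⟨y, hy⟩ := approx ψ hmap hres n x
  refine ⟨Ideal.Quotient.mk _ y, ?_⟩
  rw [quot_mk, eq_comm, Ideal.Quotient.eq]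
  exact hy

include hres in
theorem quot_bijective [IsNoetherianRing R] (n : ℕ) : Function.Bijective (quot ψ hmap n) :=
  ⟨injective_of_surjective_endo _ (quot_surjective ψ hmap hres n), quot_surjective ψ hmap hres n⟩

end Groth.Agent.Helper12.UnrEndo
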