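import Mathlib
import Groth.Agent.Lib.Helper12.UnrEndoA
import Groth.Agent.Lib.Helper14.FFDescent

set_option autoImplicit false
set_option linter.style.haveILetI false
universe u

noncomputable section

namespace Groth.Agent.Helper12.UnrEndo

open IsLocalRing AdicCompletion

section general

variable {R : Type u} [CommRing R] (I : Ideal R)

theorem factorPow_evalₐ {a b : ℕ} (hab : a ≤ b) (x : AdicCompletion I R) :
    Ideal.Quotient.factorPow I hab (evalₐ I b x) = evalₐ I a x := by
  induction x using AdicCompletion.induction_on with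
  | h c =>
    rw [evalₐ_mk, evalₐ_mk]
    show Ideal.Quotient.mk (I ^ a) (c.val b) = Ideal.Quotient.mk (I ^ a) (c.val a)
    rw [Ideal.Quotient.eq]
    have h := c.2 hab
    rw [SModEq.sub_mem] at h
    have h2 : (I ^ a • ⊤ : Ideal R) = I ^ a := by
      rw [smul_eq_mul, Ideal.mul_top]
    rw [h2] at h
    have : c.val b - c.val a = -(c.val a - c.val b) := by ring
    rw [this]
    exact (I ^ a).neg_mem h

theorem hatOf_compat (g : ∀ n : ℕ, R ⧸ I ^ n →+* R ⧸ I ^ n)
    (hg : ∀ {a b : ℕ} (hab : a ≤ b),
      (Ideal.Quotient.factorPow I hab).comp (g b) = (g a).comp (Ideal.Quotient.factorPow I hab))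
    {a b : ℕ} (hab : a ≤ b) :
    (Ideal.Quotient.factorPow I hab).comp ((g b).comp (evalₐ I b).toRingHom) =
      (g a).comp (evalₐ I a).toRingHom := by
  rw [← RingHom.comp_assoc, hg hab, RingHom.comp_assoc]
  congr 1
  apply RingHom.ext
  intro x
  exact factorPow_evalₐ I hab x

/-- a compatible family of ring endomorphisms of the quotients `R ⧸ I ^ n` induces an endomorphism
of the completion. -/
def hatOf (g : ∀ n : ℕ, R ⧸ I ^ n →+* R ⧸ I ^ n)
    (hg : ∀ {a b : ℕ} (hab : a ≤ b),
      (Ideal.Quotient.factorPow I hab).comp (g b) = (g a).comp (Ideal.Quotient.factorPow I hab)) :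
    AdicCompletion I R →+* AdicCompletion I R :=
  AdicCompletion.liftRingHom I (fun n => (g n).comp (evalₐ I n).toRingHom)
    (fun hab => hatOf_compat I g hg hab)

theorem evalₐ_hatOf (g : ∀ n : ℕ, R ⧸ I ^ n →+* R ⧸ I ^ n)
    (hg : ∀ {a b : ℕ} (hab : a ≤ b),
      (Ideal.Quotient.factorPow I hab).comp (g b) = (g a).comp (Ideal.Quotient.factorPow I hab))
    (n : ℕ) (x : AdicCompletion I R) :
    evalₐ I n (hatOf I g hg x) = g n (evalₐ I n x) := by
  exact evalₐ_liftRingHom I (fun n => (g n).comp (evalₐ I n).toRingHom)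
    (fun hab => hatOf_compat I g hg hab) n x

end general

section main

variable {R : Type u} [CommRing R] [IsLocalRing R] [IsNoetherianRing R] (ψ : R →+* R)
  (hmap : (maximalIdeal R).map ψ = maximalIdeal R)
  (hres : ∀ x : R, ∃ y : R, x - ψ y ∈ maximalIdeal R)

omit [IsNoetherianRing R] in
theorem quot_compat {a b : ℕ} (hab : a ≤ b) :
    (Ideal.Quotient.factorPow (maximalIdeal R) hab).comp (quot ψ hmap b) =
      (quot ψ hmap a).comp (Ideal.Quotient.factorPow (maximalIdeal R) hab) := by
  apply Ideal.Quotient.ringHom_ext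
  apply RingHom.ext
  intro x
  rfl

/-- the automorphism of `R ⧸ m ^ n` induced by `ψ`. -/
def quotEquiv (n : ℕ) : R ⧸ maximalIdeal R ^ n ≃+* R ⧸ maximalIdeal R ^ n :=
  RingEquiv.ofBijective (quot ψ hmap n) (quot_bijective ψ hmap hres n)

theorem quotInv_compat {a b : ℕ} (hab : a ≤ b) :
    (Ideal.Quotient.factorPow (maximalIdeal R) hab).comp (quotEquiv ψ hmap hres b).symm.toRingHom =
      (quotEquiv ψ hmap hres a).symm.toRingHom.comp
        (Ideal.Quotient.factorPow (maximalIdeal R) hab) := by
  apply RingHom.ext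
  intro x
  apply (quotEquiv ψ hmap hres a).injective
  simp only [RingHom.comp_apply, RingEquiv.toRingHom_eq_coe, RingHom.coe_coe,
    RingEquiv.apply_symm_apply]
  have h := congrArg (fun f => f ((quotEquiv ψ hmap hres b).symm x)) (quot_compat ψ hmap hab)
  simp only [RingHom.comp_apply] at h
  have h2 : quot ψ hmap b ((quotEquiv ψ hmap hres b).symm x) = x :=
    (quotEquiv ψ hmap hres b).apply_symm_apply x
  rw [h2] at h
  exact h.symm

/-- the endomorphism of the completion induced by `ψ`. -/
def hat : AdicCompletion (maximalIdeal R) R →+* AdicCompletion (maximalIdeal R) R :=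
  hatOf (maximalIdeal R) (quot ψ hmap) (fun hab => quot_compat ψ hmap hab)

/-- its inverse. -/
def hatInv : AdicCompletion (maximalIdeal R) R →+* AdicCompletion (maximalIdeal R) R :=
  hatOf (maximalIdeal R) (fun n => (quotEquiv ψ hmap hres n).symm.toRingHom)
    (fun hab => quotInv_compat ψ hmap hres hab)

theorem hat_hatInv (x : AdicCompletion (maximalIdeal R) R) :
    hat ψ hmap (hatInv ψ hmap hres x) = x := by
  apply ext_evalₐ
  intro n
  unfold hat hatInv
  rw [evalₐ_hatOf, evalₐ_hatOf]
  exact (quotEquiv ψ hmap hres n).apply_symm_apply _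

theorem hatInv_hat (x : AdicCompletion (maximalIdeal R) R) :
    hatInv ψ hmap hres (hat ψ hmap x) = x := by
  apply ext_evalₐ
  intro n
  unfold hat hatInv
  rw [evalₐ_hatOf, evalₐ_hatOf]
  exact (quotEquiv ψ hmap hres n).symm_apply_apply _

include hres in
theorem hat_bijective : Function.Bijective (hat ψ hmap) :=
  ⟨Function.LeftInverse.injective (hatInv_hat ψ hmap hres),
    Function.RightInverse.surjective (hat_hatInv ψ hmap hres)⟩

theorem hat_of (x : R) :
    hat ψ hmap (algebraMap R (AdicCompletion (maximalIdeal R) R) x) =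
      algebraMap R (AdicCompletion (maximalIdeal R) R) (ψ x) := by
  apply ext_evalₐ
  intro n
  unfold hat
  rw [evalₐ_hatOf]
  show quot ψ hmap n (evalₐ (maximalIdeal R) n (of (maximalIdeal R) R x)) =
    evalₐ (maximalIdeal R) n (of (maximalIdeal R) R (ψ x))
  rw [evalₐ_of, evalₐ_of]
  rfl

include hmap hres in
/-- an endomorphism of a Noetherian local ring which maps the maximal ideal onto (generators of)
the maximal ideal and is surjective on residue fields is flat. -/
theorem flat : ψ.Flat := by
  let C := AdicCompletion (maximalIdeal R) R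
  let c : R →+* C := algebraMap R C
  have hc : c.Flat := RingHom.flat_algebraMap_iff.mpr inferInstance
  have hhat : (hat ψ hmap).Flat := RingHom.Flat.of_bijective (hat_bijective ψ hmap hres)
  have hcomp : c.comp ψ = (hat ψ hmap).comp c := by
    apply RingHom.ext
    intro x
    exact (hat_of ψ hmap x).symm
  have hflat : (c.comp ψ).Flat := by
    rw [hcomp]
    exact RingHom.Flat.comp hc hhat
  haveI : Module.FaithfullyFlat R C := Module.FaithfullyFlat.of_flat_of_isLocalHom
  exact @Groth.Agent.Helper14.FFDescent.flat_of_comp R R C _ _ _ ψ.toAlgebra _ (c.comp ψ).toAlgebra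
    (@IsScalarTower.of_algebraMap_eq R R C _ _ _ ψ.toAlgebra _ (c.comp ψ).toAlgebra (fun x => rfl))
    hflat inferInstance

end main

end Groth.Agent.Helper12.UnrEndo
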