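import Mathlib
import Groth.Prelude
import Groth.Agent.Lib.Helper12.TanI
import Groth.Agent.Lib.Helper12.UnrEndoB
import Groth.Agent.Lib.Helper21.FL9

set_option autoImplicit false
set_option linter.style.haveILetI false
universe u
open CategoryTheory CategoryTheory.Limits AlgebraicGeometry Opposite TopologicalSpace Topology
  MonoidalCategory CartesianMonoidalCategory MonObj GrpObj

noncomputable section

namespace Groth.Agent.Helper12.Tan

open Groth.Agent.Helper16.UnramLocus Groth.Agent.Helper16

variable {k : Type u} [Field k]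
variable (G : Over (Spec (CommRingCat.of k))) [GrpObj G] (n : ℤ)

/-- if `n` is invertible in `k`, the endomorphism of the local ring at the unit induced by
multiplication by `n` is flat. -/
theorem flat_nsharp [LocallyOfFiniteType G.hom] (hn : (n : k) ≠ 0) : (nsharp G n).Flat := by
  haveI : IsLocallyNoetherian G.left := LocallyOfFiniteType.isLocallyNoetherian G.hom
  refine UnrEndo.flat (nsharp G n) (map_nsharp_eq G n hn) (fun x => ⟨cG G (ρG G x), ?_⟩)
  rw [nsharp_cG, ← ker_ρG]
  exact sub_mem_ker (cG G) (ρG G) (ρG_cG G) x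

theorem flat_stalkMap_zpow [LocallyOfFiniteType G.hom] (hn : (n : k) ≠ 0) :
    ((un G n).stalkMap (pt₀ G η[G])).hom.Flat := by
  have h1 : (un G n).stalkMap (pt₀ G η[G]) = spec' G n ≫ sharp (𝟙 G ^ n) (unit_zpow G n) := by
    rw [nsharp_eq, ← Category.assoc, spec'_spec, Category.id_comp]
  rw [h1]
  have h2 : (spec' G n).hom.Flat := by
    apply RingHom.Flat.of_bijective
    refine ⟨Function.LeftInverse.injective (g := (spec G n).hom) (fun a => ?_),
      Function.RightInverse.surjective (g := (spec G n).hom) (fun b => ?_)⟩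
    · have := spec'_spec G n
      exact congrArg (fun f : G.left.presheaf.stalk ((un G n) (pt₀ G η[G])) ⟶ _ => f.hom a) this
    · have := spec_spec' G n
      exact congrArg (fun f : Ost G η[G] ⟶ Ost G η[G] => f.hom b) this
  exact RingHom.Flat.comp h2 (flat_nsharp G n hn)

theorem lfp_zpow [LocallyOfFiniteType G.hom] : LocallyOfFinitePresentation (un G n) := by
  haveI := lft_zpow G n
  haveI : IsLocallyNoetherian G.left := LocallyOfFiniteType.isLocallyNoetherian G.hom
  exact LocallyOfFinitePresentation.iff_locallyOfFiniteType.mpr inferInstance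

/-- if `n` is invertible in `k`, multiplication by `n` on a `k`-group scheme locally of finite type
is étale in a neighbourhood of the unit. -/
theorem exists_etale_nhd_zpow [LocallyOfFiniteType G.hom] (hn : (n : k) ≠ 0) :
    ∃ U : G.left.Opens, pt₀ G η[G] ∈ U ∧ Etale (U.ι ≫ un G n) := by
  haveI := lft_zpow G n
  haveI := lfp_zpow G n
  obtain ⟨U₁, hxU₁, hU₁⟩ := unrAt_zpow G n hn
  let U₂ : G.left.Opens := ⟨{x | ((un G n).stalkMap x).hom.Flat},
    Groth.Agent.Helper21.FL.isOpen_flatLocus_scheme (un G n)⟩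
  refine ⟨U₁ ⊓ U₂, ⟨hxU₁, flat_stalkMap_zpow G n hn⟩, ?_⟩
  haveI : Flat ((U₁ ⊓ U₂).ι ≫ un G n) := by
    rw [Flat.iff_flat_stalkMap]
    intro x
    rw [Scheme.Hom.stalkMap_comp]
    have hx : ((un G n).stalkMap ((U₁ ⊓ U₂).ι x)).hom.Flat := x.2.2
    have hι : ((U₁ ⊓ U₂).ι.stalkMap x).hom.Flat :=
      RingHom.Flat.of_bijective (ConcreteCategory.bijective_of_isIso _)
    exact RingHom.Flat.comp hx hι
  haveI : FormallyUnramified ((U₁ ⊓ U₂).ι ≫ un G n) := by
    have h : (U₁ ⊓ U₂).ι = G.left.homOfLE inf_le_left ≫ U₁.ι := (Scheme.homOfLE_ι _ _).symm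
    rw [h, Category.assoc]
    infer_instance
  exact Etale.of_formallyUnramified_of_flat _

end Groth.Agent.Helper12.Tan
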