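import Mathlib
import Groth.Prelude
import Groth.Agent.Lib.Helper12.TanJ
import Groth.Agent.Lib.Helper16.Sch.GrpIrr5

set_option autoImplicit false
set_option linter.style.haveILetI false
universe u
open CategoryTheory CategoryTheory.Limits AlgebraicGeometry Opposite TopologicalSpace Topology
  MonoidalCategory CartesianMonoidalCategory MonObj GrpObj

noncomputable section

namespace Groth.Agent.Helper12.Tan

open Groth.Agent.Helper16.UnramLocus Groth.Agent.Helper16 Groth.Agent.Helper16.GrpIrr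

section General
variable {C : Type*} [Category C] [CartesianMonoidalCategory C] [BraidedCategory C]
variable {M N : C} [MonObj M] [MonObj N] [IsCommMonObj N]

theorem isMonHom_mul (f g : M ⟶ N) [IsMonHom f] [IsMonHom g] : IsMonHom (f * g) := by
  rw [Hom.mul_def]
  infer_instance

omit [BraidedCategory C] [IsCommMonObj N] in
theorem isMonHom_one : IsMonHom (1 : M ⟶ N) := by
  rw [Hom.one_def]
  infer_instance

theorem isMonHom_pow (f : M ⟶ N) [IsMonHom f] (n : ℕ) : IsMonHom (f ^ n) := by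
  induction n with
  | zero => rw [pow_zero]; exact isMonHom_one
  | succ n ih =>
    rw [pow_succ]
    haveI := ih
    exact isMonHom_mul _ _

end General

section Cat
variable {C : Type*} [Category C] [CartesianMonoidalCategory C] (G : C) [GrpObj G]

theorem trans_pow (g : 𝟙_ C ⟶ G) (hg : (toUnit G ≫ g) * 𝟙 G = 𝟙 G * (toUnit G ≫ g)) (n : ℕ) :
    GrpIrr.trans G g ≫ ((𝟙 G : G ⟶ G) ^ n) = ((𝟙 G : G ⟶ G) ^ n) ≫ GrpIrr.trans G (g ^ n) := by
  have hc : Commute (toUnit G ≫ g) (𝟙 G : G ⟶ G) := hg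
  rw [MonObj.comp_pow, Category.comp_id]
  unfold GrpIrr.trans
  rw [hc.mul_pow, MonObj.comp_mul, Category.comp_id, ← Category.assoc,
    toUnit_unique (_ ≫ toUnit G) (toUnit G), MonObj.comp_pow]

end Cat

variable {k : Type u} [Field k]

theorem flat_Spec_over_field {R : CommRingCat.{u}} (g : Spec R ⟶ Spec (CommRingCat.of k)) :
    Flat g := by
  obtain ⟨ψ, rfl⟩ := Spec.map_surjective g
  rw [HasRingHomProperty.Spec_iff (P := @Flat)]
  letI : Algebra k R := ψ.hom.toAlgebra
  change Module.Flat k R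
  infer_instance

theorem flat_over_field {Z : Scheme.{u}} (f : Z ⟶ Spec (CommRingCat.of k)) : Flat f := by
  rw [IsZariskiLocalAtSource.iff_of_openCover (P := @Flat) Z.affineCover]
  intro i
  exact flat_Spec_over_field (R := _) (Z.affineCover.f i ≫ f)

variable (G : Over (Spec (CommRingCat.of k))) [GrpObj G] (n : ℤ)

theorem flat_zpow [LocallyOfFiniteType G.hom] [IsMonHom (𝟙 G ^ n)] (hn : (n : k) ≠ 0) :
    Flat (un G n) := by
  haveI : IsLocallyNoetherian G.left := LocallyOfFiniteType.isLocallyNoetherian G.hom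
  haveI : LocallyOfFinitePresentation G.hom :=
    LocallyOfFinitePresentation.iff_locallyOfFiniteType.mpr inferInstance
  haveI : Flat G.hom := flat_over_field _
  obtain ⟨-, h2⟩ := HomFibCrit.main_flat (𝟙 G ^ n)
  have h0 : pt₀ G η[G] ∈ {x : G.left | ((𝟙 G ^ n).left.stalkMap x).hom.Flat} :=
    flat_stalkMap_zpow G n hn
  rw [h2] at h0
  rw [Flat.iff_flat_stalkMap]
  intro x
  have : x ∈ {x : G.left | ((𝟙 G ^ n).left.stalkMap x).hom.Flat} := by
    rw [h2]
    have hx : G.hom x = G.hom (pt₀ G η[G]) := Subsingleton.elim _ _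
    rw [Set.mem_preimage, hx]
    exact h0
  exact this

/-- multiplication by `n` invertible in `k`, when a homomorphism, is étale. -/
theorem etale_zpow_of_isMonHom [LocallyOfFiniteType G.hom] [IsMonHom (𝟙 G ^ n)]
    (hn : (n : k) ≠ 0) : Etale (un G n) := by
  haveI := flat_zpow G n hn
  haveI := lfp_zpow G n
  haveI : FormallyUnramified (un G n) := formallyUnramified_zpow G n hn
  exact Etale.of_formallyUnramified_of_flat _

theorem etale_pow_of_comm [IsCommMonObj G] [LocallyOfFiniteType G.hom] (m : ℕ)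
    (hm : (m : k) ≠ 0) : Etale ((𝟙 G : G ⟶ G) ^ m).left := by
  have h : (𝟙 G : G ⟶ G) ^ m = (𝟙 G : G ⟶ G) ^ (m : ℤ) := (zpow_natCast _ _).symm
  haveI : IsMonHom ((𝟙 G : G ⟶ G) ^ (m : ℤ)) := by
    rw [← h]
    exact isMonHom_pow _ _
  rw [h]
  exact etale_zpow_of_isMonHom G (m : ℤ) (by exact_mod_cast hm)



theorem exists_etale_nhd_pow_central [LocallyOfFiniteType G.hom] (n : ℕ) (hn : (n : k) ≠ 0)
    (g : 𝟙_ (Over (Spec (CommRingCat.of k))) ⟶ G)
    (hg : (toUnit G ≫ g) * 𝟙 G = 𝟙 G * (toUnit G ≫ g)) :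
    ∃ U : G.left.Opens, Set.range g.left.base ⊆ (U : Set ↥G.left) ∧
      Etale (U.ι ≫ ((𝟙 G : G ⟶ G) ^ n).left) := by
  obtain ⟨U₀, hU₀, hE⟩ := exists_etale_nhd_zpow G (n : ℤ) (by exact_mod_cast hn)
  have h : (𝟙 G : G ⟶ G) ^ (n : ℤ) = (𝟙 G : G ⟶ G) ^ n := zpow_natCast _ _
  have hE : Etale (U₀.ι ≫ ((𝟙 G : G ⟶ G) ^ n).left) := by
    rw [← h]
    exact hE
  let τ : G.left ≅ G.left := (Over.forget _).mapIso (transIso G g)
  let τ' : G.left ≅ G.left := (Over.forget _).mapIso (transIso G (g ^ n))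
  have hcomm : τ.hom ≫ ((𝟙 G : G ⟶ G) ^ n).left = ((𝟙 G : G ⟶ G) ^ n).left ≫ τ'.hom := by
    have := congrArg (fun f => f.left) (trans_pow G g hg n)
    exact this
  refine ⟨τ.inv ⁻¹ᵁ U₀, ?_, ?_⟩
  · rintro _ ⟨p, rfl⟩
    have hp : p = IsLocalRing.closedPoint k :=
      @Subsingleton.elim _ (inferInstanceAs (Subsingleton (PrimeSpectrum k))) _ _
    have h1 : g.left = η[G].left ≫ τ.hom := by
      have := congrArg (fun f => f.left) (unit_trans G g)
      exact this.symm
    show τ.inv (g.left p) ∈ U₀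
    rw [h1, hp]
    have : τ.inv ((η[G].left ≫ τ.hom) (IsLocalRing.closedPoint k)) =
        (η[G].left ≫ τ.hom ≫ τ.inv) (IsLocalRing.closedPoint k) := rfl
    rw [this, Iso.hom_inv_id, Category.comp_id]
    exact hU₀
  · have h2 : (τ.inv ⁻¹ᵁ U₀).ι ≫ ((𝟙 G : G ⟶ G) ^ n).left =
        (τ.inv ∣_ U₀) ≫ (U₀.ι ≫ ((𝟙 G : G ⟶ G) ^ n).left) ≫ τ'.hom := by
      rw [← Category.assoc, ← Category.assoc, morphismRestrict_ι, Category.assoc, Category.assoc,
        ← hcomm, Iso.inv_hom_id_assoc]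
    rw [h2]
    infer_instance

end Groth.Agent.Helper12.Tan
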