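import Mathlib
import Groth.Agent.Lib.Helper15.NoethDescent

set_option autoImplicit false
universe u
open CategoryTheory CategoryTheory.Limits AlgebraicGeometry

namespace Groth.Agent.Helper12.FibSrc

variable {X X' Y : Scheme.{u}} (f : X ⟶ Y) (a : X' ⟶ X)

/-- the map of fibres induced by a morphism `a : X' ⟶ X` over `Y`. -/
noncomputable def fibMap (y : Y) : (a ≫ f).fiber y ⟶ f.fiber y :=
  pullback.lift ((a ≫ f).fiberι y ≫ a) ((a ≫ f).fiberToSpecResidueField y)
    (by rw [Category.assoc]; exact pullback.condition)

theorem fibMap_isPullback (y : Y) :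
    IsPullback (fibMap f a y) ((a ≫ f).fiberι y) (f.fiberι y) a := by
  have hbig : IsPullback ((a ≫ f).fiberι y) ((a ≫ f).fiberToSpecResidueField y) (a ≫ f)
      (Y.fromSpecResidueField y) := IsPullback.of_hasPullback _ _
  have hright : IsPullback (f.fiberι y) (f.fiberToSpecResidueField y) f
      (Y.fromSpecResidueField y) := IsPullback.of_hasPullback _ _
  have h1 : fibMap f a y ≫ f.fiberι y = (a ≫ f).fiberι y ≫ a := pullback.lift_fst _ _ _
  have h2 : fibMap f a y ≫ f.fiberToSpecResidueField y = (a ≫ f).fiberToSpecResidueField y :=
    pullback.lift_snd _ _ _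
  refine IsPullback.of_right (t := hright.flip) ?_ h1
  rw [h2]
  exact hbig.flip

theorem locallyNoetherian_fibres_iff [Flat a] [LocallyOfFinitePresentation a] [Surjective a] :
    (∀ y : Y, IsLocallyNoetherian (f.fiber y)) ↔
      ∀ y : Y, IsLocallyNoetherian ((a ≫ f).fiber y) := by
  constructor
  · intro h y
    have := h y
    have : LocallyOfFinitePresentation (fibMap f a y) :=
      MorphismProperty.of_isPullback (fibMap_isPullback f a y).flip inferInstance
    exact LocallyOfFiniteType.isLocallyNoetherian (fibMap f a y)
  · intro h y
    have := h y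
    have : Flat (fibMap f a y) :=
      MorphismProperty.of_isPullback (fibMap_isPullback f a y).flip inferInstance
    have : LocallyOfFinitePresentation (fibMap f a y) :=
      MorphismProperty.of_isPullback (fibMap_isPullback f a y).flip inferInstance
    have : Surjective (fibMap f a y) :=
      MorphismProperty.of_isPullback (fibMap_isPullback f a y).flip inferInstance
    exact Groth.Agent.Helper15.isLocallyNoetherian_of_flat_open_surjective (fibMap f a y)

end Groth.Agent.Helper12.FibSrc
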