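import Mathlib
import Groth.Agent.Lib.Helper12.CMBC
import Groth.Agent.Lib.Helper12.FibSrc
import Groth.Prelude.Def_CInt

/-!
# Depth and dimension of local rings of flat morphisms versus fibres (helper12)
-/

set_option autoImplicit false
set_option linter.style.haveILetI false
universe u

open AlgebraicGeometry CategoryTheory Limits IsLocalRing

namespace Groth.Agent.Helper12.FibDepth

open Groth.Agent.Helper16.FibStalk Groth.Agent.Helper16.FibCM Groth.Agent.Lead.Fib
  Groth.Agent.Lead.Depth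

variable {X S : Scheme.{u}}

/-- `depth 𝒪_{X,x} = depth 𝒪_{S,f x} + depth` of the fibre local ring, for `f` flat at `x`. -/
theorem depth_stalk_eq (f : X ⟶ S) (x : X)
    [IsNoetherianRing (S.presheaf.stalk (f x))]
    [IsNoetherianRing (X.presheaf.stalk x)] (hflat : (f.stalkMap x).hom.Flat) :
    LocCoh.depth (X.presheaf.stalk x) (X.presheaf.stalk x) =
      LocCoh.depth (S.presheaf.stalk (f x)) (S.presheaf.stalk (f x)) +
        LocCoh.depth (CInt.fiberStalk f x) (CInt.fiberStalk f x) := by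
  letI : Algebra (S.presheaf.stalk (f x)) (X.presheaf.stalk x) := (f.stalkMap x).hom.toAlgebra
  haveI : IsLocalHom (algebraMap (S.presheaf.stalk (f x)) (X.presheaf.stalk x)) :=
    inferInstanceAs (IsLocalHom (f.stalkMap x).hom)
  haveI : Module.Flat (S.presheaf.stalk (f x)) (X.presheaf.stalk x) := hflat
  rw [depth_eq_add_fibre (R := S.presheaf.stalk (f x)) (S := X.presheaf.stalk x)
    (fibIdeal f x) rfl, depth_self_eq_of_ringEquiv (fibStalkEquiv f x)]

/-- heights of maximal ideals: `dim 𝒪_{X,x} = dim 𝒪_{S,f x} + dim` of the fibre local ring. -/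
theorem height_stalk_eq (f : X ⟶ S) (x : X)
    [IsNoetherianRing (S.presheaf.stalk (f x))]
    [IsNoetherianRing (X.presheaf.stalk x)] (hflat : (f.stalkMap x).hom.Flat) :
    (maximalIdeal (X.presheaf.stalk x)).height =
      (maximalIdeal (S.presheaf.stalk (f x))).height +
        (maximalIdeal (CInt.fiberStalk f x)).height := by
  letI : Algebra (S.presheaf.stalk (f x)) (X.presheaf.stalk x) := (f.stalkMap x).hom.toAlgebra
  haveI : IsLocalHom (algebraMap (S.presheaf.stalk (f x)) (X.presheaf.stalk x)) :=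
    inferInstanceAs (IsLocalHom (f.stalkMap x).hom)
  haveI : Module.Flat (S.presheaf.stalk (f x)) (X.presheaf.stalk x) := hflat
  rw [height_eq_add_fibre (R := S.presheaf.stalk (f x)) (S := X.presheaf.stalk x)
    (fibIdeal f x) rfl]
  congr 1
  have h3 := ringKrullDim_eq_of_ringEquiv (fibStalkEquiv f x)
  rw [← IsLocalRing.maximalIdeal_height_eq_ringKrullDim,
    ← IsLocalRing.maximalIdeal_height_eq_ringKrullDim] at h3
  exact WithBot.coe_injective h3

end Groth.Agent.Helper12.FibDepth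

namespace Groth.Agent.Helper12.FibDepth

open Groth.Agent.Helper16.FibStalk Groth.Agent.Helper16.FibCM Groth.Agent.Lead.Fib
  Groth.Agent.Lead.Depth

variable {X S : Scheme.{u}}

theorem depth_fiberStalk_le (f : X ⟶ S) [IsLocallyNoetherian X] [IsLocallyNoetherian S]
    [Flat f] (y : X) :
    LocCoh.depth (CInt.fiberStalk f y) (CInt.fiberStalk f y) ≤
      LocCoh.depth (X.presheaf.stalk y) (X.presheaf.stalk y) := by
  rw [depth_stalk_eq f y (Flat.stalkMap f y)]
  exact le_add_self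

/-- S14104 -/
theorem result14104 [IsLocallyNoetherian X] [IsLocallyNoetherian S]
    (f : X ⟶ S) [Flat f] (Y : Set ↥X) (d : ℕ)
    (h : ∀ y : ↥X, y ∈ Y → (d : ℕ∞) ≤ LocCoh.depth ↑(CInt.fiberStalk f y) ↑(CInt.fiberStalk f y)) :
    ∀ y : ↥X, y ∈ Y → (d : ℕ∞) ≤ LocCoh.depth ↑(X.presheaf.stalk y) ↑(X.presheaf.stalk y) :=
  fun y hy => (h y hy).trans (depth_fiberStalk_le f y)

theorem dim_fiberStalk_le_depth [IsLocallyNoetherian X] [IsLocallyNoetherian S]
    (f : X ⟶ S) [Flat f]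
    (hCM : ∀ x : ↥X, LocCoh.IsCohenMacaulayLocalRing ↑(CInt.fiberStalk f x)) (y : X) :
    ringKrullDim ↑(CInt.fiberStalk f y) ≤
      ((LocCoh.depth ↑(X.presheaf.stalk y) ↑(X.presheaf.stalk y) : ℕ∞) : WithBot ℕ∞) := by
  haveI := hCM y
  haveI : IsNoetherianRing ↑(CInt.fiberStalk f y) := inferInstance
  rw [← IsLocalRing.maximalIdeal_height_eq_ringKrullDim, (isCMLocal_iff _).mp (hCM y)]
  exact_mod_cast depth_fiberStalk_le f y

/-- S14107 -/
theorem result14107 [IsLocallyNoetherian X] [IsLocallyNoetherian S] (f : X ⟶ S) [Flat f]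
    (hCM : ∀ x : ↥X, LocCoh.IsCohenMacaulayLocalRing ↑(CInt.fiberStalk f x))
    (Y : Set ↥X) (d : ℕ)
    (hcodim : ∀ y : ↥X, y ∈ Y → (d : WithBot ℕ∞) ≤ ringKrullDim ↑(CInt.fiberStalk f y)) :
    ∀ y : ↥X, y ∈ Y → (d : ℕ∞) ≤ LocCoh.depth ↑(X.presheaf.stalk y) ↑(X.presheaf.stalk y) := by
  intro y hy
  have := (hcodim y hy).trans (dim_fiberStalk_le_depth f hCM y)
  exact_mod_cast this

/-- S14108 -/
theorem result14108 [IsLocallyNoetherian X] [IsLocallyNoetherian S] (f : X ⟶ S) [Flat f]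
    (hCM : ∀ x : ↥X, LocCoh.IsCohenMacaulayLocalRing ↑(CInt.fiberStalk f x))
    (Y : Set ↥X)
    (hcodim : (⨅ y : Y, ringKrullDim ↑(CInt.fiberStalk f y.1)) =
      ⨅ y : Y, ringKrullDim ↑(X.presheaf.stalk y.1)) :
    (⨅ y : Y, ((LocCoh.depth ↑(X.presheaf.stalk y.1) ↑(X.presheaf.stalk y.1) : ℕ∞) :
        WithBot ℕ∞)) = ⨅ y : Y, ringKrullDim ↑(X.presheaf.stalk y.1) := by
  apply le_antisymm
  · refine iInf_mono fun y => ?_
    have := depth_le_supportDim (R := X.presheaf.stalk y.1) (X.presheaf.stalk y.1)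
    rwa [Module.supportDim_self_eq_ringKrullDim] at this
  · rw [← hcodim]
    exact iInf_mono fun y => dim_fiberStalk_le_depth f hCM y.1

end Groth.Agent.Helper12.FibDepth

namespace Groth.Agent.Helper12.FibDepth

open Groth.Agent.Helper16.FibStalk Groth.Agent.Helper16.FibCM Groth.Agent.Lead.Fib
  Groth.Agent.Lead.Depth

variable {X X' S : Scheme.{u}}

theorem isNoetherianRing_fibre_stalk [IsLocallyNoetherian X] (f : X ⟶ S) (s : S)
    (z : f.fiber s) : IsNoetherianRing ((f.fiber s).presheaf.stalk z) :=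
  isNoetherianRing_of_ringEquiv _ (quotEquivStalkFiberOfEq f s z _ rfl)

theorem fibMap_asFiber (f : X ⟶ S) (g : X' ⟶ X) (y' : X') :
    FibSrc.fibMap f g ((g ≫ f) y') ((g ≫ f).asFiber y') = f.asFiber (g y') := by
  apply (f.fiberι _).isEmbedding.injective
  refine Eq.trans ?_ (Scheme.Hom.fiberι_asFiber f (g y')).symm
  have h1 : FibSrc.fibMap f g ((g ≫ f) y') ≫ f.fiberι _ = (g ≫ f).fiberι _ ≫ g :=
    (FibSrc.fibMap_isPullback f g _).w
  have := congrArg (fun φ => φ ((g ≫ f).asFiber y')) h1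
  simp only [Scheme.Hom.comp_apply] at this
  rw [this, Scheme.Hom.fiberι_asFiber]

theorem dim_fiberStalk_comp_ge [IsLocallyNoetherian X] [IsLocallyNoetherian X'] (f : X ⟶ S)
    (g : X' ⟶ X) [Flat g] (y' : X') :
    ringKrullDim (CInt.fiberStalk f (g y')) ≤ ringKrullDim (CInt.fiberStalk (g ≫ f) y') := by
  haveI : Flat (FibSrc.fibMap f g ((g ≫ f) y')) :=
    MorphismProperty.of_isPullback (FibSrc.fibMap_isPullback f g _).flip inferInstance
  haveI := isNoetherianRing_fibre_stalk (g ≫ f) ((g ≫ f) y') ((g ≫ f).asFiber y')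
  haveI := isNoetherianRing_fibre_stalk f ((g ≫ f) y')
    (FibSrc.fibMap f g ((g ≫ f) y') ((g ≫ f).asFiber y'))
  have h := height_stalk_eq (FibSrc.fibMap f g ((g ≫ f) y')) ((g ≫ f).asFiber y')
    (Flat.stalkMap _ _)
  have h2 : ringKrullDim ((f.fiber ((g ≫ f) y')).presheaf.stalk
      (FibSrc.fibMap f g ((g ≫ f) y') ((g ≫ f).asFiber y'))) ≤
      ringKrullDim (((g ≫ f).fiber ((g ≫ f) y')).presheaf.stalk ((g ≫ f).asFiber y')) := by
    rw [← maximalIdeal_height_eq_ringKrullDim, ← maximalIdeal_height_eq_ringKrullDim, h]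
    exact_mod_cast le_self_add
  rw [fibMap_asFiber] at h2
  exact h2

/-- S14110 -/
theorem result14110 [IsLocallyNoetherian X] [IsLocallyNoetherian X'] (f : X ⟶ S)
    (g : X' ⟶ X) [Flat g] (Y : Set ↥X) :
    (⨅ y : Y, ringKrullDim ↑(CInt.fiberStalk f y.1)) ≤
      ⨅ y' : (fun x' => g x') ⁻¹' Y, ringKrullDim ↑(CInt.fiberStalk (g ≫ f) y'.1) := by
  refine le_iInf fun y' => ?_
  exact (iInf_le (fun y : Y => ringKrullDim ↑(CInt.fiberStalk f y.1)) ⟨g y'.1, y'.2⟩).trans
    (dim_fiberStalk_comp_ge f g y'.1)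

end Groth.Agent.Helper12.FibDepth
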