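import Mathlib
import Groth.Agent.Lib.Helper12.NoethBC
import Groth.Prelude.Def_Curv2

/-!
# Local rings of base changes of schemes over a field (helper12)
-/

set_option autoImplicit false
set_option linter.style.haveILetI false
universe u

open AlgebraicGeometry CategoryTheory Limits IsLocalRing TensorProduct

namespace Groth.Agent.Helper12.FieldBC

open Groth.Agent.Helper12.GorBC Groth.Agent.Helper12.CMBC Groth.Agent.Helper12.NoethBC

variable {F F' : Scheme.{u}} {k K : Type u} [Field k] [Field K]
  (h : F' ⟶ F) (π' : F' ⟶ Spec (.of K)) (π : F ⟶ Spec (.of k)) (φ : k →+* K)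
  (sq : IsPullback h π' π (Spec.map (CommRingCat.ofHom φ)))

include sq in
theorem flat_of_field_baseChange : Flat h := by
  have h1 : Flat (Spec.map (CommRingCat.ofHom φ)) := Groth.Agent.Helper16.AS.flat_of_field _
  exact MorphismProperty.of_isPullback sq.flip h1

include sq in
/-- `𝒪_{F',z'}` is CM iff `𝒪_{F, h z'}` is, for a base change of a field extension with a
finiteness hypothesis. -/
theorem cm_stalk_iff_of_field_baseChange (z' : F')
    [IsNoetherianRing (F.presheaf.stalk (h z'))] [IsNoetherianRing (F'.presheaf.stalk z')]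
    (hfin : φ.EssFiniteType ∨ LocallyOfFiniteType π) :
    LocCoh.IsCohenMacaulayLocalRing (F'.presheaf.stalk z') ↔
      LocCoh.IsCohenMacaulayLocalRing (F.presheaf.stalk (h z')) := by
  haveI := flat_of_field_baseChange h π' π φ sq
  rw [cm_stalk_iff h z' (Flat.stalkMap h z')]
  refine and_iff_left ?_
  obtain ⟨ψ, hψ1, hψ2⟩ := exists_residueField_hom π (h z')
  have hG := gor_fibre_of_field_baseChange h π' π φ sq (h z') ψ hψ1 ?_ (h.asFiber z')
  · haveI := hG
    exact Groth.Agent.Lead.Depth.isCohenMacaulayLocalRing_of_isGorensteinLocalRing _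
  rcases hfin with h1 | h2
  · exact Or.inl h1
  · exact Or.inr (hψ2 h2)

include sq in
theorem gor_stalk_iff_of_field_baseChange (z' : F')
    [IsNoetherianRing (F.presheaf.stalk (h z'))] [IsNoetherianRing (F'.presheaf.stalk z')]
    (hfin : φ.EssFiniteType ∨ LocallyOfFiniteType π) :
    LocCoh.IsGorensteinLocalRing (F'.presheaf.stalk z') ↔
      LocCoh.IsGorensteinLocalRing (F.presheaf.stalk (h z')) := by
  haveI := flat_of_field_baseChange h π' π φ sq
  rw [GorSch.gor_stalk_iff h z' (Flat.stalkMap h z')]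
  refine and_iff_left ?_
  obtain ⟨ψ, hψ1, hψ2⟩ := exists_residueField_hom π (h z')
  refine gor_fibre_of_field_baseChange h π' π φ sq (h z') ψ hψ1 ?_ (h.asFiber z')
  rcases hfin with h1 | h2
  · exact Or.inl h1
  · exact Or.inr (hψ2 h2)

section bc

variable (k) (X : Scheme.{u}) [X.Over (Spec (CommRingCat.of k))] (k' : Type u) [Field k']
  [Algebra k k']

theorem bc_isPullback : IsPullback (Curv2.bcFst k X k') (Curv2.bcSnd k X k')
    (X ↘ Spec (CommRingCat.of k)) (Spec.map (CommRingCat.ofHom (algebraMap k k'))) :=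
  IsPullback.of_hasPullback _ _

theorem essFiniteType_of_fg (hfg : (⊤ : IntermediateField k k').FG) :
    (algebraMap k k').EssFiniteType := by
  haveI : Algebra.EssFiniteType k k' := IntermediateField.fg_top_iff.mp hfg
  exact RingHom.essFiniteType_algebraMap.mpr inferInstance

/-- S7605 -/
theorem isLocallyNoetherian_bc_iff (hfg : (⊤ : IntermediateField k k').FG) :
    IsLocallyNoetherian X ↔ IsLocallyNoetherian (Curv2.bc k X k') :=
  ⟨fun _ => isLocallyNoetherian_of_field_baseChange _ _ _ _ (bc_isPullback k X k')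
      (essFiniteType_of_fg k k' hfg),
    fun _ => isLocallyNoetherian_of_field_baseChange_descent _ _ _ _ (bc_isPullback k X k')⟩

/-- S7608 -/
theorem cm_stalk_bc_iff_of_fg [IsLocallyNoetherian X] (hfg : (⊤ : IntermediateField k k').FG)
    (x' : ↥(Curv2.bc k X k')) :
    LocCoh.IsCohenMacaulayLocalRing ↥(X.presheaf.stalk (Curv2.bcFst k X k' x')) ↔
      LocCoh.IsCohenMacaulayLocalRing ↥((Curv2.bc k X k').presheaf.stalk x') := by
  haveI := (isLocallyNoetherian_bc_iff k X k' hfg).mp inferInstance
  exact (cm_stalk_iff_of_field_baseChange _ _ _ _ (bc_isPullback k X k') x'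
    (Or.inl (essFiniteType_of_fg k k' hfg))).symm

/-- S7609 -/
theorem cm_stalk_bc_iff_of_lft [LocallyOfFiniteType (X ↘ (Spec (CommRingCat.of k)))]
    (x' : ↥(Curv2.bc k X k')) :
    LocCoh.IsCohenMacaulayLocalRing ↥(X.presheaf.stalk (Curv2.bcFst k X k' x')) ↔
      LocCoh.IsCohenMacaulayLocalRing ↥((Curv2.bc k X k').presheaf.stalk x') := by
  haveI : IsLocallyNoetherian X :=
    LocallyOfFiniteType.isLocallyNoetherian (X ↘ (Spec (CommRingCat.of k)))
  haveI : LocallyOfFiniteType (Curv2.bcSnd k X k') :=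
    MorphismProperty.pullback_snd _ _ ‹_›
  haveI : IsLocallyNoetherian (Curv2.bc k X k') :=
    LocallyOfFiniteType.isLocallyNoetherian (Curv2.bcSnd k X k')
  exact (cm_stalk_iff_of_field_baseChange _ _ _ _ (bc_isPullback k X k') x'
    (Or.inr ‹_›)).symm

end bc

end Groth.Agent.Helper12.FieldBC
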