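import Mathlib
import Groth.Agent.Lib.Helper12.FieldBC
import Groth.Agent.S0565

set_option autoImplicit false
set_option linter.style.haveILetI false
universe u

open AlgebraicGeometry CategoryTheory Limits IsLocalRing TensorProduct

namespace Groth.Agent.Helper12.FieldBC

open Groth.Agent.Helper12.GorBC Groth.Agent.Helper12.FlatPt

section

variable (k : Type u) [Field k] (X Y : Scheme.{u}) [X.Over (Spec (CommRingCat.of k))]
  [Y.Over (Spec (CommRingCat.of k))] (f : X ⟶ Y)
  (hf : f ≫ (Y ↘ (Spec (CommRingCat.of k))) = X ↘ (Spec (CommRingCat.of k)))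
  (k' : Type u) [Field k'] [Algebra k k']

/-- the base change of a `k`-morphism to `k'`. -/
noncomputable def bcMap : Curv2.bc k X k' ⟶ Curv2.bc k Y k' :=
  pullback.map _ _ _ _ f (𝟙 _) (𝟙 _) (by rw [Category.comp_id, hf]) (by simp)

theorem bcMap_isPullback :
    IsPullback (Curv2.bcFst k X k') (bcMap k X Y f hf k') f (Curv2.bcFst k Y k') := by
  have hr := bc_isPullback k Y k'
  have ho := bc_isPullback k X k'
  have h1 : bcMap k X Y f hf k' ≫ Curv2.bcFst k Y k' = Curv2.bcFst k X k' ≫ f :=
    pullback.lift_fst _ _ _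
  have h2 : bcMap k X Y f hf k' ≫ Curv2.bcSnd k Y k' = Curv2.bcSnd k X k' :=
    (pullback.lift_snd _ _ _).trans (Category.comp_id _)
  refine IsPullback.of_bot ?_ h1.symm hr
  rw [h2, hf]
  exact ho

/-- points of an `IsPullback` square -/
theorem exists_preimage_of_isPullback {P A B C : Scheme.{u}} {fst : P ⟶ A} {snd : P ⟶ B}
    {a : A ⟶ C} {b : B ⟶ C} (sq : IsPullback fst snd a b) (x : A) (y : B) (hxy : a x = b y) :
    ∃ z : P, fst z = x ∧ snd z = y := by
  obtain ⟨w, hw1, hw2⟩ := Scheme.Pullback.exists_preimage_pullback (f := a) (g := b) x y hxy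
  refine ⟨sq.isoPullback.inv w, ?_, ?_⟩
  · rw [← Scheme.Hom.comp_apply, sq.isoPullback_inv_fst]; exact hw1
  · rw [← Scheme.Hom.comp_apply, sq.isoPullback_inv_snd]; exact hw2

include hf in
/-- S1563 -/
theorem isGeomRegularAt_descends_flat [IsLocallyNoetherian Y]
    (x : X) (hflat : (f.stalkMap x).hom.Flat) (hx : Curv2.IsGeomRegularAt k X x) :
    Curv2.IsGeomRegularAt k Y (f x) := by
  intro k' _ _ hfg y' hy'
  have sq := bcMap_isPullback k X Y f hf k'
  obtain ⟨x', hx1, hx2⟩ := exists_preimage_of_isPullback sq x y' hy'.symm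
  have hreg := hx k' hfg x' hx1
  have hfl : ((bcMap k X Y f hf k').stalkMap x').hom.Flat :=
    flat_stalkMap_baseChange sq x' (by rw [hx1]; exact hflat)
  haveI : IsLocallyNoetherian (Curv2.bc k Y k') :=
    (isLocallyNoetherian_bc_iff k Y k' hfg).mp inferInstance
  rw [← hx2]
  letI : Algebra ((Curv2.bc k Y k').presheaf.stalk (bcMap k X Y f hf k' x'))
      ((Curv2.bc k X k').presheaf.stalk x') := ((bcMap k X Y f hf k').stalkMap x').hom.toAlgebra
  haveI : IsLocalHom (algebraMap ((Curv2.bc k Y k').presheaf.stalk (bcMap k X Y f hf k' x'))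
      ((Curv2.bc k X k').presheaf.stalk x')) :=
    inferInstanceAs (IsLocalHom ((bcMap k X Y f hf k').stalkMap x').hom)
  haveI : Module.Flat ((Curv2.bc k Y k').presheaf.stalk (bcMap k X Y f hf k' x'))
      ((Curv2.bc k X k').presheaf.stalk x') := hfl
  exact Groth.Agent.S0565.result _ ((Curv2.bc k X k').presheaf.stalk x')

end

end Groth.Agent.Helper12.FieldBC
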