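import Mathlib
import Groth.Agent.Lib.Helper4.NormalDecomp
import Groth.Agent.Lib.Helper7.FinBir

/-!
# Extending morphisms into integral schemes over a normal scheme from a dense open (helper12)

* `exists_irreducible_open`: locally Noetherian + domain stalks ⇒ irreducible open neighbourhoods.
* `app_of_birational`: birational `f : Y' ⟶ Y` of integral schemes, `Y` normal: `f.app U` injective
  and every section of `Y'` integral over `Γ(Y, U)` comes from `Γ(Y, U)`.
* `isIso_fromNormalization_of_birational`, `isIso_fromNormalization_of_dense`: the relative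
  normalization of a normal locally Noetherian scheme in a dense open is the scheme itself.
* `exists_extension`: a morphism from a dense open `D` of a normal locally Noetherian `Y` to `T`,
  over an integral `π : T ⟶ S`, extends to `Y`.
-/

set_option autoImplicit false
set_option linter.style.haveILetI false
universe u
open CategoryTheory CategoryTheory.Limits AlgebraicGeometry TopologicalSpace

namespace Groth.Agent.Helper12.NormalExt

/-- In a locally Noetherian scheme all of whose local rings are domains, every point has an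
irreducible open neighbourhood. -/
theorem exists_irreducible_open (T : Scheme.{u}) [IsLocallyNoetherian T]
    (hdom : ∀ t : T, IsDomain (T.presheaf.stalk t)) (y : T) :
    ∃ W : T.Opens, y ∈ W ∧ IsIrreducible (W : Set T) := by
  obtain ⟨V, hV, hyV, -⟩ :=
    exists_isAffineOpen_mem_and_subset (x := y) (U := (⊤ : T.Opens)) trivial
  haveI : IsNoetherianRing Γ(T, V) := IsLocallyNoetherian.component_noetherian ⟨V, hV⟩
  haveI : NoetherianSpace V := noetherianSpace_of_isAffineOpen V hV
  haveI : NoetherianSpace ↥(V : Scheme.{u}) := ‹NoetherianSpace V›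
  have hdomV : ∀ v : (V : Scheme.{u}), IsDomain ((V : Scheme.{u}).presheaf.stalk v) := by
    intro v
    haveI := hdom v.1
    exact (V.stalkIso v).commRingCatIsoToRingEquiv.toMulEquiv.isDomain _
  let yV : (V : Scheme.{u}) := ⟨y, hyV⟩
  have hZ : irreducibleComponent yV ∈ irreducibleComponents ↥(V : Scheme.{u}) :=
    irreducibleComponent_mem_irreducibleComponents yV
  have hZo : IsOpen (irreducibleComponent yV) :=
    Groth.Agent.Helper4.NormalDecomp.isOpen_of_mem_irreducibleComponents (V : Scheme.{u}) hdomV hZ
  have hZi : IsIrreducible (irreducibleComponent yV) := isIrreducible_irreducibleComponent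
  have hCo : IsOpen (V.ι '' irreducibleComponent yV) := V.ι.isOpenEmbedding.isOpenMap _ hZo
  have hCi : IsIrreducible (V.ι '' irreducibleComponent yV) :=
    hZi.image _ V.ι.continuous.continuousOn
  have hyC : y ∈ V.ι '' irreducibleComponent yV := ⟨yV, mem_irreducibleComponent, rfl⟩
  exact ⟨⟨_, hCo⟩, hyC, hCi⟩

/-- Birational morphism of integral schemes to a normal scheme: `f.app U` is injective and every
section integral over `Γ(Y, U)` comes from `Γ(Y, U)`. -/
theorem app_of_birational {Y' Y : Scheme.{u}} [IsIntegral Y'] [IsIntegral Y]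
    (hN : ∀ y : Y, IsIntegrallyClosed (Y.presheaf.stalk y)) (f : Y' ⟶ Y)
    (hgen : f (genericPoint Y') = genericPoint Y)
    (hbir : IsIso (f.stalkMap (genericPoint Y'))) (U : Y.Opens) (hU : IsAffineOpen U)
    [Nonempty U] : Function.Injective (f.app U).hom ∧
      ∀ b : Γ(Y', f ⁻¹ᵁ U), (f.app U).hom.IsIntegralElem b → ∃ a, (f.app U).hom a = b := by
  have hηU : f (genericPoint Y') ∈ U := by
    rw [hgen]
    exact ((genericPoint_spec Y).mem_open_set_iff U.isOpen).mpr (by simpa using ‹Nonempty U›)
  let σ := f.stalkMap (genericPoint Y')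
  have hσ : Function.Bijective σ.hom := ConcreteCategory.bijective_of_isIso σ
  let gA := Y.presheaf.germ U (f (genericPoint Y')) hηU
  let gB := Y'.presheaf.germ (f ⁻¹ᵁ U) (genericPoint Y') hηU
  have hrel : ∀ a, σ.hom (gA.hom a) = gB.hom ((f.app U).hom a) := fun a =>
    Scheme.Hom.germ_stalkMap_apply f U (genericPoint Y') hηU a
  have hgA : Function.Injective gA.hom := germ_injective_of_isIntegral Y _ hηU
  have hgB : Function.Injective gB.hom := germ_injective_of_isIntegral Y' _ hηU
  let _ := gA.hom.toAlgebra
  have hfr : IsFractionRing Γ(Y, U) (Y.presheaf.stalk (f (genericPoint Y'))) :=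
    Groth.Agent.Helper7.FinBir.isFractionRing_stalk_of_eq_genericPoint U hU _ hgen hηU
  have hic : IsIntegrallyClosed Γ(Y, U) :=
    Groth.Agent.Helper7.FinBir.isIntegrallyClosed_of_stalk hN U hU
  have halg : ∀ a, algebraMap Γ(Y, U) (Y.presheaf.stalk (f (genericPoint Y'))) a = gA.hom a :=
    fun a => rfl
  constructor
  · intro a a' haa
    apply hgA
    apply hσ.injective
    rw [hrel, hrel, haa]
  · intro b ⟨p, hp, hpb⟩
    obtain ⟨k, hk⟩ := hσ.surjective (gB.hom b)
    have hkint : IsIntegral Γ(Y, U) k := by
      refine ⟨p, hp, ?_⟩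
      apply hσ.injective
      rw [map_zero, Polynomial.hom_eval₂, hk]
      have : σ.hom.comp (algebraMap Γ(Y, U) (Y.presheaf.stalk (f (genericPoint Y')))) =
          gB.hom.comp (f.app U).hom := by
        ext a
        exact hrel a
      rw [this, ← Polynomial.hom_eval₂, hpb, map_zero]
    obtain ⟨a, ha⟩ := IsIntegrallyClosed.algebraMap_eq_of_integral hkint
    refine ⟨a, ?_⟩
    apply hgB
    rw [← hrel, ← halg, ha, hk]

set_option backward.isDefEq.respectTransparency false in
/-- The relative normalization of a normal integral scheme `Y` in a birational qcqs `Y' ⟶ Y` from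
an integral scheme is `Y`. -/
theorem isIso_fromNormalization_of_birational {Y' Y : Scheme.{u}} [IsIntegral Y'] [IsIntegral Y]
    (hN : ∀ y : Y, IsIntegrallyClosed (Y.presheaf.stalk y)) (f : Y' ⟶ Y)
    [QuasiCompact f] [QuasiSeparated f]
    (hgen : f (genericPoint Y') = genericPoint Y)
    (hbir : IsIso (f.stalkMap (genericPoint Y'))) : IsIso f.fromNormalization := by
  change MorphismProperty.isomorphisms Scheme f.fromNormalization
  rw [IsZariskiLocalAtTarget.iff_of_iSup_eq_top (P := MorphismProperty.isomorphisms Scheme)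
    (fun y : Y => (Y.affineCover.f (Y.affineCover.idx y)).opensRange)
    (eq_top_iff.2 fun y _ => TopologicalSpace.Opens.mem_iSup.2 ⟨y, Y.affineCover.covers y⟩)]
  intro y
  have hU : IsAffineOpen (Y.affineCover.f (Y.affineCover.idx y)).opensRange :=
    isAffineOpen_opensRange _
  have : Nonempty (Y.affineCover.f (Y.affineCover.idx y)).opensRange :=
    ⟨⟨y, Y.affineCover.covers y⟩⟩
  generalize (Y.affineCover.f (Y.affineCover.idx y)).opensRange = U at hU this
  change IsIso (f.fromNormalization ∣_ U)
  rw [isIso_morphismRestrict_iff_isIso_app _ hU, f.fromNormalization_app hU]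
  obtain ⟨h1, h2⟩ := app_of_birational hN f hgen hbir U hU
  let _ := (f.app U).hom.toAlgebra
  have hbij : Function.Bijective (algebraMap Γ(Y, U)
      (integralClosure Γ(Y, U) Γ(Y', f ⁻¹ᵁ U))) := by
    constructor
    · intro a b hab
      apply h1
      exact congrArg Subtype.val hab
    · rintro ⟨b, hb⟩
      obtain ⟨a, rfl⟩ := h2 b hb
      exact ⟨a, Subtype.ext rfl⟩
  have : IsIso (CommRingCat.ofHom (algebraMap Γ(Y, U)
      (integralClosure Γ(Y, U) Γ(Y', f ⁻¹ᵁ U)))) := by
    rw [ConcreteCategory.isIso_iff_bijective]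
    exact hbij
  infer_instance

/-- **Lemma N**: the relative normalization of a normal locally Noetherian scheme in a dense open
subscheme is the scheme itself. -/
theorem isIso_fromNormalization_of_dense (Y : Scheme.{u}) [IsLocallyNoetherian Y]
    (hY : ∀ y : Y, IsDomain (Y.presheaf.stalk y) ∧ IsIntegrallyClosed (Y.presheaf.stalk y))
    (D : Y.Opens) (hD : Dense (D : Set Y)) : IsIso D.ι.fromNormalization := by
  haveI : ∀ x : Y, _root_.IsReduced (Y.presheaf.stalk x) := fun x => by
    haveI := (hY x).1
    infer_instance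
  haveI : IsReduced Y := isReduced_of_isReduced_stalk Y
  change MorphismProperty.isomorphisms Scheme D.ι.fromNormalization
  apply IsZariskiLocalAtTarget.of_forall_exists_morphismRestrict
    (P := MorphismProperty.isomorphisms Scheme) fun y ↦ ?_
  obtain ⟨W, hyW, hWirr⟩ := exists_irreducible_open Y (fun y => (hY y).1) y
  refine ⟨W, hyW, ?_⟩
  haveI : IrreducibleSpace ↥(W : Scheme.{u}) := Subtype.irreducibleSpace hWirr
  haveI : IsIntegral (W : Scheme.{u}) := isIntegral_of_irreducibleSpace_of_isReduced _
  have hNW : ∀ v : (W : Scheme.{u}), IsIntegrallyClosed ((W : Scheme.{u}).presheaf.stalk v) := by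
    intro v
    haveI := (hY v.1).2
    exact IsIntegrallyClosed.of_equiv (W.stalkIso v).commRingCatIsoToRingEquiv.symm
  obtain ⟨d, hdW, hdD⟩ : ((W : Set Y) ∩ (D : Set Y)).Nonempty :=
    hD.inter_open_nonempty _ W.2 ⟨y, hyW⟩
  obtain ⟨z, -, -⟩ := Scheme.Pullback.exists_preimage_pullback (f := D.ι) (g := W.ι)
    ⟨d, hdD⟩ ⟨d, hdW⟩ rfl
  haveI : Nonempty ↥(pullback D.ι W.ι) := ⟨z⟩
  haveI : IsIntegral (pullback D.ι W.ι) := isIntegral_of_isOpenImmersion (pullback.snd D.ι W.ι)
  have key : IsIso (pullback.snd D.ι W.ι).fromNormalization :=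
    isIso_fromNormalization_of_birational hNW (pullback.snd D.ι W.ι)
      (genericPoint_eq_of_isOpenImmersion _) inferInstance
  have h2 : IsIso (pullback.snd D.ι.fromNormalization W.ι) := by
    have h3 := D.ι.normalizationPullback_snd W.ι
    rw [← IsIso.eq_inv_comp] at h3
    rw [h3]
    infer_instance
  change IsIso (D.ι.fromNormalization ∣_ W)
  change IsIso ((pullbackRestrictIsoRestrict _ _).inv ≫ pullback.snd _ _)
  infer_instance

/-- **Extension over a normal base**: a morphism from a dense open `D` of a normal locally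
Noetherian scheme `Y` to `T`, lying over `q : Y ⟶ S` for an integral `π : T ⟶ S`, extends
to all of `Y`. -/
theorem exists_extension {Y S T : Scheme.{u}} [IsLocallyNoetherian Y]
    (hY : ∀ y : Y, IsDomain (Y.presheaf.stalk y) ∧ IsIntegrallyClosed (Y.presheaf.stalk y))
    (D : Y.Opens) (hD : Dense (D : Set Y)) (π : T ⟶ S) [IsIntegralHom π] (q : Y ⟶ S)
    (f₁ : (D : Scheme.{u}) ⟶ T) (hf₁ : f₁ ≫ π = D.ι ≫ q) :
    ∃ h : Y ⟶ T, h ≫ π = q ∧ D.ι ≫ h = f₁ := by
  haveI := isIso_fromNormalization_of_dense Y hY D hD
  let s₀ : (D : Scheme.{u}) ⟶ pullback π q := pullback.lift f₁ D.ι hf₁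
  have hs₀ : D.ι = s₀ ≫ pullback.snd π q := (pullback.lift_snd _ _ _).symm
  let h' : Y ⟶ pullback π q :=
    inv D.ι.fromNormalization ≫ D.ι.normalizationDesc s₀ (pullback.snd π q) hs₀
  have h1 : h' ≫ pullback.snd π q = 𝟙 Y := by
    simp only [h', Category.assoc, Scheme.Hom.normalizationDesc_comp, IsIso.inv_hom_id]
  have h2 : D.ι ≫ inv D.ι.fromNormalization = D.ι.toNormalization := by
    rw [IsIso.comp_inv_eq, Scheme.Hom.toNormalization_fromNormalization]
  have h3 : D.ι ≫ h' = s₀ := by
    simp only [h']
    rw [← Category.assoc, h2, Scheme.Hom.toNormalization_normalizationDesc]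
  refine ⟨h' ≫ pullback.fst π q, ?_, ?_⟩
  · rw [Category.assoc, pullback.condition, ← Category.assoc, h1, Category.id_comp]
  · rw [← Category.assoc, h3]
    exact pullback.lift_fst _ _ _

end Groth.Agent.Helper12.NormalExt
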