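import Mathlib
import Groth.Agent.Lib.Helper12.NormalExt
import Groth.Agent.Lib.Helper16.Sch.NormalEtaleSch
import Groth.Agent.Lib.Helper16.AlgSp.SmSp

/-!
# Sections of finite morphisms from normal schemes are open immersions; lifts through finite
normal covers land in the étale locus (helper12)

* `isOpenImmersion_section`: `p : T' ⟶ S'` finite, `T'` locally Noetherian with domain stalks:
  every section of `p` is an open immersion.
* `mem_smoothLocus_of_etale_lift`: `π : T ⟶ S` finite lfp with `T` normal loc. Noetherian,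
  `g : S' ⟶ S` étale, `v : S' ⟶ T` with `v ≫ π = g`: then `v` is étale and lands in
  `π.smoothLocus`.
-/

set_option autoImplicit false
set_option linter.style.haveILetI false
universe u
open CategoryTheory CategoryTheory.Limits AlgebraicGeometry TopologicalSpace

namespace Groth.Agent.Helper12.FinSecOpen

/-- every point of a quasi-sober space is a specialization of a maximal point -/
theorem exists_max_generization {X : Type*} [TopologicalSpace X] [T0Space X] [QuasiSober X]
    (x : X) : ∃ ζ : X, ζ ⤳ x ∧ ∀ y, y ⤳ ζ → y = ζ := by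
  obtain ⟨ζ, hζ⟩ := QuasiSober.sober (isIrreducible_irreducibleComponent (x := x))
    isClosed_irreducibleComponent
  have hζcl : closure ({ζ} : Set X) = irreducibleComponent x := hζ
  refine ⟨ζ, ?_, ?_⟩
  · rw [specializes_iff_mem_closure, hζcl]
    exact mem_irreducibleComponent
  · intro y hy
    have h1 : ζ ∈ closure ({y} : Set X) := specializes_iff_mem_closure.mp hy
    have h2 : closure ({ζ} : Set X) ⊆ closure ({y} : Set X) :=
      closure_minimal (Set.singleton_subset_iff.mpr h1) isClosed_closure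
    have h3 : closure ({y} : Set X) ⊆ irreducibleComponent x :=
      (irreducibleComponent_mem_irreducibleComponents x).2 isIrreducible_singleton.closure
        (hζcl ▸ h2)
    have h4 : y ∈ closure ({ζ} : Set X) := by
      rw [hζcl]
      exact h3 (subset_closure (Set.mem_singleton y))
    exact (hy.antisymm (specializes_iff_mem_closure.mpr h4)).eq

/-- no nontrivial specializations in the fibres of a finite morphism -/
theorem eq_of_specializes_of_fibre {X Y : Scheme.{u}} (f : X ⟶ Y) [IsFinite f] {a b : X}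
    (hab : a ⤳ b) (hf : f a = f b) : a = b := by
  have hd := f.isDiscrete_preimage_singleton (f b)
  have ha : a ∈ f ⁻¹' {f b} := hf
  have hb : b ∈ f ⁻¹' {f b} := rfl
  haveI : DiscreteTopology (f ⁻¹' {f b}) := isDiscrete_iff_discreteTopology.1 hd
  have h1 : (⟨a, ha⟩ : f ⁻¹' {f b}) ⤳ ⟨b, hb⟩ :=
    (Topology.IsInducing.subtypeVal.specializes_iff).1 hab
  have h2 := specializes_iff_eq.1 h1
  exact congrArg Subtype.val h2

/-- the image of a section of a finite morphism from a locally Noetherian scheme with domain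
stalks is open -/
theorem isOpen_range_section {S' T' : Scheme.{u}} [IsLocallyNoetherian T']
    (hdom : ∀ t : T', IsDomain (T'.presheaf.stalk t))
    (p : T' ⟶ S') [IsFinite p] (τ : S' ⟶ T') (hτ : τ ≫ p = 𝟙 S') : IsOpen (Set.range τ) := by
  haveI : IsClosedImmersion (τ ≫ p) := by rw [hτ]; infer_instance
  haveI : IsClosedImmersion τ := IsClosedImmersion.of_comp τ p
  have hclosed : IsClosed (Set.range τ) := τ.isClosedEmbedding.isClosed_range
  have hpτ : ∀ s, p (τ s) = s := fun s => by
    rw [← Scheme.Hom.comp_apply, hτ]; rfl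
  rw [isOpen_iff_forall_mem_open]
  rintro _ ⟨s, rfl⟩
  obtain ⟨W, hsW, hWirr⟩ := NormalExt.exists_irreducible_open T' hdom (τ s)
  refine ⟨W, ?_, W.2, hsW⟩
  obtain ⟨ξ, hξs, hξmax⟩ := exists_max_generization s
  have hτξW : τ ξ ∈ W := (hξs.map τ.continuous).mem_open W.2 hsW
  have hcl : IsIrreducible (closure (W : Set T')) := hWirr.closure
  have hη' : IsGenericPoint hcl.genericPoint (closure (W : Set T')) :=
    hcl.isGenericPoint_genericPoint isClosed_closure
  have h1 : hcl.genericPoint ⤳ τ ξ := hη'.specializes (subset_closure hτξW)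
  have h2 : p hcl.genericPoint ⤳ ξ := by
    have := h1.map p.continuous
    rwa [hpτ] at this
  have h3 : p hcl.genericPoint = ξ := hξmax _ h2
  have h4 : hcl.genericPoint = τ ξ := eq_of_specializes_of_fibre p h1 (by rw [h3, hpτ])
  intro w hw
  have h5 : w ∈ closure ({hcl.genericPoint} : Set T') := by
    rw [hη'.def]
    exact subset_closure hw
  rw [h4] at h5
  have h6 : ({τ ξ} : Set T') ⊆ Set.range τ := Set.singleton_subset_iff.mpr ⟨ξ, rfl⟩
  exact closure_minimal h6 hclosed h5

/-- a section of a finite morphism from a locally Noetherian scheme with domain stalks is an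
open immersion -/
theorem isOpenImmersion_section {S' T' : Scheme.{u}} [IsLocallyNoetherian T']
    (hdom : ∀ t : T', IsDomain (T'.presheaf.stalk t))
    (p : T' ⟶ S') [IsFinite p] (τ : S' ⟶ T') (hτ : τ ≫ p = 𝟙 S') : IsOpenImmersion τ := by
  haveI : IsClosedImmersion (τ ≫ p) := by rw [hτ]; infer_instance
  haveI : IsClosedImmersion τ := IsClosedImmersion.of_comp τ p
  haveI : ∀ x : T', _root_.IsReduced (T'.presheaf.stalk x) := fun x => by
    haveI := hdom x
    infer_instance
  haveI : IsReduced T' := isReduced_of_isReduced_stalk T'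
  obtain ⟨O, hO⟩ : ∃ O : T'.Opens, (O : Set T') = Set.range τ :=
    ⟨⟨_, isOpen_range_section hdom p τ hτ⟩, rfl⟩
  have hle : Set.range τ ⊆ Set.range O.ι := by
    rw [Scheme.Opens.range_ι, hO]
  let τ₀ : S' ⟶ O := IsOpenImmersion.lift O.ι τ hle
  have hτ₀ : τ₀ ≫ O.ι = τ := IsOpenImmersion.lift_fac _ _ _
  haveI : IsClosedImmersion (τ₀ ≫ O.ι) := by rw [hτ₀]; infer_instance
  haveI : IsClosedImmersion τ₀ := IsClosedImmersion.of_comp τ₀ O.ι
  haveI : Surjective τ₀ := by
    refine ⟨fun o => ?_⟩
    have ho : (o.1 : T') ∈ Set.range τ := by rw [← hO]; exact o.2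
    obtain ⟨s, hs⟩ := ho
    refine ⟨s, ?_⟩
    apply O.ι.isOpenEmbedding.injective
    rw [← Scheme.Hom.comp_apply, hτ₀, hs]
    rfl
  haveI : IsIso τ₀ := isIso_of_isClosedImmersion_of_surjective τ₀
  rw [← hτ₀]
  infer_instance

/-- `π : T ⟶ S` finite, `T` normal and locally Noetherian, `g : S' ⟶ S` étale: any `S`-morphism
`v : S' ⟶ T` is étale. -/
theorem etale_of_lift {S T S' : Scheme.{u}} [IsLocallyNoetherian T]
    (π : T ⟶ S) [IsFinite π]
    (hT : ∀ t : T, IsDomain (T.presheaf.stalk t) ∧ IsIntegrallyClosed (T.presheaf.stalk t))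
    (g : S' ⟶ S) [Etale g] (v : S' ⟶ T) (hv : v ≫ π = g) : Etale v := by
  let τ : S' ⟶ pullback π g := pullback.lift v (𝟙 S') (by rw [hv, Category.id_comp])
  have hτ : τ ≫ pullback.snd π g = 𝟙 S' := pullback.lift_snd _ _ _
  have hτ1 : τ ≫ pullback.fst π g = v := pullback.lift_fst _ _ _
  haveI : IsLocallyNoetherian (pullback π g) :=
    LocallyOfFiniteType.isLocallyNoetherian (pullback.fst π g)
  have hdom : ∀ t : ↥(pullback π g), IsDomain ((pullback π g).presheaf.stalk t) := by
    intro t
    haveI := (hT (pullback.fst π g t)).1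
    haveI := (hT (pullback.fst π g t)).2
    exact (Groth.Agent.Helper16.NormalEtale.stalk_normal_of_etale (pullback.fst π g) t).1
  haveI : IsOpenImmersion τ := isOpenImmersion_section hdom (pullback.snd π g) τ hτ
  rw [← hτ1]
  infer_instance

/-- `π : T ⟶ S` finite lfp, `T` normal and locally Noetherian, `g : S' ⟶ S` étale: any
`S`-morphism `v : S' ⟶ T` lands in the smooth (= étale) locus of `π`. -/
theorem mem_smoothLocus_of_etale_lift {S T S' : Scheme.{u}} [IsLocallyNoetherian T]
    (π : T ⟶ S) [IsFinite π] [LocallyOfFinitePresentation π]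
    (hT : ∀ t : T, IsDomain (T.presheaf.stalk t) ∧ IsIntegrallyClosed (T.presheaf.stalk t))
    (g : S' ⟶ S) [Etale g] (v : S' ⟶ T) (hv : v ≫ π = g) (s' : S') :
    v s' ∈ π.smoothLocus := by
  haveI : Etale v := etale_of_lift π hT g v hv
  obtain ⟨X₀, hX₀⟩ : ∃ X₀ : T.Opens, (X₀ : Set T) = Set.range v :=
    ⟨⟨_, v.isOpenMap.isOpen_range⟩, rfl⟩
  have hle : Set.range v ⊆ Set.range X₀.ι := by
    rw [Scheme.Opens.range_ι, hX₀]
  let e : S' ⟶ X₀ := IsOpenImmersion.lift X₀.ι v hle
  have he : e ≫ X₀.ι = v := IsOpenImmersion.lift_fac _ _ _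
  haveI : Etale (e ≫ X₀.ι) := by rw [he]; infer_instance
  haveI : Etale e := MorphismProperty.of_postcomp (W := @Etale) (W' := @Etale) e X₀.ι
    inferInstance inferInstance
  haveI : Surjective e := by
    refine ⟨fun o => ?_⟩
    have ho : (o.1 : T) ∈ Set.range v := by rw [← hX₀]; exact o.2
    obtain ⟨s, hs⟩ := ho
    refine ⟨s, ?_⟩
    apply X₀.ι.isOpenEmbedding.injective
    rw [← Scheme.Hom.comp_apply, he, hs]
    rfl
  have hsm : Smooth (e ≫ X₀.ι ≫ π) := by
    rw [← Category.assoc, he, hv]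
    infer_instance
  haveI : Smooth (X₀.ι ≫ π) :=
    Groth.Agent.Helper16.Alg.smooth_of_comp_etale_surjective e (X₀.ι ≫ π) hsm
  have h1 : X₀.ι ⁻¹ᵁ π.smoothLocus = ⊤ := by
    rw [Scheme.Hom.preimage_smoothLocus_eq, Scheme.Hom.smoothLocus_eq_top]
  have h2 : v s' ∈ X₀ := by
    show v s' ∈ (X₀ : Set T)
    rw [hX₀]
    exact ⟨s', rfl⟩
  have h3 : (⟨v s', h2⟩ : X₀) ∈ X₀.ι ⁻¹ᵁ π.smoothLocus := by rw [h1]; trivial
  exact h3

end Groth.Agent.Helper12.FinSecOpen
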