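import Mathlib

/-!
# Multiplicativity of ranks in towers (constant rank on top)
-/

set_option autoImplicit false
set_option linter.style.haveILetI false
universe u
open Module TensorProduct

namespace Groth.Agent.Helper12.FinrankComp

attribute [local instance] Algebra.TensorProduct.rightAlgebra in
/-- `A → B` finite flat, `M` a finite flat `B`-module of constant rank `a`. Then the rank of `M` over `A`
at `p` is `a` times the rank of `B` at `p`. -/
theorem rankAtStalk_tower (A B M : Type u) [CommRing A] [CommRing B] [Algebra A B]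
    [AddCommGroup M] [Module A M] [Module B M] [IsScalarTower A B M]
    [Module.Finite A B] [Module.Flat A B] [Module.Finite B M] [Module.Flat B M]
    (a : ℕ) (ha : ∀ q : PrimeSpectrum B, rankAtStalk (R := B) M q = a) (p : PrimeSpectrum A) :
    rankAtStalk (R := A) M p = a * rankAtStalk (R := A) B p := by
  haveI : Module.Finite A M := Module.Finite.trans B M
  haveI : Module.Flat A M := Module.Flat.trans A B M
  let k := p.asIdeal.ResidueField
  let F := k ⊗[A] B
  let e : F ⊗[B] M ≃ₗ[k] k ⊗[A] M := Algebra.IsPushout.cancelBaseChange A k B F M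
  rw [rankAtStalk_eq, rankAtStalk_eq]
  show finrank k (k ⊗[A] M) = a * finrank k (k ⊗[A] B)
  rw [← e.finrank_eq]
  rcases subsingleton_or_nontrivial F with hF | hF
  · haveI : Subsingleton (F ⊗[B] M) := by
      refine ⟨fun x y => ?_⟩
      have : ∀ z : F ⊗[B] M, z = 0 := fun z => by
        rw [← one_smul F z, Subsingleton.elim (1 : F) 0, zero_smul]
      rw [this x, this y]
    rw [Module.finrank_zero_of_subsingleton, Module.finrank_zero_of_subsingleton, mul_zero]
  haveI : IsArtinianRing F := IsArtinianRing.of_finite k F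
  have rk : ∀ m : MaximalSpectrum F,
      finrank (F ⧸ m.asIdeal) ((F ⧸ m.asIdeal) ⊗[F] (F ⊗[B] M)) = a := by
    intro m
    let pm : PrimeSpectrum F := ⟨m.asIdeal, m.isMaximal.isPrime⟩
    have h1 : rankAtStalk (F ⊗[B] M) pm = a := by
      rw [rankAtStalk_baseChange]; exact ha _
    letI : Field (F ⧸ m.asIdeal) := Ideal.Quotient.field m.asIdeal
    have h2 := rankAtStalk_eq (M := F ⊗[B] M) pm
    let e' : pm.asIdeal.ResidueField ⊗[F ⧸ m.asIdeal] ((F ⧸ m.asIdeal) ⊗[F] (F ⊗[B] M))
        ≃ₗ[pm.asIdeal.ResidueField] pm.asIdeal.ResidueField ⊗[F] (F ⊗[B] M) :=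
      AlgebraTensorModule.cancelBaseChange _ _ _ _ _
    have h3 := e'.finrank_eq
    rw [Module.finrank_baseChange] at h3
    rw [h3, ← h1, h2]
  obtain ⟨b⟩ := Module.nonempty_basis_of_flat_of_finrank_eq F (F ⊗[B] M) a rk
  haveI : Module.Free F (F ⊗[B] M) := Module.Free.of_basis b
  have h4 : finrank F (F ⊗[B] M) = a := by
    rw [Module.finrank_eq_card_basis b, Fintype.card_fin]
  have h5 := Module.finrank_mul_finrank k F (F ⊗[B] M)
  rw [← h5, h4, mul_comm]

end Groth.Agent.Helper12.FinrankComp
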