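import Mathlib.Topology.Sheaves.SheafCondition.UniqueGluing
import Mathlib.Algebra.Category.Grp.Limits
import Mathlib.Topology.Sheaves.Sheaf
import Mathlib.Algebra.Category.Grp.Basic
import Mathlib.Order.Zorn

/-!
# Flasque sheaves of groups: surjectivity on sections (Zorn argument)
-/

set_option autoImplicit false
universe u

namespace Groth.Agent.Helper12.Flasque

open CategoryTheory TopologicalSpace Opposite TopCat

variable {X : TopCat.{u}}

/-- restriction map of a presheaf of groups -/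
def res (P : TopCat.Presheaf GrpCat.{u} X) {U V : Opens X} (h : V ≤ U) :
    P.obj (op U) →* P.obj (op V) := (P.map (homOfLE h).op).hom

theorem res_res (P : TopCat.Presheaf GrpCat.{u} X) {U V W : Opens X} (h₁ : V ≤ U) (h₂ : W ≤ V)
    (x : P.obj (op U)) : res P h₂ (res P h₁ x) = res P (h₂.trans h₁) x := by
  unfold res
  rw [← GrpCat.comp_apply, ← P.map_comp]
  rfl

theorem res_self (P : TopCat.Presheaf GrpCat.{u} X) {U : Opens X} (x : P.obj (op U)) :
    res P (le_refl U) x = x := by
  unfold res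
  have : (homOfLE (le_refl U)).op = 𝟙 (op U) := rfl
  rw [this, P.map_id]
  rfl

theorem res_nat {P Q : TopCat.Presheaf GrpCat.{u} X} (β : P ⟶ Q) {U V : Opens X} (h : V ≤ U)
    (x : P.obj (op U)) :
    (β.app (op V)).hom (res P h x) = res Q h ((β.app (op U)).hom x) := by
  unfold res
  have := β.naturality (homOfLE h).op
  rw [← GrpCat.comp_apply, ← GrpCat.comp_apply, this]

section Glue

variable (P : TopCat.Presheaf GrpCat.{u} X) (hP : P.IsSheaf)
include hP

theorem glue_family {ι : Type*} (Us : ι → Opens X) (V : Opens X) (hle : ∀ i, Us i ≤ V)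
    (hcover : V ≤ iSup Us) (sf : ∀ i, P.obj (op (Us i)))
    (hcomp : ∀ i j, res P (inf_le_left : Us i ⊓ Us j ≤ Us i) (sf i) =
      res P (inf_le_right : Us i ⊓ Us j ≤ Us j) (sf j)) :
    ∃ s : P.obj (op V), ∀ i, res P (hle i) s = sf i := by
  obtain ⟨s, hs, -⟩ := TopCat.Sheaf.existsUnique_gluing' (⟨P, hP⟩ : TopCat.Sheaf GrpCat.{u} X) Us V
    (fun i => homOfLE (hle i)) hcover sf (fun i j => hcomp i j)
  exact ⟨s, fun i => hs i⟩

theorem ext_family {ι : Type*} (Us : ι → Opens X) (V : Opens X) (hle : ∀ i, Us i ≤ V)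
    (hcover : V ≤ iSup Us) (s t : P.obj (op V))
    (h : ∀ i, res P (hle i) s = res P (hle i) t) : s = t :=
  TopCat.Sheaf.eq_of_locally_eq' (⟨P, hP⟩ : TopCat.Sheaf GrpCat.{u} X) Us V
    (fun i => homOfLE (hle i)) hcover s t (fun i => h i)

theorem ext_two {V W : Opens X} (s t : P.obj (op (V ⊔ W)))
    (h₁ : res P (le_sup_left : V ≤ V ⊔ W) s = res P le_sup_left t)
    (h₂ : res P (le_sup_right : W ≤ V ⊔ W) s = res P le_sup_right t) : s = t := by
  refine ext_family P hP (fun b : Bool => Bool.rec W V b) (V ⊔ W)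
    (fun b => by cases b; exacts [le_sup_right, le_sup_left]) ?_ s t ?_
  · refine sup_le ?_ ?_
    · exact le_iSup (fun b : Bool => (Bool.rec W V b : Opens X)) true
    · exact le_iSup (fun b : Bool => (Bool.rec W V b : Opens X)) false
  · intro b
    cases b
    · exact h₂
    · exact h₁

theorem glue_two {V W : Opens X} (a : P.obj (op V)) (b : P.obj (op W))
    (hab : res P (inf_le_left : V ⊓ W ≤ V) a = res P (inf_le_right : V ⊓ W ≤ W) b) :
    ∃ c : P.obj (op (V ⊔ W)), res P (le_sup_left : V ≤ V ⊔ W) c = a ∧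
      res P (le_sup_right : W ≤ V ⊔ W) c = b := by
  obtain ⟨c, hc⟩ := glue_family P hP (fun t : Bool => Bool.rec W V t) (V ⊔ W)
    (fun t => by cases t; exacts [le_sup_right, le_sup_left])
    (by
      refine sup_le ?_ ?_
      · exact le_iSup (fun b : Bool => (Bool.rec W V b : Opens X)) true
      · exact le_iSup (fun b : Bool => (Bool.rec W V b : Opens X)) false)
    (fun t => Bool.rec (motive := fun t => P.obj (op (Bool.rec W V t : Opens X))) b a t)
    (by
      intro i j
      cases i <;> cases j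
      · rfl
      · show res P (inf_le_left : W ⊓ V ≤ W) b = res P (inf_le_right : W ⊓ V ≤ V) a
        have h1 : W ⊓ V ≤ V ⊓ W := le_of_eq (inf_comm W V)
        have := congrArg (res P h1) hab
        rw [res_res, res_res] at this
        exact this.symm
      · exact hab
      · rfl)
  exact ⟨c, hc true, hc false⟩

end Glue

section Main

variable (G H : TopCat.Presheaf GrpCat.{u} X) (β : G ⟶ H) (U : Opens X) (s : H.obj (op U))

/-- a partial lift of the section `s` -/
structure Lift where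
  V : Opens X
  hV : V ≤ U
  g : G.obj (op V)
  hg : (β.app (op V)).hom g = res H hV s

instance : Preorder (Lift G H β U s) where
  le p q := ∃ h : p.V ≤ q.V, res G h q.g = p.g
  le_refl p := ⟨le_rfl, res_self G p.g⟩
  le_trans p q r := fun ⟨h1, e1⟩ ⟨h2, e2⟩ => ⟨h1.trans h2, by rw [← res_res G h2 h1, e2, e1]⟩

theorem Lift.le_def (p q : Lift G H β U s) : p ≤ q ↔ ∃ h : p.V ≤ q.V, res G h q.g = p.g := Iff.rfl

end Main

theorem surjective_of_flasque
    (F G H : TopCat.Presheaf GrpCat.{u} X) (hG : G.IsSheaf) (hH : H.IsSheaf)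
    (α : F ⟶ G) (β : G ⟶ H)
    (hex : ∀ (U : Opens X) (g : G.obj (op U)),
      (β.app (op U)).hom g = 1 ↔ g ∈ Set.range (α.app (op U)).hom)
    (hβ : ∀ (U : Opens X) (s : H.obj (op U)) (x : X), x ∈ U →
      ∃ (V : Opens X) (hV : V ≤ U), x ∈ V ∧ ∃ g : G.obj (op V),
        (β.app (op V)).hom g = res H hV s)
    (hfl : ∀ (U V : Opens X) (hUV : V ≤ U), Function.Surjective (res F hUV))
    (U : Opens X) : Function.Surjective (β.app (op U)).hom := by
  intro s
  -- Zorn
  obtain ⟨m, hm⟩ : ∃ m : Lift G H β U s, IsMax m := by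
    apply zorn_le
    intro c hc
    let Us : c → Opens X := fun i => i.1.V
    have hle : ∀ i, Us i ≤ iSup Us := fun i => le_iSup Us i
    have hcomp : ∀ i j : c, res G (inf_le_left : Us i ⊓ Us j ≤ Us i) i.1.g =
        res G (inf_le_right : Us i ⊓ Us j ≤ Us j) j.1.g := by
      intro i j
      rcases hc.total i.2 j.2 with h | h
      · obtain ⟨h1, e1⟩ := h
        rw [← e1, res_res]
      · obtain ⟨h1, e1⟩ := h
        rw [← e1, res_res]
    obtain ⟨gs, hgs⟩ := glue_family G hG Us (iSup Us) hle le_rfl (fun i => i.1.g) hcomp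
    have hVU : iSup Us ≤ U := iSup_le fun i => i.1.hV
    have hβgs : (β.app (op (iSup Us))).hom gs = res H hVU s := by
      apply ext_family H hH Us (iSup Us) hle le_rfl
      intro i
      rw [← res_nat, hgs, res_res]
      exact i.1.hg
    refine ⟨⟨iSup Us, hVU, gs, hβgs⟩, ?_⟩
    intro p hp
    exact ⟨hle ⟨p, hp⟩, hgs ⟨p, hp⟩⟩
  obtain ⟨V, hV, g, hg⟩ := m
  have hVU : V = U := by
    by_contra hne
    obtain ⟨x, hxU, hxV⟩ := SetLike.exists_of_lt (lt_of_le_of_ne hV hne)
    obtain ⟨W, hW, hxW, g', hg'⟩ := hβ U s x hxU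
    -- compare on V ⊓ W
    have h1 : (β.app (op (V ⊓ W))).hom
        ((res G (inf_le_left : V ⊓ W ≤ V) g)⁻¹ * res G (inf_le_right : V ⊓ W ≤ W) g') = 1 := by
      rw [map_mul, map_inv, res_nat, res_nat, hg, hg', res_res, res_res]
      exact inv_mul_cancel _
    obtain ⟨f, hf⟩ := (hex _ _).mp h1
    obtain ⟨f', hf'⟩ := hfl W (V ⊓ W) inf_le_right f
    set g'' : G.obj (op W) := g' * ((α.app (op W)).hom f')⁻¹ with hg''def
    have hβα : (β.app (op W)).hom ((α.app (op W)).hom f') = 1 := (hex _ _).mpr ⟨f', rfl⟩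
    have hg'' : (β.app (op W)).hom g'' = res H hW s := by
      rw [hg''def, map_mul, map_inv, hβα, inv_one, mul_one, hg']
    have hres : res G (inf_le_left : V ⊓ W ≤ V) g = res G (inf_le_right : V ⊓ W ≤ W) g'' := by
      rw [hg''def, map_mul, map_inv, ← res_nat, hf', hf]
      rw [mul_inv_rev, inv_inv, ← mul_assoc, mul_inv_cancel, one_mul]
    obtain ⟨g₁, hg₁V, hg₁W⟩ := glue_two G hG g g'' hres
    have hVWU : V ⊔ W ≤ U := sup_le hV hW
    have hβg₁ : (β.app (op (V ⊔ W))).hom g₁ = res H hVWU s := by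
      apply ext_two H hH
      · rw [← res_nat, hg₁V, res_res]; exact hg
      · rw [← res_nat, hg₁W, res_res]; exact hg''
    have hmax := hm (b := ⟨V ⊔ W, hVWU, g₁, hβg₁⟩) ⟨le_sup_left, hg₁V⟩
    obtain ⟨hle', -⟩ := hmax
    exact hxV (hle' (Or.inr hxW))
  subst hVU
  exact ⟨g, by rw [hg, res_self]⟩

end Groth.Agent.Helper12.Flasque
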