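import Mathlib

/-!
# Flatness of modules and base change: pure algebra (helper12)
-/

set_option autoImplicit false
universe u

open TensorProduct

namespace Groth.Agent.Helper12.FlatModBC

section L0

variable {A' C : Type u} [CommRing A'] [CommRing C] [Algebra A' C]
  (N : Type u) [AddCommGroup N] [Module C N] [Module A' N] [IsScalarTower A' C N]
  (B' : Type u) [AddCommGroup B'] [Module C B'] [Module A' B'] [IsScalarTower A' C B']

/-- mixed transitivity: `N` flat over `A'`, `B'` flat over `C` ⇒ `B' ⊗[C] N` flat over `A'`. -/
theorem flat_tensor_of_flat [Module.Flat A' N] [Module.Flat C B'] :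
    Module.Flat A' (B' ⊗[C] N) := by
  rw [Module.Flat.iff_lTensor_preserves_injective_linearMap]
  intro P Q _ _ _ _ f hf
  have h1 : Function.Injective (LinearMap.lTensor N f) :=
    Module.Flat.lTensor_preserves_injective_linearMap f hf
  let f' : N ⊗[A'] P →ₗ[C] N ⊗[A'] Q := TensorProduct.AlgebraTensorModule.lTensor C N f
  have h2 : Function.Injective f' := h1
  have h3 : Function.Injective (LinearMap.lTensor B' f') :=
    Module.Flat.lTensor_preserves_injective_linearMap f' h2
  have key : LinearMap.lTensor (B' ⊗[C] N) f =
      ((TensorProduct.AlgebraTensorModule.assoc A' C C B' N Q).symm.toLinearMap.restrictScalars A') ∘ₗ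
        ((LinearMap.lTensor B' f').restrictScalars A') ∘ₗ
        ((TensorProduct.AlgebraTensorModule.assoc A' C C B' N P).toLinearMap.restrictScalars A') := by
    apply LinearMap.ext
    intro z
    induction z with
    | zero => simp
    | add a b ha hb => simp only [map_add, ha, hb]
    | tmul x p =>
      induction x with
      | zero => simp
      | add a b ha hb => simp only [add_tmul, map_add, ha, hb]
      | tmul b n => simp [f']
  rw [key]
  simp only [LinearMap.coe_comp, LinearMap.coe_restrictScalars, LinearEquiv.coe_coe]
  exact (LinearEquiv.injective _).comp (h3.comp (LinearEquiv.injective _))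

end L0

section L1

variable {A A' B B' C : Type u} [CommRing A] [CommRing A'] [CommRing B] [CommRing B'] [CommRing C]
  [Algebra A A'] [Algebra A B] [Algebra A C] [Algebra A' C] [Algebra B C]
  [IsScalarTower A A' C] [IsScalarTower A B C] [Algebra.IsPushout A A' B C]
  [Algebra C B'] [Algebra A' B'] [Algebra B B'] [IsScalarTower A' C B'] [IsScalarTower B C B']
  (M : Type u) [AddCommGroup M] [Module B M] [Module A M] [IsScalarTower A B M]

include C in
/-- if `B'` is flat over the pushout `C = A' ⊗[A] B` and `M` is `A`-flat, then `B' ⊗[B] M` is
`A'`-flat. -/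
theorem flat_baseChange_of_flat_pushout [Module.Flat C B'] [Module.Flat A M] :
    Module.Flat A' (B' ⊗[B] M) := by
  have e1 : C ⊗[B] M ≃ₗ[A'] A' ⊗[A] M := Algebra.IsPushout.cancelBaseChange A A' B C M
  have : Module.Flat A' (C ⊗[B] M) := Module.Flat.of_linearEquiv e1
  have : Module.Flat A' (B' ⊗[C] (C ⊗[B] M)) := flat_tensor_of_flat (C ⊗[B] M) B'
  let e2 : B' ⊗[C] (C ⊗[B] M) ≃ₗ[B'] B' ⊗[B] M :=
    TensorProduct.AlgebraTensorModule.cancelBaseChange B C B' B' M
  exact Module.Flat.of_linearEquiv (e2.restrictScalars A').symm

end L1

section L3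

variable {A B B' : Type u} [CommRing A] [CommRing B] [CommRing B']
  [Algebra A B] [Algebra B B'] [Algebra A B'] [IsScalarTower A B B']
  (M : Type u) [AddCommGroup M] [Module B M] [Module A M] [IsScalarTower A B M]

/-- descent of flatness over `A` along a faithfully flat extension `B → B'` of the ring acting. -/
theorem flat_of_flat_baseChange_faithfullyFlat [Module.FaithfullyFlat B B']
    [Module.Flat A (B' ⊗[B] M)] : Module.Flat A M := by
  rw [Module.Flat.iff_lTensor_preserves_injective_linearMap]
  intro P Q _ _ _ _ f hf
  let f' : M ⊗[A] P →ₗ[B] M ⊗[A] Q := TensorProduct.AlgebraTensorModule.lTensor B M f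
  change Function.Injective f'
  rw [← Module.FaithfullyFlat.lTensor_injective_iff_injective B B']
  have h1 : Function.Injective (LinearMap.lTensor (B' ⊗[B] M) f) :=
    Module.Flat.lTensor_preserves_injective_linearMap f hf
  have key : (LinearMap.lTensor B' f').restrictScalars A =
      ((TensorProduct.AlgebraTensorModule.assoc A B B B' M Q).toLinearMap.restrictScalars A) ∘ₗ
        (LinearMap.lTensor (B' ⊗[B] M) f) ∘ₗ
        ((TensorProduct.AlgebraTensorModule.assoc A B B B' M P).symm.toLinearMap.restrictScalars A) := by
    apply LinearMap.ext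
    intro z
    induction z with
    | zero => simp
    | add a b ha hb => simp only [map_add, ha, hb]
    | tmul b x =>
      induction x with
      | zero => simp
      | add a b ha hb => simp only [tmul_add, map_add, ha, hb]
      | tmul m p => simp [f']
  have h2 : Function.Injective ((LinearMap.lTensor B' f').restrictScalars A) := by
    rw [key]
    simp only [LinearMap.coe_comp, LinearMap.coe_restrictScalars]
    exact (LinearEquiv.injective _).comp (h1.comp (LinearEquiv.injective _))
  exact h2

end L3

end Groth.Agent.Helper12.FlatModBC
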