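import Mathlib
import Groth.Agent.Lib.Helper12.GorBC2

/-!
# The local ring of a fibre product is flat over the tensor product of the local rings (helper12)
-/

set_option autoImplicit false
set_option linter.style.haveILetI false
universe u

open AlgebraicGeometry CategoryTheory Limits TensorProduct

namespace Groth.Agent.Helper12.FlatModBC

open Groth.Agent.Helper16.SmoothLocusBC

variable {X S X' S' : Scheme.{u}} {f : X ⟶ S} {f' : X' ⟶ S'} {g' : X' ⟶ X} {g : S' ⟶ S}

theorem pt_eq (hc : IsPullback g' f' f g) (x' : X') : f (g' x') = g (f' x') := by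
  rw [← Scheme.Hom.comp_apply, ← Scheme.Hom.comp_apply, hc.w]

/-- the map `𝒪_{S, f (g' x')} ⟶ 𝒪_{S', f' x'}`. -/
noncomputable def gam (hc : IsPullback g' f' f g) (x' : X') :
    S.presheaf.stalk (f (g' x')) ⟶ S'.presheaf.stalk (f' x') :=
  (S.presheaf.stalkCongr (.of_eq (pt_eq hc x'))).hom ≫ g.stalkMap (f' x')

theorem gam_comm (hc : IsPullback g' f' f g) (x' : X') :
    f.stalkMap (g' x') ≫ g'.stalkMap x' = gam hc x' ≫ f'.stalkMap x' := by
  rw [← Scheme.Hom.stalkMap_comp, gam, Category.assoc, ← Scheme.Hom.stalkMap_comp]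
  exact Scheme.Hom.stalkMap_congr_hom _ _ hc.w x'

theorem SpecMap_gam_fromSpecStalk (hc : IsPullback g' f' f g) (x' : X') :
    Spec.map (gam hc x') ≫ S.fromSpecStalk (f (g' x')) = S'.fromSpecStalk (f' x') ≫ g := by
  rw [gam, Spec.map_comp, Category.assoc]
  have h1 := Scheme.SpecMap_stalkSpecializes_fromSpecStalk (X := S)
    (Inseparable.of_eq (pt_eq hc x')).ge
  have h2 : Spec.map (S.presheaf.stalkCongr (.of_eq (pt_eq hc x'))).hom ≫
      S.fromSpecStalk (f (g' x')) = S.fromSpecStalk (g (f' x')) := h1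
  rw [h2]
  exact Scheme.SpecMap_stalkMap_fromSpecStalk g

/-- The canonical morphism `Spec 𝒪_{X',x'} ⟶ Spec 𝒪_{S',s'} ×_{Spec 𝒪_{S,s}} Spec 𝒪_{X,x}`
is flat. -/
theorem flat_lift_stalk (hc : IsPullback g' f' f g) (x' : X') :
    Flat (pullback.lift (f := Spec.map (gam hc x')) (g := Spec.map (f.stalkMap (g' x')))
      (Spec.map (f'.stalkMap x')) (Spec.map (g'.stalkMap x'))
      (by rw [← Spec.map_comp, ← Spec.map_comp, gam_comm hc x'])) := by
  set P := pullback (Spec.map (gam hc x')) (Spec.map (f.stalkMap (g' x'))) with hP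
  set hMap : Spec (X'.presheaf.stalk x') ⟶ P :=
    pullback.lift (f := Spec.map (gam hc x')) (g := Spec.map (f.stalkMap (g' x')))
      (Spec.map (f'.stalkMap x')) (Spec.map (g'.stalkMap x'))
      (by rw [← Spec.map_comp, ← Spec.map_comp, gam_comm hc x']) with hhMap
  have hcompat : (pullback.snd (Spec.map (gam hc x')) (Spec.map (f.stalkMap (g' x'))) ≫
      X.fromSpecStalk (g' x')) ≫ f =
      (pullback.fst (Spec.map (gam hc x')) (Spec.map (f.stalkMap (g' x'))) ≫
        S'.fromSpecStalk (f' x')) ≫ g := by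
    rw [Category.assoc, Category.assoc, ← SpecMap_gam_fromSpecStalk hc x',
      ← Scheme.SpecMap_stalkMap_fromSpecStalk f, pullback.condition_assoc]
  let jMap : P ⟶ X' := hc.lift _ _ hcompat
  have hj1 : jMap ≫ g' = pullback.snd _ _ ≫ X.fromSpecStalk (g' x') := hc.lift_fst _ _ _
  have hj2 : jMap ≫ f' = pullback.fst _ _ ≫ S'.fromSpecStalk (f' x') := hc.lift_snd _ _ _
  have hcomp : hMap ≫ jMap = X'.fromSpecStalk x' := by
    apply hc.hom_ext
    · rw [Category.assoc, hj1, hhMap, pullback.lift_snd_assoc,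
        Scheme.SpecMap_stalkMap_fromSpecStalk]
    · rw [Category.assoc, hj2, hhMap, pullback.lift_fst_assoc,
        Scheme.SpecMap_stalkMap_fromSpecStalk]
  haveI : Mono jMap := by
    constructor
    intro T u v huv
    apply pullback.hom_ext
    · have h1 : u ≫ jMap ≫ f' = v ≫ jMap ≫ f' := by rw [← Category.assoc, huv, Category.assoc]
      rw [hj2, ← Category.assoc, ← Category.assoc] at h1
      exact (cancel_mono _).mp h1
    · have h1 : u ≫ jMap ≫ g' = v ≫ jMap ≫ g' := by rw [← Category.assoc, huv, Category.assoc]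
      rw [hj1, ← Category.assoc, ← Category.assoc] at h1
      exact (cancel_mono _).mp h1
  have sq : IsPullback (𝟙 _) hMap (X'.fromSpecStalk x') jMap :=
    IsPullback.of_horiz_isIso_mono ⟨by rw [Category.id_comp, hcomp]⟩
  exact MorphismProperty.of_isPullback sq (flat_fromSpecStalk X' x')

/-- Ring-level statement: `𝒪_{S',s'} ⊗_{𝒪_{S,s}} 𝒪_{X,x} → 𝒪_{X',x'}` is flat. -/
theorem flat_tensor_stalk (hc : IsPullback g' f' f g) (x' : X') :
    letI : Algebra (S.presheaf.stalk (f (g' x'))) (S'.presheaf.stalk (f' x')) :=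
      (gam hc x').hom.toAlgebra
    letI : Algebra (S.presheaf.stalk (f (g' x'))) (X.presheaf.stalk (g' x')) :=
      (f.stalkMap (g' x')).hom.toAlgebra
    ∃ φ : (S'.presheaf.stalk (f' x')) ⊗[S.presheaf.stalk (f (g' x'))] (X.presheaf.stalk (g' x'))
        →+* X'.presheaf.stalk x',
      (∀ a b, φ (a ⊗ₜ b) = (f'.stalkMap x').hom a * (g'.stalkMap x').hom b) ∧ φ.Flat := by
  letI iAA' : Algebra (S.presheaf.stalk (f (g' x'))) (S'.presheaf.stalk (f' x')) :=
    (gam hc x').hom.toAlgebra
  letI iAB : Algebra (S.presheaf.stalk (f (g' x'))) (X.presheaf.stalk (g' x')) :=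
    (f.stalkMap (g' x')).hom.toAlgebra
  letI iA'B' : Algebra (S'.presheaf.stalk (f' x')) (X'.presheaf.stalk x') :=
    (f'.stalkMap x').hom.toAlgebra
  letI iAB' : Algebra (S.presheaf.stalk (f (g' x'))) (X'.presheaf.stalk x') :=
    ((f'.stalkMap x').hom.comp (gam hc x').hom).toAlgebra
  haveI : IsScalarTower (S.presheaf.stalk (f (g' x'))) (S'.presheaf.stalk (f' x'))
      (X'.presheaf.stalk x') := IsScalarTower.of_algebraMap_eq fun r => rfl
  let gB : X.presheaf.stalk (g' x') →ₐ[S.presheaf.stalk (f (g' x'))] X'.presheaf.stalk x' :=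
    { toRingHom := (g'.stalkMap x').hom
      commutes' := fun r => by
        have := congrArg (fun t => t.hom r) (gam_comm hc x')
        exact this }
  let φ := Algebra.TensorProduct.lift (Algebra.ofId (S'.presheaf.stalk (f' x'))
    (X'.presheaf.stalk x')) gB (fun _ _ => Commute.all _ _)
  refine ⟨φ.toRingHom, fun a b => ?_, ?_⟩
  · change φ (a ⊗ₜ b) = _
    rw [Algebra.TensorProduct.lift_tmul]
    rfl
  · have hflat := flat_lift_stalk hc x'
    let iso := pullbackSpecIso (S.presheaf.stalk (f (g' x'))) (S'.presheaf.stalk (f' x'))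
      (X.presheaf.stalk (g' x'))
    have key : Spec.map (CommRingCat.ofHom φ.toRingHom) ≫ iso.inv =
        pullback.lift (f := Spec.map (gam hc x')) (g := Spec.map (f.stalkMap (g' x')))
          (Spec.map (f'.stalkMap x')) (Spec.map (g'.stalkMap x'))
          (by rw [← Spec.map_comp, ← Spec.map_comp, gam_comm hc x']) := by
      have e1 : iso.inv ≫ pullback.fst _ _ =
          Spec.map (CommRingCat.ofHom Algebra.TensorProduct.includeLeftRingHom) :=
        pullbackSpecIso_inv_fst ..
      have e2 : iso.inv ≫ pullback.snd _ _ =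
          Spec.map (CommRingCat.ofHom
            (Algebra.TensorProduct.includeRight (R := S.presheaf.stalk (f (g' x')))
              (A := S'.presheaf.stalk (f' x')) (B := X.presheaf.stalk (g' x'))).toRingHom) :=
        pullbackSpecIso_inv_snd ..
      have e3 : CommRingCat.ofHom Algebra.TensorProduct.includeLeftRingHom ≫
          CommRingCat.ofHom φ.toRingHom = f'.stalkMap x' := by
        ext a
        change φ (a ⊗ₜ 1) = _
        rw [Algebra.TensorProduct.lift_tmul, map_one, mul_one]
        rfl
      have e4 : CommRingCat.ofHom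
            (Algebra.TensorProduct.includeRight (R := S.presheaf.stalk (f (g' x')))
              (A := S'.presheaf.stalk (f' x')) (B := X.presheaf.stalk (g' x'))).toRingHom ≫
          CommRingCat.ofHom φ.toRingHom = g'.stalkMap x' := by
        ext b
        change φ (1 ⊗ₜ b) = _
        rw [Algebra.TensorProduct.lift_tmul, map_one, one_mul]
        rfl
      refine pullback.hom_ext ?_ ?_
      · refine (Category.assoc _ _ _).trans ?_
        refine Eq.trans ?_ (pullback.lift_fst _ _ _).symm
        rw [e1, ← Spec.map_comp, e3]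
      · refine (Category.assoc _ _ _).trans ?_
        refine Eq.trans ?_ (pullback.lift_snd _ _ _).symm
        rw [e2, ← Spec.map_comp, e4]
    have h2 : Flat (Spec.map (CommRingCat.ofHom φ.toRingHom)) := by
      have : Spec.map (CommRingCat.ofHom φ.toRingHom) =
          pullback.lift (f := Spec.map (gam hc x')) (g := Spec.map (f.stalkMap (g' x')))
          (Spec.map (f'.stalkMap x')) (Spec.map (g'.stalkMap x'))
          (by rw [← Spec.map_comp, ← Spec.map_comp, gam_comm hc x']) ≫ iso.hom := by
        rw [← key, Category.assoc, Iso.inv_hom_id, Category.comp_id]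
      rw [this]
      haveI := hflat
      exact MorphismProperty.comp_mem _ _ _ hflat inferInstance
    rw [HasRingHomProperty.Spec_iff (P := @Flat)] at h2
    exact h2

end Groth.Agent.Helper12.FlatModBC
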