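import Mathlib
import Groth.Prelude.Def_FlatMod2
import Groth.Agent.Lib.Helper12.FlatModBC1
import Groth.Agent.Lib.Helper12.FlatModBC2
import Groth.Agent.Lib.Helper13.PullbackStalk

/-!
# Flatness of a quasi-coherent module over the base and base change (helper12)
-/

set_option autoImplicit false
set_option linter.style.haveILetI false
universe u

open AlgebraicGeometry CategoryTheory Limits TensorProduct

namespace Groth.Agent.Helper12.FlatModBC

variable {X S X' S' : Scheme.{u}} {f : X ⟶ S} {f' : X' ⟶ S'} {g' : X' ⟶ X} {g : S' ⟶ S}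

attribute [local instance] Algebra.TensorProduct.rightAlgebra

theorem isFlatOverAt_baseChange (hc : IsPullback g' f' f g)
    (F : X.Modules) [F.IsQuasicoherent] (x' : X') (h : FlatMod.IsFlatOverAt f F (g' x')) :
    FlatMod.IsFlatOverAt f' ((Scheme.Modules.pullback g').obj F) x' := by
  letI iAA' : Algebra (S.presheaf.stalk (f (g' x'))) (S'.presheaf.stalk (f' x')) :=
    (gam hc x').hom.toAlgebra
  letI iAB : Algebra (S.presheaf.stalk (f (g' x'))) (X.presheaf.stalk (g' x')) :=
    (f.stalkMap (g' x')).hom.toAlgebra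
  letI iA'B' : Algebra (S'.presheaf.stalk (f' x')) (X'.presheaf.stalk x') :=
    (f'.stalkMap x').hom.toAlgebra
  letI iBB' : Algebra (X.presheaf.stalk (g' x')) (X'.presheaf.stalk x') :=
    (g'.stalkMap x').hom.toAlgebra
  obtain ⟨φ, hφ, hφflat⟩ := flat_tensor_stalk hc x'
  obtain ⟨e⟩ := Groth.Agent.Helper13.Pullback.exists_stalk_pullback_equiv g' F x'
  letI iCB' : Algebra ((S'.presheaf.stalk (f' x')) ⊗[S.presheaf.stalk (f (g' x'))]
      (X.presheaf.stalk (g' x'))) (X'.presheaf.stalk x') := φ.toAlgebra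
  haveI : IsScalarTower (S'.presheaf.stalk (f' x')) ((S'.presheaf.stalk (f' x')) ⊗[S.presheaf.stalk (f (g' x'))]
      (X.presheaf.stalk (g' x'))) (X'.presheaf.stalk x') :=
    IsScalarTower.of_algebraMap_eq fun r => by
      change (f'.stalkMap x').hom r = φ (r ⊗ₜ 1)
      rw [hφ, map_one, mul_one]
  haveI : IsScalarTower (X.presheaf.stalk (g' x')) ((S'.presheaf.stalk (f' x')) ⊗[S.presheaf.stalk (f (g' x'))]
      (X.presheaf.stalk (g' x'))) (X'.presheaf.stalk x') :=
    IsScalarTower.of_algebraMap_eq fun r => by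
      change (g'.stalkMap x').hom r = φ (1 ⊗ₜ r)
      rw [hφ, map_one, one_mul]
  haveI : Module.Flat ((S'.presheaf.stalk (f' x')) ⊗[S.presheaf.stalk (f (g' x'))]
      (X.presheaf.stalk (g' x'))) (X'.presheaf.stalk x') := hφflat
  letI iAM : Module (S.presheaf.stalk (f (g' x'))) (F.presheaf.stalk (g' x')) :=
    FlatMod.moduleStalkOver f F (g' x')
  haveI : IsScalarTower (S.presheaf.stalk (f (g' x'))) (X.presheaf.stalk (g' x'))
      (F.presheaf.stalk (g' x')) := IsScalarTower.of_algebraMap_smul fun r x => rfl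
  haveI : Module.Flat (S.presheaf.stalk (f (g' x'))) (F.presheaf.stalk (g' x')) := h
  have key : Module.Flat (S'.presheaf.stalk (f' x'))
      ((X'.presheaf.stalk x') ⊗[X.presheaf.stalk (g' x')] (F.presheaf.stalk (g' x'))) :=
    flat_baseChange_of_flat_pushout (A := S.presheaf.stalk (f (g' x')))
      (C := (S'.presheaf.stalk (f' x')) ⊗[S.presheaf.stalk (f (g' x'))]
        (X.presheaf.stalk (g' x'))) (F.presheaf.stalk (g' x'))
  letI iA'M' : Module (S'.presheaf.stalk (f' x'))
      (((Scheme.Modules.pullback g').obj F).presheaf.stalk x') :=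
    FlatMod.moduleStalkOver f' _ x'
  haveI : IsScalarTower (S'.presheaf.stalk (f' x')) (X'.presheaf.stalk x')
      (((Scheme.Modules.pullback g').obj F).presheaf.stalk x') :=
    IsScalarTower.of_algebraMap_smul fun r x => rfl
  exact Module.Flat.of_linearEquiv (e.restrictScalars (S'.presheaf.stalk (f' x')))

theorem flat_gam (hc : IsPullback g' f' f g) (x' : X')
    (hg : (g.stalkMap (f' x')).hom.Flat) : (gam hc x').hom.Flat := by
  rw [gam]
  refine RingHom.Flat.comp ?_ hg
  exact RingHom.Flat.of_bijective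
    (ConcreteCategory.bijective_of_isIso (S.presheaf.stalkCongr (.of_eq (pt_eq hc x'))).hom)

theorem isFlatOverAt_of_baseChange (hc : IsPullback g' f' f g)
    (F : X.Modules) [F.IsQuasicoherent] (x' : X') (hg : (g.stalkMap (f' x')).hom.Flat)
    (h : FlatMod.IsFlatOverAt f' ((Scheme.Modules.pullback g').obj F) x') :
    FlatMod.IsFlatOverAt f F (g' x') := by
  letI iAA' : Algebra (S.presheaf.stalk (f (g' x'))) (S'.presheaf.stalk (f' x')) :=
    (gam hc x').hom.toAlgebra
  letI iAB : Algebra (S.presheaf.stalk (f (g' x'))) (X.presheaf.stalk (g' x')) :=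
    (f.stalkMap (g' x')).hom.toAlgebra
  letI iA'B' : Algebra (S'.presheaf.stalk (f' x')) (X'.presheaf.stalk x') :=
    (f'.stalkMap x').hom.toAlgebra
  letI iBB' : Algebra (X.presheaf.stalk (g' x')) (X'.presheaf.stalk x') :=
    (g'.stalkMap x').hom.toAlgebra
  letI iAB' : Algebra (S.presheaf.stalk (f (g' x'))) (X'.presheaf.stalk x') :=
    ((f'.stalkMap x').hom.comp (gam hc x').hom).toAlgebra
  haveI : IsScalarTower (S.presheaf.stalk (f (g' x'))) (S'.presheaf.stalk (f' x'))
      (X'.presheaf.stalk x') := IsScalarTower.of_algebraMap_eq fun r => rfl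
  haveI : IsScalarTower (S.presheaf.stalk (f (g' x'))) (X.presheaf.stalk (g' x'))
      (X'.presheaf.stalk x') := IsScalarTower.of_algebraMap_eq fun r => by
    have := congrArg (fun t => t.hom r) (gam_comm hc x')
    exact this.symm
  obtain ⟨e⟩ := Groth.Agent.Helper13.Pullback.exists_stalk_pullback_equiv g' F x'
  haveI : Module.Flat (S.presheaf.stalk (f (g' x'))) (S'.presheaf.stalk (f' x')) :=
    flat_gam hc x' hg
  have hB : (g'.stalkMap x').hom.Flat := FlatPt.flat_stalkMap_baseChange hc.flip x' hg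
  haveI : Module.Flat (X.presheaf.stalk (g' x')) (X'.presheaf.stalk x') := hB
  haveI : IsLocalHom (algebraMap (X.presheaf.stalk (g' x')) (X'.presheaf.stalk x')) :=
    (inferInstance : IsLocalHom (g'.stalkMap x').hom)
  haveI : Module.FaithfullyFlat (X.presheaf.stalk (g' x')) (X'.presheaf.stalk x') :=
    Module.FaithfullyFlat.of_flat_of_isLocalHom
  letI iAM : Module (S.presheaf.stalk (f (g' x'))) (F.presheaf.stalk (g' x')) :=
    FlatMod.moduleStalkOver f F (g' x')
  haveI : IsScalarTower (S.presheaf.stalk (f (g' x'))) (X.presheaf.stalk (g' x'))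
      (F.presheaf.stalk (g' x')) := IsScalarTower.of_algebraMap_smul fun r x => rfl
  letI iA'M' : Module (S'.presheaf.stalk (f' x'))
      (((Scheme.Modules.pullback g').obj F).presheaf.stalk x') :=
    FlatMod.moduleStalkOver f' _ x'
  haveI : IsScalarTower (S'.presheaf.stalk (f' x')) (X'.presheaf.stalk x')
      (((Scheme.Modules.pullback g').obj F).presheaf.stalk x') :=
    IsScalarTower.of_algebraMap_smul fun r x => rfl
  haveI : Module.Flat (S'.presheaf.stalk (f' x'))
      (((Scheme.Modules.pullback g').obj F).presheaf.stalk x') := h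
  haveI h1 : Module.Flat (S'.presheaf.stalk (f' x'))
      ((X'.presheaf.stalk x') ⊗[X.presheaf.stalk (g' x')] (F.presheaf.stalk (g' x'))) :=
    Module.Flat.of_linearEquiv (e.restrictScalars (S'.presheaf.stalk (f' x'))).symm
  haveI : IsScalarTower (S.presheaf.stalk (f (g' x'))) (S'.presheaf.stalk (f' x'))
      ((X'.presheaf.stalk x') ⊗[X.presheaf.stalk (g' x')] (F.presheaf.stalk (g' x'))) :=
    IsScalarTower.of_algebraMap_smul fun r x => by
      rw [← algebraMap_smul (X'.presheaf.stalk x') (algebraMap (S.presheaf.stalk (f (g' x')))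
        (S'.presheaf.stalk (f' x')) r), ← algebraMap_smul (X'.presheaf.stalk x') r x,
        ← IsScalarTower.algebraMap_apply]
  haveI h2 : Module.Flat (S.presheaf.stalk (f (g' x')))
      ((X'.presheaf.stalk x') ⊗[X.presheaf.stalk (g' x')] (F.presheaf.stalk (g' x'))) :=
    Module.Flat.trans (S.presheaf.stalk (f (g' x'))) (S'.presheaf.stalk (f' x')) _
  exact flat_of_flat_baseChange_faithfullyFlat (A := S.presheaf.stalk (f (g' x')))
    (B := X.presheaf.stalk (g' x')) (B' := X'.presheaf.stalk x') (F.presheaf.stalk (g' x'))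

end Groth.Agent.Helper12.FlatModBC
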