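import Mathlib

set_option autoImplicit false
universe u
open CategoryTheory CategoryTheory.Limits AlgebraicGeometry TensorProduct

noncomputable section

namespace Groth.Agent.Helper12.FrobRed

section ring

variable {k : Type*} [Field k]

/-- coefficients of a tensor with respect to a linearly independent family are unique -/
theorem finsupp_eq_zero_of_sum_tmul {A N : Type*} [AddCommGroup A] [Module k A] [AddCommGroup N]
    [Module k N] {ι : Type*} (t : ι → A) (ht : LinearIndependent k t) (c : ι →₀ N)
    (h : (c.sum fun i n => t i ⊗ₜ[k] n) = 0) : c = 0 := by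
  classical
  have hinj : Function.Injective (LinearMap.rTensor N (Finsupp.linearCombination k t)) :=
    Module.Flat.rTensor_preserves_injective_linearMap _ ht
  have key : ∀ c : ι →₀ N, (LinearMap.rTensor N (Finsupp.linearCombination k t))
      ((TensorProduct.finsuppScalarLeft k N ι).symm c) = c.sum fun i n => t i ⊗ₜ[k] n := by
    intro c
    induction c using Finsupp.induction_linear with
    | zero => simp
    | add f g hf hg =>
      rw [map_add, map_add, hf, hg, Finsupp.sum_add_index'] <;> simp [TensorProduct.tmul_add]
    | single i n => simp [TensorProduct.finsuppScalarLeft_symm_apply_single]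
  rw [← key] at h
  have := hinj (h.trans (map_zero _).symm)
  simpa using this

variable (p : ℕ) [Fact p.Prime] [CharP k p]

theorem linearIndependent_pow {k' : Type*} [Field k'] [Algebra k k']
    (hroot : ∀ a : k, ∃ b : k', b ^ p = algebraMap k k' a)
    {A : Type*} [CommRing A] [Algebra k A] [IsReduced (A ⊗[k] k')]
    {ι : Type*} (t : ι → A) (ht : LinearIndependent k t) :
    LinearIndependent k (fun i => t i ^ p) := by
  classical
  have hp : p.Prime := Fact.out
  rw [linearIndependent_iff]
  intro l hl
  choose r hr using hroot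
  have hr0 : r 0 = 0 := by
    have := hr 0
    rw [map_zero] at this
    exact (pow_eq_zero_iff hp.ne_zero).mp this
  have hz : ((l.mapRange r hr0).sum fun i n => t i ⊗ₜ[k] n) = 0 := by
    rcases subsingleton_or_nontrivial (A ⊗[k] k') with hs | hn
    · exact Subsingleton.elim _ _
    · haveI : CharP (A ⊗[k] k') p :=
        charP_of_injective_algebraMap (algebraMap k (A ⊗[k] k')).injective p
      rw [Finsupp.sum_mapRange_index (by simp)]
      apply IsReduced.eq_zero
      refine ⟨p, ?_⟩
      rw [Finsupp.sum, sum_pow_char]
      have h1 : ∀ i ∈ l.support, (t i ⊗ₜ[k] r (l i)) ^ p = (l i • t i ^ p) ⊗ₜ[k] (1 : k') := by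
        intro i _
        rw [Algebra.TensorProduct.tmul_pow, hr, Algebra.algebraMap_eq_smul_one,
          TensorProduct.tmul_smul, TensorProduct.smul_tmul']
      rw [Finset.sum_congr rfl h1, ← TensorProduct.sum_tmul]
      rw [Finsupp.linearCombination_apply, Finsupp.sum] at hl
      rw [hl, TensorProduct.zero_tmul]
  have hc := finsupp_eq_zero_of_sum_tmul t ht _ hz
  ext i
  have h2 : r (l i) = 0 := by
    have := DFunLike.congr_fun hc i
    simpa using this
  have h3 := hr (l i)
  rw [h2, zero_pow hp.ne_zero] at h3
  have := (algebraMap k k').injective (h3.symm.trans (map_zero _).symm)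
  simpa using this

theorem isReduced_tensor {k' : Type*} [Field k'] [Algebra k k']
    (hroot : ∀ a : k, ∃ b : k', b ^ p = algebraMap k k' a)
    {A : Type*} [CommRing A] [Algebra k A] [IsReduced (A ⊗[k] k')]
    (K : Type*) [Field K] [Algebra k K] : IsReduced (A ⊗[k] K) := by
  classical
  have hp : p.Prime := Fact.out
  rcases subsingleton_or_nontrivial (A ⊗[k] K) with hs | hn
  · exact ⟨fun x _ => Subsingleton.elim _ _⟩
  haveI : CharP (A ⊗[k] K) p :=
    charP_of_injective_algebraMap (algebraMap k (A ⊗[k] K)).injective p
  let b := Module.Free.chooseBasis k A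
  have hb := linearIndependent_pow p hroot b b.linearIndependent
  rw [isReduced_iff_pow_one_lt p hp.one_lt]
  intro w hw
  obtain ⟨c, rfl⟩ := (TensorProduct.equivFinsuppOfBasisLeft (N := K) b).symm.surjective w
  rw [TensorProduct.equivFinsuppOfBasisLeft_symm_apply] at hw ⊢
  rw [Finsupp.sum, sum_pow_char] at hw
  simp only [Algebra.TensorProduct.tmul_pow] at hw
  have h2 := finsupp_eq_zero_of_sum_tmul (fun i => b i ^ p) hb
    (c.mapRange (· ^ p) (zero_pow hp.ne_zero)) (by
      rw [Finsupp.sum_mapRange_index (by simp)]
      exact hw)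
  have hc0 : c = 0 := by
    ext i
    have := DFunLike.congr_fun h2 i
    simpa [hp.ne_zero] using this
  simp [hc0]

end ring

section scheme

variable (k : Type u) [Field k] (p : ℕ) [Fact p.Prime] [CharP k p]

theorem isReduced_pullback_affine {k' : Type u} [Field k'] [Algebra k k']
    (hroot : ∀ a : k, ∃ b : k', b ^ p = algebraMap k k' a)
    (R : CommRingCat.{u}) (g : Spec R ⟶ Spec (CommRingCat.of k))
    (hred : IsReduced (pullback g (Spec.map (CommRingCat.ofHom (algebraMap k k')))))
    (K : Type u) [Field K] [Algebra k K] :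
    IsReduced (pullback g (Spec.map (CommRingCat.ofHom (algebraMap k K)))) := by
  obtain ⟨φ, rfl⟩ := Spec.map_surjective g
  algebraize [φ.hom]
  haveI hred' : IsReduced (R ⊗[k] k') := by
    have h1 : IsReduced (Spec (.of (R ⊗[k] k'))) :=
      @isReduced_of_isOpenImmersion _ _ (pullbackSpecIso k R k').inv _ hred
    exact (affine_isReduced_iff _).mp h1
  have h2 := isReduced_tensor p hroot (A := R) K
  have h3 : IsReduced (Spec (.of (R ⊗[k] K))) := (affine_isReduced_iff _).mpr h2
  exact isReduced_of_isOpenImmersion (pullbackSpecIso k R K).hom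

omit [Field k] [Fact p.Prime] in
theorem isReduced_piece {X Y S : Scheme.{u}} (𝒰 : X.OpenCover) (f : X ⟶ S) (g : Y ⟶ S)
    (h : IsReduced (pullback f g)) (i : 𝒰.I₀) : IsReduced (pullback (𝒰.f i ≫ f) g) := by
  have h1 : IsReduced ((Scheme.Pullback.openCoverOfLeft 𝒰 f g).X i) :=
    isReduced_of_isOpenImmersion ((Scheme.Pullback.openCoverOfLeft 𝒰 f g).f i)
  exact h1

theorem main (X : Scheme.{u}) (f : X ⟶ Spec (CommRingCat.of k)) :
    GeometricallyReduced f ↔
      IsReduced ↑(pullback f (Spec.map (CommRingCat.ofHom (frobenius k p)))) := by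
  constructor
  · intro h
    exact GeometricallyReduced.geometrically_isReduced (f := f) _ _ _ (.of_hasPullback _ _)
  · intro hred
    rw [geometricallyReduced_iff, geometrically_iff_of_commRing_of_isClosedUnderIsomorphisms]
    intro K _ _
    let 𝒰 := X.affineOpenCover
    apply +allowSynthFailures @IsReduced.of_openCover
      (𝒰 := Scheme.Pullback.openCoverOfLeft 𝒰.openCover f
        (Spec.map (CommRingCat.ofHom (algebraMap k K))))
    intro i
    let algF : Algebra k k := (frobenius k p).toAlgebra
    refine @isReduced_pullback_affine k _ p _ _ k _ algF (fun a => ⟨a, rfl⟩) (𝒰.X i)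
      (𝒰.f i ≫ f) ?_ K _ _
    exact isReduced_piece 𝒰.openCover f (Spec.map (CommRingCat.ofHom (frobenius k p))) hred i

end scheme

end Groth.Agent.Helper12.FrobRed
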