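import Mathlib
import Groth.Agent.Lib.Helper12.NormalExt

/-!
# Generic fibres and extension over normal bases (helper12)

* `bijective_stalkMap`: a flat preimmersion induces isomorphisms on all stalks.
* `integral_of_isPullback`: for `W` integral, flat over an integral scheme `S` with generic point
  `gp : Spec K ⟶ S` a flat preimmersion with range the generic point, the generic fibre is integral
  and birational to `W`.
* `isIso_fromNormalization_genFib`: a normal locally Noetherian scheme flat over `S` is its own
  normalization in its generic fibre.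
* `exists_extension'`: extension of morphisms to integral `T ⟶ S`.
-/

set_option autoImplicit false
set_option linter.style.haveILetI false
universe u
open CategoryTheory CategoryTheory.Limits AlgebraicGeometry TopologicalSpace

namespace Groth.Agent.Helper12.GenFib

/-- a flat preimmersion induces bijections on stalks -/
theorem bijective_stalkMap {X Y : Scheme.{u}} (f : X ⟶ Y) [Flat f] [IsPreimmersion f] (x : X) :
    Function.Bijective (f.stalkMap x).hom := by
  have hsurj : Function.Surjective (f.stalkMap x).hom := f.stalkMap_surjective x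
  have hflat := Flat.stalkMap f x
  algebraize [(f.stalkMap x).hom]
  haveI : IsLocalHom (algebraMap (Y.presheaf.stalk (f x)) (X.presheaf.stalk x)) := by
    show IsLocalHom (f.stalkMap x).hom
    infer_instance
  haveI : Module.FaithfullyFlat (Y.presheaf.stalk (f x)) (X.presheaf.stalk x) :=
    Module.FaithfullyFlat.of_flat_of_isLocalHom
  exact ⟨FaithfulSMul.algebraMap_injective _ _, hsurj⟩

theorem isIso_stalkMap {X Y : Scheme.{u}} (f : X ⟶ Y) [Flat f] [IsPreimmersion f] (x : X) :
    IsIso (f.stalkMap x) := by
  rw [ConcreteCategory.isIso_iff_bijective]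
  exact bijective_stalkMap f x

/-- the generic point of an integral scheme flat over an integral scheme maps to the generic
point -/
theorem map_genericPoint {W S : Scheme.{u}} [IsIntegral W] [IsIntegral S] (q : W ⟶ S) [Flat q] :
    q (genericPoint W) = genericPoint S := by
  obtain ⟨x', hx', hfx'⟩ := Flat.generalizingMap q (genericPoint_specializes (q (genericPoint W)))
  have : x' = genericPoint W := (hx'.antisymm (genericPoint_specializes x')).eq
  rw [this] at hfx'
  exact hfx'

/-- **generic fibre of an integral flat scheme**: it is integral and birational to the scheme. -/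
theorem integral_of_isPullback {S E P W : Scheme.{u}} [IsIntegral S] (gp : E ⟶ S) [Flat gp]
    [IsPreimmersion gp] (hgp : Set.range gp = {genericPoint S}) [IsIntegral W]
    (q : W ⟶ S) [Flat q] (jP : P ⟶ W) (pK : P ⟶ E) (h : IsPullback jP pK q gp) :
    ∃ (_ : IsIntegral P), jP (genericPoint P) = genericPoint W ∧
      IsIso (jP.stalkMap (genericPoint P)) := by
  haveI : Flat jP := MorphismProperty.of_isPullback (P := @Flat) h.flip inferInstance
  haveI : IsPreimmersion jP :=
    MorphismProperty.of_isPullback (P := @IsPreimmersion) h.flip inferInstance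
  have hq : q (genericPoint W) = genericPoint S := map_genericPoint q
  obtain ⟨e, he⟩ : ∃ e : E, gp e = genericPoint S := by
    have : genericPoint S ∈ Set.range gp := by rw [hgp]; rfl
    exact this
  obtain ⟨z, hz1, -⟩ := Scheme.Pullback.exists_preimage_pullback (f := q) (g := gp)
    (genericPoint W) e (hq.trans he.symm)
  let p₀ : P := h.isoPullback.inv z
  have hp₀ : jP p₀ = genericPoint W := by
    have h1 : h.isoPullback.inv ≫ jP = pullback.fst q gp := h.isoPullback_inv_fst
    rw [← hz1, ← h1]
    rfl
  -- every nonempty open contains p₀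
  have hopen : ∀ U' : Set P, IsOpen U' → U'.Nonempty → p₀ ∈ U' := by
    intro U' hU' hne
    obtain ⟨U, hU, rfl⟩ := jP.isEmbedding.isInducing.isOpen_iff.mp hU'
    obtain ⟨p, hp⟩ := hne
    show jP p₀ ∈ U
    rw [hp₀]
    exact ((genericPoint_spec W).mem_open_set_iff hU).mpr ⟨jP p, Set.mem_univ _, hp⟩
  have hdense : closure ({p₀} : Set P) = Set.univ := by
    rw [← dense_iff_closure_eq, dense_iff_inter_open]
    intro U' hU' hne
    exact ⟨p₀, hopen U' hU' hne, rfl⟩
  haveI : IrreducibleSpace P := by
    have h1 : IsIrreducible (Set.univ : Set P) := by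
      rw [← hdense]
      exact isIrreducible_singleton.closure
    exact { toPreirreducibleSpace := ⟨h1.isPreirreducible⟩, toNonempty := ⟨p₀⟩ }
  haveI : ∀ p : P, _root_.IsReduced (P.presheaf.stalk p) := fun p => by
    let eqv := RingEquiv.ofBijective (jP.stalkMap p).hom (bijective_stalkMap jP p)
    exact isReduced_of_injective eqv.symm eqv.symm.injective
  haveI : IsReduced P := isReduced_of_isReduced_stalk P
  haveI : IsIntegral P := isIntegral_of_irreducibleSpace_of_isReduced P
  have hgen : genericPoint P = p₀ := by
    have h2 : IsGenericPoint p₀ (⊤ : Set P) := hdense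
    exact ((genericPoint_spec P).eq h2)
  refine ⟨inferInstance, ?_, ?_⟩
  · rw [hgen, hp₀]
  · exact isIso_stalkMap jP _

/-- A normal locally Noetherian scheme `Y` flat over `S` is its own relative normalization in its
generic fibre. -/
theorem isIso_fromNormalization_genFib {S E : Scheme.{u}} [IsIntegral S] (gp : E ⟶ S) [Flat gp]
    [IsPreimmersion gp] [QuasiCompact gp] [QuasiSeparated gp]
    (hgp : Set.range gp = {genericPoint S})
    (Y : Scheme.{u}) [IsLocallyNoetherian Y]
    (hY : ∀ y : Y, IsDomain (Y.presheaf.stalk y) ∧ IsIntegrallyClosed (Y.presheaf.stalk y))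
    (q : Y ⟶ S) [Flat q] : IsIso (pullback.fst q gp).fromNormalization := by
  haveI : ∀ x : Y, _root_.IsReduced (Y.presheaf.stalk x) := fun x => by
    haveI := (hY x).1
    infer_instance
  haveI : IsReduced Y := isReduced_of_isReduced_stalk Y
  set j := pullback.fst q gp with hj
  change MorphismProperty.isomorphisms Scheme j.fromNormalization
  apply IsZariskiLocalAtTarget.of_forall_exists_morphismRestrict
    (P := MorphismProperty.isomorphisms Scheme) fun y ↦ ?_
  obtain ⟨W, hyW, hWirr⟩ :=
    Groth.Agent.Helper12.NormalExt.exists_irreducible_open Y (fun y => (hY y).1) y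
  refine ⟨W, hyW, ?_⟩
  haveI : IrreducibleSpace ↥(W : Scheme.{u}) := Subtype.irreducibleSpace hWirr
  haveI : IsIntegral (W : Scheme.{u}) := isIntegral_of_irreducibleSpace_of_isReduced _
  have hNW : ∀ v : (W : Scheme.{u}), IsIntegrallyClosed ((W : Scheme.{u}).presheaf.stalk v) := by
    intro v
    haveI := (hY v.1).2
    exact IsIntegrallyClosed.of_equiv (W.stalkIso v).commRingCatIsoToRingEquiv.symm
  have hpb : IsPullback (pullback.snd j W.ι) (pullback.fst j W.ι ≫ pullback.snd q gp)
      (W.ι ≫ q) gp :=
    (IsPullback.of_hasPullback j W.ι).flip.paste_vert (IsPullback.of_hasPullback q gp)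
  obtain ⟨hint, hgen, hbir⟩ := integral_of_isPullback gp hgp (W.ι ≫ q) _ _ hpb
  have key : IsIso (pullback.snd j W.ι).fromNormalization :=
    Groth.Agent.Helper12.NormalExt.isIso_fromNormalization_of_birational hNW
      (pullback.snd j W.ι) hgen hbir
  have h2 : IsIso (pullback.snd j.fromNormalization W.ι) := by
    have h3 := j.normalizationPullback_snd W.ι
    rw [← IsIso.eq_inv_comp] at h3
    rw [h3]
    infer_instance
  change IsIso (j.fromNormalization ∣_ W)
  change IsIso ((pullbackRestrictIsoRestrict _ _).inv ≫ pullback.snd _ _)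
  infer_instance

/-- **Extension through an integral morphism**: if `Y` is its own normalization in `j : Y' ⟶ Y`,
then a morphism `Y' ⟶ T` over `q : Y ⟶ S`, `π : T ⟶ S` integral, extends to `Y`. -/
theorem exists_extension' {Y' Y S T : Scheme.{u}} (j : Y' ⟶ Y) [QuasiCompact j]
    [QuasiSeparated j] [IsIso j.fromNormalization] (π : T ⟶ S) [IsIntegralHom π] (q : Y ⟶ S)
    (f₁ : Y' ⟶ T) (hf₁ : f₁ ≫ π = j ≫ q) :
    ∃ h : Y ⟶ T, h ≫ π = q ∧ j ≫ h = f₁ := by
  let s₀ : Y' ⟶ pullback π q := pullback.lift f₁ j hf₁
  have hs₀ : j = s₀ ≫ pullback.snd π q := (pullback.lift_snd _ _ _).symm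
  let h' : Y ⟶ pullback π q :=
    inv j.fromNormalization ≫ j.normalizationDesc s₀ (pullback.snd π q) hs₀
  have h1 : h' ≫ pullback.snd π q = 𝟙 Y := by
    simp only [h', Category.assoc, Scheme.Hom.normalizationDesc_comp, IsIso.inv_hom_id]
  have h2 : j ≫ inv j.fromNormalization = j.toNormalization := by
    rw [IsIso.comp_inv_eq, Scheme.Hom.toNormalization_fromNormalization]
  have h3 : j ≫ h' = s₀ := by
    simp only [h']
    rw [← Category.assoc, h2, Scheme.Hom.toNormalization_normalizationDesc]
  refine ⟨h' ≫ pullback.fst π q, ?_, ?_⟩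
  · rw [Category.assoc, pullback.condition, ← Category.assoc, h1, Category.id_comp]
  · rw [← Category.assoc, h3]
    exact pullback.lift_fst _ _ _

end Groth.Agent.Helper12.GenFib
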