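import Mathlib

/-!
# Counting embeddings of residue fields of a finite extension of a local ring
-/

set_option autoImplicit false
universe u

namespace Groth.Agent.Helper12.GeomBranches

variable {A : Type u} [CommRing A] [IsLocalRing A] {B : Type u} [CommRing B] [Algebra A B]
  (Ω : Type u) [Field Ω] [Algebra (IsLocalRing.ResidueField A) Ω]

/-- the structure map `A → Ω` -/
noncomputable def cΩ : A →+* Ω := (algebraMap (IsLocalRing.ResidueField A) Ω).comp (IsLocalRing.residue A)

/-- embeddings of `B/m'` into `Ω` over `A` -/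
def E (m' : MaximalSpectrum B) : Type u :=
  {σ : B ⧸ m'.asIdeal →+* Ω //
    σ.comp ((Ideal.Quotient.mk m'.asIdeal).comp (algebraMap A B)) = cΩ (A := A) Ω}

lemma algebraMap_eq_zero_of_E (m' : MaximalSpectrum B) (σ₀ : E (A := A) Ω m') (a : A)
    (ha : a ∈ IsLocalRing.maximalIdeal A) : algebraMap A (B ⧸ m'.asIdeal) a = 0 := by
  haveI := m'.isMaximal
  letI : Field (B ⧸ m'.asIdeal) := Ideal.Quotient.field _
  have h1 : σ₀.1 (algebraMap A (B ⧸ m'.asIdeal) a) = cΩ (A := A) Ω a :=
    congrArg (fun f => f a) σ₀.2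
  have h2 : cΩ (A := A) Ω a = 0 := by
    have : IsLocalRing.residue A a = 0 := (IsLocalRing.residue_eq_zero_iff a).mpr ha
    simp [cΩ, this]
  apply σ₀.1.injective
  rw [map_zero, h1, h2]

lemma card_E_le (m' : MaximalSpectrum B) :
    ENat.card (E (A := A) Ω m') ≤ Module.length A (B ⧸ m'.asIdeal) := by
  haveI := m'.isMaximal
  letI : Field (B ⧸ m'.asIdeal) := Ideal.Quotient.field _
  by_cases hE : IsEmpty (E (A := A) Ω m')
  · rw [(ENat.card_eq_zero_iff_empty _).mpr hE]
    exact bot_le
  rw [not_isEmpty_iff] at hE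
  obtain ⟨σ₀⟩ := hE
  by_cases hlen : Module.length A (B ⧸ m'.asIdeal) = ⊤
  · rw [hlen]; exact le_top
  have hker := algebraMap_eq_zero_of_E Ω m' σ₀
  let ρ' : IsLocalRing.ResidueField A →+* (B ⧸ m'.asIdeal) :=
    Ideal.Quotient.lift (IsLocalRing.maximalIdeal A) (algebraMap A (B ⧸ m'.asIdeal)) hker
  letI : Algebra (IsLocalRing.ResidueField A) (B ⧸ m'.asIdeal) := ρ'.toAlgebra
  haveI : IsScalarTower A (IsLocalRing.ResidueField A) (B ⧸ m'.asIdeal) :=
    IsScalarTower.of_algebraMap_eq (fun a => rfl)
  have hfl : IsFiniteLength A (B ⧸ m'.asIdeal) := Module.length_ne_top_iff.mp hlen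
  haveI : Module.Finite A (B ⧸ m'.asIdeal) := by
    obtain ⟨h1, -⟩ := isFiniteLength_iff_isNoetherian_isArtinian.mp hfl
    infer_instance
  haveI : Module.Finite (IsLocalRing.ResidueField A) (B ⧸ m'.asIdeal) :=
    Module.Finite.of_restrictScalars_finite A _ _
  let ι : E (A := A) Ω m' → ((B ⧸ m'.asIdeal) →ₐ[IsLocalRing.ResidueField A] Ω) := fun σ =>
    { σ.1 with
      commutes' := by
        intro r
        obtain ⟨a, rfl⟩ := IsLocalRing.residue_surjective r
        exact congrArg (fun f => f a) σ.2 }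
  have hι : Function.Injective ι := by
    intro σ τ h
    apply Subtype.ext
    ext x
    exact congrArg (fun f => f x) h
  calc ENat.card (E (A := A) Ω m')
      ≤ ENat.card ((B ⧸ m'.asIdeal) →ₐ[IsLocalRing.ResidueField A] Ω) :=
        ENat.card_le_card_of_injective hι
    _ = (Nat.card ((B ⧸ m'.asIdeal) →ₐ[IsLocalRing.ResidueField A] Ω) : ℕ∞) :=
        ENat.card_eq_coe_natCard _
    _ ≤ (Module.finrank (IsLocalRing.ResidueField A) (B ⧸ m'.asIdeal) : ℕ∞) := by
        exact_mod_cast card_algHom_le_finrank (IsLocalRing.ResidueField A) (B ⧸ m'.asIdeal) Ω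
    _ = Module.length (IsLocalRing.ResidueField A) (B ⧸ m'.asIdeal) :=
        (Module.length_eq_finrank _ _).symm
    _ = Module.length A (B ⧸ m'.asIdeal) :=
        (Module.length_eq_of_surjective IsLocalRing.residue_surjective).symm


/-- the colength of `A` in `B` -/
noncomputable def δ' (A B : Type u) [CommRing A] [CommRing B] [Algebra A B] : ℕ∞ :=
  Module.length A (B ⧸ LinearMap.range (Algebra.linearMap A B))

lemma length_residueField_le_one : Module.length A (IsLocalRing.ResidueField A) ≤ 1 := by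
  rw [Module.length_eq_of_surjective (S := A) (R := IsLocalRing.ResidueField A)
    (M := IsLocalRing.ResidueField A) IsLocalRing.residue_surjective,
    Module.length_eq_finrank, Module.finrank_self]
  exact le_rfl

lemma sum_length_le (S : Finset (MaximalSpectrum B))
    (hS : ∀ m' ∈ S, Nonempty (E (A := A) Ω m')) :
    ∑ i : {m' // m' ∈ S}, Module.length A (B ⧸ i.1.asIdeal) ≤ 1 + δ' A B := by
  classical
  let I : {m' // m' ∈ S} → Ideal B := fun i => i.1.asIdeal
  have hcop : Pairwise (Function.onFun IsCoprime I) := by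
    intro i j hij
    haveI := i.1.isMaximal
    haveI := j.1.isMaximal
    apply Ideal.isCoprime_of_isMaximal
    intro h
    exact hij (Subtype.ext (MaximalSpectrum.ext h))
  let g : B →ₗ[A] (∀ i : {m' // m' ∈ S}, B ⧸ I i) :=
    LinearMap.pi (fun i => (Ideal.Quotient.mkₐ A (I i)).toLinearMap)
  have hg : Function.Surjective g := by
    intro y
    obtain ⟨x', hx'⟩ := Ideal.quotientInfToPiQuotient_surj hcop y
    obtain ⟨x, rfl⟩ := Ideal.Quotient.mk_surjective x'
    refine ⟨x, ?_⟩
    rw [← hx']
    funext i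
    rfl
  let h : A →ₗ[A] (∀ i : {m' // m' ∈ S}, B ⧸ I i) := g ∘ₗ Algebra.linearMap A B
  let N₀ : Submodule A (∀ i : {m' // m' ∈ S}, B ⧸ I i) := LinearMap.range h
  have hlen : Module.length A (∀ i : {m' // m' ∈ S}, B ⧸ I i) =
      Module.length A N₀ + Module.length A ((∀ i : {m' // m' ∈ S}, B ⧸ I i) ⧸ N₀) :=
    Module.length_eq_add_of_exact N₀.subtype N₀.mkQ N₀.injective_subtype
      N₀.mkQ_surjective (LinearMap.exact_subtype_mkQ N₀)
  have h1 : Module.length A N₀ ≤ 1 := by
    have hk : IsLocalRing.maximalIdeal A ≤ LinearMap.ker h.rangeRestrict := by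
      intro a ha
      rw [LinearMap.mem_ker]
      apply Subtype.ext
      funext i
      obtain ⟨σ₀⟩ := hS i.1 i.2
      exact algebraMap_eq_zero_of_E Ω i.1 σ₀ a ha
    let h' : (A ⧸ IsLocalRing.maximalIdeal A) →ₗ[A] N₀ :=
      Submodule.liftQ _ h.rangeRestrict hk
    have hh' : Function.Surjective h' := by
      intro y
      obtain ⟨a, ha⟩ := h.surjective_rangeRestrict y
      exact ⟨Submodule.Quotient.mk a, ha⟩
    exact (Module.length_le_of_surjective h' hh').trans length_residueField_le_one
  have h2 : Module.length A ((∀ i : {m' // m' ∈ S}, B ⧸ I i) ⧸ N₀) ≤ δ' A B := by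
    have hle : LinearMap.range (Algebra.linearMap A B) ≤ N₀.comap g := by
      rintro _ ⟨a, rfl⟩
      exact ⟨a, rfl⟩
    apply Module.length_le_of_surjective (Submodule.mapQ _ N₀ g hle)
    intro y
    obtain ⟨n, rfl⟩ := Submodule.Quotient.mk_surjective _ y
    obtain ⟨b, rfl⟩ := hg n
    exact ⟨Submodule.Quotient.mk b, rfl⟩
  rw [← Module.length_pi_of_fintype, hlen]
  exact add_le_add h1 h2


lemma enat_card_le_of_finset {T : Type u} (n : ℕ∞) (h : ∀ F : Finset T, (F.card : ℕ∞) ≤ n) :
    ENat.card T ≤ n := by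
  classical
  induction n using ENat.recTopCoe with
  | top => exact le_top
  | coe n =>
    by_cases hfin : Finite T
    · haveI := Fintype.ofFinite T
      rw [ENat.card_eq_coe_fintype_card]
      exact h Finset.univ
    · rw [not_finite_iff_infinite] at hfin
      obtain ⟨F, hF⟩ := Infinite.exists_subset_card_eq T (n + 1)
      have := h F
      rw [hF] at this
      exact absurd this (by norm_cast; omega)

theorem card_sigma_E_le :
    ENat.card (Σ m' : MaximalSpectrum B, E (A := A) Ω m') ≤ δ' A B + 1 := by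
  classical
  apply enat_card_le_of_finset
  intro F
  let S : Finset (MaximalSpectrum B) := F.image Sigma.fst
  have hS : ∀ m' ∈ S, Nonempty (E (A := A) Ω m') := by
    intro m' hm'
    obtain ⟨x, -, rfl⟩ := Finset.mem_image.mp hm'
    exact ⟨x.2⟩
  have h1 : (F.card : ℕ∞) ≤ ∑ i : {m' // m' ∈ S}, ENat.card (E (A := A) Ω i.1) := by
    have hcard : F.card = ∑ m' ∈ S, (F.filter (fun x => x.1 = m')).card :=
      Finset.card_eq_sum_card_fiberwise (fun x hx => Finset.mem_image_of_mem _ hx)
    rw [hcard, ← Finset.sum_coe_sort S]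
    push_cast
    refine Finset.sum_le_sum fun i _ => ?_
    -- the fibre over `i.1` injects into `E i.1`
    let f : {x // x ∈ F.filter (fun x => x.1 = i.1)} → E (A := A) Ω i.1 := fun x =>
      (Finset.mem_filter.mp x.2).2 ▸ x.1.2
    have hf : Function.Injective f := by
      rintro ⟨⟨m1, σ1⟩, h1⟩ ⟨⟨m2, σ2⟩, h2⟩ h
      have e1 : m1 = i.1 := (Finset.mem_filter.mp h1).2
      have e2 : m2 = i.1 := (Finset.mem_filter.mp h2).2
      subst e1
      subst e2
      apply Subtype.ext
      have h' : σ1 = σ2 := h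
      show (⟨i.1, σ1⟩ : Σ m' : MaximalSpectrum B, E (A := A) Ω m') = ⟨i.1, σ2⟩
      rw [h']
    have := ENat.card_le_card_of_injective hf
    rw [ENat.card_eq_coe_fintype_card, Fintype.card_coe] at this
    exact this
  have h2 : ∑ i : {m' // m' ∈ S}, ENat.card (E (A := A) Ω i.1) ≤
      ∑ i : {m' // m' ∈ S}, Module.length A (B ⧸ i.1.asIdeal) :=
    Finset.sum_le_sum fun i _ => card_E_le Ω i.1
  calc (F.card : ℕ∞) ≤ _ := h1
    _ ≤ _ := h2
    _ ≤ 1 + δ' A B := sum_length_le Ω S hS
    _ = δ' A B + 1 := add_comm _ _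


section Transport

open Polynomial

variable {A₁ R : Type u} [CommRing A₁] [CommRing R] (q : A₁ →+* R) (hq : Function.Bijective q)

include hq in
lemma map_mem_nonZeroDivisors_of_bijective {s : A₁} (hs : s ∈ nonZeroDivisors A₁) :
    q s ∈ nonZeroDivisors R := by
  rw [mem_nonZeroDivisors_iff_right]
  intro r hr
  obtain ⟨r', rfl⟩ := hq.2 r
  rw [← map_mul] at hr
  have : r' * s = 0 := hq.1 (by rw [hr, map_zero])
  rw [(mem_nonZeroDivisors_iff_right.mp hs) r' this, map_zero]

include hq in
lemma mem_nonZeroDivisors_of_map {t : A₁} (ht : q t ∈ nonZeroDivisors R) :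
    t ∈ nonZeroDivisors A₁ := by
  rw [mem_nonZeroDivisors_iff_right]
  intro c hc
  have : q c * q t = 0 := by rw [← map_mul, hc, map_zero]
  exact hq.1 (by rw [(mem_nonZeroDivisors_iff_right.mp ht) _ this, map_zero])

/-- the induced map on total fraction rings -/
noncomputable def fracMap : FractionRing A₁ →+* FractionRing R :=
  IsLocalization.map (M := nonZeroDivisors A₁) (T := nonZeroDivisors R) (FractionRing R) q
    (fun _ hs => map_mem_nonZeroDivisors_of_bijective q hq hs)

lemma fracMap_algebraMap (a : A₁) :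
    fracMap q hq (algebraMap A₁ (FractionRing A₁) a) = algebraMap R (FractionRing R) (q a) :=
  IsLocalization.map_eq _ a

lemma fracMap_injective : Function.Injective (fracMap q hq) := by
  rw [injective_iff_map_eq_zero]
  intro x hx
  obtain ⟨a, t, rfl⟩ := IsLocalization.exists_mk'_eq (nonZeroDivisors A₁) x
  rw [fracMap, IsLocalization.map_mk', IsLocalization.mk'_eq_zero_iff] at hx
  obtain ⟨m, hm⟩ := hx
  have h1 : q a = 0 := by
    have := (mem_nonZeroDivisors_iff.mp m.2).1 (q a) hm
    exact this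
  have h2 : a = 0 := hq.1 (by rw [h1, map_zero])
  rw [h2, IsLocalization.mk'_zero]

lemma isIntegral_fracMap {x : FractionRing A₁} (hx : IsIntegral A₁ x) :
    IsIntegral R (fracMap q hq x) :=
  IsIntegral.map_of_comp_eq q (fracMap q hq)
    (by ext a; exact (fracMap_algebraMap q hq a).symm) hx

lemma exists_preimage_of_isIntegral {y : FractionRing R} (hy : IsIntegral R y) :
    ∃ x : FractionRing A₁, IsIntegral A₁ x ∧ fracMap q hq x = y := by
  obtain ⟨r, s, rfl⟩ := IsLocalization.exists_mk'_eq (nonZeroDivisors R) y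
  obtain ⟨a, rfl⟩ := hq.2 r
  obtain ⟨t, ht⟩ := hq.2 (s : R)
  have ht' : t ∈ nonZeroDivisors A₁ := mem_nonZeroDivisors_of_map q hq (by rw [ht]; exact s.2)
  have hxy : fracMap q hq (IsLocalization.mk' (FractionRing A₁) a ⟨t, ht'⟩) =
      IsLocalization.mk' (FractionRing R) (q a) s := by
    rw [fracMap, IsLocalization.map_mk']
    congr 1
    exact Subtype.ext ht
  refine ⟨IsLocalization.mk' (FractionRing A₁) a ⟨t, ht'⟩, ?_, hxy⟩
  obtain ⟨P, hP, hPy⟩ := hy
  have hl : P ∈ Polynomial.lifts q := by
    rw [Polynomial.mem_lifts]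
    exact Polynomial.map_surjective _ hq.2 P
  obtain ⟨Q, hQ, -, hQm⟩ := Polynomial.lifts_and_natDegree_eq_and_monic hl hP
  refine ⟨Q, hQm, ?_⟩
  apply fracMap_injective q hq
  rw [map_zero, Polynomial.hom_eval₂, hxy]
  have hcomp : (fracMap q hq).comp (algebraMap A₁ (FractionRing A₁)) =
      (algebraMap R (FractionRing R)).comp q := by
    ext a'
    exact fracMap_algebraMap q hq a'
  rw [hcomp, ← Polynomial.eval₂_map, hQ]
  exact hPy

variable [Algebra A₁ ↥(integralClosure R (FractionRing R))]
  (hφ : ∀ a : A₁, algebraMap A₁ ↥(integralClosure R (FractionRing R)) a =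
    algebraMap R ↥(integralClosure R (FractionRing R)) (q a))

include hq hφ in
theorem δ'_le :
    δ' A₁ ↥(integralClosure R (FractionRing R)) ≤
      Module.length A₁ (↥(integralClosure A₁ (FractionRing A₁)) ⧸
        LinearMap.range (Algebra.linearMap A₁ ↥(integralClosure A₁ (FractionRing A₁)))) := by
  let Θ : ↥(integralClosure A₁ (FractionRing A₁)) →ₗ[A₁] ↥(integralClosure R (FractionRing R)) :=
    { toFun := fun x => ⟨fracMap q hq x.1, isIntegral_fracMap q hq x.2⟩
      map_add' := fun x y => Subtype.ext (by simp)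
      map_smul' := fun a x => by
        apply Subtype.ext
        have h1 : ((a • x : ↥(integralClosure A₁ (FractionRing A₁))) : FractionRing A₁) =
            algebraMap A₁ (FractionRing A₁) a * (x : FractionRing A₁) := by
          rw [Algebra.smul_def]; rfl
        have h2 : ∀ y : ↥(integralClosure R (FractionRing R)),
            ((a • y : ↥(integralClosure R (FractionRing R))) : FractionRing R) =
              algebraMap R (FractionRing R) (q a) * (y : FractionRing R) := by
          intro y
          rw [Algebra.smul_def, hφ]; rfl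
        rw [RingHom.id_apply, h2]
        change fracMap q hq ((a • x : ↥(integralClosure A₁ (FractionRing A₁))) :
          FractionRing A₁) = _
        rw [h1, map_mul, fracMap_algebraMap] }
  have hΘ : Function.Surjective Θ := by
    intro y
    obtain ⟨x, hx, hxy⟩ := exists_preimage_of_isIntegral q hq y.2
    exact ⟨⟨x, hx⟩, Subtype.ext hxy⟩
  have hle : LinearMap.range (Algebra.linearMap A₁ ↥(integralClosure A₁ (FractionRing A₁))) ≤
      (LinearMap.range
        (Algebra.linearMap A₁ ↥(integralClosure R (FractionRing R)))).comap Θ := by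
    rintro _ ⟨a, rfl⟩
    refine ⟨a, ?_⟩
    apply Subtype.ext
    rw [Algebra.linearMap_apply, hφ]
    change algebraMap R (FractionRing R) (q a) =
      fracMap q hq (algebraMap A₁ (FractionRing A₁) a)
    rw [fracMap_algebraMap]
  apply Module.length_le_of_surjective (Submodule.mapQ _ _ Θ hle)
  intro y
  obtain ⟨n, rfl⟩ := Submodule.Quotient.mk_surjective _ y
  obtain ⟨b, rfl⟩ := hΘ n
  exact ⟨Submodule.Quotient.mk b, rfl⟩

end Transport

end Groth.Agent.Helper12.GeomBranches
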