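import Mathlib

/-!
# Mumford's rigidity lemma (GIT 6.1), part A: morphisms with `O_S → ξ_* O_X` injective and
surjective underlying map are epimorphisms of schemes
-/

set_option autoImplicit false
set_option linter.style.haveILetI false
universe u
open CategoryTheory AlgebraicGeometry Limits Opposite TopologicalSpace

namespace Groth.Agent.Helper12.Git61

/-- A surjective morphism `g : X ⟶ Y` with `O_Y → g_* O_X` injective is an epimorphism. -/
theorem epi_of_app_injective {X Y : Scheme.{u}} (g : X ⟶ Y) (hs : Function.Surjective g.base)
    (hinj : ∀ U : Y.Opens, Function.Injective (g.app U).hom) : Epi g := by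
  constructor
  intro Z a b e
  have h_base : a.base = b.base := by
    ext y
    obtain ⟨x, rfl⟩ := hs y
    have := congr(($e).base x)
    simpa using this
  refine Scheme.Hom.ext h_base fun U => ?_
  have hmono : Mono (g.app (b ⁻¹ᵁ U)) := ConcreteCategory.mono_of_injective _ (hinj _)
  rw [← cancel_mono (g.app (b ⁻¹ᵁ U))]
  simp only [Scheme.Hom.app_eq_appLE, Scheme.Hom.appLE_map, Scheme.Hom.appLE_comp_appLE,
    Category.assoc]
  simp only [e]

end Groth.Agent.Helper12.Git61
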