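import Mathlib
import Groth.Agent.Lib.Helper12.Git61A

/-!
# Mumford's rigidity lemma (GIT 6.1), part B: local factorization through the base
-/

set_option autoImplicit false
set_option linter.style.haveILetI false
universe u
open CategoryTheory AlgebraicGeometry Limits Opposite TopologicalSpace

namespace Groth.Agent.Helper12.Git61

variable {X Y S : Scheme.{u}}

/-- If `ξ` is closed and `O_S → ξ_* O_X` is injective then `ξ` is surjective. -/
theorem surjective_of_app_injective (ξ : X ⟶ S) (hcl : IsClosedMap ξ.base)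
    (h0 : ∀ U : S.Opens, Function.Injective (ξ.app U).hom) : Function.Surjective ξ.base := by
  intro s
  by_contra hs
  let W : S.Opens := ⟨(Set.range ξ.base)ᶜ, (hcl.isClosed_range).isOpen_compl⟩
  have hW : ξ ⁻¹ᵁ W = ⊥ := by
    ext x
    constructor
    · intro hx
      have hx' : ξ.base x ∈ (Set.range ξ.base)ᶜ := hx
      exact (hx' ⟨x, rfl⟩).elim
    · intro hx
      exact hx.elim
  have hsub : Subsingleton Γ(X, ξ ⁻¹ᵁ W) := by
    rw [hW]; infer_instance
  have h10 : (1 : Γ(S, W)) = 0 := h0 W (Subsingleton.elim _ _)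
  have hWbot : W = ⊥ := by
    rw [← Scheme.basicOpen_one (X := S) (U := W), h10, Scheme.basicOpen_zero]
  have : s ∈ W := fun ⟨x, hx⟩ => hs ⟨x, hx⟩
  rw [hWbot] at this
  exact this

/-- Restrictions of `ξ` over opens are epimorphisms. -/
theorem epi_restrict (ξ : X ⟶ S) (hs : Function.Surjective ξ.base)
    (h0 : ∀ U : S.Opens, Function.Injective (ξ.app U).hom) (W : S.Opens) : Epi (ξ ∣_ W) := by
  apply epi_of_app_injective
  · rintro ⟨w, hw⟩
    obtain ⟨x, rfl⟩ := hs w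
    refine ⟨⟨x, hw⟩, ?_⟩
    apply Subtype.ext
    exact morphismRestrict_base_coe ξ W ⟨x, hw⟩
  · intro V
    rw [morphismRestrict_app]
    have h1 := h0 (W.ι ''ᵁ V)
    have h2 : Function.Injective
        (X.presheaf.map (eqToHom (image_morphismRestrict_preimage ξ W V)).op).hom := by
      have : IsIso (X.presheaf.map (eqToHom (image_morphismRestrict_preimage ξ W V)).op) :=
        inferInstance
      exact ((ConcreteCategory.isIso_iff_bijective _).mp this).injective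
    intro a b hab
    apply h1
    apply h2
    exact hab

/-- Base changes of `ξ` along open immersions are epimorphisms. -/
theorem epi_pullback_snd (ξ : X ⟶ S) (hs : Function.Surjective ξ.base)
    (h0 : ∀ U : S.Opens, Function.Injective (ξ.app U).hom) {Q : Scheme.{u}} (c : Q ⟶ S)
    [IsOpenImmersion c] : Epi (pullback.snd ξ c) := by
  haveI := epi_restrict ξ hs h0 c.opensRange
  let e := morphismRestrictOpensRange ξ c
  have hw := Arrow.w e.inv
  have h2 : e.inv.right ≫ e.hom.right = 𝟙 _ := by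
    rw [← Arrow.comp_right, e.inv_hom_id]; rfl
  have : pullback.snd ξ c = e.inv.left ≫ (ξ ∣_ c.opensRange) ≫ e.hom.right := by
    simp only [Arrow.mk_hom] at hw
    rw [← Category.assoc, hw, Category.assoc, h2]
    exact (Category.comp_id _).symm
  rw [this]
  haveI : IsIso e.inv.left := inferInstance
  haveI : IsIso e.hom.right := inferInstance
  infer_instance

/-- Factorization of maps to an affine scheme through a morphism inducing an isomorphism on global
sections. -/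
theorem exists_factor_affine {A B V : Scheme.{u}} [IsAffine V] (g : A ⟶ B) [IsIso g.appTop]
    (f' : A ⟶ V) : ∃ r' : B ⟶ V, g ≫ r' = f' := by
  refine ⟨B.toSpecΓ ≫ Spec.map (f'.appTop ≫ inv g.appTop) ≫ V.isoSpec.inv, ?_⟩
  rw [← Category.assoc, Scheme.toSpecΓ_naturality, Category.assoc, ← Category.assoc (Spec.map _),
    ← Spec.map_comp, Category.assoc, IsIso.inv_hom_id, Category.comp_id,
    ← Scheme.toSpecΓ_naturality_assoc]
  simp [Scheme.isoSpec]

/-- Local factorization: if `ξ⁻¹(W)` is mapped by `f` into an affine open `V`, and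
`O_S(W) → O_X(ξ⁻¹ W)` is bijective, then `f` factors through `ξ` over `W`. -/
theorem exists_local_factor (ξ : X ⟶ S) (h0 : ∀ U : S.Opens, Function.Bijective (ξ.app U).hom)
    (f : X ⟶ Y) (W : S.Opens) (V : Y.Opens) (hV : IsAffineOpen V) (hWV : ξ ⁻¹ᵁ W ≤ f ⁻¹ᵁ V) :
    ∃ r : (W : Scheme.{u}) ⟶ Y, (ξ ∣_ W) ≫ r = (ξ ⁻¹ᵁ W).ι ≫ f := by
  haveI : IsAffine V := hV
  haveI : IsIso (ξ ∣_ W).appTop := by
    have hbij : Function.Bijective (ξ ∣_ W).appTop.hom := by
      have e := morphismRestrict_appTop ξ W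
      have h1 := h0 (W.ι ''ᵁ ⊤)
      have h2 : Function.Bijective
          (X.presheaf.map (eqToHom (image_morphismRestrict_preimage ξ W ⊤)).op).hom :=
        (ConcreteCategory.isIso_iff_bijective _).mp inferInstance
      rw [e]
      exact h2.comp h1
    exact (ConcreteCategory.isIso_iff_bijective _).mpr hbij
  obtain ⟨r', hr'⟩ := exists_factor_affine (ξ ∣_ W) (f.resLE V (ξ ⁻¹ᵁ W) hWV)
  refine ⟨r' ≫ V.ι, ?_⟩
  rw [← Category.assoc, hr', Scheme.Hom.resLE_comp_ι]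

/-- If `f` factors through `ξ` over `W` then `f` collapses all fibres over `W`. -/
theorem collapse_of_factor (ξ : X ⟶ S) (f : X ⟶ Y) (W : S.Opens) (r : (W : Scheme.{u}) ⟶ Y)
    (h : (ξ ∣_ W) ≫ r = (ξ ⁻¹ᵁ W).ι ≫ f) (s : S) (hs : s ∈ W) :
    ∃ y : Y, ∀ x : X, ξ.base x = s → f.base x = y := by
  refine ⟨r.base ⟨s, hs⟩, fun x hx => ?_⟩
  have hxW : x ∈ ξ ⁻¹ᵁ W := by
    show ξ.base x ∈ W
    rw [hx]; exact hs
  have h1 := congr(($h).base ⟨x, hxW⟩)
  simp only [Scheme.Hom.comp_base, TopCat.comp_app] at h1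
  have h2 : (ξ ∣_ W).base ⟨x, hxW⟩ = ⟨s, hs⟩ := by
    apply Subtype.ext
    rw [morphismRestrict_base_coe]
    exact hx
  rw [h2] at h1
  rw [h1]
  rfl

/-- Transport of a factorization along a lift. -/
theorem factor_of_lift (ξ : X ⟶ S) (f : X ⟶ Y) (W : S.Opens) (r : (W : Scheme.{u}) ⟶ Y)
    (h : (ξ ∣_ W) ≫ r = (ξ ⁻¹ᵁ W).ι ≫ f) {P Q : Scheme.{u}} (p₁ : P ⟶ X) (p₂ : P ⟶ Q)
    (a : Q ⟶ (W : Scheme.{u})) (hp : p₁ ≫ ξ = p₂ ≫ a ≫ W.ι) : p₂ ≫ a ≫ r = p₁ ≫ f := by
  let b : P ⟶ (ξ ⁻¹ᵁ W : Scheme.{u}) := (isPullback_morphismRestrict ξ W).lift (p₂ ≫ a) p₁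
    (by rw [hp, Category.assoc])
  have hb1 : b ≫ (ξ ⁻¹ᵁ W).ι = p₁ := IsPullback.lift_snd _ _ _ _
  have hb2 : b ≫ (ξ ∣_ W) = p₂ ≫ a := IsPullback.lift_fst _ _ _ _
  rw [← Category.assoc, ← hb2, Category.assoc, h, ← Category.assoc, hb1]

/-- Near a point with collapsed fibre, `f` factors through `ξ`. -/
theorem exists_nhd_factor (ξ : X ⟶ S) (hcl : IsClosedMap ξ.base)
    (h0 : ∀ U : S.Opens, Function.Bijective (ξ.app U).hom) (f : X ⟶ Y) (s : S)
    (hs : ∃ y : Y, ∀ x : X, ξ.base x = s → f.base x = y) :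
    ∃ (W : S.Opens) (r : (W : Scheme.{u}) ⟶ Y), s ∈ W ∧ (ξ ∣_ W) ≫ r = (ξ ⁻¹ᵁ W).ι ≫ f := by
  obtain ⟨y, hy⟩ := hs
  obtain ⟨_, ⟨V, hV : IsAffineOpen V, rfl⟩, hyV, -⟩ :=
    Y.isBasis_affineOpens.exists_subset_of_mem_open (Set.mem_univ y) isOpen_univ
  let W : S.Opens := ⟨(ξ.base '' ((f ⁻¹ᵁ V : Set X)ᶜ))ᶜ,
    (hcl _ (f ⁻¹ᵁ V).isOpen.isClosed_compl).isOpen_compl⟩
  have hsW : s ∈ W := by
    rintro ⟨x, hx, hxs⟩
    apply hx
    show f.base x ∈ V
    rw [hy x hxs]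
    exact hyV
  have hWV : ξ ⁻¹ᵁ W ≤ f ⁻¹ᵁ V := by
    intro x hx
    by_contra hxV
    exact hx ⟨x, hxV, rfl⟩
  obtain ⟨r, hr⟩ := exists_local_factor ξ h0 f W V hV hWV
  exact ⟨W, r, hsW, hr⟩

end Groth.Agent.Helper12.Git61
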