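import Mathlib
import Groth.Agent.Lib.Helper12.Git61B

/-!
# Mumford's rigidity lemma (GIT 6.1), part C: gluing and the main statement
-/

set_option autoImplicit false
set_option linter.style.haveILetI false
universe u
open CategoryTheory AlgebraicGeometry Limits Opposite TopologicalSpace

namespace Groth.Agent.Helper12.Git61

variable {X Y S : Scheme.{u}}

/-- Transport of a factorization along a lift (variant). -/
theorem factor_of_lift' (ξ : X ⟶ S) (f : X ⟶ Y) (W : S.Opens) (r : (W : Scheme.{u}) ⟶ Y)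
    (h : (ξ ∣_ W) ≫ r = (ξ ⁻¹ᵁ W).ι ≫ f) {P : Scheme.{u}} (p₁ : P ⟶ X)
    (p₂ : P ⟶ (W : Scheme.{u})) (hp : p₁ ≫ ξ = p₂ ≫ W.ι) : p₂ ≫ r = p₁ ≫ f := by
  have := factor_of_lift ξ f W r h p₁ p₂ (𝟙 _) (by rw [Category.id_comp]; exact hp)
  rwa [Category.id_comp] at this

/-- Two local factorizations agree on overlaps. -/
theorem agree_of_factor (ξ : X ⟶ S) (hs : Function.Surjective ξ.base)
    (h0 : ∀ U : S.Opens, Function.Injective (ξ.app U).hom) (f : X ⟶ Y)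
    (W₁ W₂ : S.Opens) (r₁ : (W₁ : Scheme.{u}) ⟶ Y) (r₂ : (W₂ : Scheme.{u}) ⟶ Y)
    (h₁ : (ξ ∣_ W₁) ≫ r₁ = (ξ ⁻¹ᵁ W₁).ι ≫ f) (h₂ : (ξ ∣_ W₂) ≫ r₂ = (ξ ⁻¹ᵁ W₂).ι ≫ f)
    {Q : Scheme.{u}} (a₁ : Q ⟶ (W₁ : Scheme.{u})) (a₂ : Q ⟶ (W₂ : Scheme.{u}))
    (ha : a₁ ≫ W₁.ι = a₂ ≫ W₂.ι) [IsOpenImmersion a₁] : a₁ ≫ r₁ = a₂ ≫ r₂ := by
  let c : Q ⟶ S := a₁ ≫ W₁.ι
  haveI : IsOpenImmersion c := inferInstance
  haveI := epi_pullback_snd ξ hs h0 c
  rw [← cancel_epi (pullback.snd ξ c)]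
  have e1 := factor_of_lift ξ f W₁ r₁ h₁ (pullback.fst ξ c) (pullback.snd ξ c) a₁
    pullback.condition
  have e2 := factor_of_lift ξ f W₂ r₂ h₂ (pullback.fst ξ c) (pullback.snd ξ c) a₂
    (by rw [pullback.condition, ← ha])
  rw [e1, e2]

/-- Gluing local factorizations. -/
theorem exists_glue_factor (ξ : X ⟶ S) (hs : Function.Surjective ξ.base)
    (h0 : ∀ U : S.Opens, Function.Injective (ξ.app U).hom) (f : X ⟶ Y)
    {ι : Type u} (Wf : ι → S.Opens) (rf : ∀ i, (Wf i : Scheme.{u}) ⟶ Y)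
    (hrf : ∀ i, (ξ ∣_ Wf i) ≫ rf i = (ξ ⁻¹ᵁ Wf i).ι ≫ f) :
    ∃ rU : ((⨆ i, Wf i : S.Opens) : Scheme.{u}) ⟶ Y,
      (ξ ∣_ (⨆ i, Wf i)) ≫ rU = (ξ ⁻¹ᵁ (⨆ i, Wf i)).ι ≫ f := by
  let 𝒰 := Scheme.Opens.iSupOpenCover Wf
  have hι : ∀ i : ι, S.homOfLE (le_iSup Wf i) ≫ (⨆ i, Wf i).ι = (Wf i).ι :=
    fun i => S.homOfLE_ι (le_iSup Wf i)
  have compat : ∀ i j : ι,
      pullback.fst (S.homOfLE (le_iSup Wf i)) (S.homOfLE (le_iSup Wf j)) ≫ rf i =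
      pullback.snd (S.homOfLE (le_iSup Wf i)) (S.homOfLE (le_iSup Wf j)) ≫ rf j := by
    intro i j
    exact agree_of_factor ξ hs h0 f (Wf i) (Wf j) (rf i) (rf j) (hrf i) (hrf j)
      (pullback.fst (S.homOfLE (le_iSup Wf i)) (S.homOfLE (le_iSup Wf j)))
      (pullback.snd (S.homOfLE (le_iSup Wf i)) (S.homOfLE (le_iSup Wf j)))
      (by rw [← hι i, ← hι j, pullback.condition_assoc])
  have compat' : ∀ i j : 𝒰.I₀, pullback.fst (𝒰.f i) (𝒰.f j) ≫ rf i =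
      pullback.snd (𝒰.f i) (𝒰.f j) ≫ rf j := compat
  refine ⟨𝒰.glueMorphisms rf compat', ?_⟩
  have hrU : ∀ i : ι, S.homOfLE (le_iSup Wf i) ≫ 𝒰.glueMorphisms rf compat' = rf i :=
    fun i => 𝒰.ι_glueMorphisms rf compat' i
  refine Scheme.Cover.hom_ext (𝒰.pullback₁ (ξ ∣_ (⨆ i, Wf i))) _ _ fun (i : ι) => ?_
  show pullback.fst (ξ ∣_ (⨆ i, Wf i)) (S.homOfLE (le_iSup Wf i)) ≫ (ξ ∣_ (⨆ i, Wf i)) ≫ _ =
    pullback.fst (ξ ∣_ (⨆ i, Wf i)) (S.homOfLE (le_iSup Wf i)) ≫ (ξ ⁻¹ᵁ (⨆ i, Wf i)).ι ≫ f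
  rw [pullback.condition_assoc, hrU]
  have := factor_of_lift' ξ f (Wf i) (rf i) (hrf i)
    (pullback.fst (ξ ∣_ (⨆ i, Wf i)) (S.homOfLE (le_iSup Wf i)) ≫ (ξ ⁻¹ᵁ (⨆ i, Wf i)).ι)
    (pullback.snd (ξ ∣_ (⨆ i, Wf i)) (S.homOfLE (le_iSup Wf i))) (by
      rw [Category.assoc, ← morphismRestrict_ι, pullback.condition_assoc, hι])
  exact this.trans (Category.assoc _ _ _)

/-- Mumford's rigidity lemma (GIT, Prop. 6.1): for a closed morphism `ξ : X ⟶ S` with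
`O_S ≅ ξ_* O_X` and an `S`-morphism `f : X ⟶ Y`, the locus of points of `S` whose fibre is
collapsed by `f` is open, and `f` factors through `ξ` exactly over this locus. -/
theorem main (ξ : X ⟶ S) (hcl : IsClosedMap ξ.base)
    (h0 : ∀ U : S.Opens, Function.Bijective (ξ.app U).hom)
    (v : Y ⟶ S) (f : X ⟶ Y) (hf : f ≫ v = ξ) :
    IsOpen {s : S | ∃ y : Y, ∀ x : X, ξ.base x = s → f.base x = y} ∧
    ∀ (T : Scheme.{u}) (τ : T ⟶ S),
      ((∃ r : T ⟶ Y, r ≫ v = τ ∧ pullback.fst ξ τ ≫ f = pullback.snd ξ τ ≫ r) ↔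
        ∀ t : T, τ.base t ∈ {s : S | ∃ y : Y, ∀ x : X, ξ.base x = s → f.base x = y}) := by
  have h0i : ∀ U, Function.Injective (ξ.app U).hom := fun U => (h0 U).injective
  have hsurj := surjective_of_app_injective ξ hcl h0i
  obtain ⟨Uset, hUset⟩ : ∃ Uset : Set S,
      Uset = {s : S | ∃ y : Y, ∀ x : X, ξ.base x = s → f.base x = y} := ⟨_, rfl⟩
  rw [← hUset]
  have hloc : ∀ i : Uset, ∃ (W : S.Opens) (r : (W : Scheme.{u}) ⟶ Y),
      i.1 ∈ W ∧ (ξ ∣_ W) ≫ r = (ξ ⁻¹ᵁ W).ι ≫ f := fun i =>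
    exists_nhd_factor ξ hcl h0 f i.1 (by
      have : (i : S) ∈ {s : S | ∃ y : Y, ∀ x : X, ξ.base x = s → f.base x = y} := by
        rw [← hUset]; exact i.2
      exact this)
  choose Wf rf hWf hrf using hloc
  obtain ⟨rU, hfac⟩ := exists_glue_factor ξ hsurj h0i f Wf rf hrf
  generalize hUoeq' : (⨆ i, Wf i : S.Opens) = Uo at rU hfac
  have hUoeq : Uo = ⨆ i, Wf i := hUoeq'.symm
  have hUo : (Uo : Set S) = Uset := by
    ext s; constructor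
    · intro hs
      rw [hUoeq] at hs
      obtain ⟨i, hi⟩ := Opens.mem_iSup.mp hs
      rw [hUset]
      exact collapse_of_factor ξ f (Wf i) (rf i) (hrf i) s hi
    · intro hs
      rw [hUoeq]
      exact Opens.mem_iSup.mpr ⟨⟨s, hs⟩, hWf ⟨s, hs⟩⟩
  haveI := epi_restrict ξ hsurj h0i Uo
  have hrUv : rU ≫ v = Uo.ι := by
    rw [← cancel_epi (ξ ∣_ Uo), ← Category.assoc, hfac, Category.assoc, hf, morphismRestrict_ι]
  refine ⟨?_, ?_⟩
  · rw [← hUo]; exact Uo.isOpen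
  · intro T τ
    constructor
    · rintro ⟨r, hr1, hr2⟩ t
      rw [hUset]
      refine ⟨r.base t, fun x hx => ?_⟩
      obtain ⟨z, hz1, hz2⟩ := Scheme.Pullback.exists_preimage_pullback x t hx
      have := congr(($hr2).base z)
      simp only [Scheme.Hom.comp_base, TopCat.comp_app] at this
      rw [hz1, hz2] at this
      exact this
    · intro hτ
      have hrange : Set.range τ.base ⊆ Set.range Uo.ι.base := by
        rw [Scheme.Opens.range_ι, hUo]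
        rintro _ ⟨t, rfl⟩
        exact hτ t
      let τ' : T ⟶ (Uo : Scheme.{u}) := IsOpenImmersion.lift Uo.ι τ hrange
      have hτ' : τ' ≫ Uo.ι = τ := IsOpenImmersion.lift_fac _ _ _
      refine ⟨τ' ≫ rU, ?_, ?_⟩
      · rw [Category.assoc, hrUv, hτ']
      · exact (factor_of_lift ξ f Uo rU hfac (pullback.fst ξ τ) (pullback.snd ξ τ) τ'
          (by rw [hτ', pullback.condition])).symm

end Groth.Agent.Helper12.Git61
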