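import Mathlib
import Groth.Agent.Lib.Helper17.EL5
import Groth.Agent.Lib.Lead.Bass5
import Groth.Agent.Lib.Helper12.ExtChi1

/-!
# `Ext¹(M, S) = 0` for reflexive modules over a one-dimensional Gorenstein ring (helper12)
-/

set_option autoImplicit false
universe u

open CategoryTheory Abelian

namespace Groth.Agent.Helper12.GorRefl

variable {S : Type u} [CommRing S]

/-- Over a Gorenstein ring of dimension `≤ d`, `Ext^i(C, S) = 0` for `i > d` and `C` finite. -/
theorem ext_subsingleton_of_gorenstein [LocCoh.IsGorensteinRing S] (d : ℕ)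
    (hdim : ringKrullDim S ≤ d) (C : Type u) [AddCommGroup C] [Module S C] [Module.Finite S C]
    (i : ℕ) (hi : d < i) :
    Subsingleton (Ext (ModuleCat.of S C) (ModuleCat.of S S) i) := by
  refine ⟨fun a b => ?_⟩
  have key : ∀ x : Ext (ModuleCat.of S C) (ModuleCat.of S S) i, x = 0 := by
    intro x
    by_contra hx
    let ann : Ideal S := LinearMap.ker (LinearMap.toSpanSingleton S _ x)
    have hann : ann ≠ ⊤ := by
      intro h
      have h1 : (1 : S) ∈ ann := h ▸ Submodule.mem_top
      have h2 : (1 : S) • x = 0 := h1
      rw [one_smul] at h2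
      exact hx h2
    obtain ⟨p, hp, hle⟩ := Ideal.exists_le_maximal ann hann
    have : p.IsPrime := hp.isPrime
    have := LocCoh.IsGorensteinRing.isGorensteinLocalRing_localization (A := S) p
    obtain ⟨e, he⟩ := Groth.Agent.Lead.Depth.exists_nat_ringKrullDim (R := Localization.AtPrime p)
    have hed : e ≤ d := by
      have h1 : ringKrullDim (Localization.AtPrime p) = p.height :=
        IsLocalization.AtPrime.ringKrullDim_eq_height p _
      have h2 : (p.height : WithBot ℕ∞) ≤ ringKrullDim S :=
        Ideal.height_le_ringKrullDim_of_ne_top hp.ne_top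
      have h3 : ((e : ℕ) : WithBot ℕ∞) ≤ (d : WithBot ℕ∞) := by
        rw [← he, h1]
        exact h2.trans hdim
      exact_mod_cast h3
    have hsub : Subsingleton (Ext (ModuleCat.of (Localization.AtPrime p)
        (LocalizedModule p.primeCompl C))
        (ModuleCat.of (Localization.AtPrime p) (Localization.AtPrime p)) i) :=
      Groth.Agent.Lead.Depth.gorenstein_ext_subsingleton e he _ i (by omega)
    obtain ⟨s, hs⟩ := (Groth.Agent.Helper17.EL.ext_localization_iff p.primeCompl
      (Localization.AtPrime p) (Algebra.linearMap S (Localization.AtPrime p)) i C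
      (LocalizedModule p.primeCompl C) (LocalizedModule.mkLinearMap p.primeCompl C)).mpr hsub x
    exact s.2 (hle (show (s : S) ∈ ann from hs))
  rw [key a, key b]

/-- a finite reflexive module over a Noetherian ring embeds into a finite free module -/
theorem exists_embedding_of_isReflexive [IsNoetherianRing S] (M : Type u) [AddCommGroup M]
    [Module S M] [Module.Finite S M] [Module.IsReflexive S M] :
    ∃ (m : ℕ) (ι : M →ₗ[S] (Fin m → S)), Function.Injective ι := by
  obtain ⟨n, π, hπ⟩ := Module.Finite.exists_fin' S M
  have hinj : Function.Injective π.dualMap := LinearMap.dualMap_injective_of_surjective hπ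
  have : Module.Finite S (Module.Dual S (Fin n → S)) := inferInstance
  have : Module.Finite S (Module.Dual S M) := Module.Finite.of_injective π.dualMap hinj
  obtain ⟨m, ρ, hρ⟩ := Module.Finite.exists_fin' S (Module.Dual S M)
  have hinj2 : Function.Injective ρ.dualMap := LinearMap.dualMap_injective_of_surjective hρ
  refine ⟨m, (Module.piEquiv (Fin m) S S).symm.toLinearMap ∘ₗ ρ.dualMap ∘ₗ Module.Dual.eval S M,
    ?_⟩
  exact (Module.piEquiv (Fin m) S S).symm.injective.comp
    (hinj2.comp (Module.bijective_dual_eval S M).1)

open Groth.Agent.Helper8.LC in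
theorem ext_one_subsingleton_of_isReflexive [LocCoh.IsGorensteinRing S]
    (hdim : ringKrullDim S = 1) (M : Type u) [AddCommGroup M] [Module S M] [Module.Finite S M]
    [Module.IsReflexive S M] :
    Subsingleton (Ext (ModuleCat.of S M) (ModuleCat.of S S) 1) := by
  obtain ⟨m, ι, hι⟩ := exists_embedding_of_isReflexive (S := S) M
  have hS := isSES_of_injective hι
  have hproj : Projective (ModuleCat.of S (Fin m → S)) :=
    (IsProjective.iff_projective (R := S) (P := (Fin m → S))).1 inferInstance
  have h2 : Subsingleton (Ext (ModuleCat.of S ((Fin m → S) ⧸ LinearMap.range ι))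
      (ModuleCat.of S S) 2) :=
    ext_subsingleton_of_gorenstein 1 (by rw [hdim]; rfl) _ 2 (by omega)
  refine ⟨fun a b => ?_⟩
  have key : ∀ x : Ext (ModuleCat.of S M) (ModuleCat.of S S) 1, x = 0 := by
    intro x
    obtain ⟨y, hy⟩ := (Groth.Agent.Helper12.ExtChi.exact_pre_dl hS.shortExact
      (ModuleCat.of S S) 1 x).mp (Subsingleton.elim _ _)
    have hy0 : y = 0 := Ext.eq_zero_of_projective y
    rw [← hy, hy0, map_zero]
  rw [key a, key b]

end Groth.Agent.Helper12.GorRefl
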