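import Mathlib
import Groth.Agent.Lib.Helper5.HS2

/-!
# Modules over `A₀[X₁,…,X_d]`, `A₀` Artinian: finite length of `N/𝔫N`, and `ℓ_S = ℓ_{A₀}` for
`𝔫`-power-torsion modules
-/

set_option autoImplicit false
universe u

open MvPolynomial

namespace Groth.Agent.Helper12.HilbSerre

variable {A₀ : Type u} [CommRing A₀] {d : ℕ}

/-- `s - C (s(0)) ∈ (X₁,…,X_d)` -/
theorem sub_C_constantCoeff_mem (s : MvPolynomial (Fin d) A₀) :
    s - C (constantCoeff s) ∈ idealOfVars (Fin d) A₀ := by
  have h := (mem_pow_idealOfVars_iff' (σ := Fin d) (R := A₀) 1 (s - C (constantCoeff s))).mpr ?_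
  · rwa [pow_one] at h
  · intro x hx
    have hx0 : x = 0 := by
      have : Finsupp.degree x = 0 := by omega
      exact (Finsupp.degree_eq_zero_iff x).mp this
    subst hx0
    simp [constantCoeff_eq]

theorem isMaximal_of_idealOfVars_le [IsArtinianRing A₀] (p : Ideal (MvPolynomial (Fin d) A₀))
    [hp : p.IsPrime] (h : idealOfVars (Fin d) A₀ ≤ p) : p.IsMaximal := by
  let φ : A₀ →+* (MvPolynomial (Fin d) A₀ ⧸ p) := (Ideal.Quotient.mk p).comp C
  have hφ : Function.Surjective φ := by
    intro z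
    obtain ⟨s, rfl⟩ := Ideal.Quotient.mk_surjective z
    refine ⟨constantCoeff s, ?_⟩
    show Ideal.Quotient.mk p (C (constantCoeff s)) = Ideal.Quotient.mk p s
    rw [eq_comm, Ideal.Quotient.eq]
    exact h (sub_C_constantCoeff_mem s)
  have : IsArtinianRing (MvPolynomial (Fin d) A₀ ⧸ p) := hφ.isArtinianRing
  exact Ideal.Quotient.maximal_of_isField _ (IsArtinianRing.isField_of_isDomain _)

open Groth.Agent.Helper5.HS in
/-- `N/𝔫N` has finite length over `S = A₀[X]` for finitely generated `N`. -/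
theorem isFiniteLength_quot [IsArtinianRing A₀] (N : Type u) [AddCommGroup N]
    [Module (MvPolynomial (Fin d) A₀) N] [Module.Finite (MvPolynomial (Fin d) A₀) N] :
    IsFiniteLength (MvPolynomial (Fin d) A₀)
      (N ⧸ (idealOfVars (Fin d) A₀ • (⊤ : Submodule (MvPolynomial (Fin d) A₀) N))) := by
  rw [isFiniteLength_iff_support, Module.support_quotient]
  rintro p ⟨-, hp⟩
  exact isMaximal_of_idealOfVars_le p.asIdeal hp

/-- `ℓ_S = ℓ_{A₀}` for modules killed by `𝔫`. -/
theorem length_eq_of_smul_eq_zero (Q : Type u) [AddCommGroup Q]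
    [Module (MvPolynomial (Fin d) A₀) Q] [Module A₀ Q] [IsScalarTower A₀ (MvPolynomial (Fin d) A₀) Q]
    (h : ∀ s ∈ idealOfVars (Fin d) A₀, ∀ q : Q, s • q = 0) :
    Module.length (MvPolynomial (Fin d) A₀) Q = Module.length A₀ Q := by
  let _ : Algebra (MvPolynomial (Fin d) A₀) A₀ :=
    (constantCoeff : MvPolynomial (Fin d) A₀ →+* A₀).toAlgebra
  have hsm : ∀ (s : MvPolynomial (Fin d) A₀) (q : Q), s • q = constantCoeff s • q := by
    intro s q
    have h1 := h _ (sub_C_constantCoeff_mem s) q
    rw [sub_smul, sub_eq_zero] at h1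
    rw [h1]
    exact algebraMap_smul (MvPolynomial (Fin d) A₀) (constantCoeff s) q
  have : IsScalarTower (MvPolynomial (Fin d) A₀) A₀ Q := ⟨fun s a q => by
    rw [Algebra.smul_def, mul_smul, hsm s (a • q)]
    rfl⟩
  refine Module.length_eq_of_surjective (S := MvPolynomial (Fin d) A₀) (R := A₀) (M := Q) ?_
  intro a
  exact ⟨C a, by
    show constantCoeff (C a) = a
    simp⟩

/-- `ℓ_S = ℓ_{A₀}` for modules killed by a power of `𝔫`. -/
theorem length_eq_of_pow_smul_eq_bot : ∀ (k : ℕ) (Q : Type u) [AddCommGroup Q]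
    [Module (MvPolynomial (Fin d) A₀) Q] [Module A₀ Q] [IsScalarTower A₀ (MvPolynomial (Fin d) A₀) Q],
    idealOfVars (Fin d) A₀ ^ k • (⊤ : Submodule (MvPolynomial (Fin d) A₀) Q) = ⊥ →
    Module.length (MvPolynomial (Fin d) A₀) Q = Module.length A₀ Q := by
  intro k
  induction k with
  | zero =>
    intro Q _ _ _ _ h
    rw [pow_zero, Ideal.one_eq_top, Submodule.top_smul] at h
    have : Subsingleton Q := by
      refine ⟨fun a b => ?_⟩
      have ha : a ∈ (⊤ : Submodule (MvPolynomial (Fin d) A₀) Q) := trivial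
      have hb : b ∈ (⊤ : Submodule (MvPolynomial (Fin d) A₀) Q) := trivial
      rw [h, Submodule.mem_bot] at ha hb
      rw [ha, hb]
    rw [Module.length_eq_zero, Module.length_eq_zero]
  | succ k ih =>
    intro Q _ _ _ _ h
    set W : Submodule (MvPolynomial (Fin d) A₀) Q :=
      idealOfVars (Fin d) A₀ • (⊤ : Submodule (MvPolynomial (Fin d) A₀) Q) with hW
    have e1 := Module.length_eq_add_of_exact W.subtype W.mkQ (Submodule.subtype_injective _)
      (Submodule.mkQ_surjective _) (LinearMap.exact_subtype_mkQ W)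
    have e2 := Module.length_eq_add_of_exact (W.subtype.restrictScalars A₀)
      (W.mkQ.restrictScalars A₀) (Submodule.subtype_injective _)
      (Submodule.mkQ_surjective _) (LinearMap.exact_subtype_mkQ W)
    have hW' : idealOfVars (Fin d) A₀ ^ k • (⊤ : Submodule (MvPolynomial (Fin d) A₀) W) = ⊥ := by
      apply Submodule.map_injective_of_injective (f := W.subtype) (Submodule.subtype_injective _)
      rw [Submodule.map_smul'', Submodule.map_subtype_top, Submodule.map_bot, hW,
        ← Submodule.mul_smul, ← pow_succ]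
      exact h
    have hQ : ∀ s ∈ idealOfVars (Fin d) A₀, ∀ q : Q ⧸ W, s • q = 0 := by
      intro s hs q
      obtain ⟨q, rfl⟩ := Submodule.Quotient.mk_surjective _ q
      rw [← Submodule.Quotient.mk_smul, Submodule.Quotient.mk_eq_zero]
      exact Submodule.smul_mem_smul hs trivial
    rw [e1, e2, ih W hW', length_eq_of_smul_eq_zero (Q ⧸ W) hQ]

end Groth.Agent.Helper12.HilbSerre
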