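import Mathlib

/-!
# Polynomial algebra for Hilbert polynomials: the difference `P - P(X - d)`
-/

set_option autoImplicit false
open Polynomial

namespace Groth.Agent.Helper12.ProjHilb

theorem eq_of_eventually_eval_eq (P Q : ℚ[X]) (N : ℕ)
    (h : ∀ m : ℕ, N ≤ m → P.eval (m : ℚ) = Q.eval (m : ℚ)) : P = Q := by
  apply Polynomial.eq_of_infinite_eval_eq
  have hinf : (Set.range fun m : ℕ => ((N + m : ℕ) : ℚ)).Infinite := by
    apply Set.infinite_range_of_injective
    intro a b hab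
    simp only at hab
    have : (N + a : ℕ) = N + b := by exact_mod_cast hab
    omega
  refine hinf.mono ?_
  rintro _ ⟨m, rfl⟩
  exact h (N + m) (Nat.le_add_right N m)

theorem comp_X_sub_C_eq_taylor (P : ℚ[X]) (d : ℚ) : P.comp (X - C d) = taylor (-d) P := by
  rw [taylor_apply, map_neg, sub_eq_add_neg]

theorem coeff_pred_sub_taylor (P : ℚ[X]) (t : ℕ) (ht : P.natDegree = t + 1) (d : ℚ) :
    (P - taylor (-d) P).coeff t = (t + 1 : ℕ) * d * P.leadingCoeff := by
  rw [coeff_sub, taylor_coeff]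
  have hdeg : (hasseDeriv t P).natDegree ≤ 1 := by
    refine (natDegree_hasseDeriv_le P t).trans ?_
    omega
  rw [eval_eq_sum_range' (Nat.lt_succ_of_le hdeg)]
  simp only [Finset.sum_range_succ, Finset.sum_range_zero, zero_add, pow_zero, mul_one, pow_one]
  rw [hasseDeriv_coeff, hasseDeriv_coeff]
  simp only [zero_add, Nat.choose_self, Nat.cast_one, one_mul]
  rw [show 1 + t = t + 1 by ring, Nat.choose_succ_self_right, leadingCoeff, ht]
  push_cast
  ring

theorem natDegree_sub_taylor (P : ℚ[X]) (t : ℕ) (ht : P.natDegree = t + 1) (d : ℚ) (hd : d ≠ 0) :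
    (P - taylor (-d) P).natDegree = t ∧
      (P - taylor (-d) P).leadingCoeff = (t + 1 : ℕ) * d * P.leadingCoeff := by
  have hP0 : P ≠ 0 := by
    rintro rfl
    simp at ht
  have h1 : (P - taylor (-d) P).degree < P.degree :=
    degree_sub_lt_left (degree_taylor P (-d)).symm hP0 (leadingCoeff_taylor (-d) P).symm
  have hc := coeff_pred_sub_taylor P t ht d
  have hne : (P - taylor (-d) P).coeff t ≠ 0 := by
    rw [hc]
    have : P.leadingCoeff ≠ 0 := leadingCoeff_ne_zero.mpr hP0
    have h2 : ((t + 1 : ℕ) : ℚ) ≠ 0 := by positivity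
    exact mul_ne_zero (mul_ne_zero h2 hd) this
  have hle : (P - taylor (-d) P).natDegree ≤ t := by
    rw [degree_eq_natDegree hP0, ht] at h1
    have h3 := natDegree_lt_iff_degree_lt (p := P - taylor (-d) P) (n := t + 1)
      (fun h0 => hne (by rw [h0]; simp))
    have := h3.mpr h1
    omega
  have hge : t ≤ (P - taylor (-d) P).natDegree := le_natDegree_of_ne_zero hne
  have heq : (P - taylor (-d) P).natDegree = t := le_antisymm hle hge
  refine ⟨heq, ?_⟩
  rw [leadingCoeff, heq, hc]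

/-- If `Q(m) = P(m) - P(m - d)` eventually, then `deg Q = deg P - 1` and
`(deg Q)! lc(Q) = d (deg P)! lc(P)`. -/
theorem degree_of_diff (P Q : ℚ[X]) (d : ℕ) (hd : 0 < d) (hdeg : 1 ≤ P.natDegree) (N : ℕ)
    (h : ∀ m : ℕ, N ≤ m → Q.eval ((d + m : ℕ) : ℚ) = P.eval ((d + m : ℕ) : ℚ) - P.eval (m : ℚ)) :
    Q.natDegree + 1 = P.natDegree ∧
      (Q.natDegree.factorial : ℚ) * Q.leadingCoeff =
        d * ((P.natDegree.factorial : ℚ) * P.leadingCoeff) := by
  have hQ : Q = P - taylor (-(d : ℚ)) P := by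
    apply eq_of_eventually_eval_eq _ _ (N + d)
    intro m hm
    obtain ⟨m', rfl⟩ : ∃ m', m = d + m' := ⟨m - d, by omega⟩
    rw [h m' (by omega), eval_sub, taylor_eval]
    push_cast
    congr 2
    ring
  obtain ⟨t, ht⟩ : ∃ t, P.natDegree = t + 1 := ⟨P.natDegree - 1, by omega⟩
  have hd' : (d : ℚ) ≠ 0 := by positivity
  obtain ⟨h1, h2⟩ := natDegree_sub_taylor P t ht d hd'
  rw [hQ, h1, h2, ht, Nat.factorial_succ]
  refine ⟨rfl, ?_⟩
  push_cast
  ring

end Groth.Agent.Helper12.ProjHilb
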