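import Mathlib

/-!
# Hilbert functions of homogeneous ideals in a polynomial ring over a field

`hf J m = dim_k R_m - dim_k (J ∩ R_m)` and the hypersurface-section recursion
`hf (J + (f)) (m + d) = hf J (m + d) - hf J m` for `f` homogeneous of degree `d`, regular mod `J`.
-/

set_option autoImplicit false
universe u
open MvPolynomial

namespace Groth.Agent.Helper12.ProjHilb

attribute [local instance] MvPolynomial.gradedAlgebra

variable {k : Type u} [Field k] {σ : Type*}

theorem homogeneousComponent_mul_of_left_mem {f : MvPolynomial σ k} {d : ℕ}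
    (hfd : f ∈ homogeneousSubmodule σ k d) (b : MvPolynomial σ k) (m : ℕ) :
    homogeneousComponent (d + m) (f * b) = f * homogeneousComponent m b := by
  have := DirectSum.coe_decompose_mul_add_of_left_mem (homogeneousSubmodule σ k) (i := d) (j := m)
    (a := f) (b := b) hfd
  rw [← decomposition.decompose'_apply, ← decomposition.decompose'_apply]
  exact this

variable [Finite σ]

instance finite_G (m : ℕ) : Module.Finite k (homogeneousSubmodule σ k m) :=
  Module.Finite.iff_fg.mpr (homogeneousSubmodule_fg σ k m)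

/-- The degree `m` part of an ideal, as a `k`-subspace of the polynomial ring. -/
noncomputable def part (J : Ideal (MvPolynomial σ k)) (m : ℕ) : Submodule k (MvPolynomial σ k) :=
  J.restrictScalars k ⊓ homogeneousSubmodule σ k m

theorem part_le (J : Ideal (MvPolynomial σ k)) (m : ℕ) : part J m ≤ homogeneousSubmodule σ k m :=
  inf_le_right

theorem mem_part {J : Ideal (MvPolynomial σ k)} {m : ℕ} {x : MvPolynomial σ k} :
    x ∈ part J m ↔ x ∈ J ∧ x ∈ homogeneousSubmodule σ k m := by
  simp [part]

instance finite_part (J : Ideal (MvPolynomial σ k)) (m : ℕ) : Module.Finite k (part J m) := by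
  have : IsNoetherian k (homogeneousSubmodule σ k m) := inferInstance
  exact Module.Finite.of_injective (Submodule.inclusion (part_le J m))
    (Submodule.inclusion_injective _)

theorem finrank_part_le (J : Ideal (MvPolynomial σ k)) (m : ℕ) :
    Module.finrank k (part J m) ≤ Module.finrank k (homogeneousSubmodule σ k m) :=
  Submodule.finrank_mono (part_le J m)

/-- The Hilbert function of `R/J`. -/
noncomputable def hf (J : Ideal (MvPolynomial σ k)) (m : ℕ) : ℕ :=
  Module.finrank k (homogeneousSubmodule σ k m) - Module.finrank k (part J m)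

theorem hf_cast (J : Ideal (MvPolynomial σ k)) (m : ℕ) :
    ((hf J m : ℕ) : ℤ) = (Module.finrank k (homogeneousSubmodule σ k m) : ℤ) -
      Module.finrank k (part J m) := by
  unfold hf
  rw [Nat.cast_sub (finrank_part_le J m)]

theorem hf_add (J : Ideal (MvPolynomial σ k)) (m : ℕ) :
    hf J m + Module.finrank k (part J m) = Module.finrank k (homogeneousSubmodule σ k m) := by
  unfold hf
  exact Nat.sub_add_cancel (finrank_part_le J m)

/-- Multiplication by `f` as a `k`-linear map. -/
noncomputable abbrev mulL (f : MvPolynomial σ k) : MvPolynomial σ k →ₗ[k] MvPolynomial σ k :=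
  LinearMap.mulLeft k f

theorem mulL_injective {f : MvPolynomial σ k} (hf0 : f ≠ 0) : Function.Injective (mulL f) := by
  intro a b hab
  exact mul_left_cancel₀ hf0 hab

theorem part_sup_span_eq (J : Ideal (MvPolynomial σ k))
    (hJ : J.IsHomogeneous (homogeneousSubmodule σ k)) {f : MvPolynomial σ k} {d : ℕ}
    (hfd : f ∈ homogeneousSubmodule σ k d) (m : ℕ) :
    part (J ⊔ Ideal.span {f}) (d + m) =
      part J (d + m) ⊔ (homogeneousSubmodule σ k m).map (mulL f) := by
  apply le_antisymm
  · intro x hx
    obtain ⟨hx1, hx2⟩ := mem_part.mp hx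
    obtain ⟨a, ha, y, hy, rfl⟩ := Submodule.mem_sup.mp hx1
    obtain ⟨b, rfl⟩ := Ideal.mem_span_singleton'.mp hy
    have h1 : a + b * f = homogeneousComponent (d + m) a + f * homogeneousComponent m b := by
      conv_lhs => rw [← homogeneousComponent_eq_self hx2]
      rw [map_add, mul_comm b f, homogeneousComponent_mul_of_left_mem hfd]
    rw [h1]
    refine Submodule.add_mem_sup ?_ ?_
    · exact mem_part.mpr ⟨homogeneousComponent_mem_of_mem hJ ha _, homogeneousComponent_mem _ _⟩
    · exact Submodule.mem_map.mpr ⟨_, homogeneousComponent_mem m b, rfl⟩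
  · refine sup_le ?_ ?_
    · intro x hx
      obtain ⟨hx1, hx2⟩ := mem_part.mp hx
      exact mem_part.mpr ⟨Ideal.mem_sup_left hx1, hx2⟩
    · rintro x ⟨b, hb, rfl⟩
      refine mem_part.mpr ⟨Ideal.mem_sup_right ?_, ?_⟩
      · exact Ideal.mul_mem_right _ _ (Ideal.mem_span_singleton_self f)
      · exact SetLike.GradedMul.mul_mem (A := homogeneousSubmodule σ k) hfd hb

/-- The colon ideal `(J : a)`. -/
noncomputable def col (J : Ideal (MvPolynomial σ k)) (a : MvPolynomial σ k) :
    Ideal (MvPolynomial σ k) :=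
  Submodule.comap (LinearMap.mulLeft (MvPolynomial σ k) a) J

omit [Finite σ] in
theorem mem_col {J : Ideal (MvPolynomial σ k)} {a x : MvPolynomial σ k} :
    x ∈ col J a ↔ a * x ∈ J := Iff.rfl

omit [Finite σ] in
theorem le_col (J : Ideal (MvPolynomial σ k)) (a : MvPolynomial σ k) : J ≤ col J a :=
  fun _ hx => mem_col.mpr (Ideal.mul_mem_left _ _ hx)

omit [Finite σ] in
theorem col_eq_self_of_reg {J : Ideal (MvPolynomial σ k)} {a : MvPolynomial σ k}
    (hreg : ∀ b, a * b ∈ J → b ∈ J) : col J a = J :=
  le_antisymm (fun b hb => hreg b (mem_col.mp hb)) (le_col J a)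

omit [Finite σ] in
theorem col_isHomogeneous (J : Ideal (MvPolynomial σ k))
    (hJ : J.IsHomogeneous (homogeneousSubmodule σ k)) {a : MvPolynomial σ k} {e : ℕ}
    (ha : a ∈ homogeneousSubmodule σ k e) :
    (col J a).IsHomogeneous (homogeneousSubmodule σ k) := by
  intro i x hx
  have h1 : a * x ∈ J := mem_col.mp hx
  have h2 := homogeneousComponent_mem_of_mem hJ h1 (e + i)
  rw [homogeneousComponent_mul_of_left_mem ha] at h2
  rw [← decomposition.decompose'_apply] at h2
  exact mem_col.mpr h2

theorem part_inf_map_eq (J : Ideal (MvPolynomial σ k)) {f : MvPolynomial σ k} {d : ℕ}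
    (hfd : f ∈ homogeneousSubmodule σ k d) (m : ℕ) :
    part J (d + m) ⊓ (homogeneousSubmodule σ k m).map (mulL f) = (part (col J f) m).map (mulL f) := by
  apply le_antisymm
  · rintro x ⟨hx1, b, hb, rfl⟩
    refine Submodule.mem_map.mpr ⟨b, mem_part.mpr ⟨mem_col.mpr (mem_part.mp hx1).1, hb⟩, rfl⟩
  · rintro x ⟨b, hb, rfl⟩
    obtain ⟨hb1, hb2⟩ := mem_part.mp hb
    refine ⟨mem_part.mpr ⟨mem_col.mp hb1, ?_⟩, Submodule.mem_map.mpr ⟨b, hb2, rfl⟩⟩
    exact SetLike.GradedMul.mul_mem (A := homogeneousSubmodule σ k) hfd hb2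

theorem finrank_map_mulL {f : MvPolynomial σ k} (hf0 : f ≠ 0) (W : Submodule k (MvPolynomial σ k)) :
    Module.finrank k (W.map (mulL f)) = Module.finrank k W :=
  (Submodule.equivMapOfInjective (mulL f) (mulL_injective hf0) W).finrank_eq.symm

/-- The hypersurface-section recursion (colon form). -/
theorem finrank_part_sup_span_col (J : Ideal (MvPolynomial σ k))
    (hJ : J.IsHomogeneous (homogeneousSubmodule σ k)) {f : MvPolynomial σ k} {d : ℕ}
    (hfd : f ∈ homogeneousSubmodule σ k d) (hf0 : f ≠ 0) (m : ℕ) :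
    Module.finrank k (part (J ⊔ Ideal.span {f}) (d + m)) + Module.finrank k (part (col J f) m) =
      Module.finrank k (part J (d + m)) + Module.finrank k (homogeneousSubmodule σ k m) := by
  have : Module.Finite k ((homogeneousSubmodule σ k m).map (mulL f)) :=
    Module.Finite.map _ _
  have h := Submodule.finrank_sup_add_finrank_inf_eq (part J (d + m))
    ((homogeneousSubmodule σ k m).map (mulL f))
  rw [← part_sup_span_eq J hJ hfd, part_inf_map_eq J hfd, finrank_map_mulL hf0,
    finrank_map_mulL hf0] at h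
  exact h

theorem hf_sup_span_col (J : Ideal (MvPolynomial σ k))
    (hJ : J.IsHomogeneous (homogeneousSubmodule σ k)) {f : MvPolynomial σ k} {d : ℕ}
    (hfd : f ∈ homogeneousSubmodule σ k d) (hf0 : f ≠ 0) (m : ℕ) :
    hf (J ⊔ Ideal.span {f}) (d + m) + hf (col J f) m = hf J (d + m) := by
  have h1 := finrank_part_sup_span_col J hJ hfd hf0 m
  have h2 := hf_add (J ⊔ Ideal.span {f}) (d + m)
  have h3 := hf_add J (d + m)
  have h4 := hf_add (col J f) m
  omega

theorem hf_sup_span (J : Ideal (MvPolynomial σ k))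
    (hJ : J.IsHomogeneous (homogeneousSubmodule σ k)) {f : MvPolynomial σ k} {d : ℕ}
    (hfd : f ∈ homogeneousSubmodule σ k d) (hf0 : f ≠ 0) (hreg : ∀ b, f * b ∈ J → b ∈ J) (m : ℕ) :
    hf (J ⊔ Ideal.span {f}) (d + m) + hf J m = hf J (d + m) := by
  have := hf_sup_span_col J hJ hfd hf0 m
  rwa [col_eq_self_of_reg hreg] at this

theorem part_mono {J J' : Ideal (MvPolynomial σ k)} (h : J ≤ J') (m : ℕ) : part J m ≤ part J' m :=
  fun _ hx => mem_part.mpr ⟨h (mem_part.mp hx).1, (mem_part.mp hx).2⟩

theorem hf_anti {J J' : Ideal (MvPolynomial σ k)} (h : J ≤ J') (m : ℕ) : hf J' m ≤ hf J m := by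
  unfold hf
  have := Submodule.finrank_mono (part_mono h m)
  omega

theorem hf_top (m : ℕ) : hf (⊤ : Ideal (MvPolynomial σ k)) m = 0 := by
  unfold hf part
  have : (Submodule.restrictScalars k (⊤ : Ideal (MvPolynomial σ k))) ⊓ homogeneousSubmodule σ k m =
      homogeneousSubmodule σ k m := by
    rw [Submodule.restrictScalars_top, top_inf_eq]
  rw [this, Nat.sub_self]

end Groth.Agent.Helper12.ProjHilb
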