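import Mathlib
import Groth.Agent.Lib.Helper5.HS1
import Groth.Agent.Lib.Helper12.ProjHilb1

/-!
# Existence of Hilbert polynomials for homogeneous ideals; degree drops along strict inclusions
of homogeneous primes
-/

set_option autoImplicit false
universe u
open MvPolynomial Polynomial Groth.Agent.Helper5.HS

namespace Groth.Agent.Helper12.ProjHilb

attribute [local instance] MvPolynomial.gradedAlgebra

variable {k : Type u} [Field k] {σ : Type*} [Finite σ]

omit [Finite σ] in
theorem mem_idealOfVars_of_mem {m : ℕ} (hm : 1 ≤ m) {p : MvPolynomial σ k}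
    (hp : p ∈ homogeneousSubmodule σ k m) : p ∈ idealOfVars σ k := by
  have h := (mem_pow_idealOfVars_iff (σ := σ) (R := k) 1 p).mpr ?_
  · rwa [pow_one] at h
  · intro x hx
    have h1 : p.IsHomogeneous m := hp
    have h2 := h1 (mem_support_iff.mp hx)
    rw [Finsupp.degree_eq_weight_one]
    change 1 ≤ Finsupp.weight 1 x
    rw [h2]
    exact hm

theorem hf_eq_zero_of_X_mem (J : Ideal (MvPolynomial σ k)) (hX : ∀ i, (X i : MvPolynomial σ k) ∈ J)
    (m : ℕ) (hm : 1 ≤ m) : hf J m = 0 := by
  have hle : idealOfVars σ k ≤ J := by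
    rw [idealOfVars, Ideal.span_le]
    rintro _ ⟨i, rfl⟩
    exact hX i
  have h1 : part J m = homogeneousSubmodule σ k m := by
    apply le_antisymm (part_le J m)
    intro p hp
    exact mem_part.mpr ⟨hle (mem_idealOfVars_of_mem hm hp), hp⟩
  unfold hf
  rw [h1, Nat.sub_self]

omit [Finite σ] in
theorem X_mem_homogeneousSubmodule (i : σ) :
    (X i : MvPolynomial σ k) ∈ homogeneousSubmodule σ k 1 :=
  (mem_homogeneousSubmodule _ _).mpr (isHomogeneous_X k i)

omit [Finite σ] in
theorem span_singleton_isHomogeneous {a : MvPolynomial σ k} {e : ℕ}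
    (ha : a ∈ homogeneousSubmodule σ k e) :
    (Ideal.span {a}).IsHomogeneous (homogeneousSubmodule σ k) := by
  apply Ideal.homogeneous_span
  rintro x hx
  rw [Set.mem_singleton_iff] at hx
  subst hx
  exact ⟨e, ha⟩

omit [Finite σ] in
theorem sup_span_isHomogeneous {J : Ideal (MvPolynomial σ k)}
    (hJ : J.IsHomogeneous (homogeneousSubmodule σ k)) {a : MvPolynomial σ k} {e : ℕ}
    (ha : a ∈ homogeneousSubmodule σ k e) :
    (J ⊔ Ideal.span {a}).IsHomogeneous (homogeneousSubmodule σ k) :=
  hJ.sup (span_singleton_isHomogeneous ha)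

/-- **Existence of the Hilbert polynomial** of a homogeneous ideal. -/
theorem exists_isEP (J : Ideal (MvPolynomial σ k))
    (hJ : J.IsHomogeneous (homogeneousSubmodule σ k)) : ∃ P : ℚ[X], IsEP (hf J) P := by
  have : IsNoetherianRing (MvPolynomial σ k) := inferInstance
  revert hJ
  induction J using WellFoundedGT.induction with
  | ind J ih =>
  intro hJ
  by_cases hX : ∀ i, (X i : MvPolynomial σ k) ∈ J
  · refine ⟨0, 1, fun n hn => ?_⟩
    rw [hf_eq_zero_of_X_mem J hX n hn]
    simp
  · push Not at hX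
    obtain ⟨i, hi⟩ := hX
    have hx1 := X_mem_homogeneousSubmodule (k := k) i
    have hx0 : (X i : MvPolynomial σ k) ≠ 0 := X_ne_zero i
    have hJ₂ : J < J ⊔ Ideal.span {(X i : MvPolynomial σ k)} := by
      refine lt_of_le_of_ne le_sup_left fun h => hi ?_
      rw [h]
      exact Ideal.mem_sup_right (Ideal.mem_span_singleton_self _)
    obtain ⟨P₂, N₂, hP₂⟩ := ih _ hJ₂ (sup_span_isHomogeneous hJ hx1)
    have hrec := hf_sup_span_col J hJ hx1 hx0
    by_cases hc : col J (X i) = J
    · rw [hc] at hrec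
      obtain ⟨G, -, hG⟩ := exists_poly_of_diff (fun n => (hf J n : ℚ)) (sh 1 P₂)
        ((sh 1 P₂).natDegree + 1) N₂ (by
          refine lt_of_le_of_lt degree_le_natDegree ?_
          exact_mod_cast Nat.lt_succ_self _) (fun n hn => by
          have h1 := hrec n
          have h2 := hP₂ (1 + n) (by omega)
          rw [eval_sh, show n + 1 = 1 + n by ring, ← h2, ← h1]
          push_cast
          ring)
      exact ⟨G, N₂, fun n hn => hG n hn⟩
    · have hJ₁ : J < col J (X i) := lt_of_le_of_ne (le_col J _) (Ne.symm hc)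
      obtain ⟨P₁, N₁, hP₁⟩ := ih _ hJ₁ (col_isHomogeneous J hJ hx1)
      refine ⟨P₂ + P₁.comp (Polynomial.X - Polynomial.C 1), max N₁ N₂ + 1, fun n hn => ?_⟩
      obtain ⟨m, rfl⟩ : ∃ m, n = 1 + m := ⟨n - 1, by omega⟩
      rw [← hrec m, Polynomial.eval_add, Polynomial.eval_comp, Polynomial.eval_sub, Polynomial.eval_X,
        Polynomial.eval_C]
      have h1 := hP₁ m (by omega)
      have h2 := hP₂ (1 + m) (by omega)
      rw [← h2]
      have : ((1 + m : ℕ) : ℚ) - 1 = (m : ℚ) := by push_cast; ring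
      rw [this, ← h1]
      push_cast
      ring

omit [Finite σ] in
/-- Minimal primes over a homogeneous ideal are homogeneous. -/
theorem isHomogeneous_of_mem_minimalPrimes {J q : Ideal (MvPolynomial σ k)}
    (hJ : J.IsHomogeneous (homogeneousSubmodule σ k)) (hq : q ∈ J.minimalPrimes) :
    q.IsHomogeneous (homogeneousSubmodule σ k) := by
  have hqp : q.IsPrime := hq.1.1
  have h1 : (q.homogeneousCore (homogeneousSubmodule σ k)).toIdeal.IsPrime :=
    hqp.homogeneousCore
  have h2 : J ≤ (q.homogeneousCore (homogeneousSubmodule σ k)).toIdeal :=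
    hJ.toIdeal_homogeneousCore_eq_self.symm.trans_le
      (Ideal.homogeneousCore_mono (homogeneousSubmodule σ k) hq.1.2)
  have h3 := hq.2 ⟨h1, h2⟩ (Ideal.toIdeal_homogeneousCore_le _ q)
  have h4 : (q.homogeneousCore (homogeneousSubmodule σ k)).toIdeal = q :=
    le_antisymm (Ideal.toIdeal_homogeneousCore_le _ q) h3
  rw [← h4]
  exact HomogeneousIdeal.isHomogeneous _

omit [Finite σ] in
/-- An element of `p ∖ q` has a homogeneous component in `p ∖ q`. -/
theorem exists_homogeneous_mem_notMem {q p : Ideal (MvPolynomial σ k)}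
    (hq : q.IsHomogeneous (homogeneousSubmodule σ k))
    (hp : p.IsHomogeneous (homogeneousSubmodule σ k)) (h : ¬ p ≤ q) :
    ∃ (e : ℕ) (a : MvPolynomial σ k), a ∈ homogeneousSubmodule σ k e ∧ a ∈ p ∧ a ∉ q := by
  obtain ⟨a, hap, haq⟩ := Set.not_subset.mp h
  have h1 : ¬ ∀ n, homogeneousComponent n a ∈ q := fun hall =>
    haq ((mem_iff_homogeneousComponent_mem hq a).mpr hall)
  push Not at h1
  obtain ⟨e, he⟩ := h1
  exact ⟨e, homogeneousComponent e a, homogeneousComponent_mem e a,
    homogeneousComponent_mem_of_mem hp hap e, he⟩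

/-- The degree of the Hilbert polynomial drops strictly along `q ⊊ p`, `q` prime. -/
theorem natDegree_lt_of_lt {q p : Ideal (MvPolynomial σ k)}
    (hq : q.IsHomogeneous (homogeneousSubmodule σ k))
    (hp : p.IsHomogeneous (homogeneousSubmodule σ k)) [hqp : q.IsPrime] (hlt : q < p)
    {Pq Pp : ℚ[X]} (hPq : IsEP (hf q) Pq) (hPp : IsEP (hf p) Pp) (hPp0 : Pp ≠ 0) :
    Pp.natDegree < Pq.natDegree := by
  obtain ⟨e, a, hae, hap, haq⟩ := exists_homogeneous_mem_notMem hq hp (not_le_of_gt hlt)
  have ha0 : a ≠ 0 := fun h0 => haq (h0 ▸ q.zero_mem)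
  have hreg : ∀ b, a * b ∈ q → b ∈ q := fun b hb => (hqp.mem_or_mem hb).resolve_left haq
  have hrec := hf_sup_span q hq hae ha0 hreg
  have hle : q ⊔ Ideal.span {a} ≤ p :=
    sup_le hlt.le ((Ideal.span_singleton_le_iff_mem _).mpr hap)
  have key := IsEP.natDegree_succ_le hPp hPq e 0 (fun n _ => by
    have h1 := hrec n
    have h2 := hf_anti hle (e + n)
    rw [show n + e = e + n by ring]
    omega)
  by_cases hd : Pq.natDegree = 0
  · exfalso
    obtain ⟨N', hN'⟩ := key.1 hd
    apply hPp0
    have : IsEP (hf p) 0 := ⟨N', fun n hn => by rw [hN' n hn]; simp⟩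
    exact hPp.unique this
  · have := key.2 hd
    omega

end Groth.Agent.Helper12.ProjHilb
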