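import Mathlib
import Groth.Agent.Lib.Helper12.ProjHilb3
import Groth.Agent.Lib.Helper12.SamuelAssoc

/-!
# The associativity formula for degrees of homogeneous ideals (graded Noetherian induction)
-/

set_option autoImplicit false
universe u
open MvPolynomial Polynomial Groth.Agent.Helper5 Groth.Agent.Helper5.HS
  Groth.Agent.Helper12.SamuelAssoc

namespace Groth.Agent.Helper12.ProjHilb

attribute [local instance] MvPolynomial.gradedAlgebra

section General

variable {A : Type u} [CommRing A]

theorem lenAt_ne_top_of_minimal [IsNoetherianRing A] (N : Type u) [AddCommGroup N] [Module A N]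
    [Module.Finite A N] (p : PrimeSpectrum A)
    (hp : p.asIdeal ∈ (Module.annihilator A N).minimalPrimes) : lenAt p N ≠ ⊤ := by
  unfold lenAt
  rw [Module.length_ne_top_iff]
  apply isFiniteLength_of_support
  intro P hP
  set P' : PrimeSpectrum A := PrimeSpectrum.comap (algebraMap A (Localization.AtPrime p.asIdeal)) P
    with hP'
  have hP'le : P' ≤ p := by
    intro x hx
    by_contra hxp
    have hu : IsUnit (algebraMap A (Localization.AtPrime p.asIdeal) x) :=
      IsLocalization.map_units (Localization.AtPrime p.asIdeal) (⟨x, hxp⟩ : p.asIdeal.primeCompl)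
    exact P.isPrime.ne_top (Ideal.eq_top_of_isUnit_mem _ hx hu)
  have hP'supp : P' ∈ Module.support A N := by
    rw [Module.mem_support_iff_of_finite]
    intro a ha
    rw [Module.mem_support_iff_of_finite] at hP
    apply hP
    rw [Module.mem_annihilator]
    intro x
    induction x using LocalizedModule.induction_on with
    | h m s =>
      rw [algebraMap_smul, LocalizedModule.smul'_mk, Module.mem_annihilator.mp ha m,
        LocalizedModule.zero_mk]
  have hann : Module.annihilator A N ≤ P'.asIdeal := Module.mem_support_iff_of_finite.mp hP'supp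
  have hle2 : p.asIdeal ≤ P'.asIdeal := hp.2 ⟨P'.isPrime, hann⟩ hP'le
  have heq : P' = p := le_antisymm hP'le hle2
  have h1 : P.asIdeal = Ideal.map (algebraMap A (Localization.AtPrime p.asIdeal)) P'.asIdeal :=
    (IsLocalization.map_under p.asIdeal.primeCompl _ P.asIdeal).symm
  rw [h1, heq, Localization.AtPrime.map_eq_maximalIdeal]
  exact IsLocalRing.maximalIdeal.isMaximal _

theorem lenAt_quot_eq_zero_of_not_le (q : PrimeSpectrum A) (J : Ideal A) (h : ¬ J ≤ q.asIdeal) :
    lenAt q (A ⧸ J) = 0 := by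
  apply lenAt_eq_zero_of_notMem_support
  rw [Module.mem_support_iff_of_finite, Ideal.annihilator_quotient]
  exact h

theorem lenAt_quot_ne_top_of_minimal [IsNoetherianRing A] (q : PrimeSpectrum A) (J : Ideal A)
    (h : q.asIdeal ∈ J.minimalPrimes) : lenAt q (A ⧸ J) ≠ ⊤ := by
  apply lenAt_ne_top_of_minimal
  rwa [Ideal.annihilator_quotient]

/-- additivity of the localized length along `0 → A/(J:a) → A/J → A/(J+(a)) → 0` -/
theorem lenAt_quot_add (q : PrimeSpectrum A) (J : Ideal A) (a : A) :
    lenAt q (A ⧸ J) =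
      lenAt q (A ⧸ (Submodule.comap (LinearMap.mulLeft A a) J : Ideal A)) +
        lenAt q (A ⧸ (J ⊔ Ideal.span {a})) := by
  set J₁ : Ideal A := Submodule.comap (LinearMap.mulLeft A a) J with hJ₁
  let f : (A ⧸ J₁) →ₗ[A] (A ⧸ J) := Submodule.mapQ J₁ J (LinearMap.mulLeft A a) le_rfl
  let g : (A ⧸ J) →ₗ[A] (A ⧸ (J ⊔ Ideal.span {a})) := Submodule.factor le_sup_left
  refine lenAt_exact q f g ?_ (Submodule.factor_surjective _) ?_
  · rw [← LinearMap.ker_eq_bot, LinearMap.ker_eq_bot']
    intro x hx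
    obtain ⟨r, rfl⟩ := Submodule.Quotient.mk_surjective _ x
    have h1 : Submodule.Quotient.mk (p := J) (a * r) = 0 := hx
    rw [Submodule.Quotient.mk_eq_zero] at h1
    exact (Submodule.Quotient.mk_eq_zero _).mpr h1
  · intro y
    obtain ⟨r, rfl⟩ := Submodule.Quotient.mk_surjective _ y
    constructor
    · intro hy
      have h1 : r ∈ J ⊔ Ideal.span {a} := (Submodule.Quotient.mk_eq_zero _).mp hy
      obtain ⟨j, hj, z, hz, rfl⟩ := Submodule.mem_sup.mp h1
      obtain ⟨c, rfl⟩ := Ideal.mem_span_singleton'.mp hz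
      refine ⟨Submodule.Quotient.mk c, ?_⟩
      show Submodule.Quotient.mk (p := J) (a * c) = Submodule.Quotient.mk (j + c * a)
      rw [Submodule.Quotient.eq]
      have : a * c - (j + c * a) = -j := by ring
      rw [this]
      exact J.neg_mem hj
    · rintro ⟨x, hx⟩
      obtain ⟨c, rfl⟩ := Submodule.Quotient.mk_surjective _ x
      have h1 : Submodule.Quotient.mk (p := J) (a * c) = Submodule.Quotient.mk r := hx
      rw [Submodule.Quotient.eq] at h1
      show Submodule.Quotient.mk (p := J ⊔ Ideal.span {a}) r = 0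
      rw [Submodule.Quotient.mk_eq_zero]
      have : r = a * c - (a * c - r) := by ring
      rw [this]
      refine Ideal.sub_mem _ (Ideal.mem_sup_right ?_) (Ideal.mem_sup_left h1)
      exact Ideal.mul_mem_right _ _ (Ideal.mem_span_singleton_self a)

end General

variable {k : Type u} [Field k] {n : ℕ}

/-- The Hilbert polynomial of a (homogeneous) ideal. -/
noncomputable def HP (J : Ideal (MvPolynomial (Fin n) k)) : ℚ[X] := by
  classical
  exact if h : ∃ P : ℚ[X], IsEP (hf J) P then h.choose else 0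

theorem HP_spec {J : Ideal (MvPolynomial (Fin n) k)}
    (hJ : J.IsHomogeneous (homogeneousSubmodule (Fin n) k)) : IsEP (hf J) (HP J) := by
  have h := exists_isEP J hJ
  unfold HP
  rw [dif_pos h]
  exact h.choose_spec

theorem HP_eq {J : Ideal (MvPolynomial (Fin n) k)} {P : ℚ[X]} (h : IsEP (hf J) P) : HP J = P := by
  have h' : ∃ P : ℚ[X], IsEP (hf J) P := ⟨P, h⟩
  unfold HP
  rw [dif_pos h']
  exact h'.choose_spec.unique h

theorem HP_top : HP (⊤ : Ideal (MvPolynomial (Fin n) k)) = 0 :=
  HP_eq ⟨0, fun m _ => by rw [hf_top]; simp⟩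

theorem HP_natDegree_le_of_le {J J' : Ideal (MvPolynomial (Fin n) k)}
    (hJ : J.IsHomogeneous (homogeneousSubmodule (Fin n) k))
    (hJ' : J'.IsHomogeneous (homogeneousSubmodule (Fin n) k)) (h : J ≤ J') :
    (HP J').natDegree ≤ (HP J).natDegree :=
  IsEP.natDegree_le (HP_spec hJ') (HP_spec hJ) 0 0 (fun m _ => hf_anti h m)

/-- the normalized `t`-th coefficient of the Hilbert polynomial -/
noncomputable def ct (t : ℕ) (J : Ideal (MvPolynomial (Fin n) k)) : ℚ :=
  (t.factorial : ℚ) * (HP J).coeff t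

theorem coeff_comp_sub_C (P : ℚ[X]) (t : ℕ) (hP : P.natDegree ≤ t) (r : ℚ) :
    (P.comp (Polynomial.X - Polynomial.C r)).coeff t = P.coeff t := by
  have h0 : P.comp (Polynomial.X - Polynomial.C r) = taylor (-r) P := by
    rw [taylor_apply, map_neg, sub_eq_add_neg]
  rw [h0]
  rcases lt_or_eq_of_le hP with hlt | heq
  · rw [coeff_eq_zero_of_natDegree_lt hlt, coeff_eq_zero_of_natDegree_lt]
    rwa [natDegree_taylor]
  · have h1 := leadingCoeff_taylor (-r) P
    rw [leadingCoeff, leadingCoeff, natDegree_taylor, heq] at h1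
    exact h1

theorem HP_add {J : Ideal (MvPolynomial (Fin n) k)}
    (hJ : J.IsHomogeneous (homogeneousSubmodule (Fin n) k)) {a : MvPolynomial (Fin n) k} {e : ℕ}
    (ha : a ∈ homogeneousSubmodule (Fin n) k e) (ha0 : a ≠ 0) :
    HP J = HP (J ⊔ Ideal.span {a}) +
      (HP (col J a)).comp (Polynomial.X - Polynomial.C (e : ℚ)) := by
  obtain ⟨N₁, hN₁⟩ := HP_spec (col_isHomogeneous J hJ ha)
  obtain ⟨N₂, hN₂⟩ := HP_spec (sup_span_isHomogeneous hJ ha)
  apply HP_eq
  refine ⟨max N₁ N₂ + e, fun m hm => ?_⟩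
  obtain ⟨m', rfl⟩ : ∃ m', m = e + m' := ⟨m - e, by omega⟩
  rw [← hf_sup_span_col J hJ ha ha0 m', Polynomial.eval_add, Polynomial.eval_comp,
    Polynomial.eval_sub, Polynomial.eval_X, Polynomial.eval_C]
  have h1 := hN₁ m' (by omega)
  have h2 := hN₂ (e + m') (by omega)
  have : ((e + m' : ℕ) : ℚ) - (e : ℚ) = (m' : ℚ) := by push_cast; ring
  rw [this, ← h1, ← h2]
  push_cast
  ring

theorem ct_add {J : Ideal (MvPolynomial (Fin n) k)}
    (hJ : J.IsHomogeneous (homogeneousSubmodule (Fin n) k)) {a : MvPolynomial (Fin n) k} {e : ℕ}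
    (ha : a ∈ homogeneousSubmodule (Fin n) k e) (ha0 : a ≠ 0) (t : ℕ)
    (ht : (HP J).natDegree ≤ t) :
    ct t J = ct t (col J a) + ct t (J ⊔ Ideal.span {a}) := by
  have h1 : (HP (col J a)).natDegree ≤ t :=
    (HP_natDegree_le_of_le hJ (col_isHomogeneous J hJ ha) (le_col J a)).trans ht
  unfold ct
  rw [HP_add hJ ha ha0, Polynomial.coeff_add, coeff_comp_sub_C _ t h1]
  ring

/-- the index set: homogeneous primes whose Hilbert polynomial is nonzero of degree `t` -/
def Dm (t : ℕ) (q : PrimeSpectrum (MvPolynomial (Fin n) k)) : Prop :=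
  q.asIdeal.IsHomogeneous (homogeneousSubmodule (Fin n) k) ∧ HP q.asIdeal ≠ 0 ∧
    (HP q.asIdeal).natDegree = t

/-- one term of the associativity formula -/
noncomputable def term (t : ℕ) (J : Ideal (MvPolynomial (Fin n) k))
    (q : PrimeSpectrum (MvPolynomial (Fin n) k)) : ℚ :=
  ((lenAt q (MvPolynomial (Fin n) k ⧸ J)).toNat : ℚ) * ct t q.asIdeal

theorem mem_minimalPrimes_of_Dm {J : Ideal (MvPolynomial (Fin n) k)}
    (hJ : J.IsHomogeneous (homogeneousSubmodule (Fin n) k)) {t : ℕ} (ht : (HP J).natDegree ≤ t)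
    {q : PrimeSpectrum (MvPolynomial (Fin n) k)} (hq : Dm t q) (hle : J ≤ q.asIdeal) :
    q.asIdeal ∈ J.minimalPrimes := by
  obtain ⟨q', hq', hq'le⟩ := Ideal.exists_minimalPrimes_le hle
  have hq'h := isHomogeneous_of_mem_minimalPrimes hJ hq'
  have hq'p : q'.IsPrime := hq'.1.1
  rcases eq_or_lt_of_le hq'le with heq | hlt
  · rwa [← heq]
  · exfalso
    have h1 := natDegree_lt_of_lt hq'h hq.1 hlt (HP_spec hq'h) (HP_spec hq.1) hq.2.1
    have h2 := HP_natDegree_le_of_le hJ hq'h hq'.1.2
    have h3 := hq.2.2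
    omega

theorem term_eq_zero_of_not_le (t : ℕ) (J : Ideal (MvPolynomial (Fin n) k))
    (q : PrimeSpectrum (MvPolynomial (Fin n) k)) (h : ¬ J ≤ q.asIdeal) : term t J q = 0 := by
  unfold term
  rw [lenAt_quot_eq_zero_of_not_le q J h]
  simp

theorem finite_support_term {J : Ideal (MvPolynomial (Fin n) k)}
    (hJ : J.IsHomogeneous (homogeneousSubmodule (Fin n) k)) {t : ℕ} (ht : (HP J).natDegree ≤ t) :
    ({q | Dm t q} ∩ Function.support (term t J)).Finite := by
  have hfin : {q : PrimeSpectrum (MvPolynomial (Fin n) k) | q.asIdeal ∈ J.minimalPrimes}.Finite :=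
    (Ideal.finite_minimalPrimes_of_isNoetherianRing _ J).preimage
      (f := PrimeSpectrum.asIdeal) (fun p _ q _ h => PrimeSpectrum.ext h)
  refine hfin.subset ?_
  rintro q ⟨hq, hsupp⟩
  rw [Function.mem_support] at hsupp
  have hle : J ≤ q.asIdeal := by
    by_contra hnle
    exact hsupp (term_eq_zero_of_not_le t J q hnle)
  exact mem_minimalPrimes_of_Dm hJ ht hq hle

theorem term_add {J : Ideal (MvPolynomial (Fin n) k)}
    (hJ : J.IsHomogeneous (homogeneousSubmodule (Fin n) k)) {a : MvPolynomial (Fin n) k} {e : ℕ}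
    (ha : a ∈ homogeneousSubmodule (Fin n) k e) {t : ℕ} (ht : (HP J).natDegree ≤ t)
    {q : PrimeSpectrum (MvPolynomial (Fin n) k)} (hq : Dm t q) :
    term t J q = term t (col J a) q + term t (J ⊔ Ideal.span {a}) q := by
  have hJ₁ := col_isHomogeneous J hJ ha
  have hJ₂ := sup_span_isHomogeneous hJ ha
  have ht₁ : (HP (col J a)).natDegree ≤ t :=
    (HP_natDegree_le_of_le hJ hJ₁ (le_col J a)).trans ht
  have ht₂ : (HP (J ⊔ Ideal.span {a})).natDegree ≤ t :=
    (HP_natDegree_le_of_le hJ hJ₂ le_sup_left).trans ht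
  have hfin : ∀ (J' : Ideal (MvPolynomial (Fin n) k)),
      J'.IsHomogeneous (homogeneousSubmodule (Fin n) k) → (HP J').natDegree ≤ t →
      lenAt q (MvPolynomial (Fin n) k ⧸ J') ≠ ⊤ := by
    intro J' hJ' ht'
    by_cases hle : J' ≤ q.asIdeal
    · exact lenAt_quot_ne_top_of_minimal q J' (mem_minimalPrimes_of_Dm hJ' ht' hq hle)
    · rw [lenAt_quot_eq_zero_of_not_le q J' hle]
      simp
  have hadd := lenAt_quot_add q J a
  unfold term
  have h1 : lenAt q (MvPolynomial (Fin n) k ⧸ J) =
      lenAt q (MvPolynomial (Fin n) k ⧸ col J a) +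
        lenAt q (MvPolynomial (Fin n) k ⧸ (J ⊔ Ideal.span {a})) := hadd
  rw [h1, ENat.toNat_add (hfin _ hJ₁ ht₁) (hfin _ hJ₂ ht₂)]
  push_cast
  ring

/-- **Associativity formula** for homogeneous ideals, in Hilbert polynomial form. -/
theorem ct_eq_finsum (J : Ideal (MvPolynomial (Fin n) k))
    (hJ : J.IsHomogeneous (homogeneousSubmodule (Fin n) k)) (t : ℕ) (ht : (HP J).natDegree ≤ t) :
    ct t J = ∑ᶠ q ∈ {q | Dm t q}, term t J q := by
  have : IsNoetherianRing (MvPolynomial (Fin n) k) := inferInstance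
  revert hJ ht
  induction J using WellFoundedGT.induction with
  | ind J ih =>
  intro hJ ht
  by_cases htop : J = ⊤
  · subst htop
    have h1 : ct t (⊤ : Ideal (MvPolynomial (Fin n) k)) = 0 := by
      unfold ct
      rw [HP_top]
      simp
    rw [h1, finsum_mem_eq_zero_of_forall_eq_zero]
    intro q _
    exact term_eq_zero_of_not_le t ⊤ q (fun h => q.isPrime.ne_top (top_le_iff.mp h))
  by_cases hprime : J.IsPrime
  · set q₀ : PrimeSpectrum (MvPolynomial (Fin n) k) := ⟨J, hprime⟩ with hq₀
    have hother : ∀ q, Dm t q → q ≠ q₀ → term t J q = 0 := by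
      intro q hq hne
      apply term_eq_zero_of_not_le
      intro hle
      have h1 := mem_minimalPrimes_of_Dm hJ ht hq hle
      rw [Ideal.minimalPrimes_eq_subsingleton_self, Set.mem_singleton_iff] at h1
      exact hne (PrimeSpectrum.ext h1)
    by_cases hD : Dm t q₀
    · rw [finsum_mem_eq_sum_of_subset (t := {q₀}) (term t J)]
      · rw [Finset.sum_singleton]
        unfold term
        have : lenAt q₀ (MvPolynomial (Fin n) k ⧸ J) = 1 := lenAt_quotient_self q₀
        rw [this]
        simp [hq₀]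
      · rintro q ⟨hq, hsupp⟩
        rw [Function.mem_support] at hsupp
        rw [Finset.coe_singleton, Set.mem_singleton_iff]
        by_contra hne
        exact hsupp (hother q hq hne)
      · intro q hq
        rw [Finset.coe_singleton, Set.mem_singleton_iff] at hq
        rw [hq]
        exact hD
    · rw [finsum_mem_eq_zero_of_forall_eq_zero]
      · unfold ct
        by_cases h0 : HP J = 0
        · rw [h0]; simp
        · have hne : (HP J).natDegree ≠ t := fun h => hD ⟨hJ, h0, h⟩
          rw [coeff_eq_zero_of_natDegree_lt (lt_of_le_of_ne ht hne)]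
          simp
      · intro q hq
        exact hother q hq (fun h => hD (h ▸ hq))
  · -- not prime: find homogeneous zero divisors
    have hex : ∃ x y : MvPolynomial (Fin n) k,
        SetLike.IsHomogeneousElem (homogeneousSubmodule (Fin n) k) x ∧
        SetLike.IsHomogeneousElem (homogeneousSubmodule (Fin n) k) y ∧ x * y ∈ J ∧ x ∉ J ∧ y ∉ J := by
      by_contra hcon
      apply hprime
      apply hJ.isPrime_of_homogeneous_mem_or_mem htop
      intro x y hx hy hxy
      by_contra hor
      push Not at hor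
      exact hcon ⟨x, y, hx, hy, hxy, hor.1, hor.2⟩
    obtain ⟨a, b, ⟨e, ha⟩, -, hab, haJ, hbJ⟩ := hex
    have ha0 : a ≠ 0 := fun h0 => haJ (h0 ▸ J.zero_mem)
    have hJ₁ := col_isHomogeneous J hJ ha
    have hJ₂ := sup_span_isHomogeneous hJ ha
    have hlt₁ : J < col J a := by
      refine lt_of_le_of_ne (le_col J a) fun h => hbJ ?_
      rw [h]
      exact mem_col.mpr hab
    have hlt₂ : J < J ⊔ Ideal.span {a} := by
      refine lt_of_le_of_ne le_sup_left fun h => haJ ?_
      rw [h]
      exact Ideal.mem_sup_right (Ideal.mem_span_singleton_self a)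
    have ht₁ : (HP (col J a)).natDegree ≤ t :=
      (HP_natDegree_le_of_le hJ hJ₁ (le_col J a)).trans ht
    have ht₂ : (HP (J ⊔ Ideal.span {a})).natDegree ≤ t :=
      (HP_natDegree_le_of_le hJ hJ₂ le_sup_left).trans ht
    rw [ct_add hJ ha ha0 t ht, ih _ hlt₁ hJ₁ ht₁, ih _ hlt₂ hJ₂ ht₂,
      ← finsum_mem_add_distrib' (finite_support_term hJ₁ ht₁) (finite_support_term hJ₂ ht₂)]
    refine finsum_mem_congr rfl fun q hq => ?_
    exact (term_add hJ ha ht hq).symm

end Groth.Agent.Helper12.ProjHilb
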