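import Mathlib
import Groth.Agent.Lib.Helper12.ProjHilb4
import Groth.Agent.Lib.Helper12.ProjHilb2
import Groth.Agent.Lib.Helper14.DimFormula
import Groth.Agent.Lib.Helper14.SmoothDim
import Groth.Agent.S2680

/-!
# Krull dimension of `k[x]/J` for homogeneous `J` equals the degree of the Hilbert polynomial plus one
-/

set_option autoImplicit false
universe u
open MvPolynomial Polynomial Groth.Agent.Helper5 Groth.Agent.Helper5.HS
  Groth.Agent.Helper12.SamuelAssoc

namespace Groth.Agent.Helper12.ProjHilb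

attribute [local instance] MvPolynomial.gradedAlgebra

section General

variable {A : Type u} [CommRing A]

/-- The dimension of `A/J` is bounded by the dimensions of `A/q`, `q` minimal over `J`. -/
theorem ringKrullDim_quotient_le_of_minimalPrimes (J : Ideal A) (d : WithBot ℕ∞)
    (h : ∀ q ∈ J.minimalPrimes, ringKrullDim (A ⧸ q) ≤ d) : ringKrullDim (A ⧸ J) ≤ d := by
  rw [ringKrullDim_quotient]
  unfold Order.krullDim
  apply iSup_le
  intro l
  have hJle : J ≤ l.head.1.asIdeal := l.head.2
  obtain ⟨q, hq, hqle⟩ := Ideal.exists_minimalPrimes_le hJle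
  have hmem : ∀ i, (l i).1 ∈ PrimeSpectrum.zeroLocus (q : Set A) := by
    intro i
    have h1 : l.head ≤ l i := LTSeries.head_le l i
    have h2 : l.head.1.asIdeal ≤ (l i).1.asIdeal := h1
    exact (PrimeSpectrum.mem_zeroLocus _ _).mpr (hqle.trans h2)
  let l' : LTSeries (PrimeSpectrum.zeroLocus (q : Set A)) :=
    LTSeries.mk l.length (fun i => ⟨(l i).1, hmem i⟩) (fun i j hij => by
      have := l.strictMono hij
      exact this)
  have h3 : (l'.length : WithBot ℕ∞) ≤ Order.krullDim (PrimeSpectrum.zeroLocus (q : Set A)) :=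
    Order.LTSeries.length_le_krullDim l'
  rw [← ringKrullDim_quotient] at h3
  exact h3.trans (h q hq)

end General

variable {k : Type u} [Field k] {n : ℕ}

theorem isCatenary_mvPolynomial : CAlg.IsCatenary (MvPolynomial (Fin n) k) :=
  (Groth.Agent.S2680.isUniversallyCatenary_field k).2 (MvPolynomial (Fin n) k) inferInstance

/-- `dim R/p + ht p = n` for primes of `k[x₁,…,xₙ]`. -/
theorem exists_dim_height (p : Ideal (MvPolynomial (Fin n) k)) [p.IsPrime] :
    ∃ a b : ℕ, ringKrullDim (MvPolynomial (Fin n) k ⧸ p) = a ∧ p.height = b ∧ a + b = n := by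
  obtain ⟨d, -, hd, hmax⟩ := Groth.Agent.S2680.result k (MvPolynomial (Fin n) k ⧸ p)
  obtain ⟨m, hm⟩ := Ideal.exists_maximal (MvPolynomial (Fin n) k ⧸ p)
  have h1 : m.height = d := by
    have := hmax m
    rw [IsLocalization.AtPrime.ringKrullDim_eq_height m (Localization.AtPrime m)] at this
    exact_mod_cast this
  have h2 := Groth.Agent.Helper14.DimFormula.height_comap_eq_add isCatenary_mvPolynomial
    (Ideal.Quotient.mk p) Ideal.Quotient.mk_surjective m
  rw [Ideal.mk_ker] at h2
  have : (m.comap (Ideal.Quotient.mk p)).IsMaximal :=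
    Ideal.comap_isMaximal_of_surjective _ Ideal.Quotient.mk_surjective
  rw [Groth.Agent.Helper14.SmoothDim.height_eq_of_isMaximal_mvPolynomial k n, h1] at h2
  have hfin : p.height ≠ ⊤ := by
    intro htop
    rw [htop, top_add] at h2
    exact ENat.natCast_ne_top n h2
  obtain ⟨b, hb⟩ := ENat.ne_top_iff_exists.mp hfin
  refine ⟨d, b, hd, hb.symm, ?_⟩
  rw [← hb] at h2
  have : (n : ℕ∞) = ((b + d : ℕ) : ℕ∞) := by rw [h2]; push_cast; rfl
  have h3 : n = b + d := by exact_mod_cast this
  omega

/-- Cutting an affine domain `R/q` by one element drops the dimension of each component by one. -/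
theorem ringKrullDim_quotient_minimalPrime_sup_span (q : Ideal (MvPolynomial (Fin n) k))
    [hq : q.IsPrime] (y : MvPolynomial (Fin n) k) (hy : y ∉ q)
    (q' : Ideal (MvPolynomial (Fin n) k)) (hq' : q' ∈ (q ⊔ Ideal.span {y}).minimalPrimes) :
    ringKrullDim (MvPolynomial (Fin n) k ⧸ q') + 1 = ringKrullDim (MvPolynomial (Fin n) k ⧸ q) := by
  have hq'p : q'.IsPrime := hq'.1.1
  set φ := Ideal.Quotient.mk q with hφ
  have hsurj : Function.Surjective φ := Ideal.Quotient.mk_surjective
  have hcomap : (Ideal.span {φ y}).comap φ = q ⊔ Ideal.span {y} := by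
    have h1 : Ideal.span {φ y} = (Ideal.span {y}).map φ := by
      rw [Ideal.map_span, Set.image_singleton]
    rw [h1, Ideal.comap_map_of_surjective φ hsurj, ← RingHom.ker_eq_comap_bot, hφ, Ideal.mk_ker,
      sup_comm]
  rw [← hcomap, Ideal.comap_minimalPrimes_eq_of_surjective hsurj] at hq'
  obtain ⟨Q, hQ, rfl⟩ := hq'
  have hQp : Q.IsPrime := hQ.1.1
  have hQ1 : Q.height ≤ 1 :=
    Ideal.height_le_one_of_isPrincipal_of_mem_minimalPrimes (Ideal.span {φ y}) Q hQ
  have hQ0 : Q.height ≠ 0 := by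
    rw [Ne, Ideal.height_eq_zero_iff_eq_bot]
    intro hbot
    have h1 : φ y ∈ Q := hQ.1.2 (Ideal.mem_span_singleton_self _)
    rw [hbot, Ideal.mem_bot, hφ, Ideal.Quotient.eq_zero_iff_mem] at h1
    exact hy h1
  have hQh : Q.height = 1 := le_antisymm hQ1 (Order.one_le_iff_ne_zero.mpr hQ0)
  have h2 := Groth.Agent.Helper14.DimFormula.height_comap_eq_add isCatenary_mvPolynomial
    φ hsurj Q
  rw [hφ, Ideal.mk_ker, hQh] at h2
  obtain ⟨a, b, ha, hb, hab⟩ := exists_dim_height q
  obtain ⟨a', b', ha', hb', hab'⟩ := exists_dim_height (Q.comap (Ideal.Quotient.mk q))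
  rw [ha, ha']
  rw [hb, hb'] at h2
  have h3 : b' = b + 1 := by exact_mod_cast h2
  have : a' + 1 = a := by omega
  exact_mod_cast this

end Groth.Agent.Helper12.ProjHilb
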