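import Mathlib
import Groth.Agent.Lib.Helper12.ProjHilb5
import Groth.Agent.Lib.Helper12.HilbSerre1

/-!
# `dim k[x]/J = deg (Hilbert polynomial) + 1` for homogeneous ideals `J`
-/

set_option autoImplicit false
universe u
open MvPolynomial Polynomial Groth.Agent.Helper5 Groth.Agent.Helper5.HS
  Groth.Agent.Helper12.SamuelAssoc

namespace Groth.Agent.Helper12.ProjHilb

attribute [local instance] MvPolynomial.gradedAlgebra

variable {k : Type u} [Field k] {n : ℕ}

theorem idealOfVars_ne_top : idealOfVars (Fin n) k ≠ ⊤ := by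
  intro h
  have h1 : (MvPolynomial.C (1 : k) : MvPolynomial (Fin n) k) ∈ idealOfVars (Fin n) k ^ 1 := by
    rw [pow_one, h]; trivial
  rw [C_mem_pow_idealOfVars_iff] at h1
  rcases h1 with h1 | h1
  · exact one_ne_zero h1
  · exact one_ne_zero h1

/-- A proper homogeneous ideal is contained in the irrelevant ideal. -/
theorem le_idealOfVars_of_isHomogeneous {q : Ideal (MvPolynomial (Fin n) k)}
    (hq : q.IsHomogeneous (homogeneousSubmodule (Fin n) k)) (hne : q ≠ ⊤) :
    q ≤ idealOfVars (Fin n) k := by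
  intro g hg
  have h := (mem_pow_idealOfVars_iff' (σ := Fin n) (R := k) 1 g).mpr ?_
  · rwa [pow_one] at h
  · intro x hx
    have hx0 : x = 0 := by
      have : Finsupp.degree x = 0 := by omega
      exact (Finsupp.degree_eq_zero_iff x).mp this
    subst hx0
    by_contra hne0
    apply hne
    have h1 := homogeneousComponent_mem_of_mem hq hg 0
    rw [homogeneousComponent_zero] at h1
    have h2 : IsUnit (MvPolynomial.C (MvPolynomial.coeff 0 g) : MvPolynomial (Fin n) k) :=
      (IsUnit.mk0 _ hne0).map MvPolynomial.C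
    exact Ideal.eq_top_of_isUnit_mem _ h1 h2

theorem ringKrullDim_quotient_eq_zero_of_idealOfVars_le (q : Ideal (MvPolynomial (Fin n) k))
    [hq : q.IsPrime] (h : idealOfVars (Fin n) k ≤ q) :
    ringKrullDim (MvPolynomial (Fin n) k ⧸ q) = 0 := by
  have hmax : q.IsMaximal := Groth.Agent.Helper12.HilbSerre.isMaximal_of_idealOfVars_le q h
  exact ringKrullDim_eq_zero_of_isField ((Ideal.Quotient.maximal_ideal_iff_isField_quotient q).mp hmax)

/-- If the Hilbert function of a prime `q` vanishes eventually, `q` contains all variables. -/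
theorem idealOfVars_le_of_hf_eq_zero (q : Ideal (MvPolynomial (Fin n) k)) [hq : q.IsPrime]
    (N : ℕ) (h : ∀ m, N ≤ m → hf q m = 0) : idealOfVars (Fin n) k ≤ q := by
  rw [idealOfVars, Ideal.span_le]
  rintro _ ⟨i, rfl⟩
  set m := max N 1 with hm
  have h1 := h m (le_max_left _ _)
  have h2 := hf_add q m
  rw [h1, zero_add] at h2
  have h3 : part q m = homogeneousSubmodule (Fin n) k m :=
    Submodule.eq_of_le_of_finrank_eq (part_le q m) h2
  have h4 : (X i : MvPolynomial (Fin n) k) ^ m ∈ homogeneousSubmodule (Fin n) k m := by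
    have := (isHomogeneous_X k i).pow m
    rw [one_mul] at this
    exact this
  rw [← h3] at h4
  exact hq.mem_of_pow_mem m (mem_part.mp h4).1

theorem ringKrullDim_quotient_eq_zero_of_HP_eq_zero (q : Ideal (MvPolynomial (Fin n) k))
    [hq : q.IsPrime] (hqh : q.IsHomogeneous (homogeneousSubmodule (Fin n) k)) (h0 : HP q = 0) :
    ringKrullDim (MvPolynomial (Fin n) k ⧸ q) = 0 := by
  apply ringKrullDim_quotient_eq_zero_of_idealOfVars_le
  obtain ⟨N, hN⟩ := HP_spec hqh
  apply idealOfVars_le_of_hf_eq_zero q N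
  intro m hm
  have := hN m hm
  rw [h0, Polynomial.eval_zero] at this
  exact_mod_cast this

theorem exists_X_notMem {q : Ideal (MvPolynomial (Fin n) k)} (h0 : HP q ≠ 0) :
    ∃ i, (X i : MvPolynomial (Fin n) k) ∉ q := by
  by_contra hcon
  push Not at hcon
  apply h0
  exact HP_eq ⟨1, fun m hm => by rw [hf_eq_zero_of_X_mem q hcon m hm]; simp⟩

/-- The Hilbert polynomial of a hyperplane section by a variable not in the prime `q`. -/
theorem HP_sup_span_X {q : Ideal (MvPolynomial (Fin n) k)} [hq : q.IsPrime]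
    (hqh : q.IsHomogeneous (homogeneousSubmodule (Fin n) k)) {i : Fin n}
    (hi : (X i : MvPolynomial (Fin n) k) ∉ q) :
    HP (q ⊔ Ideal.span {(X i : MvPolynomial (Fin n) k)}) = HP q - taylor (-(1 : ℚ)) (HP q) := by
  have hreg : ∀ b, (X i : MvPolynomial (Fin n) k) * b ∈ q → b ∈ q :=
    fun b hb => (hq.mem_or_mem hb).resolve_left hi
  have h1 := HP_add hqh (X_mem_homogeneousSubmodule (k := k) i) (X_ne_zero i)
  rw [col_eq_self_of_reg hreg] at h1
  have h2 : (HP q).comp (Polynomial.X - Polynomial.C ((1 : ℕ) : ℚ)) = taylor (-(1 : ℚ)) (HP q) := by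
    rw [Nat.cast_one]
    exact comp_X_sub_C_eq_taylor (HP q) 1
  rw [h2] at h1
  rw [eq_sub_iff_add_eq]
  exact h1.symm

/-- `dim R/q = deg HP(q) + 1` for homogeneous primes with nonzero Hilbert polynomial. -/
theorem ringKrullDim_quotient_prime : ∀ (t : ℕ) (q : Ideal (MvPolynomial (Fin n) k)) [q.IsPrime],
    q.IsHomogeneous (homogeneousSubmodule (Fin n) k) → HP q ≠ 0 → (HP q).natDegree = t →
    ringKrullDim (MvPolynomial (Fin n) k ⧸ q) = (t : WithBot ℕ∞) + 1 := by
  intro t
  induction t with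
  | zero =>
    intro q hq hqh h0 hdeg
    obtain ⟨i, hi⟩ := exists_X_notMem h0
    have hJ' := sup_span_isHomogeneous hqh (X_mem_homogeneousSubmodule (k := k) i)
    have hHP : HP (q ⊔ Ideal.span {(X i : MvPolynomial (Fin n) k)}) = 0 := by
      rw [HP_sup_span_X hqh hi]
      obtain ⟨c, hc⟩ : ∃ c, HP q = Polynomial.C c := ⟨_, eq_C_of_natDegree_eq_zero hdeg⟩
      rw [hc, taylor_C, sub_self]
    have hne : q ⊔ Ideal.span {(X i : MvPolynomial (Fin n) k)} ≠ ⊤ := by
      intro htop
      apply idealOfVars_ne_top (k := k) (n := n)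
      rw [eq_top_iff, ← htop]
      refine sup_le (le_idealOfVars_of_isHomogeneous hqh hq.ne_top) ?_
      rw [Ideal.span_singleton_le_iff_mem]
      exact Ideal.subset_span ⟨i, rfl⟩
    obtain ⟨M, hM, hJM⟩ := Ideal.exists_le_maximal _ hne
    haveI := hM.isPrime
    obtain ⟨q', hq', -⟩ := Ideal.exists_minimalPrimes_le hJM
    haveI hq'p : q'.IsPrime := hq'.1.1
    have hq'h := isHomogeneous_of_mem_minimalPrimes hJ' hq'
    have hq'0 : HP q' = 0 := by
      obtain ⟨N, hN⟩ := HP_spec hJ'
      refine HP_eq ⟨N, fun m hm => ?_⟩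
      have h1 := hN m hm
      rw [hHP, Polynomial.eval_zero] at h1
      have h2 : hf (q ⊔ Ideal.span {(X i : MvPolynomial (Fin n) k)}) m = 0 := by exact_mod_cast h1
      have h3 := hf_anti hq'.1.2 m
      have h4 : hf q' m = 0 := by omega
      rw [h4]; simp
    have h1 := ringKrullDim_quotient_minimalPrime_sup_span q (X i) hi q' hq'
    rw [ringKrullDim_quotient_eq_zero_of_HP_eq_zero q' hq'h hq'0] at h1
    rw [← h1]
    simp
  | succ t ih =>
    intro q hq hqh h0 hdeg
    obtain ⟨i, hi⟩ := exists_X_notMem h0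
    have hJ' := sup_span_isHomogeneous hqh (X_mem_homogeneousSubmodule (k := k) i)
    have hHP := HP_sup_span_X hqh hi
    obtain ⟨hd1, hlc⟩ := natDegree_sub_taylor (HP q) t hdeg 1 one_ne_zero
    rw [← hHP] at hd1 hlc
    have hlc0 : (HP (q ⊔ Ideal.span {(X i : MvPolynomial (Fin n) k)})).leadingCoeff ≠ 0 := by
      rw [hlc]
      have h1 : (HP q).leadingCoeff ≠ 0 := leadingCoeff_ne_zero.mpr h0
      have h2 : ((t + 1 : ℕ) : ℚ) ≠ 0 := by positivity
      exact mul_ne_zero (mul_ne_zero h2 one_ne_zero) h1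
    have hct : ct t (q ⊔ Ideal.span {(X i : MvPolynomial (Fin n) k)}) ≠ 0 := by
      unfold ct
      rw [← hd1]
      exact mul_ne_zero (by positivity) hlc0
    have hsum := ct_eq_finsum _ hJ' t hd1.le
    have hex : ∃ q' : PrimeSpectrum (MvPolynomial (Fin n) k), Dm t q' ∧
        term t (q ⊔ Ideal.span {(X i : MvPolynomial (Fin n) k)}) q' ≠ 0 := by
      by_contra hcon
      push Not at hcon
      apply hct
      rw [hsum]
      exact finsum_mem_eq_zero_of_forall_eq_zero (fun q' hq' => hcon q' hq')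
    obtain ⟨q', hq'D, hq't⟩ := hex
    have hle : q ⊔ Ideal.span {(X i : MvPolynomial (Fin n) k)} ≤ q'.asIdeal := by
      by_contra hnle
      exact hq't (term_eq_zero_of_not_le t _ q' hnle)
    have hmin := mem_minimalPrimes_of_Dm hJ' hd1.le hq'D hle
    haveI := q'.isPrime
    have h1 := ringKrullDim_quotient_minimalPrime_sup_span q (X i) hi q'.asIdeal hmin
    rw [ih q'.asIdeal hq'D.1 hq'D.2.1 hq'D.2.2] at h1
    rw [← h1]
    push_cast
    rfl

/-- **Dimension of the affine cone** of a homogeneous ideal via the Hilbert polynomial. -/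
theorem ringKrullDim_quotient_eq (J : Ideal (MvPolynomial (Fin n) k))
    (hJ : J.IsHomogeneous (homogeneousSubmodule (Fin n) k)) (h0 : HP J ≠ 0) :
    ringKrullDim (MvPolynomial (Fin n) k ⧸ J) = ((HP J).natDegree : WithBot ℕ∞) + 1 := by
  set t := (HP J).natDegree with ht
  apply le_antisymm
  · apply ringKrullDim_quotient_le_of_minimalPrimes
    intro q hq
    haveI hqp : q.IsPrime := hq.1.1
    have hqh := isHomogeneous_of_mem_minimalPrimes hJ hq
    by_cases hq0 : HP q = 0
    · rw [ringKrullDim_quotient_eq_zero_of_HP_eq_zero q hqh hq0]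
      exact le_add_of_nonneg_of_le (by positivity) zero_le_one
    · rw [ringKrullDim_quotient_prime _ q hqh hq0 rfl]
      have := HP_natDegree_le_of_le hJ hqh hq.1.2
      gcongr
  · have hct : ct t J ≠ 0 := by
      unfold ct
      exact mul_ne_zero (by positivity) (leadingCoeff_ne_zero.mpr h0)
    have hsum := ct_eq_finsum J hJ t le_rfl
    have hex : ∃ q' : PrimeSpectrum (MvPolynomial (Fin n) k), Dm t q' ∧ term t J q' ≠ 0 := by
      by_contra hcon
      push Not at hcon
      apply hct
      rw [hsum]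
      exact finsum_mem_eq_zero_of_forall_eq_zero (fun q' hq' => hcon q' hq')
    obtain ⟨q', hq'D, hq't⟩ := hex
    have hle : J ≤ q'.asIdeal := by
      by_contra hnle
      exact hq't (term_eq_zero_of_not_le t _ q' hnle)
    haveI := q'.isPrime
    rw [← ringKrullDim_quotient_prime t q'.asIdeal hq'D.1 hq'D.2.1 hq'D.2.2]
    exact ringKrullDim_le_of_surjective (Ideal.Quotient.factor hle)
      (Ideal.Quotient.factor_surjective hle)

end Groth.Agent.Helper12.ProjHilb
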