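import Mathlib
import Groth.Agent.Lib.Helper12.ProjHilb6
import Groth.Agent.Lib.Lead.Depth17
import Groth.Agent.Lib.Lead.Depth16
import Groth.Agent.Lib.Lead.Depth13
import Groth.Agent.Lib.Lead.Depth3
import Groth.Agent.Lib.Lead.Fib3

/-!
# Macaulay unmixedness and homogeneous complete intersections in polynomial rings
-/

set_option autoImplicit false
universe u
open MvPolynomial Polynomial RingTheory.Sequence LocCoh Groth.Agent.Lead.Depth

namespace Groth.Agent.Helper12.ProjHilb

attribute [local instance] MvPolynomial.gradedAlgebra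

section General

variable {A : Type u} [CommRing A]

theorem smul_top_quot_ne_top {M : Type*} [AddCommGroup M] [Module A M] (I : Ideal A)
    (N : Submodule A M) (hN : N ≤ I • (⊤ : Submodule A M))
    (hI : I • (⊤ : Submodule A M) ≠ ⊤) : I • (⊤ : Submodule A (M ⧸ N)) ≠ ⊤ := by
  intro h
  have h1 := congrArg (Submodule.comap N.mkQ) h
  rw [Submodule.comap_smul_top_of_surjective I _ (Submodule.mkQ_surjective _), Submodule.ker_mkQ,
    Submodule.comap_top, sup_eq_left.mpr hN] at h1
  exact hI h1

theorem ofList_smul_top_le (I : Ideal A) (rs : List A) (hrs : ∀ r ∈ rs, r ∈ I)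
    (M : Type*) [AddCommGroup M] [Module A M] :
    Ideal.ofList rs • (⊤ : Submodule A M) ≤ I • (⊤ : Submodule A M) :=
  Submodule.smul_mono_left (Ideal.span_le.mpr fun r hr => hrs r hr)

/-- `depth_I (M / (rs) M) + |rs| = depth_I M` for a weakly regular sequence `rs` inside `I`. -/
theorem idealDepth_quot_ofList [IsNoetherianRing A] (I : Ideal A) :
    ∀ (rs : List A) (M : Type u) [AddCommGroup M] [Module A M] [Module.Finite A M],
      IsWeaklyRegular M rs → (∀ r ∈ rs, r ∈ I) → I • (⊤ : Submodule A M) ≠ ⊤ →
      idealDepth I (M ⧸ (Ideal.ofList rs • ⊤ : Submodule A M)) + (rs.length : ℕ∞) =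
        idealDepth I M := by
  intro rs
  induction rs with
  | nil =>
    intro M _ _ _ _ _ _
    have hbot : (Ideal.ofList ([] : List A) • ⊤ : Submodule A M) = ⊥ := by
      rw [Ideal.ofList_nil, Submodule.bot_smul]
    rw [idealDepth_congr I (Submodule.quotEquivOfEqBot _ hbot)]
    simp
  | cons r rs ih =>
    intro M _ _ _ hreg hmem hIM
    obtain ⟨h1, h2⟩ := (isWeaklyRegular_cons_iff M r rs).mp hreg
    have hr : r ∈ I := hmem r (List.mem_cons_self)
    have hIQ := smul_top_quotSMulTop_ne_top hr hIM
    have ih' := ih (QuotSMulTop r M) h2 (fun x hx => hmem x (List.mem_cons_of_mem _ hx)) hIQ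
    rw [idealDepth_congr I (Submodule.quotOfListConsSMulTopEquivQuotSMulTopInner M r rs),
      ← idealDepth_quotSMulTop_add_one I M hIM r hr h1, ← ih', List.length_cons]
    push_cast
    rw [add_assoc]

/-- Macaulay's unmixedness theorem: in a Cohen–Macaulay ring, the associated primes of the quotient
by a weakly regular sequence of length `r` all have height `r`. -/
theorem height_eq_length_of_mem_associatedPrimes
    [LocCoh.IsCohenMacaulayRing A] (rs : List A) (hreg : IsWeaklyRegular A rs) (p : Ideal A)
    (hp : p ∈ associatedPrimes A (A ⧸ (Ideal.ofList rs • ⊤ : Submodule A A))) :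
    (∀ r ∈ rs, r ∈ p) ∧ p.height = rs.length := by
  have hpp : p.IsPrime := hp.isPrime
  have hmem : ∀ r ∈ rs, r ∈ p := by
    intro r hr
    obtain ⟨-, z, hz⟩ := (isAssociatedPrime_iff (R := A)
      (M := A ⧸ (Ideal.ofList rs • ⊤ : Submodule A A))).mp hp
    rw [hz, Submodule.mem_colon_singleton, Submodule.mem_bot]
    obtain ⟨a, rfl⟩ := Submodule.Quotient.mk_surjective _ z
    rw [← Submodule.Quotient.mk_smul, Submodule.Quotient.mk_eq_zero]
    exact Submodule.smul_mem_smul (Ideal.subset_span hr) Submodule.mem_top
  refine ⟨hmem, ?_⟩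
  have hpA : p • (⊤ : Submodule A A) ≠ ⊤ := by
    rw [smul_eq_mul, Ideal.mul_top]
    exact hpp.ne_top
  have hpQ : p • (⊤ : Submodule A (A ⧸ (Ideal.ofList rs • ⊤ : Submodule A A))) ≠ ⊤ :=
    smul_top_quot_ne_top p _ (ofList_smul_top_le p rs hmem A) hpA
  have h1 := idealDepth_quot_ofList p rs A hreg hmem hpA
  rw [idealDepth_eq_zero_of_mem_associatedPrimes _ p hp hpQ, zero_add] at h1
  rw [(isCohenMacaulayRing_iff_idealDepth_eq_height.mp inferInstance) p hpp.ne_top] at h1
  exact h1.symm

end General

section Poly

variable {k : Type u} [Field k] {n : ℕ}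

instance isCohenMacaulayRing_mvPolynomial_field :
    LocCoh.IsCohenMacaulayRing (MvPolynomial (Fin n) k) := by
  have : LocCoh.IsCohenMacaulayRing k := Groth.Agent.Lead.Fib.isCohenMacaulayRing_of_isRegularRing k
  exact Groth.Agent.Lead.Fib.isCohenMacaulayRing_mvPolynomial (Fin n)

/-- Cutting a homogeneous prime by homogeneous elements of positive degree: the dimension drops by
at most the number of elements. -/
theorem exists_prime_dim_ge (q : Ideal (MvPolynomial (Fin n) k)) [hq : q.IsPrime]
    (hqh : q.IsHomogeneous (homogeneousSubmodule (Fin n) k))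
    (s : Finset (MvPolynomial (Fin n) k))
    (hs : ∀ g ∈ s, ∃ e : ℕ, 0 < e ∧ g ∈ homogeneousSubmodule (Fin n) k e) :
    ∃ Q : Ideal (MvPolynomial (Fin n) k), Q.IsPrime ∧
      Q.IsHomogeneous (homogeneousSubmodule (Fin n) k) ∧ q ≤ Q ∧ (∀ g ∈ s, g ∈ Q) ∧
      ringKrullDim (MvPolynomial (Fin n) k ⧸ q) ≤
        ringKrullDim (MvPolynomial (Fin n) k ⧸ Q) + (s.card : WithBot ℕ∞) := by
  classical
  induction s using Finset.induction_on with
  | empty =>
    exact ⟨q, hq, hqh, le_rfl, by simp, by simp⟩
  | insert g s hgs ih =>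
    obtain ⟨Q, hQ, hQh, hqQ, hsQ, hdim⟩ := ih (fun x hx => hs x (Finset.mem_insert_of_mem hx))
    rw [Finset.card_insert_of_notMem hgs]
    by_cases hgQ : g ∈ Q
    · refine ⟨Q, hQ, hQh, hqQ, ?_, ?_⟩
      · intro x hx
        rcases Finset.mem_insert.mp hx with rfl | hx
        · exact hgQ
        · exact hsQ x hx
      · refine hdim.trans ?_
        push_cast
        rw [← add_assoc]
        exact le_add_of_nonneg_right zero_le_one
    · obtain ⟨e, he, hge⟩ := hs g (Finset.mem_insert_self g s)
      have hIh : (Q ⊔ Ideal.span {g}).IsHomogeneous (homogeneousSubmodule (Fin n) k) :=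
        sup_span_isHomogeneous hQh hge
      have hIle : Q ⊔ Ideal.span {g} ≤ idealOfVars (Fin n) k := by
        refine sup_le (le_idealOfVars_of_isHomogeneous hQh hQ.ne_top) ?_
        rw [Ideal.span_singleton_le_iff_mem]
        exact mem_idealOfVars_of_mem he hge
      have hIne : Q ⊔ Ideal.span {g} ≠ ⊤ := ne_top_of_le_ne_top idealOfVars_ne_top hIle
      obtain ⟨Q', hQ'⟩ := Ideal.nonempty_minimalPrimes hIne
      have := hQ
      have h1 := ringKrullDim_quotient_minimalPrime_sup_span Q g hgQ Q' hQ'
      refine ⟨Q', hQ'.1.1, isHomogeneous_of_mem_minimalPrimes hIh hQ', ?_, ?_, ?_⟩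
      · exact hqQ.trans (le_sup_left.trans hQ'.1.2)
      · intro x hx
        rcases Finset.mem_insert.mp hx with rfl | hx
        · exact hQ'.1.2 (Ideal.mem_sup_right (Ideal.mem_span_singleton_self _))
        · exact hQ'.1.2 (Ideal.mem_sup_left (hsQ x hx))
      · refine hdim.trans ?_
        rw [← h1]
        push_cast
        rw [add_assoc, add_comm (1 : WithBot ℕ∞)]

/-- Homogeneous elements of positive degree cutting the dimension down by their number form a
(weakly) regular sequence in the polynomial ring. -/
theorem isWeaklyRegular_ofFn {r : ℕ} (f : Fin r → MvPolynomial (Fin n) k) (d : Fin r → ℕ)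
    (hf : ∀ i, f i ∈ homogeneousSubmodule (Fin n) k (d i)) (hd : ∀ i, 0 < d i)
    (H : ∀ Q : Ideal (MvPolynomial (Fin n) k), Q.IsPrime → Ideal.span (Set.range f) ≤ Q →
      ringKrullDim (MvPolynomial (Fin n) k ⧸ Q) + (r : WithBot ℕ∞) ≤ (n : WithBot ℕ∞)) :
    IsWeaklyRegular (MvPolynomial (Fin n) k) (List.ofFn f) := by
  classical
  have hlen : (List.ofFn f).length = r := List.length_ofFn
  have key : ∀ j, j ≤ r → IsWeaklyRegular (MvPolynomial (Fin n) k) ((List.ofFn f).take j) := by
    intro j
    induction j with
    | zero =>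
      intro _
      rw [List.take_zero]
      exact IsWeaklyRegular.nil _ _
    | succ j ih =>
      intro hj
      have hj' : j < (List.ofFn f).length := by omega
      have ihj := ih (by omega)
      rw [List.take_succ_eq_append_getElem hj', isWeaklyRegular_append_iff,
        isWeaklyRegular_singleton_iff]
      refine ⟨ihj, ?_⟩
      by_contra hnot
      have hmem : (List.ofFn f)[j] ∈ ({ x | IsSMulRegular (MvPolynomial (Fin n) k ⧸
          (Ideal.ofList ((List.ofFn f).take j) • ⊤ : Submodule (MvPolynomial (Fin n) k)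
            (MvPolynomial (Fin n) k))) x }ᶜ : Set (MvPolynomial (Fin n) k)) := hnot
      rw [← biUnion_associatedPrimes_eq_compl_regular] at hmem
      obtain ⟨p, hp, hjp⟩ := Set.mem_iUnion₂.mp hmem
      obtain ⟨hall, hht⟩ := height_eq_length_of_mem_associatedPrimes ((List.ofFn f).take j) ihj p hp
      have hpp : p.IsPrime := hp.isPrime
      rw [List.length_take, min_eq_left (by omega)] at hht
      have hqp : (p.homogeneousCore (homogeneousSubmodule (Fin n) k)).toIdeal ≤ p :=
        Ideal.toIdeal_homogeneousCore_le _ p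
      have hqprime : (p.homogeneousCore (homogeneousSubmodule (Fin n) k)).toIdeal.IsPrime :=
        hpp.homogeneousCore
      have hqh : (p.homogeneousCore (homogeneousSubmodule (Fin n) k)).toIdeal.IsHomogeneous
          (homogeneousSubmodule (Fin n) k) := (p.homogeneousCore _).isHomogeneous
      have hfq : ∀ i : Fin r, i.val ≤ j →
          f i ∈ (p.homogeneousCore (homogeneousSubmodule (Fin n) k)).toIdeal := by
        intro i hi
        apply Ideal.mem_homogeneousCore_of_homogeneous_of_mem ⟨d i, hf i⟩
        rcases lt_or_eq_of_le hi with h | h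
        · apply hall
          rw [List.mem_take_iff_getElem]
          refine ⟨i.val, ?_, ?_⟩
          · rw [hlen]
            exact lt_min h i.isLt
          · simp
        · have h2 : (List.ofFn f)[j] = f i := by
            simp only [List.getElem_ofFn]
            congr 1
            exact Fin.ext h.symm
          rw [← h2]
          exact hjp
      obtain ⟨Q, hQ, hQh, hqQ, hsQ, hdim⟩ := exists_prime_dim_ge _ hqh
        (Finset.image f (Finset.Ioi (⟨j, by omega⟩ : Fin r))) (by
          intro g hg
          obtain ⟨i, -, rfl⟩ := Finset.mem_image.mp hg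
          exact ⟨d i, hd i, hf i⟩)
      have hJQ : Ideal.span (Set.range f) ≤ Q := by
        rw [Ideal.span_le]
        rintro _ ⟨i, rfl⟩
        by_cases hi : i.val ≤ j
        · exact hqQ (hfq i hi)
        · exact hsQ _ (Finset.mem_image_of_mem f (Finset.mem_Ioi.mpr (by
            rw [Fin.lt_def]
            simp only
            omega)))
      have hH := H Q hQ hJQ
      obtain ⟨a, b, ha, hb, hab⟩ :=
        exists_dim_height (p.homogeneousCore (homogeneousSubmodule (Fin n) k)).toIdeal
      have := hQ
      obtain ⟨a', b', ha', hb', hab'⟩ := exists_dim_height Q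
      have hcard : (Finset.image f (Finset.Ioi (⟨j, by omega⟩ : Fin r))).card ≤ r - 1 - j := by
        refine Finset.card_image_le.trans ?_
        rw [Fin.card_Ioi]
      have hbj : b ≤ j := by
        have := Ideal.height_mono hqp
        rw [hb, hht] at this
        exact_mod_cast this
      rw [ha, ha'] at hdim
      rw [ha'] at hH
      have h1 : a ≤ a' + (Finset.image f (Finset.Ioi (⟨j, by omega⟩ : Fin r))).card := by
        exact_mod_cast hdim
      have h2 : a' + r ≤ n := by exact_mod_cast hH
      omega
  have := key r le_rfl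
  rwa [List.take_of_length_le (le_of_eq hlen)] at this

end Poly

end Groth.Agent.Helper12.ProjHilb
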