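import Mathlib
import Groth.Agent.Lib.Helper12.ProjHilb7
import Groth.Agent.Lib.Lead.Depth20
import Groth.Agent.Lib.Lead.Depth13
import Groth.Agent.Lib.Helper28.GorLink
import Groth.Prelude.Def_GrSyz

/-!
# Equidimensionality of graded Cohen–Macaulay quotients of polynomial rings
-/

set_option autoImplicit false
universe u
open MvPolynomial IsLocalRing

namespace Groth.Agent.Helper12.ProjHilb

attribute [local instance] MvPolynomial.gradedAlgebra

section General

variable {B : Type u} [CommRing B] [IsNoetherianRing B]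

/-- In a locally Cohen–Macaulay ring, `ht(s/p) = ht s` for a minimal prime `p` below a prime `s`. -/
theorem height_map_quotient_minimalPrime
    (hCM : ∀ (p : Ideal B) [p.IsPrime], LocCoh.IsCohenMacaulayLocalRing (Localization.AtPrime p))
    (s p : Ideal B) [hs : s.IsPrime] (hp : p ∈ minimalPrimes B) (hps : p ≤ s) :
    (s.map (Ideal.Quotient.mk p)).height = s.height := by
  have hpp : p.IsPrime := hp.1.1
  have hCMs := hCM s
  have hdisj : Disjoint (s.primeCompl : Set B) (p : Set B) := by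
    rw [Set.disjoint_left]
    intro x hx hxp
    exact hx (hps hxp)
  have h1 : p.map (algebraMap B (Localization.AtPrime s)) ∈
      minimalPrimes (Localization.AtPrime s) := by
    have := IsLocalization.minimalPrimes_map s.primeCompl (Localization.AtPrime s) (⊥ : Ideal B)
    rw [Ideal.map_bot] at this
    change _ ∈ (⊥ : Ideal (Localization.AtPrime s)).minimalPrimes
    rw [this, Set.mem_preimage,
      IsLocalization.under_map_of_isPrime_disjoint s.primeCompl _ hpp hdisj]
    exact hp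
  have h2 : p.map (algebraMap B (Localization.AtPrime s)) ∈
      associatedPrimes (Localization.AtPrime s) (Localization.AtPrime s) := by
    apply Module.associatedPrimes.minimalPrimes_annihilator_subset_associatedPrimes
    rw [Module.annihilator_eq_bot.mpr inferInstance]
    exact h1
  have h3 := Groth.Agent.Lead.Depth.ringKrullDim_quotient_eq_of_mem_associatedPrimes
    (Localization.AtPrime s) (LocCoh.IsCohenMacaulayLocalRing.supportDim_eq_depth) _ h2
  rw [Groth.Agent.Lead.Depth.ringKrullDim_localization_quotient_map p s hps,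
    Module.supportDim_self_eq_ringKrullDim,
    IsLocalization.AtPrime.ringKrullDim_eq_height s (Localization.AtPrime s)] at h3
  exact_mod_cast h3

end General

section Poly

variable {k : Type u} [Field k] {n : ℕ}

/-- Key formula: for a homogeneous ideal `𝔠` with locally CM quotient, a maximal ideal `M` containing
the irrelevant ideal and a minimal prime `Q` of `𝔠`: `ht M = ht Q + ht (M/𝔠)`. -/
theorem height_add_eq_of_mem_minimalPrimes (𝔠 : Ideal (MvPolynomial (Fin n) k))
    (hCM : ∀ (p : Ideal (MvPolynomial (Fin n) k ⧸ 𝔠)) [p.IsPrime],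
      LocCoh.IsCohenMacaulayLocalRing (Localization.AtPrime p))
    (M : Ideal (MvPolynomial (Fin n) k)) [hM : M.IsPrime]
    (Q : Ideal (MvPolynomial (Fin n) k)) (hQ : Q ∈ 𝔠.minimalPrimes) (hQM : Q ≤ M) :
    M.height = Q.height + (M.map (Ideal.Quotient.mk 𝔠)).height := by
  have hQp : Q.IsPrime := hQ.1.1
  have h𝔠Q : 𝔠 ≤ Q := hQ.1.2
  have hsurj : Function.Surjective (Ideal.Quotient.mk 𝔠) := Ideal.Quotient.mk_surjective
  have hsprime : (M.map (Ideal.Quotient.mk 𝔠)).IsPrime :=
    Ideal.map_isPrime_of_surjective hsurj (by rw [Ideal.mk_ker]; exact h𝔠Q.trans hQM)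
  have hpmin : Q.map (Ideal.Quotient.mk 𝔠) ∈ minimalPrimes (MvPolynomial (Fin n) k ⧸ 𝔠) := by
    rw [Ideal.minimalPrimes_eq_comap] at hQ
    obtain ⟨p', hp', rfl⟩ := hQ
    rw [Ideal.map_comap_of_surjective _ hsurj]
    exact hp'
  have hps : Q.map (Ideal.Quotient.mk 𝔠) ≤ M.map (Ideal.Quotient.mk 𝔠) := Ideal.map_mono hQM
  have h1 := height_map_quotient_minimalPrime hCM (M.map (Ideal.Quotient.mk 𝔠))
    (Q.map (Ideal.Quotient.mk 𝔠)) hpmin hps
  have h2 : ((M.map (Ideal.Quotient.mk 𝔠)).map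
      (Ideal.Quotient.mk (Q.map (Ideal.Quotient.mk 𝔠)))).map
        (DoubleQuot.quotQuotEquivQuotOfLE h𝔠Q) = M.map (Ideal.Quotient.mk Q) := by
    rw [Ideal.map_map]
    change Ideal.map (RingEquiv.toRingHom (DoubleQuot.quotQuotEquivQuotOfLE h𝔠Q)) _ = _
    rw [Ideal.map_map]
    congr 1
  have h3 := RingEquiv.height_map (DoubleQuot.quotQuotEquivQuotOfLE h𝔠Q)
    ((M.map (Ideal.Quotient.mk 𝔠)).map (Ideal.Quotient.mk (Q.map (Ideal.Quotient.mk 𝔠))))
  have hMQprime : (M.map (Ideal.Quotient.mk Q)).IsPrime :=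
    Ideal.map_isPrime_of_surjective Ideal.Quotient.mk_surjective (by rw [Ideal.mk_ker]; exact hQM)
  have h4 := Groth.Agent.Helper14.DimFormula.height_comap_eq_add isCatenary_mvPolynomial
    (Ideal.Quotient.mk Q) Ideal.Quotient.mk_surjective (M.map (Ideal.Quotient.mk Q))
  rw [Ideal.comap_map_of_surjective _ Ideal.Quotient.mk_surjective, ← RingHom.ker_eq_comap_bot,
    Ideal.mk_ker, sup_eq_left.mpr hQM] at h4
  rw [h4, ← h2, h3, h1]

/-- Graded equidimensionality: if `𝔠` is homogeneous and `R/𝔠` is locally Cohen–Macaulay, all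
minimal primes of `𝔠` have the same height `ht 𝔠`. -/
theorem height_eq_of_mem_minimalPrimes (𝔠 : Ideal (MvPolynomial (Fin n) k))
    (h𝔠 : 𝔠.IsHomogeneous (homogeneousSubmodule (Fin n) k))
    (hCM : ∀ (p : Ideal (MvPolynomial (Fin n) k ⧸ 𝔠)) [p.IsPrime],
      LocCoh.IsCohenMacaulayLocalRing (Localization.AtPrime p))
    (Q : Ideal (MvPolynomial (Fin n) k)) (hQ : Q ∈ 𝔠.minimalPrimes) : Q.height = 𝔠.height := by
  obtain ⟨M, hMmax, hmM⟩ := Ideal.exists_le_maximal (idealOfVars (Fin n) k) idealOfVars_ne_top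
  have hMp : M.IsPrime := hMmax.isPrime
  have hle : ∀ Q' ∈ 𝔠.minimalPrimes, Q' ≤ M := fun Q' hQ' =>
    (le_idealOfVars_of_isHomogeneous (isHomogeneous_of_mem_minimalPrimes h𝔠 hQ')
      hQ'.1.1.ne_top).trans hmM
  have key : ∀ Q' ∈ 𝔠.minimalPrimes,
      M.height = Q'.height + (M.map (Ideal.Quotient.mk 𝔠)).height := fun Q' hQ' =>
    height_add_eq_of_mem_minimalPrimes 𝔠 hCM M Q' hQ' (hle Q' hQ')
  obtain ⟨a, b, ha, hb, hab⟩ := exists_dim_height M
  have he : (M.map (Ideal.Quotient.mk 𝔠)).height ≠ ⊤ := by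
    intro htop
    have := key Q hQ
    rw [htop, hb, add_top] at this
    exact ENat.natCast_ne_top b this
  obtain ⟨e, he'⟩ := ENat.ne_top_iff_exists.mp he
  have hall : ∀ Q' ∈ 𝔠.minimalPrimes, Q'.height = Q.height := by
    intro Q' hQ'
    have h1 := key Q hQ
    have h2 := key Q' hQ'
    rw [hb, ← he'] at h1 h2
    have hQ'p : Q'.IsPrime := hQ'.1.1
    have hQp : Q.IsPrime := hQ.1.1
    obtain ⟨a1, b1, -, hb1, -⟩ := exists_dim_height Q
    obtain ⟨a2, b2, -, hb2, -⟩ := exists_dim_height Q'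
    rw [hb1] at h1
    rw [hb2] at h2
    rw [hb1, hb2]
    have h1' : b = b1 + e := by exact_mod_cast h1
    have h2' : b = b2 + e := by exact_mod_cast h2
    have : b2 = b1 := by omega
    rw [this]
  rw [Ideal.height_eq_inf_minimalPrimes (I := 𝔠)]
  apply le_antisymm
  · exact le_iInf₂ fun Q' hQ' => le_of_eq (hall Q' hQ').symm
  · exact iInf₂_le Q hQ

end Poly

section StdGr

variable {k : Type u} [Field k] {σ : Type}

theorem weight_one_int (e : σ →₀ ℕ) :
    Finsupp.weight (fun _ : σ => (1 : ℤ)) e = ((e.degree : ℕ) : ℤ) := by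
  rw [Finsupp.weight_apply, Finsupp.degree_apply]
  simp only [Finsupp.sum, nsmul_eq_mul, mul_one]
  push_cast
  rfl

theorem exists_mem_homogeneousSubmodule_of_mem_stdGr {d : ℤ} {x : MvPolynomial σ k}
    (hx : x ∈ GrSyz.stdGr k σ d) : ∃ m : ℕ, x ∈ homogeneousSubmodule σ k m := by
  by_cases h0 : x = 0
  · exact ⟨0, h0 ▸ Submodule.zero_mem _⟩
  · obtain ⟨e₀, he₀⟩ := MvPolynomial.ne_zero_iff.mp h0
    rw [GrSyz.mem_stdGr_iff] at hx
    refine ⟨e₀.degree, ?_⟩
    rw [mem_homogeneousSubmodule]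
    intro e he
    have h1 := hx he
    have h2 := hx he₀
    rw [weight_one_int] at h1 h2
    have h3 : (Finsupp.weight 1) e = e.degree := by
      rw [Finsupp.degree_eq_weight_one]
      rfl
    rw [h3]
    have : ((e.degree : ℕ) : ℤ) = ((e₀.degree : ℕ) : ℤ) := h1.trans h2.symm
    exact_mod_cast this

theorem isHomogeneous_of_stdGr (I : Ideal (MvPolynomial σ k))
    (hI : I.IsHomogeneous (GrSyz.stdGr k σ)) :
    I.IsHomogeneous (homogeneousSubmodule σ k) := by
  obtain ⟨S, rfl⟩ := (Ideal.IsHomogeneous.iff_exists (𝒜 := GrSyz.stdGr k σ) I).mp hI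
  apply Ideal.homogeneous_span
  rintro _ ⟨⟨x, d, hx⟩, -, rfl⟩
  obtain ⟨m, hm⟩ := exists_mem_homogeneousSubmodule_of_mem_stdGr hx
  exact ⟨m, hm⟩

end StdGr

end Groth.Agent.Helper12.ProjHilb
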