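import Mathlib

set_option autoImplicit false

namespace Groth.Agent.Helper12.GradedFinGen

variable {R B : Type*} [CommRing R] [CommRing B] [Algebra R B] (ℬ : ℕ → Submodule R B)
  [GradedAlgebra ℬ]

theorem mul_le (i j : ℕ) : ℬ i * ℬ j ≤ ℬ (i + j) :=
  Submodule.mul_le.mpr fun _ ha _ hb => SetLike.mul_mem_graded ha hb

theorem one_le_zero : (1 : Submodule R B) ≤ ℬ 0 :=
  Submodule.one_le.mpr SetLike.GradedOne.one_mem

theorem zero_mul_eq (n : ℕ) : ℬ 0 * ℬ n = ℬ n := by
  apply le_antisymm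
  · simpa using mul_le ℬ 0 n
  · calc ℬ n = 1 * ℬ n := (one_mul _).symm
      _ ≤ ℬ 0 * ℬ n := mul_le_mul' (one_le_zero ℬ) le_rfl

theorem pow_le (n : ℕ) : ℬ 1 ^ n ≤ ℬ n := by
  induction n with
  | zero => simpa using one_le_zero ℬ
  | succ k ih =>
    rw [pow_succ]
    exact (mul_le_mul' ih le_rfl).trans (mul_le ℬ k 1)

theorem zero_mul_pow_le (n : ℕ) (hn : 0 < n) : ℬ 0 * ℬ 1 ^ n ≤ ℬ 1 ^ n := by
  obtain ⟨k, rfl⟩ : ∃ k, n = k + 1 := ⟨n - 1, by omega⟩
  rw [pow_succ', ← mul_assoc]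
  refine mul_le_mul' ?_ le_rfl
  simpa using mul_le ℬ 0 1

/-- A homogeneous element of the ideal generated by a set `T` of homogeneous elements is a sum of
products `c * t` with `t ∈ T` and `c` homogeneous of the complementary degree. -/
theorem mem_iSup_of_mem_span (T : Set B) (d : B → ℕ) (hT : ∀ t ∈ T, t ∈ ℬ (d t)) {n : ℕ} {b : B}
    (hb : b ∈ ℬ n) (hbT : b ∈ Ideal.span T) :
    b ∈ ⨆ t ∈ T, ⨆ (_ : d t ≤ n), ℬ (n - d t) * Submodule.span R {t} := by
  classical
  obtain ⟨m, c, g, hsum⟩ := Submodule.mem_span_set'.mp hbT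
  have h1 : b = ∑ i, (DirectSum.decompose ℬ (c i • (g i : B)) n : B) := by
    conv_lhs => rw [← DirectSum.decompose_of_mem_same ℬ hb, ← hsum]
    rw [DirectSum.decompose_sum, DFinsupp.finset_sum_apply, AddSubmonoidClass.coe_finset_sum]
  rw [h1]
  refine Submodule.sum_mem _ fun i _ => ?_
  rw [smul_eq_mul]
  by_cases h : d (g i : B) ≤ n
  · rw [DirectSum.coe_decompose_mul_of_right_mem_of_le ℬ (hT _ (g i).2) h]
    refine Submodule.mem_iSup_of_mem (g i : B) (Submodule.mem_iSup_of_mem (g i).2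
      (Submodule.mem_iSup_of_mem h (Submodule.mul_mem_mul (SetLike.coe_mem _)
        (Submodule.mem_span_singleton_self _))))
  · rw [DirectSum.coe_decompose_mul_of_right_mem_of_not_le ℬ (hT _ (g i).2) h]
    exact zero_mem _

/-- If `B` is generated over `ℬ 0` by homogeneous elements `s` of positive degrees, every
homogeneous element of positive degree lies in the ideal generated by `s`. -/
theorem mem_span_of_adjoin_eq_top (s : Set B) (hs : Algebra.adjoin (ℬ 0) s = ⊤)
    (hs' : ∀ y ∈ s, ∃ n, y ∈ ℬ n) {n : ℕ} (hn : 0 < n) {b : B}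
    (hb : b ∈ ℬ n) : b ∈ Ideal.span s := by
  classical
  have key : ∀ x : B, ∃ x₀ ∈ ℬ 0, x - x₀ ∈ Ideal.span s := by
    intro x
    have hx : x ∈ Algebra.adjoin (ℬ 0) s := hs ▸ Algebra.mem_top
    induction hx using Algebra.adjoin_induction with
    | mem y hy => exact ⟨0, zero_mem _, by simpa using Ideal.subset_span hy⟩
    | algebraMap r => exact ⟨(r : B), r.2, by simp⟩
    | add x y _ _ hx hy =>
      obtain ⟨x₀, hx₀, hx⟩ := hx
      obtain ⟨y₀, hy₀, hy⟩ := hy
      refine ⟨x₀ + y₀, add_mem hx₀ hy₀, ?_⟩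
      have : x + y - (x₀ + y₀) = (x - x₀) + (y - y₀) := by ring
      rw [this]
      exact add_mem hx hy
    | mul x y _ _ hx hy =>
      obtain ⟨x₀, hx₀, hx⟩ := hx
      obtain ⟨y₀, hy₀, hy⟩ := hy
      refine ⟨x₀ * y₀, by simpa using SetLike.mul_mem_graded hx₀ hy₀, ?_⟩
      have : x * y - x₀ * y₀ = (x - x₀) * y + x₀ * (y - y₀) := by ring
      rw [this]
      exact add_mem (Ideal.mul_mem_right _ _ hx) (Ideal.mul_mem_left _ _ hy)
  obtain ⟨b₀, hb₀, hbb⟩ := key b
  have hI : (Ideal.span s).IsHomogeneous ℬ :=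
    Ideal.homogeneous_span ℬ s fun y hy => hs' y hy
  have h2 := hI n hbb
  rwa [DirectSum.decompose_sub, DFinsupp.sub_apply, AddSubgroupClass.coe_sub,
    DirectSum.decompose_of_mem_same ℬ hb, DirectSum.decompose_of_mem_ne ℬ hb₀ hn.ne,
    sub_zero] at h2

section FinGen

variable (s : Finset B) (hs : Algebra.adjoin (ℬ 0) (s : Set B) = ⊤) (d : B → ℕ)
  (hd : ∀ y ∈ s, 0 < d y) (hsd : ∀ y ∈ s, y ∈ ℬ (d y))

include hs hsd in
theorem le_iSup_of_pos {n : ℕ} (hn : 0 < n) :
    ℬ n ≤ ⨆ y ∈ (s : Set B), ⨆ (_ : d y ≤ n), ℬ (n - d y) * Submodule.span R {y} := by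
  intro b hb
  exact mem_iSup_of_mem_span ℬ (s : Set B) d hsd hb
    (mem_span_of_adjoin_eq_top ℬ (s : Set B) hs (fun y hy => ⟨_, hsd y hy⟩) hn hb)

include hs hd hsd in
/-- Elements of large degree lie in high powers of the ideal generated by `s`. -/
theorem mem_pow_span (N n : ℕ) (hNn : N * (1 + ∑ y ∈ s, d y) ≤ n) {b : B} (hb : b ∈ ℬ n) :
    b ∈ Ideal.span (s : Set B) ^ N := by
  induction N generalizing n b with
  | zero => simp
  | succ N ih =>
    have hD : ∀ y ∈ s, d y ≤ 1 + ∑ y ∈ s, d y := fun y hy =>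
      (Finset.single_le_sum (f := d) (fun _ _ => Nat.zero_le _) hy).trans (Nat.le_add_left _ _)
    have hn : 0 < n := by
      have : 1 + ∑ y ∈ s, d y ≤ (N + 1) * (1 + ∑ y ∈ s, d y) := Nat.le_mul_of_pos_left _ (by omega)
      omega
    have h1 := le_iSup_of_pos ℬ s hs d hsd hn hb
    have h2 : (⨆ y ∈ (s : Set B), ⨆ (_ : d y ≤ n), ℬ (n - d y) * Submodule.span R {y}) ≤
        (Ideal.span (s : Set B) ^ (N + 1)).restrictScalars R := by
      refine iSup_le fun y => iSup_le fun hy => iSup_le fun hyn => ?_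
      rw [Submodule.mul_le]
      intro a ha c hc
      obtain ⟨r, rfl⟩ := Submodule.mem_span_singleton.mp hc
      change a * r • y ∈ Ideal.span (s : Set B) ^ (N + 1)
      rw [pow_succ, mul_smul_comm]
      refine Submodule.smul_of_tower_mem _ r (Ideal.mul_mem_mul ?_ (Ideal.subset_span hy))
      refine ih (n - d y) ?_ ha
      have := hD y hy
      have h3 : (N + 1) * (1 + ∑ y ∈ s, d y) = N * (1 + ∑ y ∈ s, d y) + (1 + ∑ y ∈ s, d y) := by ring
      omega
    exact h2 h1

include hs hd hsd in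
/-- If every homogeneous element of positive degree is nilpotent modulo the ideal generated by `ℬ 1`, then
`ℬ n = ℬ (n - 1) * ℬ 1` for `n` large. -/
theorem exists_le_mul (hrad : ∀ n, 0 < n → ∀ b ∈ ℬ n, b ∈ (Ideal.span (ℬ 1 : Set B)).radical) :
    ∃ N, 0 < N ∧ ∀ n, N ≤ n → ℬ n ≤ ℬ (n - 1) * ℬ 1 := by
  have hJ : Ideal.span (s : Set B) ≤ (Ideal.span (ℬ 1 : Set B)).radical := by
    rw [Ideal.span_le]
    intro y hy
    exact hrad _ (hd y hy) y (hsd y hy)
  obtain ⟨N, hN⟩ := Ideal.exists_pow_le_of_le_radical_of_fg hJ ⟨s, rfl⟩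
  refine ⟨N * (1 + ∑ y ∈ s, d y) + 1, by omega, fun n hn b hb => ?_⟩
  have h1 : b ∈ Ideal.span (ℬ 1 : Set B) := hN (mem_pow_span ℬ s hs d hd hsd N n (by omega) hb)
  have h2 := mem_iSup_of_mem_span ℬ (ℬ 1 : Set B) (fun _ => 1) (fun t ht => ht) hb h1
  have h3 : (⨆ t ∈ (ℬ 1 : Set B), ⨆ (_ : 1 ≤ n), ℬ (n - 1) * Submodule.span R {t}) ≤
      ℬ (n - 1) * ℬ 1 := by
    refine iSup_le fun t => iSup_le fun ht => iSup_le fun _ => ?_
    refine mul_le_mul' le_rfl ?_
    rw [Submodule.span_le]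
    simpa using ht
  exact h3 h2

include hs hd hsd in
/-- Each graded piece is finitely generated over the degree-zero part. -/
theorem exists_finset_span (n : ℕ) :
    ∃ T : Finset B, (↑T : Set B) ⊆ ℬ n ∧ ℬ n = ℬ 0 * Submodule.span R (T : Set B) := by
  classical
  induction n using Nat.strong_induction_on with
  | _ n ih =>
    rcases Nat.eq_zero_or_pos n with rfl | hn
    · refine ⟨{1}, by simpa using (SetLike.GradedOne.one_mem : (1 : B) ∈ ℬ 0), ?_⟩
      rw [Finset.coe_singleton, ← Submodule.one_eq_span, mul_one]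
    · choose T hT1 hT2 using ih
      let T' : ℕ → Finset B := fun m => if h : m < n then T m h else ∅
      have hT'1 : ∀ m, m < n → (↑(T' m) : Set B) ⊆ ℬ m := by
        intro m hm
        simp only [T', dif_pos hm]
        exact hT1 m hm
      have hT'2 : ∀ m, m < n → ℬ m = ℬ 0 * Submodule.span R (T' m : Set B) := by
        intro m hm
        simp only [T', dif_pos hm]
        exact hT2 m hm
      let Tn : Finset B :=
        (s.filter (fun y => d y ≤ n)).biUnion (fun y => (T' (n - d y)).image (· * y))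
      have hTn : (↑Tn : Set B) ⊆ ℬ n := by
        intro x hx
        simp only [Tn, Finset.coe_biUnion, Finset.coe_filter, Set.mem_iUnion, Finset.coe_image,
          Set.mem_image, Finset.mem_coe, Set.mem_setOf_eq] at hx
        obtain ⟨y, ⟨hy, hyn⟩, t, ht, rfl⟩ := hx
        have hlt : n - d y < n := by have := hd y hy; omega
        have : t * y ∈ ℬ ((n - d y) + d y) :=
          SetLike.mul_mem_graded (hT'1 _ hlt ht) (hsd y hy)
        rwa [Nat.sub_add_cancel hyn] at this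
      refine ⟨Tn, hTn, le_antisymm ?_ ?_⟩
      · refine (le_iSup_of_pos ℬ s hs d hsd hn).trans ?_
        refine iSup_le fun y => iSup_le fun hy => iSup_le fun hyn => ?_
        have hlt : n - d y < n := by have := hd y hy; omega
        rw [hT'2 _ hlt, mul_assoc, Submodule.span_mul_span]
        refine mul_le_mul' le_rfl (Submodule.span_mono ?_)
        rintro _ ⟨t, ht, y', hy', rfl⟩
        have hy'' : y' = y := hy'
        rw [hy'']
        simp only [Tn, Finset.coe_biUnion, Finset.coe_filter, Set.mem_iUnion, Finset.coe_image,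
          Set.mem_image, Finset.mem_coe, Set.mem_setOf_eq]
        exact ⟨y, ⟨hy, hyn⟩, t, ht, rfl⟩
      · calc ℬ 0 * Submodule.span R (Tn : Set B) ≤ ℬ 0 * ℬ n :=
              mul_le_mul' le_rfl (Submodule.span_le.mpr hTn)
          _ = ℬ n := zero_mul_eq ℬ n

end FinGen

section Pigeon

omit [GradedAlgebra ℬ] in
theorem sup_pow_add_le (a b : Submodule R B) (n m : ℕ) :
    (a ⊔ b) ^ (n + m) ≤ a ^ n * (a ⊔ b) ^ m ⊔ b ^ m * (a ⊔ b) ^ n := by
  induction n generalizing m with
  | zero =>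
    rw [zero_add, pow_zero, one_mul]
    exact le_sup_left
  | succ n ihn =>
    induction m with
    | zero =>
      rw [add_zero, pow_zero, pow_zero, one_mul]
      exact le_sup_right
    | succ m ihm =>
      have e1 : (a ⊔ b) ^ (n + 1 + (m + 1)) = a * (a ⊔ b) ^ (n + (m + 1)) ⊔
          b * (a ⊔ b) ^ (n + 1 + m) := by
        have h1 : n + 1 + (m + 1) = (n + (m + 1)) + 1 := by ring
        have h2 : n + 1 + m = n + (m + 1) := by ring
        rw [h1, pow_succ', h2, Submodule.sup_mul]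
      rw [e1]
      refine sup_le ?_ ?_
      · refine (mul_le_mul' le_rfl (ihn (m + 1))).trans ?_
        rw [Submodule.mul_sup]
        refine sup_le ?_ ?_
        · refine le_sup_of_le_left ?_
          rw [← mul_assoc, ← pow_succ']
        · refine le_sup_of_le_right ?_
          rw [mul_left_comm, pow_succ' (a ⊔ b) n]
          exact mul_le_mul' le_rfl (mul_le_mul' le_sup_left le_rfl)
      · refine (mul_le_mul' le_rfl ihm).trans ?_
        rw [Submodule.mul_sup]
        refine sup_le ?_ ?_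
        · refine le_sup_of_le_left ?_
          rw [mul_left_comm, pow_succ' (a ⊔ b) m]
          exact mul_le_mul' le_rfl (mul_le_mul' le_sup_right le_rfl)
        · refine le_sup_of_le_right ?_
          rw [← mul_assoc, ← pow_succ']

omit [GradedAlgebra ℬ] in
theorem exists_pow_mul_le (P G : Submodule R B) (n₁ : ℕ) (T : Finset B)
    (hT : ∀ f ∈ T, f ∈ P)
    (hK : ∀ f ∈ T, ∃ K, Submodule.span R {f} ^ K * G ≤ P ^ (K + n₁)) :
    ∃ M, 0 < M ∧ Submodule.span R (T : Set B) ^ M * G ≤ P ^ (M + n₁) := by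
  classical
  induction T using Finset.induction_on with
  | empty =>
    refine ⟨1, one_pos, ?_⟩
    rw [Finset.coe_empty, Submodule.span_empty, pow_one, Submodule.bot_mul]
    exact bot_le
  | insert f T hfT ih =>
    obtain ⟨M, hM, hMle⟩ := ih (fun g hg => hT g (Finset.mem_insert_of_mem hg))
      (fun g hg => hK g (Finset.mem_insert_of_mem hg))
    obtain ⟨K, hKle⟩ := hK f (Finset.mem_insert_self f T)
    have hc : Submodule.span R {f} ⊔ Submodule.span R (T : Set B) ≤ P := by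
      refine sup_le ?_ ?_
      · rw [Submodule.span_le]
        simpa using hT f (Finset.mem_insert_self f T)
      · rw [Submodule.span_le]
        intro g hg
        exact hT g (Finset.mem_insert_of_mem hg)
    refine ⟨K + M, by omega, ?_⟩
    rw [Finset.coe_insert, Submodule.span_insert]
    refine (mul_le_mul' (sup_pow_add_le _ _ K M) le_rfl).trans ?_
    rw [Submodule.sup_mul]
    refine sup_le ?_ ?_
    · rw [mul_right_comm]
      refine (mul_le_mul' hKle (pow_le_pow_left' hc M)).trans ?_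
      rw [← pow_add]
      exact le_of_eq (by congr 1; ring)
    · rw [mul_right_comm]
      refine (mul_le_mul' hMle (pow_le_pow_left' hc K)).trans ?_
      rw [← pow_add]
      exact le_of_eq (by congr 1; ring)

end Pigeon

section Main

/-- Criterion for a finitely generated graded algebra to be generated by degree one in large degrees. -/
theorem eventually_eq_pow [Algebra.FiniteType (ℬ 0) B]
    (hrad : ∀ n, 0 < n → ∀ b ∈ ℬ n, b ∈ (Ideal.span (ℬ 1 : Set B)).radical)
    (hK : ∀ n, ∀ b ∈ ℬ n, ∀ f ∈ ℬ 1, ∃ K, f ^ K * b ∈ ℬ 1 ^ (K + n)) :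
    ∃ n₀, ∀ n, n₀ ≤ n → ℬ n = ℬ 1 ^ n := by
  classical
  obtain ⟨s, hs, hs'⟩ := GradedAlgebra.exists_finset_adjoin_eq_top_and_homogeneous_ne_zero ℬ
  choose! d hd using hs'
  have hdpos : ∀ y ∈ s, 0 < d y := fun y hy => Nat.pos_of_ne_zero (hd y hy).1
  have hsd : ∀ y ∈ s, y ∈ ℬ (d y) := fun y hy => (hd y hy).2
  obtain ⟨N, hNpos, hN⟩ := exists_le_mul ℬ s hs d hdpos hsd hrad
  have hstep : ∀ m, ℬ (N + m) ≤ ℬ 1 ^ m * ℬ N := by
    intro m
    induction m with
    | zero => rw [pow_zero, one_mul, add_zero]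
    | succ m ih =>
      have h1 := hN (N + (m + 1)) (by omega)
      have h2 : N + (m + 1) - 1 = N + m := by omega
      rw [h2] at h1
      refine h1.trans ((mul_le_mul' ih le_rfl).trans ?_)
      rw [pow_succ, mul_right_comm]
  obtain ⟨T1, hT1, hT1'⟩ := exists_finset_span ℬ s hs d hdpos hsd 1
  obtain ⟨TN, hTN, hTN'⟩ := exists_finset_span ℬ s hs d hdpos hsd N
  -- uniform exponents
  have hmono : ∀ f ∈ ℬ 1, ∀ b : B, ∀ K K', K ≤ K' → f ^ K * b ∈ ℬ 1 ^ (K + N) →
      f ^ K' * b ∈ ℬ 1 ^ (K' + N) := by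
    intro f hf b K K' hKK h
    obtain ⟨e, rfl⟩ := Nat.exists_eq_add_of_le hKK
    have h1 : f ^ e ∈ ℬ 1 ^ e := Submodule.pow_mem_pow _ hf e
    have h2 : f ^ (K + e) * b = f ^ e * (f ^ K * b) := by ring
    have h3 : K + e + N = e + (K + N) := by ring
    rw [h2, h3, pow_add]
    exact Submodule.mul_mem_mul h1 h
  have hunif : ∀ f ∈ T1, ∃ K, Submodule.span R {f} ^ K * Submodule.span R (TN : Set B) ≤
      ℬ 1 ^ (K + N) := by
    intro f hf
    have hf1 : f ∈ ℬ 1 := hT1 hf
    have : ∀ b ∈ TN, ∃ K, f ^ K * b ∈ ℬ 1 ^ (K + N) := fun b hb => hK N b (hTN hb) f hf1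
    choose! K hKb using this
    obtain ⟨K₀, hK₀⟩ := Finset.exists_le (TN.image K)
    refine ⟨K₀, ?_⟩
    rw [Submodule.span_pow, Set.singleton_pow, Submodule.span_mul_span, Submodule.span_le]
    rintro _ ⟨x, hx, b, hb, rfl⟩
    obtain rfl : x = f ^ K₀ := hx
    exact hmono f hf1 b (K b) K₀ (hK₀ _ (Finset.mem_image_of_mem K hb)) (hKb b hb)
  obtain ⟨M, hMpos, hM⟩ := exists_pow_mul_le (ℬ 1) (Submodule.span R (TN : Set B)) N T1
    (fun f hf => hT1 hf) hunif
  have h00 : ℬ 0 * ℬ 0 = ℬ 0 := zero_mul_eq ℬ 0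
  have hpowF : ∀ m, ℬ 1 ^ m ≤ ℬ 0 * Submodule.span R (T1 : Set B) ^ m := by
    intro m
    induction m with
    | zero =>
      rw [pow_zero, pow_zero, mul_one]
      exact one_le_zero ℬ
    | succ m ih =>
      rw [pow_succ, pow_succ]
      refine (mul_le_mul' ih (le_of_eq hT1')).trans ?_
      rw [mul_mul_mul_comm, h00]
  have hMN : ℬ 1 ^ M * ℬ N ≤ ℬ 1 ^ (M + N) := by
    calc ℬ 1 ^ M * ℬ N ≤ (ℬ 0 * Submodule.span R (T1 : Set B) ^ M) *
          (ℬ 0 * Submodule.span R (TN : Set B)) := mul_le_mul' (hpowF M) (le_of_eq hTN')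
      _ = ℬ 0 * (Submodule.span R (T1 : Set B) ^ M * Submodule.span R (TN : Set B)) := by
          rw [mul_mul_mul_comm, h00]
      _ ≤ ℬ 0 * ℬ 1 ^ (M + N) := mul_le_mul' le_rfl hM
      _ ≤ ℬ 1 ^ (M + N) := zero_mul_pow_le ℬ _ (by omega)
  refine ⟨N + M, fun n hn => le_antisymm ?_ (pow_le ℬ n)⟩
  obtain ⟨k, rfl⟩ := Nat.exists_eq_add_of_le hn
  have h1 : N + M + k = N + (k + M) := by ring
  rw [h1]
  refine (hstep (k + M)).trans ?_
  rw [pow_add, mul_assoc]
  refine (mul_le_mul' le_rfl hMN).trans ?_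
  rw [← pow_add]
  exact le_of_eq (by congr 1; ring)

end Main

end Groth.Agent.Helper12.GradedFinGen
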