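import Mathlib
import Groth.Agent.Lib.Helper16.Sch.GrpSm1
import Groth.Agent.Lib.Helper12.FieldBC
import Groth.Agent.Lib.Helper20.RE3
import Groth.Agent.Lib.Helper14.MaxPoints
import Groth.Agent.Lib.Helper14.FibreComp

/-!
# Group schemes locally of finite type over a field are Cohen–Macaulay (helper12)
-/

set_option autoImplicit false
set_option linter.style.haveILetI false
set_option linter.unusedSectionVars false
universe u v
open CategoryTheory CategoryTheory.Limits AlgebraicGeometry MonoidalCategory CartesianMonoidalCategory
  MonObj GrpObj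

noncomputable section

namespace Groth.Agent.Helper12.GrpCM

open Groth.Agent.Helper16.GrpIrr Groth.Agent.Helper14
open scoped CategoryTheory.Obj

/-- transport of a ring-isomorphism-invariant property of local rings along translations and
field base change: the generic homogeneity principle for group schemes over a field. -/
theorem homogeneity (P : ∀ (R : Type u) [CommRing R], Prop)
    (hP : ∀ (R S : Type u) [CommRing R] [CommRing S], (R ≃+* S) → P R → P S)
    (hbc : ∀ {k K : Type u} [Field k] [Field K] (φ : k →+* K) {F F' : Scheme.{u}}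
      (h : F' ⟶ F) (π' : F' ⟶ Spec (.of K)) (π : F ⟶ Spec (.of k)) [LocallyOfFiniteType π]
      (_ : IsPullback h π' π (Spec.map (CommRingCat.ofHom φ))) (z' : F'),
      P (F'.presheaf.stalk z') ↔ P (F.presheaf.stalk (h z')))
    {k : Type u} [Field k] (G : Over (Spec (CommRingCat.of k))) [GrpObj G]
    [LocallyOfFiniteType G.hom] (x : G.left) :
    P (G.left.presheaf.stalk x) ↔
      P (G.left.presheaf.stalk (η[G].left (IsLocalRing.closedPoint k))) := by
  have rational : ∀ {K : Type u} [Field K] (G : Over (Spec (CommRingCat.of K))) [GrpObj G]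
      (ψ : 𝟙_ (Over (Spec (CommRingCat.of K))) ⟶ G),
      P (G.left.presheaf.stalk (ψ.left (IsLocalRing.closedPoint K))) ↔
        P (G.left.presheaf.stalk (η[G].left (IsLocalRing.closedPoint K))) := by
    intro K _ G _ ψ
    haveI : IsIso (transIso G ψ).hom.left :=
      inferInstanceAs (IsIso ((Over.forget _).map (transIso G ψ).hom))
    have he : (transIso G ψ).hom.left (η[G].left (IsLocalRing.closedPoint K)) =
        ψ.left (IsLocalRing.closedPoint K) := by
      rw [← Scheme.Hom.comp_apply, ← Over.comp_left]
      show (η[G] ≫ trans G ψ).left _ = _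
      rw [unit_trans]
    rw [← he]
    let e := (asIso ((transIso G ψ).hom.left.stalkMap
      (η[G].left (IsLocalRing.closedPoint K)))).commRingCatIsoToRingEquiv
    exact ⟨hP _ _ e, hP _ _ e.symm⟩
  let c : Spec (CommRingCat.of (G.left.residueField x)) ⟶ Spec (CommRingCat.of k) :=
    G.left.fromSpecResidueField x ≫ G.hom
  let ψ : 𝟙_ (Over (Spec (CommRingCat.of (G.left.residueField x)))) ⟶ (Over.pullback c).obj G :=
    Over.homMk (pullback.lift (G.left.fromSpecResidueField x) (𝟙 _) (by simp [c]))
      (pullback.lift_snd _ _ _)
  have hπ : pullback.fst G.hom c (ψ.left (IsLocalRing.closedPoint (G.left.residueField x))) = x := by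
    rw [← Scheme.Hom.comp_apply]
    have : ψ.left ≫ pullback.fst G.hom c = G.left.fromSpecResidueField x := pullback.lift_fst _ _ _
    rw [this]
    exact Scheme.fromSpecResidueField_apply _ _
  have hπe : pullback.fst G.hom c
      (η[(Over.pullback c).obj G].left (IsLocalRing.closedPoint (G.left.residueField x))) =
      η[G].left (IsLocalRing.closedPoint k) := by
    rw [← Scheme.Hom.comp_apply, unit_baseChange_fst, Scheme.Hom.comp_apply]
    exact congrArg _ (Subsingleton.elim (α := PrimeSpectrum k) _ _)
  obtain ⟨φ, hφ, -⟩ := Groth.Agent.Helper12.GorBC.exists_residueField_hom G.hom x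
  have H : IsPullback (pullback.fst G.hom c) ((Over.pullback c).obj G).hom G.hom
      (Spec.map (CommRingCat.ofHom φ)) := by
    rw [hφ]
    exact .of_hasPullback _ _
  have hloc : ∀ x' : ((Over.pullback c).obj G).left,
      P (((Over.pullback c).obj G).left.presheaf.stalk x') ↔
        P (G.left.presheaf.stalk (pullback.fst G.hom c x')) := fun x' =>
    hbc φ (pullback.fst G.hom c) ((Over.pullback c).obj G).hom G.hom H x'
  have h1 := rational ((Over.pullback c).obj G) ψ
  rw [hloc, hloc, hπ, hπe] at h1
  exact h1

end Groth.Agent.Helper12.GrpCM
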