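import Mathlib
import Groth.Agent.Lib.Helper18.GrpdFib
import Groth.Agent.Lib.Helper18.GrpdImg
import Groth.Agent.Lib.Helper18.GrpdMax
import Groth.Agent.Lib.Helper16.Sch.GrpSm1
import Groth.Agent.Lib.Helper16.Sch.SmoothLocusBC2
import Groth.Agent.Lib.Helper12.FieldSm3

/-!
# Groupoid schemes over a field: homogeneity of the smooth locus of `s` (helper12)
-/

set_option autoImplicit false
set_option linter.style.haveILetI false
universe u
open CategoryTheory CategoryTheory.Limits AlgebraicGeometry
open Grpd

namespace Groth.Agent.Helper12.GrpdSm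

variable {S : Scheme.{u}} (G : Grpd.GroupoidScheme S) (k : Type u) [Field k]
  (eU : G.U ≅ Spec (CommRingCat.of k))

include eU in
theorem subsingleton_U : Subsingleton G.U := by
  haveI : Subsingleton (Spec (CommRingCat.of k)) :=
    inferInstanceAs (Subsingleton (PrimeSpectrum k))
  exact eU.hom.homeomorph.injective.subsingleton

include eU in
/-- homogeneity: if the smooth locus of `s` is nonempty then `s` is smooth. -/
theorem smooth_s_of_nonempty [LocallyOfFinitePresentation G.s]
    (h : (G.s.smoothLocus : Set G.R).Nonempty) : Smooth G.s := by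
  obtain ⟨r₀, hr₀⟩ := h
  haveI := subsingleton_U G k eU
  rw [← Scheme.Hom.smoothLocus_eq_top_iff, eq_top_iff]
  intro r _
  obtain ⟨K, _, a, b, φ, p, -, -, hφ, hp, hp'⟩ :=
    Groth.Agent.Helper18.GrpdFib.main G r₀ r (Subsingleton.elim _ _)
  haveI : Flat a := Groth.Agent.Helper18.GrpdImg.flat_of_field k eU a
  haveI : Flat b := Groth.Agent.Helper18.GrpdImg.flat_of_field k eU b
  have Ha : IsPullback (pullback.fst G.s a) (pullback.snd G.s a) G.s a := .of_hasPullback _ _
  have Hb : IsPullback (pullback.fst G.s b) (pullback.snd G.s b) G.s b := .of_hasPullback _ _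
  have ea := Groth.Agent.Helper16.SmoothLocusBC.smoothLocus_eq_preimage_of_flat Ha
  have eb := Groth.Agent.Helper16.SmoothLocusBC.smoothLocus_eq_preimage_of_flat Hb
  have h1 : p ∈ (pullback.snd G.s a).smoothLocus := by
    rw [ea]
    show pullback.fst G.s a p ∈ G.s.smoothLocus
    rw [hp]; exact hr₀
  have h2 : φ.hom p ∈ (pullback.snd G.s b).smoothLocus := by
    have h3 := Scheme.Hom.preimage_smoothLocus_eq φ.hom (pullback.snd G.s b)
    rw [Groth.Agent.Helper16.GrpSm.smoothLocus_congr (pullback.snd G.s a)
      (φ.hom ≫ pullback.snd G.s b) hφ] at h3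
    rw [← h3] at h1
    exact h1
  rw [eb] at h2
  have h4 : pullback.fst G.s b (φ.hom p) ∈ G.s.smoothLocus := h2
  rw [hp'] at h4
  exact h4

end Groth.Agent.Helper12.GrpdSm
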