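import Mathlib
import Groth.Agent.Lib.Helper12.GrpdSm
import Groth.Agent.Lib.Helper18.RedProd

set_option autoImplicit false
set_option linter.style.haveILetI false
universe u
open CategoryTheory CategoryTheory.Limits AlgebraicGeometry
open Grpd

namespace Groth.Agent.Helper12.GrpdSm2

theorem mem_smoothLocus_comp_iso {X Y Z : Scheme.{u}} (f : X ⟶ Y) (e : Y ⟶ Z) [IsIso e]
    [LocallyOfFinitePresentation f] [LocallyOfFinitePresentation (f ≫ e)] (x : X) :
    x ∈ (f ≫ e).smoothLocus ↔ x ∈ f.smoothLocus := by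
  rw [Scheme.Hom.mem_smoothLocus, Scheme.Hom.mem_smoothLocus, Scheme.Hom.stalkMap_comp]
  exact RingHom.FormallySmooth.respectsIso.cancel_left_isIso (e.stalkMap (f x)) (f.stalkMap x)

variable {S : Scheme.{u}} (G : Grpd.GroupoidScheme S) (k : Type u) [Field k] [PerfectField k]
  (eU : G.U ≅ Spec (CommRingCat.of k))

include eU in
theorem smooth_s [LocallyOfFiniteType G.s] [IsReduced G.R] : Smooth G.s := by
  haveI : LocallyOfFiniteType (G.s ≫ eU.hom) := inferInstance
  haveI h1 := Groth.Agent.Helper12.FieldSm.lfp (G.s ≫ eU.hom)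
  haveI : LocallyOfFinitePresentation G.s :=
    (MorphismProperty.cancel_right_of_respectsIso @LocallyOfFinitePresentation G.s eU.hom).mp h1
  by_cases hne : Nonempty G.R
  · obtain ⟨r⟩ := hne
    apply Groth.Agent.Helper12.GrpdSm.smooth_s_of_nonempty G k eU
    have h2 : ((G.s ≫ eU.hom).smoothLocus : Set G.R).Nonempty := by
      apply Groth.Agent.Helper12.FieldSm.smoothLocus_nonempty_of_isGeometricallyReduced_stalk
        (G.s ≫ eU.hom) r
      letI := (Groth.Agent.Helper12.FieldSm.stalkHom (G.s ≫ eU.hom) r).toAlgebra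
      apply Groth.Agent.Helper12.FieldSm.isGeometricallyReduced_of_isReduced_tensor_perfect k k
      haveI : IsReduced (G.R.presheaf.stalk r) := inferInstance
      exact isReduced_of_injective (Algebra.TensorProduct.lid k _) (AlgEquiv.injective _)
    obtain ⟨x, hx⟩ := h2
    exact ⟨x, (mem_smoothLocus_comp_iso G.s eU.hom x).mp hx⟩
  · haveI : IsEmpty G.R := not_nonempty_iff.mp hne
    infer_instance

end Groth.Agent.Helper12.GrpdSm2
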