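import Mathlib

/-!
# Homology of `A → B → D` is finite projective when both cokernels are projective
-/

namespace Groth.Agent.Helper12.HomologyProj

universe u

variable {R : Type*} [CommRing R] {A B D : Type*} [AddCommGroup A] [Module R A]
  [AddCommGroup B] [Module R B] [AddCommGroup D] [Module R D]

theorem homology_finite_projective (f : A →ₗ[R] B) (g : B →ₗ[R] D)
    (f' : A →ₗ[R] LinearMap.ker g) (hf' : ∀ a, (f' a : B) = f a)
    [Module.Finite R B] [Module.Projective R D]
    (h1 : Module.Projective R (B ⧸ LinearMap.range f))
    (h2 : Module.Projective R (D ⧸ LinearMap.range g)) :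
    Module.Finite R (LinearMap.ker g ⧸ LinearMap.range f') ∧
      Module.Projective R (LinearMap.ker g ⧸ LinearMap.range f') := by
  -- `range g` is projective
  have hrg : Module.Projective R (LinearMap.range g) := by
    have := (Function.Exact.split_tfae (LinearMap.exact_subtype_mkQ (LinearMap.range g))
      Subtype.val_injective (Submodule.mkQ_surjective _)).out 0 1
    obtain ⟨l', hl'⟩ := this.mp
      (Module.projective_lifting_property _ _ (Submodule.mkQ_surjective _))
    exact Module.Projective.of_split _ _ hl'
  obtain ⟨σ, hσ⟩ := Module.projective_lifting_property g.rangeRestrict LinearMap.id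
    g.surjective_rangeRestrict
  have hσ' : ∀ y : LinearMap.range g, g (σ y) = y := by
    intro y
    have := congrArg Subtype.val (LinearMap.congr_fun hσ y)
    simpa using this
  let π' : B →ₗ[R] LinearMap.ker g :=
    (LinearMap.id - σ ∘ₗ g.rangeRestrict).codRestrict (LinearMap.ker g) (by
      intro b
      rw [LinearMap.mem_ker, LinearMap.sub_apply, map_sub, LinearMap.comp_apply, hσ']
      simp)
  have hπ' : ∀ b : LinearMap.ker g, π' b = b := by
    intro b
    apply Subtype.ext
    have hb : g.rangeRestrict (b : B) = 0 := by
      apply Subtype.ext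
      simpa using b.2
    simp [π', hb]
  let s : (B ⧸ LinearMap.range f) →ₗ[R] (LinearMap.ker g ⧸ LinearMap.range f') :=
    (LinearMap.range f).liftQ ((LinearMap.range f').mkQ ∘ₗ π') (by
      rintro _ ⟨a, rfl⟩
      rw [LinearMap.mem_ker, LinearMap.comp_apply, Submodule.mkQ_apply,
        Submodule.Quotient.mk_eq_zero]
      refine ⟨a, ?_⟩
      have : f a = (f' a : B) := (hf' a).symm
      rw [this, hπ'])
  let ι : (LinearMap.ker g ⧸ LinearMap.range f') →ₗ[R] (B ⧸ LinearMap.range f) :=
    (LinearMap.range f').liftQ ((LinearMap.range f).mkQ ∘ₗ (LinearMap.ker g).subtype) (by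
      rintro _ ⟨a, rfl⟩
      rw [LinearMap.mem_ker, LinearMap.comp_apply, Submodule.mkQ_apply,
        Submodule.Quotient.mk_eq_zero, Submodule.subtype_apply, hf']
      exact ⟨a, rfl⟩)
  have hsι : s ∘ₗ ι = LinearMap.id := by
    apply Submodule.linearMap_qext
    ext b : 1
    simp only [LinearMap.comp_apply, Submodule.mkQ_apply, LinearMap.id_apply, s, ι,
      Submodule.liftQ_apply, Submodule.subtype_apply]
    rw [hπ']
  refine ⟨?_, Module.Projective.of_split ι s hsι⟩
  exact Module.Finite.of_surjective s
    (Function.HasRightInverse.surjective ⟨ι, LinearMap.congr_fun hsι⟩)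

end Groth.Agent.Helper12.HomologyProj
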