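import Mathlib

set_option autoImplicit false
universe u
open CategoryTheory CategoryTheory.Limits AlgebraicGeometry TensorProduct

namespace Groth.Agent.Helper12.IndSplit

theorem key (k A R : Type u) [Field k] [CommRing A] [Algebra k A] [CommRing R] [Algebra k R]
    (hA : ∀ s : Finset A, ∃ (B : Subalgebra k A) (n : ℕ), (↑s : Set A) ⊆ (B : Set A) ∧
      Nonempty (B ≃ₐ[k] (Fin n → k)))
    (t : A ⊗[k] R) (q : Ideal (A ⊗[k] R)) (hq : q.IsPrime) (ht : t ∉ q) :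
    ∃ (a : A) (r : R), a ⊗ₜ[k] (1:R) ∉ q ∧ (1:A) ⊗ₜ[k] r ∉ q ∧
      ∀ q' : Ideal (A ⊗[k] R), q'.IsPrime → a ⊗ₜ[k] (1:R) ∉ q' → (1:A) ⊗ₜ[k] r ∉ q' →
        t ∉ q' := by
  classical
  obtain ⟨S, rfl⟩ := TensorProduct.exists_finset t
  obtain ⟨B, n, hsB, ⟨σ⟩⟩ := hA (S.image Prod.fst)
  let e : Fin n → A := fun j => ((σ.symm (Pi.single j 1) : B) : A)
  have he : ∀ j l, j ≠ l → e j * e l = 0 := by
    intro j l hjl
    show ((σ.symm (Pi.single j 1) : B) : A) * ((σ.symm (Pi.single l 1) : B) : A) = 0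
    rw [← Subalgebra.coe_mul, ← map_mul]
    have : (Pi.single j (1:k) : Fin n → k) * Pi.single l 1 = 0 := by
      ext i
      simp only [Pi.mul_apply, Pi.single_apply, Pi.zero_apply]
      split_ifs with h1 h2
      · exact absurd (h1.symm.trans h2) hjl
      all_goals simp
    rw [this, map_zero, Subalgebra.coe_zero]
  have hdec : ∀ b : B, (b : A) = ∑ j, σ b j • e j := by
    intro b
    have h1 : σ b = ∑ j, σ b j • (Pi.single j 1 : Fin n → k) := by
      conv_lhs => rw [← Finset.univ_sum_single (σ b)]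
      refine Finset.sum_congr rfl fun j _ => ?_
      ext i
      simp [Pi.single_apply]
    have h2 : b = ∑ j, σ b j • σ.symm (Pi.single j 1) := by
      conv_lhs => rw [← σ.symm_apply_apply b, h1]
      simp only [map_sum, map_smul]
    conv_lhs => rw [h2]
    simp [e]
  let c : A → Fin n → k := fun a => if h : a ∈ B then σ ⟨a, h⟩ else 0
  let ρ : Fin n → R := fun j => ∑ x ∈ S, c x.1 j • x.2
  have hsum : ∑ x ∈ S, x.1 ⊗ₜ[k] x.2 = ∑ j, e j ⊗ₜ[k] ρ j := by
    simp only [ρ, TensorProduct.tmul_sum]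
    rw [Finset.sum_comm]
    refine Finset.sum_congr rfl fun x hx => ?_
    have hxB : x.1 ∈ B := hsB (by simpa using Finset.mem_image_of_mem Prod.fst hx)
    have h3 := hdec ⟨x.1, hxB⟩
    have hc : c x.1 = σ ⟨x.1, hxB⟩ := by simp [c, hxB]
    conv_lhs => rw [show x.1 = ((⟨x.1, hxB⟩ : B) : A) from rfl, h3]
    rw [TensorProduct.sum_tmul]
    refine Finset.sum_congr rfl fun j _ => ?_
    rw [hc, TensorProduct.smul_tmul]
  rw [hsum] at ht ⊢
  have hj : ∃ j, e j ⊗ₜ[k] ρ j ∉ q := by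
    by_contra hcon
    push Not at hcon
    exact ht (Ideal.sum_mem _ fun j _ => hcon j)
  obtain ⟨j₀, hj₀⟩ := hj
  have hmul : ∀ (a : A) (r : R), a ⊗ₜ[k] r = (a ⊗ₜ[k] (1:R)) * ((1:A) ⊗ₜ[k] r) := by
    intro a r; simp
  refine ⟨e j₀, ρ j₀, ?_, ?_, ?_⟩
  · intro h; apply hj₀; rw [hmul]; exact Ideal.mul_mem_right _ _ h
  · intro h; apply hj₀; rw [hmul]; exact Ideal.mul_mem_left _ _ h
  · intro q' hq' h1 h2 hmem
    have hl : ∀ l, l ≠ j₀ → e l ⊗ₜ[k] ρ l ∈ q' := by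
      intro l hl
      have h0 : (e l ⊗ₜ[k] (1:R)) * (e j₀ ⊗ₜ[k] (1:R)) ∈ q' := by
        rw [Algebra.TensorProduct.tmul_mul_tmul, he l j₀ hl, TensorProduct.zero_tmul]
        exact zero_mem _
      have h5 := (hq'.mem_or_mem h0).resolve_right h1
      rw [hmul]; exact Ideal.mul_mem_right _ _ h5
    have h6 : e j₀ ⊗ₜ[k] ρ j₀ ∈ q' := by
      rw [← Finset.add_sum_erase Finset.univ _ (Finset.mem_univ j₀)] at hmem
      have h7 : ∑ l ∈ Finset.univ.erase j₀, e l ⊗ₜ[k] ρ l ∈ q' :=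
        Ideal.sum_mem _ fun l hl' => hl l (Finset.ne_of_mem_erase hl')
      exact (Ideal.add_mem_iff_left _ h7).mp hmem
    rw [hmul] at h6
    rcases hq'.mem_or_mem h6 with h | h
    · exact h1 h
    · exact h2 h

end Groth.Agent.Helper12.IndSplit
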