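import Mathlib
import Groth.Agent.Lib.Helper12.IndSplit

set_option autoImplicit false
set_option linter.style.haveILetI false
universe u
open CategoryTheory CategoryTheory.Limits AlgebraicGeometry TensorProduct Topology

namespace Groth.Agent.Helper12.IndSplit2

variable (k : Type u) [Field k] (A : Type u) [CommRing A] [Algebra k A]
    (hA : ∀ s : Finset A, ∃ (B : Subalgebra k A) (n : ℕ), (↑s : Set A) ⊆ (B : Set A) ∧
      Nonempty (B ≃ₐ[k] (Fin n → k)))
    (X : Scheme.{u}) (f : X ⟶ Spec (CommRingCat.of k))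

include hA in
theorem nhd (p : ↑(pullback (Spec.map (CommRingCat.ofHom (algebraMap k A))) f))
    (W : Set ↑(pullback (Spec.map (CommRingCat.ofHom (algebraMap k A))) f)) (hW : IsOpen W)
    (hp : p ∈ W) :
    ∃ (V₁ : Set ↑(Spec (CommRingCat.of A))) (V₂ : Set X), IsOpen V₁ ∧ IsOpen V₂ ∧
      pullback.fst (Spec.map (CommRingCat.ofHom (algebraMap k A))) f p ∈ V₁ ∧
      pullback.snd (Spec.map (CommRingCat.ofHom (algebraMap k A))) f p ∈ V₂ ∧
      (pullback.fst (Spec.map (CommRingCat.ofHom (algebraMap k A))) f) ⁻¹' V₁ ∩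
        (pullback.snd (Spec.map (CommRingCat.ofHom (algebraMap k A))) f) ⁻¹' V₂ ⊆ W := by
  obtain ⟨_, ⟨U, hU, rfl⟩, hxU, -⟩ :=
    X.isBasis_affineOpens.exists_subset_of_mem_open
      (Set.mem_univ (pullback.snd (Spec.map (CommRingCat.ofHom (algebraMap k A))) f p))
      isOpen_univ
  have hU' : IsAffineOpen U := hU
  let ψ : CommRingCat.of k ⟶ Γ(X, U) := Spec.preimage (hU'.fromSpec ≫ f)
  have hψ : Spec.map ψ = hU'.fromSpec ≫ f := Spec.map_preimage _
  letI : Algebra k Γ(X, U) := ψ.hom.toAlgebra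
  have hψ' : Spec.map (CommRingCat.ofHom (algebraMap k Γ(X, U))) = hU'.fromSpec ≫ f := hψ
  let j : Spec (CommRingCat.of (A ⊗[k] Γ(X, U))) ⟶
      pullback (Spec.map (CommRingCat.ofHom (algebraMap k A))) f :=
    (pullbackSpecIso k A Γ(X, U)).inv ≫
      pullback.map (Spec.map (CommRingCat.ofHom (algebraMap k A)))
        (Spec.map (CommRingCat.ofHom (algebraMap k Γ(X, U))))
        (Spec.map (CommRingCat.ofHom (algebraMap k A))) f (𝟙 _) hU'.fromSpec (𝟙 _)
        (by simp) (by rw [Category.comp_id, hψ'])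
  have hj1 : j ≫ pullback.fst _ _ =
      Spec.map (CommRingCat.ofHom Algebra.TensorProduct.includeLeftRingHom) := by
    simp only [j, Category.assoc, pullback.map]
    rw [pullback.lift_fst, Category.comp_id, pullbackSpecIso_inv_fst]
  have hj2 : j ≫ pullback.snd _ _ =
      Spec.map (CommRingCat.ofHom (R := Γ(X, U)) (S := A ⊗[k] Γ(X, U))
        (RingHomClass.toRingHom Algebra.TensorProduct.includeRight)) ≫ hU'.fromSpec := by
    simp only [j, Category.assoc, pullback.map]
    rw [pullback.lift_snd, ← Category.assoc, pullbackSpecIso_inv_snd]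
  have hrange : Set.range j = (pullback.snd (Spec.map (CommRingCat.ofHom (algebraMap k A))) f) ⁻¹'
      (U : Set X) := by
    have hs : Function.Surjective ⇑(pullbackSpecIso k A Γ(X, U)).inv :=
      (pullbackSpecIso k A Γ(X, U)).inv.homeomorph.surjective
    simp only [j]
    rw [Scheme.Hom.comp_base, TopCat.coe_comp, Set.range_comp,
      Set.range_eq_univ.mpr hs,
      Set.image_univ, Scheme.Pullback.range_map, hU'.range_fromSpec]
    simp
  obtain ⟨q, hq⟩ : p ∈ Set.range j := by rw [hrange]; exact hxU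
  have hopen : IsOpen (j ⁻¹' W) := hW.preimage j.continuous
  have hqW : q ∈ j ⁻¹' W := by show j q ∈ W; rw [hq]; exact hp
  obtain ⟨_, ⟨t, rfl⟩, hqt, htW⟩ :=
    (PrimeSpectrum.isTopologicalBasis_basic_opens (R := A ⊗[k] Γ(X, U))).exists_subset_of_mem_open
      hqW hopen
  obtain ⟨a, r, ha, hr, hall⟩ := Groth.Agent.Helper12.IndSplit.key k A Γ(X, U) hA t q.asIdeal q.isPrime hqt
  refine ⟨(PrimeSpectrum.basicOpen a : Set (PrimeSpectrum A)),
    hU'.fromSpec '' (PrimeSpectrum.basicOpen r : Set (PrimeSpectrum Γ(X, U))),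
    (PrimeSpectrum.basicOpen a).2,
    hU'.fromSpec.isOpenEmbedding.isOpenMap _ (PrimeSpectrum.basicOpen r).2, ?_, ?_, ?_⟩
  · rw [← hq, ← Scheme.Hom.comp_apply, hj1]
    exact ha
  · rw [← hq, ← Scheme.Hom.comp_apply, hj2, Scheme.Hom.comp_apply]
    exact ⟨_, hr, rfl⟩
  · rintro p' ⟨h1, h2⟩
    have hp'U : p' ∈ Set.range j := by
      rw [hrange]
      obtain ⟨y, -, hy⟩ := h2
      show (pullback.snd (Spec.map (CommRingCat.ofHom (algebraMap k A))) f) p' ∈ (U : Set X)
      rw [← hy, ← hU'.range_fromSpec]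
      exact ⟨y, rfl⟩
    obtain ⟨q', rfl⟩ := hp'U
    apply htW
    show t ∉ q'.asIdeal
    apply hall q'.asIdeal q'.isPrime
    · have h1' : (pullback.fst (Spec.map (CommRingCat.ofHom (algebraMap k A))) f) (j q') ∈
          (PrimeSpectrum.basicOpen a : Set (PrimeSpectrum A)) := h1
      rw [← Scheme.Hom.comp_apply, hj1] at h1'
      exact h1'
    · obtain ⟨y, hy, hy'⟩ := h2
      rw [← Scheme.Hom.comp_apply, hj2, Scheme.Hom.comp_apply] at hy'
      have := hU'.fromSpec.isOpenEmbedding.injective hy'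
      rw [this] at hy
      exact hy

include hA in
theorem main : IsHomeomorph
    (fun p : ↑(pullback (Spec.map (CommRingCat.ofHom (algebraMap k A))) f) =>
      (pullback.fst (Spec.map (CommRingCat.ofHom (algebraMap k A))) f p,
        pullback.snd (Spec.map (CommRingCat.ofHom (algebraMap k A))) f p)) := by
  have hcont : Continuous
      (fun p : ↑(pullback (Spec.map (CommRingCat.ofHom (algebraMap k A))) f) =>
      (pullback.fst (Spec.map (CommRingCat.ofHom (algebraMap k A))) f p,
        pullback.snd (Spec.map (CommRingCat.ofHom (algebraMap k A))) f p)) :=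
    (pullback.fst (Spec.map (CommRingCat.ofHom (algebraMap k A))) f).continuous.prodMk
      (pullback.snd (Spec.map (CommRingCat.ofHom (algebraMap k A))) f).continuous
  have hind : IsInducing
      (fun p : ↑(pullback (Spec.map (CommRingCat.ofHom (algebraMap k A))) f) =>
      (pullback.fst (Spec.map (CommRingCat.ofHom (algebraMap k A))) f p,
        pullback.snd (Spec.map (CommRingCat.ofHom (algebraMap k A))) f p)) := by
    rw [isInducing_iff_nhds]
    intro p
    apply le_antisymm
    · exact Filter.map_le_iff_le_comap.mp hcont.continuousAt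
    · intro W hW
      obtain ⟨W', hW'W, hW'o, hpW'⟩ := mem_nhds_iff.mp hW
      obtain ⟨V₁, V₂, hV₁, hV₂, h1, h2, hsub⟩ := nhd k A hA X f p W' hW'o hpW'
      rw [Filter.mem_comap]
      refine ⟨V₁ ×ˢ V₂, prod_mem_nhds (hV₁.mem_nhds h1) (hV₂.mem_nhds h2), ?_⟩
      intro p' hp'
      exact hW'W (hsub ⟨hp'.1, hp'.2⟩)
  rw [isHomeomorph_iff_isEmbedding_surjective]
  refine ⟨⟨hind, hind.injective⟩, ?_⟩
  rintro ⟨a, x⟩
  haveI : Subsingleton ↑(Spec (CommRingCat.of k)) :=
    inferInstanceAs (Subsingleton (PrimeSpectrum k))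
  obtain ⟨p, hp1, hp2⟩ := Scheme.Pullback.exists_preimage_pullback
    (f := Spec.map (CommRingCat.ofHom (algebraMap k A))) (g := f) a x (Subsingleton.elim _ _)
  exact ⟨p, Prod.ext hp1 hp2⟩

end Groth.Agent.Helper12.IndSplit2
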