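import Mathlib

/-!
# Height does not drop along integral extensions of a normal domain (going down)
-/

set_option autoImplicit false
set_option linter.style.haveILetI false

universe u

namespace Groth.Agent.Helper12.IntHeight

open scoped nonZeroDivisors

/-- `A` an integrally closed domain, `C` a Noetherian integral `A`-algebra in which nonzero
elements of `A` are nonzerodivisors. Then `ht (q ∩ A) ≤ ht q` for every prime `q` of `C`. -/
theorem height_under_le (A C : Type*) [CommRing A] [IsDomain A] [IsIntegrallyClosed A]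
    [IsNoetherianRing A]
    [CommRing C] [IsNoetherianRing C] [Algebra A C] [Algebra.IsIntegral A C]
    (hnzd : ∀ a : A, a ≠ 0 → algebraMap A C a ∈ C⁰)
    (q : Ideal C) [q.IsPrime] : (q.under A).height ≤ q.height := by
  obtain ⟨q₀, hq₀min, hq₀le⟩ := Ideal.exists_minimalPrimes_le (bot_le : (⊥ : Ideal C) ≤ q)
  haveI : q₀.IsPrime := hq₀min.1.1
  have hinj : Function.Injective (algebraMap A (C ⧸ q₀)) := by
    rw [injective_iff_map_eq_zero]
    intro a ha
    by_contra hne
    have h1 : algebraMap A C a ∈ q₀ := by
      rw [IsScalarTower.algebraMap_apply A C (C ⧸ q₀), Ideal.Quotient.algebraMap_eq,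
        Ideal.Quotient.eq_zero_iff_mem] at ha
      exact ha
    exact Set.disjoint_left.mp (Ideal.disjoint_nonZeroDivisors_of_mem_minimalPrimes hq₀min) h1
      (hnzd a hne)
  haveI : FaithfulSMul A (C ⧸ q₀) := (faithfulSMul_iff_algebraMap_injective A (C ⧸ q₀)).2 hinj
  haveI : Algebra.IsIntegral A (C ⧸ q₀) :=
    Algebra.IsIntegral.of_surjective (IsScalarTower.toAlgHom A C (C ⧸ q₀))
      Ideal.Quotient.mk_surjective
  let P : Ideal (C ⧸ q₀) := q.map (Ideal.Quotient.mk q₀)
  haveI hPprime : P.IsPrime :=
    Ideal.map_isPrime_of_surjective Ideal.Quotient.mk_surjective (by rwa [Ideal.mk_ker])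
  have hcomap : P.comap (Ideal.Quotient.mk q₀) = q := by
    rw [Ideal.comap_map_of_surjective _ Ideal.Quotient.mk_surjective, ← RingHom.ker_eq_comap_bot,
      Ideal.mk_ker, sup_eq_left.2 hq₀le]
  haveI : P.LiesOver (q.under A) := ⟨by
    rw [Ideal.under_def, Ideal.under_def]
    conv_lhs => rw [← hcomap]
    rw [Ideal.comap_comap]
    rfl⟩
  have h1 := Ideal.height_eq_height_add_of_liesOver_of_hasGoingDown (q.under A) P
  have h2 : P.height ≤ q.height := by
    have h3 := Order.height_le_height_apply_of_strictMono
      (PrimeSpectrum.comap (Ideal.Quotient.mk q₀))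
      (RingHom.strictMono_comap_of_surjective Ideal.Quotient.mk_surjective) ⟨P, hPprime⟩
    rw [← PrimeSpectrum.height_eq_orderHeight, ← PrimeSpectrum.height_eq_orderHeight] at h3
    have h4 : (PrimeSpectrum.comap (Ideal.Quotient.mk q₀) ⟨P, hPprime⟩).asIdeal = q := hcomap
    rw [h4] at h3
    exact h3
  calc (q.under A).height ≤ P.height := by rw [h1]; exact le_self_add
    _ ≤ q.height := h2

end Groth.Agent.Helper12.IntHeight
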