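import Mathlib
import Groth.Prelude
import Groth.Agent.Lib.Helper12.IsogDim
import Groth.Agent.Lib.Helper4.GrpConn

set_option autoImplicit false
set_option linter.style.haveILetI false
universe u
open CategoryTheory CategoryTheory.Limits AlgebraicGeometry Opposite TopologicalSpace Topology
  MonoidalCategory CartesianMonoidalCategory MonObj GrpObj

noncomputable section

namespace Groth.Agent.Helper12.IsogFib

open Groth.Agent.Helper14 Groth.Agent.Helper16 Groth.Agent.Helper16.FTDim

variable {S : Scheme.{u}} {G H : Over S}

/-- surjectivity can be checked on fibres over the base. -/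
theorem surjective_iff_fibres (u : G ⟶ H) :
    Surjective u.left ↔
      ∀ s : S, Surjective ((Over.pullback (S.fromSpecResidueField s)).map u).left := by
  constructor
  · intro h s
    exact MorphismProperty.of_isPullback (GrpHomFib.isPullback_us u s) h
  · intro h
    refine ⟨fun b => ?_⟩
    obtain ⟨z, hz⟩ := GrpHomFib.exists_fst_eq (G := H) b (H.hom b) rfl
    obtain ⟨a, ha⟩ := (h (H.hom b)).surj z
    refine ⟨pullback.fst G.hom (S.fromSpecResidueField (H.hom b)) a, ?_⟩
    rw [← Scheme.Hom.comp_apply, ← GrpHomFib.us_fst u (H.hom b), Scheme.Hom.comp_apply, ha, hz]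

variable [GrpObj G] [GrpObj H]

theorem fibre_lqf_iff_surjective [LocallyOfFiniteType G.hom] [QuasiCompact G.hom]
    [LocallyOfFiniteType H.hom] [QuasiCompact H.hom] [QuasiSeparated H.hom]
    [GeometricallyConnected H.hom]
    (u : G ⟶ H) [IsMonHom u] (s : S)
    (hdim : topologicalKrullDim ↥(G.hom.fiber s) = topologicalKrullDim ↥(H.hom.fiber s)) :
    LocallyQuasiFinite ((Over.pullback (S.fromSpecResidueField s)).map u).left ↔
      Surjective ((Over.pullback (S.fromSpecResidueField s)).map u).left := by
  haveI : LocallyOfFiniteType ((Over.pullback (S.fromSpecResidueField s)).obj G).hom :=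
    inferInstanceAs (LocallyOfFiniteType (pullback.snd _ _))
  haveI : QuasiCompact ((Over.pullback (S.fromSpecResidueField s)).obj G).hom :=
    inferInstanceAs (QuasiCompact (pullback.snd _ _))
  haveI : LocallyOfFiniteType ((Over.pullback (S.fromSpecResidueField s)).obj H).hom :=
    inferInstanceAs (LocallyOfFiniteType (pullback.snd _ _))
  haveI : QuasiCompact ((Over.pullback (S.fromSpecResidueField s)).obj H).hom :=
    inferInstanceAs (QuasiCompact (pullback.snd _ _))
  haveI : QuasiSeparated ((Over.pullback (S.fromSpecResidueField s)).obj H).hom :=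
    inferInstanceAs (QuasiSeparated (pullback.snd _ _))
  haveI : QuasiCompact ((Over.pullback (S.fromSpecResidueField s)).map u).left := by
    haveI : QuasiCompact (((Over.pullback (S.fromSpecResidueField s)).map u).left ≫
        ((Over.pullback (S.fromSpecResidueField s)).obj H).hom) := by
      rw [Over.w]; infer_instance
    exact QuasiCompact.of_comp _ ((Over.pullback (S.fromSpecResidueField s)).obj H).hom
  haveI : ConnectedSpace ((Over.pullback (S.fromSpecResidueField s)).obj H).left :=
    inferInstanceAs (ConnectedSpace (H.hom.fiber s))
  haveI : IrreducibleSpace ((Over.pullback (S.fromSpecResidueField s)).obj H).left :=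
    Groth.Agent.Helper4.GrpConn.irreducibleSpace_of_connectedSpace (k := S.residueField s)
      ((Over.pullback (S.fromSpecResidueField s)).obj H)
  haveI : CompactSpace ((Over.pullback (S.fromSpecResidueField s)).obj H).left :=
    QuasiCompact.compactSpace_of_compactSpace
      ((Over.pullback (S.fromSpecResidueField s)).obj H).hom
  obtain ⟨n, hn⟩ := IsogDim.exists_nat_dim (k := S.residueField s)
    ((Over.pullback (S.fromSpecResidueField s)).obj H).hom
  exact IsogDim.lqf_iff_surjective (k := S.residueField s)
    (G := (Over.pullback (S.fromSpecResidueField s)).obj G)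
    (H := (Over.pullback (S.fromSpecResidueField s)).obj H)
    ((Over.pullback (S.fromSpecResidueField s)).map u) n (hdim.trans hn) hn

end Groth.Agent.Helper12.IsogFib
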