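import Mathlib
import Groth.Prelude
import Groth.Agent.Lib.Helper12.IsogFib
import Groth.Agent.Lib.Helper16.Sch.HomFibD

set_option autoImplicit false
set_option linter.style.haveILetI false
universe u
open CategoryTheory CategoryTheory.Limits AlgebraicGeometry Opposite TopologicalSpace Topology
  MonoidalCategory CartesianMonoidalCategory MonObj GrpObj

noncomputable section

namespace Groth.Agent.Helper12.IsogFib

open Groth.Agent.Helper14 Groth.Agent.Helper16 Groth.Agent.Helper16.FTDim

variable {S : Scheme.{u}} {G H : Over S} [GrpObj G] [GrpObj H]

/-- a flat, locally finitely presented homomorphism onto a group scheme with connected fibres is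
surjective on every fibre. -/
theorem fibre_surjective_of_flat [QuasiCompact G.hom]
    [LocallyOfFiniteType H.hom] [QuasiSeparated H.hom] [GeometricallyConnected H.hom]
    (u : G ⟶ H) [IsMonHom u] [Flat u.left] [LocallyOfFinitePresentation u.left] (s : S) :
    Surjective ((Over.pullback (S.fromSpecResidueField s)).map u).left := by
  have sq := ImmSub.isPullback_map u (S.fromSpecResidueField s)
  haveI : Flat ((Over.pullback (S.fromSpecResidueField s)).map u).left :=
    MorphismProperty.of_isPullback sq ‹_›
  haveI : LocallyOfFinitePresentation ((Over.pullback (S.fromSpecResidueField s)).map u).left :=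
    MorphismProperty.of_isPullback sq ‹_›
  haveI : QuasiCompact ((Over.pullback (S.fromSpecResidueField s)).obj G).hom :=
    inferInstanceAs (QuasiCompact (pullback.snd _ _))
  haveI : QuasiSeparated ((Over.pullback (S.fromSpecResidueField s)).obj H).hom :=
    inferInstanceAs (QuasiSeparated (pullback.snd _ _))
  haveI : QuasiCompact ((Over.pullback (S.fromSpecResidueField s)).map u).left := by
    haveI : QuasiCompact (((Over.pullback (S.fromSpecResidueField s)).map u).left ≫
        ((Over.pullback (S.fromSpecResidueField s)).obj H).hom) := by
      rw [Over.w]; infer_instance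
    exact QuasiCompact.of_comp _ ((Over.pullback (S.fromSpecResidueField s)).obj H).hom
  haveI : ConnectedSpace ((Over.pullback (S.fromSpecResidueField s)).obj H).left :=
    inferInstanceAs (ConnectedSpace (H.hom.fiber s))
  set us := (Over.pullback (S.fromSpecResidueField s)).map u with hus
  have h1 : IsOpen (Set.range us.left.base) := us.left.isOpenMap.isOpen_range
  have h2 : IsClosed (Set.range us.left.base) :=
    HomDim.isClosed_range_field (S.residueField s) _ _ us
  have h3 : (Set.range us.left.base).Nonempty :=
    ⟨_, ⟨η[(Over.pullback (S.fromSpecResidueField s)).obj G].left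
      (show PrimeSpectrum (S.residueField s) from ⊥), rfl⟩⟩
  have h4 : Set.range us.left.base = Set.univ := IsClopen.eq_univ ⟨h2, h1⟩ h3
  exact ⟨Set.range_eq_univ.mp h4⟩

/-- homomorphism into a smooth group scheme: flatness follows from surjectivity on fibres. -/
theorem flat_of_fibres_surjective [Flat G.hom] [LocallyOfFinitePresentation G.hom]
    [QuasiCompact G.hom] [LocallyOfFiniteType H.hom] [QuasiSeparated H.hom] [Smooth H.hom]
    (u : G ⟶ H) [IsMonHom u]
    (h : ∀ s : S, Surjective ((Over.pullback (S.fromSpecResidueField s)).map u).left) :
    Flat u.left := by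
  obtain ⟨-, h2⟩ := HomFibCrit.main_flat u
  rw [Flat.iff_flat_stalkMap]
  intro x
  have : x ∈ {x : G.left | (u.left.stalkMap x).hom.Flat} := by
    rw [h2]
    show Flat ((Over.pullback (S.fromSpecResidueField (G.hom x))).map u).left
    haveI := h (G.hom x)
    haveI : QuasiCompact ((Over.pullback (S.fromSpecResidueField (G.hom x))).obj G).hom :=
      inferInstanceAs (QuasiCompact (pullback.snd _ _))
    haveI : QuasiSeparated ((Over.pullback (S.fromSpecResidueField (G.hom x))).obj H).hom :=
      inferInstanceAs (QuasiSeparated (pullback.snd _ _))
    haveI : QuasiCompact ((Over.pullback (S.fromSpecResidueField (G.hom x))).map u).left := by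
      haveI : QuasiCompact (((Over.pullback (S.fromSpecResidueField (G.hom x))).map u).left ≫
          ((Over.pullback (S.fromSpecResidueField (G.hom x))).obj H).hom) := by
        rw [Over.w]; infer_instance
      exact QuasiCompact.of_comp _ ((Over.pullback (S.fromSpecResidueField (G.hom x))).obj H).hom
    exact Isog.fibre_flat u (G.hom x)
  exact this

end Groth.Agent.Helper12.IsogFib
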