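import Mathlib
import Groth.Prelude.Def_ega3
import Groth.Prelude.Def_Koszul
import Groth.Prelude.Def_DRing2
import Groth.Agent.Lib.Helper21.KoszFun

/-!
# Koszul Euler characteristics, part 8: `DRing.tensorCx (Koszul.koszul A l) M ≅ CohIII.koszulCx M l`
-/

set_option autoImplicit false
universe u
open CategoryTheory CategoryTheory.Limits CochainComplex HomologicalComplex MonoidalCategory
open Groth.Agent.Helper21.KF

namespace Groth.Agent.Helper12.KoszEuler

variable {A : Type u} [CommRing A]

section ConeIso

variable {K L : CochainComplex (ModuleCat.{u} A) ℤ}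

/-- mapping cones of endomorphisms conjugate under an isomorphism are isomorphic. -/
noncomputable def coneIso (φ₁ : K ⟶ K) (φ₂ : L ⟶ L) (e : K ≅ L)
    (comm : φ₁ ≫ e.hom = e.hom ≫ φ₂) :
    mappingCone φ₁ ≅ mappingCone φ₂ where
  hom := mappingCone.map φ₁ φ₂ e.hom e.hom comm
  inv := mappingCone.map φ₂ φ₁ e.inv e.inv
    (by rw [← cancel_mono e.hom, Category.assoc, Category.assoc, e.inv_hom_id, Category.comp_id,
      comm, e.inv_hom_id_assoc])
  hom_inv_id := by
    rw [← mappingCone.map_comp]
    exact (map_congr _ _ e.hom_inv_id e.hom_inv_id _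
      (by rw [Category.id_comp, Category.comp_id])).trans (mappingCone.map_id _)
  inv_hom_id := by
    rw [← mappingCone.map_comp]
    exact (map_congr _ _ e.inv_hom_id e.inv_hom_id _
      (by rw [Category.id_comp, Category.comp_id])).trans (mappingCone.map_id _)

end ConeIso

theorem nonempty_tensorCx_iso (M : ModuleCat.{u} A) : ∀ l : List A,
    Nonempty (DRing.tensorCx (Koszul.koszul A l) M ≅ CohIII.koszulCx M l)
  | [] => by
    refine ⟨(HomologicalComplex.singleMapHomologicalComplex (tensorRight M) (ComplexShape.up ℤ)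
      (0 : ℤ)).app (ModuleCat.of A A) ≪≫
      (HomologicalComplex.single (ModuleCat.{u} A) (ComplexShape.up ℤ) 0).mapIso (λ_ M)⟩
  | f :: l => by
    obtain ⟨e⟩ := nonempty_tensorCx_iso M l
    have e' : ((tensorRight M).mapHomologicalComplex (ComplexShape.up ℤ)).obj (Koszul.koszul A l) ≅
      CohIII.koszulCx M l := e
    have h1 : ((tensorRight M).mapHomologicalComplex (ComplexShape.up ℤ)).map
        (f • 𝟙 (Koszul.koszul A l)) =
        f • 𝟙 (((tensorRight M).mapHomologicalComplex (ComplexShape.up ℤ)).obj
          (Koszul.koszul A l)) := by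
      rw [Functor.map_smul, CategoryTheory.Functor.map_id]
    exact ⟨mappingCone.mapHomologicalComplexIso (f • 𝟙 (Koszul.koszul A l)) (tensorRight M) ≪≫
      coneIso _ (f • 𝟙 (CohIII.koszulCx M l)) e'
        (by rw [h1, Linear.smul_comp, Linear.comp_smul, Category.id_comp, Category.comp_id])⟩

end Groth.Agent.Helper12.KoszEuler
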