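import Mathlib
import Groth.Prelude.Def_ega3
import Groth.Prelude.Def_DRing2
import Groth.Agent.Lib.Helper21.KoszFun
import Groth.Agent.Lib.Helper21.KoszTop
import Groth.Agent.Lib.Helper6.TorBalance
import Groth.Agent.Lib.Helper12.KoszEuler8
import Groth.Agent.Lib.Helper12.KoszEuler20

/-!
# `Tor_i(A/(xs), N) ≅ H^{-i}(K(xs; N))` for a weakly regular sequence `xs` of `A`
-/

set_option autoImplicit false
universe u
open CategoryTheory CategoryTheory.Limits CochainComplex HomologicalComplex MonoidalCategory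
open Groth.Agent.Helper21.KF Groth.Agent.Helper6.TorBalance RingTheory.Sequence

namespace Groth.Agent.Helper12.KoszTor

open Groth.Agent.Helper12.KoszEuler

variable {A : Type u} [CommRing A]

/-- the Koszul complex of `A` itself. -/
noncomputable abbrev KA (xs : List A) : CochainComplex (ModuleCat.{u} A) ℤ :=
  CohIII.koszulCx (ModuleCat.of A A) xs

theorem nonempty_tensor_iso (M : ModuleCat.{u} A) : ∀ l : List A,
    Nonempty (((tensorRight M).mapHomologicalComplex (ComplexShape.up ℤ)).obj (KA l) ≅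
      CohIII.koszulCx M l)
  | [] => by
    refine ⟨(HomologicalComplex.singleMapHomologicalComplex (tensorRight M) (ComplexShape.up ℤ)
      (0 : ℤ)).app (ModuleCat.of A A) ≪≫
      (HomologicalComplex.single (ModuleCat.{u} A) (ComplexShape.up ℤ) 0).mapIso (λ_ M)⟩
  | f :: l => by
    obtain ⟨e⟩ := nonempty_tensor_iso M l
    have h1 : ((tensorRight M).mapHomologicalComplex (ComplexShape.up ℤ)).map
        (f • 𝟙 (KA l)) =
        f • 𝟙 (((tensorRight M).mapHomologicalComplex (ComplexShape.up ℤ)).obj (KA l)) := by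
      rw [Functor.map_smul, CategoryTheory.Functor.map_id]
    exact ⟨mappingCone.mapHomologicalComplexIso (f • 𝟙 (KA l)) (tensorRight M) ≪≫
      coneIso _ (f • 𝟙 (CohIII.koszulCx M l)) e
        (by rw [h1, Linear.smul_comp, Linear.comp_smul, Category.id_comp, Category.comp_id])⟩

theorem flat_prod (M N : Type u) [AddCommGroup M] [AddCommGroup N] [Module A M] [Module A N]
    [Module.Flat A M] [Module.Flat A N] : Module.Flat A (M × N) := by
  rw [Module.Flat.iff_rTensor_preserves_injective_linearMap]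
  intro B C _ _ _ _ f hf
  have h1 : Function.Injective (f.rTensor M) :=
    Module.Flat.rTensor_preserves_injective_linearMap f hf
  have h2 : Function.Injective (f.rTensor N) :=
    Module.Flat.rTensor_preserves_injective_linearMap f hf
  have key : (TensorProduct.prodRight A A C M N).toLinearMap ∘ₗ f.rTensor (M × N) =
      (LinearMap.prodMap (f.rTensor M) (f.rTensor N)) ∘ₗ
        (TensorProduct.prodRight A A B M N).toLinearMap := by
    ext a m
    · simp
    · simp
    · simp
    · simp
  have : Function.Injective ((TensorProduct.prodRight A A C M N).toLinearMap ∘ₗ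
      f.rTensor (M × N)) := by
    rw [key]
    exact (Prod.map_injective.mpr ⟨h1, h2⟩).comp (TensorProduct.prodRight A A B M N).injective
  exact Function.Injective.of_comp this

theorem flat_X : ∀ (l : List A) (i : ℤ), Module.Flat A ((KA l).X i)
  | [], i => by
    by_cases hi : i = 0
    · subst hi
      exact Module.Flat.of_linearEquiv
        (HomologicalComplex.singleObjXSelf (ComplexShape.up ℤ) (0 : ℤ)
          (ModuleCat.of A A)).toLinearEquiv
    · have hz : IsZero ((KA ([] : List A)).X i) :=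
        HomologicalComplex.isZero_single_obj_X (ComplexShape.up ℤ) 0 _ i hi
      haveI : Subsingleton ((KA ([] : List A)).X i) := ModuleCat.subsingleton_of_isZero hz
      infer_instance
  | f :: l, i => by
    haveI := flat_X l (i + 1)
    haveI := flat_X l i
    haveI := flat_prod (A := A) ((KA l).X (i + 1)) ((KA l).X i)
    exact Module.Flat.of_linearEquiv (coneXEquiv (f • 𝟙 (KA l)) i)

section Res

variable (xs : List A)

theorem d01 : (KA xs).d 0 1 = 0 :=
  (isZero_X_of_pos _ xs 1 (by norm_num)).eq_of_tgt _ _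

/-- the augmentation `K⁰ ⟶ H⁰(K)`. -/
noncomputable def aug : (KA xs).X 0 ⟶ (KA xs).homology 0 :=
  ((KA xs).iCyclesIso 0 1 (by simp) (d01 xs)).inv ≫ (KA xs).homologyπ 0

theorem toCycles_eq : (KA xs).toCycles (-1) 0 =
    (KA xs).d (-1) 0 ≫ ((KA xs).iCyclesIso 0 1 (by simp) (d01 xs)).inv := by
  rw [← (KA xs).toCycles_i (-1) 0, Category.assoc, iCyclesIso_hom_inv_id, Category.comp_id]

theorem d_aug : (KA xs).d (-1) 0 ≫ aug xs = 0 := by
  unfold aug
  rw [← Category.assoc, ← toCycles_eq, toCycles_comp_homologyπ]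

theorem aug_exact : (ShortComplex.mk ((KA xs).d (-1) 0) (aug xs) (d_aug xs)).Exact := by
  have h : (ShortComplex.mk ((KA xs).toCycles (-1) 0) ((KA xs).homologyπ 0)
      ((KA xs).toCycles_comp_homologyπ (-1) 0)).Exact :=
    ShortComplex.exact_of_g_is_cokernel _ ((KA xs).homologyIsCokernel (-1) 0 (by simp))
  refine ShortComplex.exact_of_iso ?_ h
  refine ShortComplex.isoMk (Iso.refl _) ((KA xs).iCyclesIso 0 1 (by simp) (d01 xs)) (Iso.refl _)
    ?_ ?_
  · dsimp
    rw [Category.id_comp, iCyclesIso_hom, (KA xs).toCycles_i (-1) 0]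
  · dsimp
    unfold aug
    rw [Category.comp_id, ← Category.assoc, Iso.hom_inv_id, Category.id_comp]

instance : Epi (aug xs) := by
  unfold aug
  infer_instance

variable (hreg : IsWeaklyRegular A xs)

/-- the Koszul complex of a weakly regular sequence as a flat resolution of `H⁰`. -/
noncomputable def flatRes : FlatRes ((KA xs).homology 0) where
  F k := (KA xs).X (-(k : ℤ))
  d k := (KA xs).d (-((k + 1 : ℕ) : ℤ)) (-(k : ℤ))
  ε := ((KA xs).XIsoOfEq (by simp : -((0 : ℕ) : ℤ) = 0)).hom ≫ aug xs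
  flat k := flat_X xs _
  epi := inferInstance
  d_ε := by
    rw [← Category.assoc, (KA xs).d_comp_XIsoOfEq_hom]
    exact d_aug xs
  d_d k := (KA xs).d_comp_d _ _ _
  ex0 := by
    refine ShortComplex.exact_of_iso ?_ (aug_exact xs)
    refine ShortComplex.isoMk (Iso.refl _)
      ((KA xs).XIsoOfEq (by simp : -((0 : ℕ) : ℤ) = 0)).symm (Iso.refl _) ?_ ?_
    · dsimp
      simp
    · dsimp
      simp
  ex k := by
    have hz := homology_isZero_of_weaklyRegular xs A hreg (-((k + 1 : ℕ) : ℤ))
      (by push_cast; omega)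
    have hex := ((KA xs).exactAt_iff_isZero_homology _).mpr hz
    rw [(KA xs).exactAt_iff' (-((k + 1 + 1 : ℕ) : ℤ)) (-((k + 1 : ℕ) : ℤ)) (-(k : ℤ))
      (by simp; ring) (by simp)] at hex
    exact hex

include hreg in
/-- `Tor_{n+1}(H⁰(K(xs)), N) ≅ H^{-(n+1)}(K(xs; N))` for `xs` weakly regular on `A`. -/
theorem nonempty_tor_succ_iso (N : ModuleCat.{u} A) (n : ℕ) :
    Nonempty (((Tor (ModuleCat.{u} A) (n + 1)).obj ((KA xs).homology 0)).obj N ≅
      (CohIII.koszulCx N xs).homology (-((n + 1 : ℕ) : ℤ))) := by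
  obtain ⟨e1⟩ := nonempty_tor_iso_homology N n _ (flatRes xs hreg)
  obtain ⟨e2⟩ := nonempty_tensor_iso N xs
  let T := ((tensorRight N).mapHomologicalComplex (ComplexShape.up ℤ)).obj (KA xs)
  have e3 : T.homology (-((n + 1 : ℕ) : ℤ)) ≅
      (T.sc' (-((n + 1 + 1 : ℕ) : ℤ)) (-((n + 1 : ℕ) : ℤ)) (-(n : ℤ))).homology :=
    T.homologyIsoSc' _ _ _ (by simp; ring) (by simp)
  exact ⟨e1 ≪≫ e3.symm ≪≫ (HomologicalComplex.homologyFunctor _ _ _).mapIso e2⟩

end Res

end Groth.Agent.Helper12.KoszTor
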