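import Mathlib
import Groth.Prelude.Def_IntMult
import Groth.Agent.Lib.Helper12.KoszTor
import Groth.Agent.Lib.Helper12.KoszEuler23
import Groth.Agent.Lib.Helper12.Lech

/-!
# The Tor Euler characteristic `χ(A/(xs), M)` is the Koszul Euler characteristic for a weakly
regular sequence `xs` of `A`
-/

set_option autoImplicit false
universe u
open CategoryTheory CategoryTheory.Limits CochainComplex HomologicalComplex MonoidalCategory
open Groth.Agent.Helper21.KF Groth.Agent.Helper6.TorBalance RingTheory.Sequence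
open Groth.Agent.Helper18.TorLib

namespace Groth.Agent.Helper12.KoszTor

open Groth.Agent.Helper12.KoszEuler

variable {A : Type u} [CommRing A] (xs : List A) (hreg : IsWeaklyRegular A xs)

/-- `H⁰(K(xs; A)) ≅ A/(xs)`. -/
theorem nonempty_h0_iso :
    Nonempty ((KA xs).homology 0 ≅ ModuleCat.of A (A ⧸ Ideal.ofList xs)) := by
  obtain ⟨e⟩ := Groth.Agent.Helper21.KT.top_equiv A xs
  have h : (Ideal.ofList xs • (⊤ : Submodule A A)) = Ideal.ofList xs := by
    rw [smul_eq_mul, Ideal.mul_top]
  exact ⟨(e ≪≫ₗ Submodule.quotEquivOfEq _ _ h).toModuleIso⟩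

include hreg in
theorem length_tor_eq (M : Type u) [AddCommGroup M] [Module A M] (i : ℕ) :
    Module.length A (DRing.Tor A i (A ⧸ Ideal.ofList xs) M) = hl M xs (-(i : ℤ)) := by
  obtain ⟨eX⟩ := nonempty_h0_iso xs
  cases i with
  | zero =>
    rw [Nat.cast_zero, neg_zero, Groth.Agent.Helper12.Lech.hl_zero_eq]
    have e1 := tor0Iso (ModuleCat.of A (A ⧸ Ideal.ofList xs)) (ModuleCat.of A M)
    have e2 : TensorProduct A (A ⧸ Ideal.ofList xs) M ≃ₗ[A]
        M ⧸ (Ideal.ofList xs • (⊤ : Submodule A M)) :=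
      TensorProduct.quotTensorEquivQuotSMul M (Ideal.ofList xs)
    exact (e1.toLinearEquiv ≪≫ₗ e2).length_eq
  | succ n =>
    obtain ⟨e1⟩ := nonempty_tor_succ_iso xs hreg (ModuleCat.of A M) n
    have e0 := ((Tor (ModuleCat.{u} A) (n + 1)).mapIso eX.symm).app (ModuleCat.of A M)
    exact (e0 ≪≫ e1).toLinearEquiv.length_eq

include hreg in
/-- The Tor Euler characteristic of `(A/(xs), M)` equals the Koszul Euler characteristic. -/
theorem chi_eq (M : Type u) [AddCommGroup M] [Module A M] :
    IntMult.chi A (A ⧸ Ideal.ofList xs) M = chi M xs := by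
  unfold IntMult.chi chi euler
  have hf : ∀ i : ℤ, (i < -(xs.length : ℤ) ∨ 0 < i) → hlen (Kz M xs) i = 0 := by
    intro i hi
    unfold hlen
    rw [hln_of_isZero _ i (isZero_homology_Kz M xs i hi)]
    rfl
  rw [Groth.Agent.Helper12.Lech.alt_eq_sum_range (hlen (Kz M xs)) xs.length hf]
  rw [finsum_eq_sum_of_support_subset (s := Finset.range (xs.length + 1))]
  · refine Finset.sum_congr rfl fun j _ => ?_
    congr 1
    unfold hlen hln
    rw [length_tor_eq xs hreg M j]
    rfl
  · intro i hi
    rw [Function.mem_support] at hi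
    rw [Finset.coe_range, Set.mem_Iio]
    by_contra hcon
    apply hi
    rw [length_tor_eq xs hreg M i, hl_eq_zero_of_lt M xs (-(i : ℤ)) (Or.inl (by omega))]
    simp

end Groth.Agent.Helper12.KoszTor
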