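import Mathlib
import Groth.Agent.Lib.Helper12.ArtSchA

/-!
# Torsors under a finite group, algebraic core (generic group version of `ArtSchA`)

For a finite étale faithfully flat `A`-algebra `B` with an action of a finite group `G` which is
simply transitive on geometric points over every geometric point of `A`: invariants are `A`.
-/

set_option autoImplicit false
set_option linter.style.haveILetI false
set_option linter.unusedVariables false
set_option linter.unusedSectionVars false

universe u v
open TensorProduct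
open Groth.Agent.Helper12

namespace Groth.Agent.Helper12.Kum

section main

variable {A B : Type u} [CommRing A] [CommRing B] [Algebra A B] (G : Type v) [Group G]

/-- the action of `ℤ/p` on `B` is a torsor on geometric points -/
structure TorsG (σ : G → (B →ₐ[A] B)) : Prop where
  one : σ 1 = AlgHom.id A B
  mul : ∀ i j, σ (i * j) = (σ i).comp (σ j)
  tors : ∀ (Ω : Type u) [Field Ω] [IsAlgClosed Ω] (s t : B →+* Ω),
      s.comp (algebraMap A B) = t.comp (algebraMap A B) →
      ∃! j : G, s.comp (σ j).toRingHom = t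

variable {G} (σ : G → (B →ₐ[A] B))
  [Algebra.FormallyUnramified A B] [Algebra.EssFiniteType A B] [Module.FaithfullyFlat A B]
  [Algebra.IsIntegral A B]

/-- `id ⊗ σ_j` -/
noncomputable def tau (j : G) : B ⊗[A] B →ₐ[A] B ⊗[A] B :=
  Algebra.TensorProduct.map (AlgHom.id A B) (σ j)

theorem tau_tmul (j : G) (b b' : B) : tau σ j (b ⊗ₜ[A] b') = b ⊗ₜ[A] σ j b' := by
  simp [tau]

/-- the graph idempotent of `σ_j` -/
noncomputable def ej (j : G) : B ⊗[A] B := tau σ j (Algebra.FormallyUnramified.elem A B)

theorem ej_idem (j : G) : IsIdempotentElem (ej σ j) := by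
  unfold IsIdempotentElem ej
  rw [← map_mul, (ArtSch.elem_idem (A := A) (B := B)).eq]

theorem key (j : G) (s : B) :
    ((1 : B) ⊗ₜ[A] σ j s) * ej σ j = (s ⊗ₜ[A] (1 : B)) * ej σ j := by
  have h := congrArg (tau σ j)
    (Algebra.FormallyUnramified.one_tmul_mul_elem (R := A) (S := B) s)
  rw [map_mul, map_mul, tau_tmul, tau_tmul, map_one] at h
  exact h

section geom

variable {Ω : Type u} [Field Ω] (ω : B ⊗[A] B →+* Ω)

/-- left component of a point of `B ⊗ B` -/
noncomputable def sL : B →+* Ω := ω.comp Algebra.TensorProduct.includeLeftRingHom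

/-- right component of a point of `B ⊗ B` -/
noncomputable def sR : B →+* Ω :=
  ω.comp (Algebra.TensorProduct.includeRight (R := A) (A := B) (B := B)).toRingHom

theorem sL_apply (b : B) : sL ω b = ω (b ⊗ₜ[A] (1 : B)) := rfl

theorem sR_apply (b : B) : sR ω b = ω ((1 : B) ⊗ₜ[A] b) := rfl

theorem omega_tmul (b b' : B) : ω (b ⊗ₜ[A] b') = sL ω b * sR ω b' := by
  rw [sL_apply, sR_apply, ← map_mul, Algebra.TensorProduct.tmul_mul_tmul, mul_one, one_mul]

theorem sL_sR_agree : (sL ω).comp (algebraMap A B) = (sR ω).comp (algebraMap A B) := by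
  ext a
  simp only [RingHom.comp_apply, sL_apply, sR_apply]
  congr 1
  rw [Algebra.algebraMap_eq_smul_one, TensorProduct.smul_tmul]

theorem eq_of_ne (j : G) (h : ω (ej σ j) ≠ 0) :
    (sR ω).comp (σ j).toRingHom = sL ω := by
  ext b
  have h1 := congrArg ω (key σ j b)
  rw [map_mul, map_mul] at h1
  exact mul_right_cancel₀ h h1

theorem omega_tau (j : G) (h : (sR ω).comp (σ j).toRingHom = sL ω) (x : B ⊗[A] B) :
    ω (tau σ j x) = sL ω (Algebra.TensorProduct.lmul' A x) := by
  induction x using TensorProduct.induction_on with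
  | zero => simp
  | tmul b b' =>
    rw [tau_tmul, omega_tmul, Algebra.TensorProduct.lmul'_apply_tmul, map_mul]
    congr 1
    exact congrArg (fun f : B →+* Ω => f b') h
  | add x y hx hy => rw [map_add, map_add, hx, hy, map_add, map_add]

theorem omega_ej_one (j : G) (h : (sR ω).comp (σ j).toRingHom = sL ω) :
    ω (ej σ j) = 1 := by
  unfold ej
  rw [omega_tau σ ω j h, Algebra.FormallyUnramified.lmul_elem, map_one]

end geom

variable {σ} [Fintype G] (H : TorsG G σ)

include H

theorem ej_ortho (i j : G) (hij : i ≠ j) : ej σ i * ej σ j = 0 := by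
  apply ArtSch.eq_zero_of_idem _ ((ej_idem σ i).mul (ej_idem σ j))
  intro Ω _ _ ω
  rw [map_mul]
  by_contra hne
  have hi : ω (ej σ i) ≠ 0 := left_ne_zero_of_mul hne
  have hj : ω (ej σ j) ≠ 0 := right_ne_zero_of_mul hne
  have e1 := eq_of_ne σ ω i hi
  have e2 := eq_of_ne σ ω j hj
  obtain ⟨j0, -, huniq⟩ := H.tors Ω (sR ω) (sL ω) (sL_sR_agree ω).symm
  exact hij ((huniq i e1).trans (huniq j e2).symm)

theorem sum_ej : ∑ j : G, ej σ j = 1 := by
  classical
  have hO : OrthogonalIdempotents (ej σ) := ⟨ej_idem σ, fun i j hij => ej_ortho H i j hij⟩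
  have hE : IsIdempotentElem (∑ j : G, ej σ j) := hO.isIdempotentElem_sum (s := Finset.univ)
  have h0 : 1 - ∑ j : G, ej σ j = 0 := by
    apply ArtSch.eq_zero_of_idem _ hE.one_sub
    intro Ω _ _ ω
    obtain ⟨j0, hj0, -⟩ := H.tors Ω (sR ω) (sL ω) (sL_sR_agree ω).symm
    have h1 : ω (ej σ j0) = 1 := omega_ej_one σ ω j0 hj0
    have h2 : ∀ j, j ≠ j0 → ω (ej σ j) = 0 := by
      intro j hj
      have := congrArg ω (ej_ortho H j j0 hj)
      rw [map_mul, h1, mul_one, map_zero] at this
      exact this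
    rw [map_sub, map_one, map_sum,
      Finset.sum_eq_single j0 (fun j _ hj => h2 j hj) (by simp), h1, sub_self]
  exact (sub_eq_zero.mp h0).symm

/-- invariants of a torsor are the base ring -/
theorem inv_mem (b : B) (hb : ∀ j, σ j b = b) : b ∈ (algebraMap A B).range := by
  apply ArtSch.mem_range_of_tmul_eq
  calc (1 : B) ⊗ₜ[A] b = ((1 : B) ⊗ₜ[A] b) * ∑ j, ej σ j := by rw [sum_ej H, mul_one]
    _ = ∑ j, ((1 : B) ⊗ₜ[A] b) * ej σ j := Finset.mul_sum _ _ _
    _ = ∑ j, (b ⊗ₜ[A] (1 : B)) * ej σ j := by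
        apply Finset.sum_congr rfl
        intro j _
        have := key σ j b
        rw [hb j] at this
        exact this
    _ = (b ⊗ₜ[A] (1 : B)) * ∑ j, ej σ j := (Finset.mul_sum _ _ _).symm
    _ = b ⊗ₜ[A] (1 : B) := by rw [sum_ej H, mul_one]

end main

end Groth.Agent.Helper12.Kum
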