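import Mathlib
import Groth.Prelude.Def_SGA1t
import Groth.Agent.Lib.Helper12.KumA

/-!
# Kummer covers over a local ring, algebraic core (part B)

Roots of unity in a local ring, an eigen-unit `t` with `σ_ζ t = ζ t`, the constant `a = t^n`, and the
isomorphism `A[T]/(T^n - a) ≅ B` (Vandermonde argument).
-/

set_option autoImplicit false
set_option linter.style.haveILetI false
set_option linter.unusedVariables false
set_option linter.unusedSectionVars false

universe u
open Groth.Agent.Helper12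

namespace Groth.Agent.Helper12.Kum

section roots

variable {A : Type u} [CommRing A] [IsLocalRing A] {n : ℕ}

/-- an `n`-th root of unity congruent to `1` modulo the maximal ideal is `1` (`n` invertible) -/
theorem eq_one_of_pow_eq_one (hn : IsUnit ((n : ℕ) : A)) (x : A) (hx : x ^ n = 1)
    (h1 : x - 1 ∈ IsLocalRing.maximalIdeal A) : x = 1 := by
  have hg : (x - 1) * ∑ i ∈ Finset.range n, x ^ i = 0 := by
    rw [mul_geom_sum, hx, sub_self]
  have hmem : (∑ i ∈ Finset.range n, x ^ i) - ((n : ℕ) : A) ∈ IsLocalRing.maximalIdeal A := by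
    have h2 : (∑ i ∈ Finset.range n, x ^ i) - ((n : ℕ) : A) =
        ∑ i ∈ Finset.range n, (x ^ i - 1) := by
      rw [Finset.sum_sub_distrib, Finset.sum_const, Finset.card_range, nsmul_eq_mul, mul_one]
    rw [h2]
    apply Ideal.sum_mem
    intro i _
    rw [← mul_geom_sum]
    exact Ideal.mul_mem_right _ _ h1
  have hsum : IsUnit (∑ i ∈ Finset.range n, x ^ i) := by
    by_contra hnu
    have h2 : (∑ i ∈ Finset.range n, x ^ i) ∈ IsLocalRing.maximalIdeal A :=
      (IsLocalRing.mem_maximalIdeal _).mpr hnu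
    have h3 : ((n : ℕ) : A) ∈ IsLocalRing.maximalIdeal A := by
      have h4 := Ideal.sub_mem _ h2 hmem
      rwa [sub_sub_cancel] at h4
    exact (IsLocalRing.mem_maximalIdeal _).mp h3 hn
  exact sub_eq_zero.mp ((hsum.mul_left_eq_zero).mp hg)

theorem isUnit_pow_sub_one (hn : IsUnit ((n : ℕ) : A)) (ζ₀ : A) (hζ₀ : IsPrimitiveRoot ζ₀ n)
    (l : ℕ) (hl : ¬ n ∣ l) : IsUnit (ζ₀ ^ l - 1) := by
  by_contra hnu
  have h1 : ζ₀ ^ l - 1 ∈ IsLocalRing.maximalIdeal A := (IsLocalRing.mem_maximalIdeal _).mpr hnu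
  have h2 : ζ₀ ^ l = 1 := eq_one_of_pow_eq_one hn (ζ₀ ^ l)
    (by rw [← pow_mul, mul_comm, pow_mul, hζ₀.pow_eq_one, one_pow]) h1
  exact hl (hζ₀.dvd_of_pow_eq_one l h2)

theorem exists_pow_eq (hn1 : 1 ≤ n) (hn : IsUnit ((n : ℕ) : A)) (ζ₀ : A)
    (hζ₀ : IsPrimitiveRoot ζ₀ n) (ζ : A) (hζ : ζ ^ n = 1) : ∃ i : ℕ, ζ = ζ₀ ^ i := by
  have hn0 : n ≠ 0 := by omega
  haveI : NeZero n := ⟨hn0⟩
  have hprim : IsPrimitiveRoot (IsLocalRing.residue A ζ₀) n := by
    refine ⟨by rw [← map_pow, hζ₀.pow_eq_one, map_one], fun l hl => ?_⟩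
    by_contra hnl
    have hu := isUnit_pow_sub_one hn ζ₀ hζ₀ l hnl
    have h0 : IsLocalRing.residue A (ζ₀ ^ l - 1) = 0 := by
      rw [map_sub, map_pow, hl, map_one, sub_self]
    exact ((IsLocalRing.mem_maximalIdeal _).mp ((IsLocalRing.residue_eq_zero_iff _).mp h0)) hu
  obtain ⟨i, -, hi⟩ := hprim.eq_pow_of_pow_eq_one (ξ := IsLocalRing.residue A ζ)
    (by rw [← map_pow, hζ, map_one])
  refine ⟨i, ?_⟩
  have hwn : (ζ₀ ^ i) ^ n = 1 := by rw [← pow_mul, mul_comm, pow_mul, hζ₀.pow_eq_one, one_pow]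
  have hu1 : (ζ * (ζ₀ ^ i) ^ (n - 1)) ^ n = 1 := by
    rw [mul_pow, hζ, one_mul, ← pow_mul, mul_comm, pow_mul, hwn, one_pow]
  have hr : IsLocalRing.residue A (ζ * (ζ₀ ^ i) ^ (n - 1)) = 1 := by
    rw [map_mul, map_pow, map_pow, ← hi, mul_pow_sub_one hn0, ← map_pow, ← map_pow, hwn, map_one]
  have hu2 : ζ * (ζ₀ ^ i) ^ (n - 1) - 1 ∈ IsLocalRing.maximalIdeal A := by
    rw [← IsLocalRing.residue_eq_zero_iff, map_sub, hr, map_one, sub_self]
  have h1 := eq_one_of_pow_eq_one hn _ hu1 hu2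
  calc ζ = ζ * ((ζ₀ ^ i) ^ (n - 1) * ζ₀ ^ i) := by rw [pow_sub_one_mul hn0, hwn, mul_one]
    _ = (ζ * (ζ₀ ^ i) ^ (n - 1)) * ζ₀ ^ i := by ring
    _ = ζ₀ ^ i := by rw [h1, one_mul]

end roots

section basic

variable {A B : Type u} [CommRing A] [CommRing B] [Algebra A B] {n : ℕ}

/-- `μ_n(A) → A` -/
noncomputable def iA (A : Type u) [CommRing A] (n : ℕ) : ↥(rootsOfUnity n A) →* A :=
  (Units.coeHom A).comp (rootsOfUnity n A).subtype

/-- `μ_n(A) → B` -/
noncomputable def iB (A B : Type u) [CommRing A] [CommRing B] [Algebra A B] (n : ℕ) :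
    ↥(rootsOfUnity n A) →* B :=
  ((algebraMap A B : A →+* B) : A →* B).comp (iA A n)

theorem iB_apply (ζ : rootsOfUnity n A) : iB A B n ζ = algebraMap A B ((ζ : Aˣ) : A) := rfl

theorem root_pow (ζ : rootsOfUnity n A) : ζ ^ n = 1 := by
  apply Subtype.ext
  rw [Subgroup.coe_pow, Subgroup.coe_one]
  exact (mem_rootsOfUnity n _).mp ζ.2

/-- `k ↦ z^k` on `ZMod n` -/
noncomputable def zp (z : rootsOfUnity n A) (k : ZMod n) : rootsOfUnity n A := z ^ k.val

theorem zp_zero [NeZero n] (z : rootsOfUnity n A) : zp z (0 : ZMod n) = 1 := by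
  unfold zp
  rw [ZMod.val_zero, pow_zero]

theorem zp_add [NeZero n] (z : rootsOfUnity n A) (i j : ZMod n) :
    zp z (i + j) = zp z i * zp z j := by
  unfold zp
  rw [ZMod.val_add, ← pow_add, ← pow_eq_pow_mod _ (root_pow z)]

/-- `k ↦ image of z^k in B` -/
noncomputable def io (B : Type u) [CommRing B] [Algebra A B] (z : rootsOfUnity n A)
    (k : ZMod n) : B := iB A B n (zp z k)

theorem io_zero [NeZero n] (z : rootsOfUnity n A) : io B z (0 : ZMod n) = 1 := by
  unfold io
  rw [zp_zero, map_one]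

theorem io_add [NeZero n] (z : rootsOfUnity n A) (i j : ZMod n) :
    io B z (i + j) = io B z i * io B z j := by
  unfold io
  rw [zp_add, map_mul]

theorem io_isUnit [NeZero n] (z : rootsOfUnity n A) (k : ZMod n) : IsUnit (io B z k) := by
  have h : io B z k * io B z (-k) = 1 := by rw [← io_add, add_neg_cancel, io_zero]
  exact IsUnit.of_mul_eq_one _ h

theorem io_eq (z : rootsOfUnity n A) (ζ₀ : A) (hz : ((z : Aˣ) : A) = ζ₀) (k : ZMod n) :
    io B z k = algebraMap A B (ζ₀ ^ k.val) := by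
  unfold io zp
  rw [iB_apply, Subgroup.coe_pow, Units.val_pow_eq_pow_val, hz]

theorem io_sub_one_isUnit [IsLocalRing A] [NeZero n] (hn : IsUnit ((n : ℕ) : A)) (ζ₀ : A)
    (hζ₀ : IsPrimitiveRoot ζ₀ n) (z : rootsOfUnity n A) (hz : ((z : Aˣ) : A) = ζ₀)
    (k : ZMod n) (hk : k ≠ 0) : IsUnit (io B z k - 1) := by
  rw [io_eq z ζ₀ hz, ← map_one (algebraMap A B), ← map_sub]
  apply IsUnit.map
  apply isUnit_pow_sub_one hn ζ₀ hζ₀
  intro hdvd
  have h1 : k.val < n := ZMod.val_lt k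
  have h2 : k.val = 0 := Nat.eq_zero_of_dvd_of_lt hdvd h1
  exact hk ((ZMod.val_eq_zero k).mp h2)

theorem zp_surj [IsLocalRing A] (hn1 : 1 ≤ n) (hn : IsUnit ((n : ℕ) : A)) (ζ₀ : A)
    (hζ₀ : IsPrimitiveRoot ζ₀ n) (z : rootsOfUnity n A) (hz : ((z : Aˣ) : A) = ζ₀)
    (g : rootsOfUnity n A) : ∃ k : ZMod n, zp z k = g := by
  haveI : NeZero n := ⟨by omega⟩
  have hg : (((g : Aˣ) : A)) ^ n = 1 := by
    have h2 := (mem_rootsOfUnity n (g : Aˣ)).mp g.2
    have h3 := congrArg Units.val h2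
    simpa using h3
  obtain ⟨i, hi⟩ := exists_pow_eq hn1 hn ζ₀ hζ₀ _ hg
  refine ⟨(i : ZMod n), ?_⟩
  unfold zp
  rw [ZMod.val_natCast, ← pow_eq_pow_mod _ (root_pow z)]
  apply Subtype.ext
  apply Units.ext
  rw [Subgroup.coe_pow, Units.val_pow_eq_pow_val, hz, hi]

/-- the map `A[T]/(T^n - a) → B`, `T ↦ t` -/
noncomputable def theta (t : B) (a : A) (hta : algebraMap A B a = t ^ n) :
    SGA1t.kummer A (fun _ : Unit => a) (fun _ => n) →ₐ[A] B :=
  Ideal.Quotient.liftₐ _ (MvPolynomial.aeval (fun _ : Unit => t)) (by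
    intro q hq
    have hle : Ideal.span (Set.range fun i : Unit =>
        (MvPolynomial.X i : MvPolynomial Unit A) ^ n - MvPolynomial.C a) ≤
        RingHom.ker (MvPolynomial.aeval (R := A) (fun _ : Unit => t)) := by
      rw [Ideal.span_le]
      rintro _ ⟨i, rfl⟩
      rw [SetLike.mem_coe, RingHom.mem_ker]
      simp [hta]
    exact hle hq)

theorem theta_mk (t : B) (a : A) (hta : algebraMap A B a = t ^ n) (q : MvPolynomial Unit A) :
    theta t a hta (Ideal.Quotient.mk _ q) = MvPolynomial.aeval (fun _ : Unit => t) q := rfl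

/-- the class of `T` -/
noncomputable def x0 (a : A) (n : ℕ) : SGA1t.kummer A (fun _ : Unit => a) (fun _ => n) :=
  Ideal.Quotient.mk _ (MvPolynomial.X ())

theorem theta_x0 (t : B) (a : A) (hta : algebraMap A B a = t ^ n) :
    theta t a hta (x0 a n) = t := by
  show MvPolynomial.aeval (fun _ : Unit => t) (MvPolynomial.X ()) = t
  rw [MvPolynomial.aeval_X]

theorem ev_surj (a : A) (n : ℕ) (x : SGA1t.kummer A (fun _ : Unit => a) (fun _ => n)) :
    ∃ r : Polynomial A, Polynomial.aeval (x0 a n) r = x := by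
  obtain ⟨q, rfl⟩ := Ideal.Quotient.mk_surjective x
  induction q using MvPolynomial.induction_on with
  | C c => exact ⟨Polynomial.C c, by rw [Polynomial.aeval_C]; rfl⟩
  | add p q hp hq =>
    obtain ⟨r1, h1⟩ := hp
    obtain ⟨r2, h2⟩ := hq
    exact ⟨r1 + r2, by rw [map_add, h1, h2, map_add]⟩
  | mul_X p i hp =>
    obtain ⟨r, h⟩ := hp
    exact ⟨r * Polynomial.X, by rw [map_mul, Polynomial.aeval_X, h, map_mul]; rfl⟩

theorem theta_ev (t : B) (a : A) (hta : algebraMap A B a = t ^ n) (r : Polynomial A) :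
    theta t a hta (Polynomial.aeval (x0 a n) r) = Polynomial.aeval t r := by
  rw [← Polynomial.aeval_algHom_apply, theta_x0]

theorem ev_g (a : A) (n : ℕ) :
    Polynomial.aeval (x0 a n) ((Polynomial.X : Polynomial A) ^ n - Polynomial.C a) = 0 := by
  rw [map_sub, map_pow, Polynomial.aeval_X, Polynomial.aeval_C]
  have h : x0 a n ^ n - algebraMap A (SGA1t.kummer A (fun _ : Unit => a) (fun _ => n)) a =
      Ideal.Quotient.mk _ ((MvPolynomial.X () : MvPolynomial Unit A) ^ n - MvPolynomial.C a) := by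
    rw [map_sub, map_pow]
    rfl
  rw [h]
  exact Ideal.Quotient.eq_zero_iff_mem.mpr (Ideal.subset_span ⟨(), rfl⟩)

theorem twist_mk (a : A) (ζ : rootsOfUnity n A) (q : MvPolynomial Unit A) :
    SGA1t.kummerTwist A (fun _ : Unit => a) (fun _ => n) (fun _ => ζ) (Ideal.Quotient.mk _ q) =
      Ideal.Quotient.mk _ (MvPolynomial.aeval (R := A)
        (fun i : Unit => MvPolynomial.C (((ζ : Aˣ) : A)) * MvPolynomial.X i) q) := rfl

theorem sigma_theta (σ : ↥(rootsOfUnity n A) → (B →ₐ[A] B)) (t : B) (a : A)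
    (hta : algebraMap A B a = t ^ n) (ζ : rootsOfUnity n A) (hζ : σ ζ t = iB A B n ζ * t)
    (x : SGA1t.kummer A (fun _ : Unit => a) (fun _ => n)) :
    σ ζ (theta t a hta x) = theta t a hta
      (SGA1t.kummerTwist A (fun _ : Unit => a) (fun _ => n) (fun _ => ζ) x) := by
  obtain ⟨q, rfl⟩ := Ideal.Quotient.mk_surjective x
  rw [twist_mk, theta_mk, theta_mk]
  have h1 : σ ζ (MvPolynomial.aeval (fun _ : Unit => t) q) =
      MvPolynomial.aeval (fun _ : Unit => σ ζ t) q :=
    MvPolynomial.comp_aeval_apply _ _ _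
  have h2 : MvPolynomial.aeval (fun _ : Unit => t) (MvPolynomial.aeval (R := A)
      (fun i : Unit => MvPolynomial.C (((ζ : Aˣ) : A)) * MvPolynomial.X i) q) =
      MvPolynomial.aeval (fun i : Unit => MvPolynomial.aeval (fun _ : Unit => t)
        (MvPolynomial.C (((ζ : Aˣ) : A)) * MvPolynomial.X i)) q :=
    MvPolynomial.comp_aeval_apply _ _ _
  have h3 : (fun _ : Unit => σ ζ t) = (fun i : Unit => MvPolynomial.aeval (fun _ : Unit => t)
        (MvPolynomial.C (((ζ : Aˣ) : A)) * MvPolynomial.X i)) := by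
    funext i
    rw [hζ, map_mul, MvPolynomial.aeval_C, MvPolynomial.aeval_X]
    rfl
  rw [h1, h2, h3]

/-- an enumeration of `ℤ/n` -/
noncomputable def en (n : ℕ) [NeZero n] : Fin n ≃ ZMod n :=
  (Fintype.equivFinOfCardEq (ZMod.card n)).symm

/-- the nodes `ζ₀^k t` -/
noncomputable def vv [NeZero n] (z : rootsOfUnity n A) (t : B) : Fin n → B :=
  fun k => io B z (en n k) * t

theorem isUnit_det [IsLocalRing A] [NeZero n] (hn : IsUnit ((n : ℕ) : A)) (ζ₀ : A)
    (hζ₀ : IsPrimitiveRoot ζ₀ n) (z : rootsOfUnity n A) (hz : ((z : Aˣ) : A) = ζ₀)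
    (t : B) (htu : IsUnit t) : IsUnit (Matrix.vandermonde (vv z t)).det := by
  rw [Matrix.det_vandermonde]
  apply Finset.prod_induction _ IsUnit (fun _ _ => IsUnit.mul) isUnit_one
  intro i _
  apply Finset.prod_induction _ IsUnit (fun _ _ => IsUnit.mul) isUnit_one
  intro j hj
  have hij : i < j := by simpa using hj
  have h1 : vv z t j - vv z t i =
      io B z (en n i) * (io B z (en n j - en n i) - 1) * t := by
    have h2 : io B z (en n j) = io B z (en n i) * io B z (en n j - en n i) := by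
      rw [← io_add, add_sub_cancel]
    simp only [vv]
    rw [h2]
    ring
  rw [h1]
  refine ((io_isUnit _ _).mul ?_).mul htu
  apply io_sub_one_isUnit hn ζ₀ hζ₀ z hz
  intro h0
  have := (en n).injective (sub_eq_zero.mp h0)
  exact (ne_of_gt hij) this

theorem vand_inj (v : Fin n → B) (hu : IsUnit (Matrix.vandermonde v).det) (c c' : Fin n → B)
    (h : (Matrix.vandermonde v).mulVec c = (Matrix.vandermonde v).mulVec c') :
    c = c' := by
  have := congrArg ((Matrix.vandermonde v)⁻¹).mulVec h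
  rwa [Matrix.mulVec_mulVec, Matrix.mulVec_mulVec, Matrix.nonsing_inv_mul _ hu,
    Matrix.one_mulVec, Matrix.one_mulVec] at this

theorem vand_row [NeZero n] (z : rootsOfUnity n A) (t : B) (c : Fin n → B) (k : Fin n) :
    (Matrix.vandermonde (vv z t)).mulVec c k =
      ∑ i : Fin n, (io B z (en n k) * t) ^ (i : ℕ) * c i := by
  simp [Matrix.mulVec, dotProduct, Matrix.vandermonde_apply, vv]

theorem sigma_io (σ : ↥(rootsOfUnity n A) → (B →ₐ[A] B)) (g : rootsOfUnity n A)
    (z : rootsOfUnity n A) (k : ZMod n) : σ g (io B z k) = io B z k := by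
  unfold io
  rw [iB_apply]
  exact (σ g).commutes _

end basic

section main

variable {A B : Type u} [CommRing A] [CommRing B] [Algebra A B] {n : ℕ}
  {σ : ↥(rootsOfUnity n A) → (B →ₐ[A] B)}
  [Algebra.FormallyUnramified A B] [Algebra.EssFiniteType A B] [Module.FaithfullyFlat A B]
  [Algebra.IsIntegral A B] [IsLocalRing A] [Fintype ↥(rootsOfUnity n A)]
  (H : TorsG ↥(rootsOfUnity n A) σ)

include H

theorem exists_t (hn1 : 1 ≤ n) :
    ∃ (t : B) (a : Aˣ), algebraMap A B (a : A) = t ^ n ∧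
      ∀ ζ : rootsOfUnity n A, σ ζ t = iB A B n ζ * t := by
  classical
  let 𝔪 := IsLocalRing.maximalIdeal A
  letI : Field (A ⧸ 𝔪) := Ideal.Quotient.field 𝔪
  let Ω := AlgebraicClosure (A ⧸ 𝔪)
  let χ : A →+* Ω := (algebraMap (A ⧸ 𝔪) Ω).comp (Ideal.Quotient.mk 𝔪)
  obtain ⟨s0, hs0⟩ := ArtSch.exists_extension (algebraMap A B)
    (FaithfulSMul.algebraMap_injective A B) Algebra.IsIntegral.isIntegral χ
  let S : ↥(rootsOfUnity n A) → (B →* Ω) :=
    fun j => ((s0.comp (σ j).toRingHom : B →+* Ω) : B →* Ω)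
  have hSinj : Function.Injective S := by
    intro i j hij
    have hij' : s0.comp (σ i).toRingHom = s0.comp (σ j).toRingHom := by
      ext b
      exact congrArg (fun f : B →* Ω => f b) hij
    obtain ⟨j0, -, huniq⟩ := H.tors Ω s0 (s0.comp (σ i).toRingHom) (by
      ext a
      simp)
    exact (huniq i rfl).trans (huniq j hij'.symm).symm
  have hli := (linearIndependent_monoidHom B Ω).comp S hSinj
  let cf : ↥(rootsOfUnity n A) → Ω := fun ζ => s0 (iB A B n ζ⁻¹)
  have hcf : ∀ ζ, cf ζ ≠ 0 := by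
    intro ζ
    have h1 : cf ζ * s0 (iB A B n ζ) = 1 := by
      show s0 (iB A B n ζ⁻¹) * s0 (iB A B n ζ) = 1
      rw [← map_mul, ← map_mul, inv_mul_cancel, map_one, map_one]
    exact left_ne_zero_of_mul_eq_one h1
  have hne : ∃ c : B, ∑ j, cf j * s0 (σ j c) ≠ 0 := by
    by_contra hall
    push Not at hall
    have h0 : ∑ j : ↥(rootsOfUnity n A), cf j • ((fun f : B →* Ω => (f : B → Ω)) ∘ S) j = 0 := by
      ext c
      simp only [Finset.sum_apply, Pi.smul_apply, Function.comp_apply, smul_eq_mul,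
        Pi.zero_apply]
      exact hall c
    have := Fintype.linearIndependent_iff.mp hli cf h0 1
    exact hcf 1 this
  obtain ⟨c, hc⟩ := hne
  let t : B := ∑ ζ : ↥(rootsOfUnity n A), iB A B n ζ⁻¹ * σ ζ c
  have hst : s0 t ≠ 0 := by
    have h1 : s0 t = ∑ j, cf j * s0 (σ j c) := by
      show s0 (∑ ζ : ↥(rootsOfUnity n A), iB A B n ζ⁻¹ * σ ζ c) = _
      rw [map_sum]
      apply Finset.sum_congr rfl
      intro j _
      rw [map_mul]
    rw [h1]
    exact hc
  have ht : ∀ η : rootsOfUnity n A, σ η t = iB A B n η * t := by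
    intro η
    have h1 : σ η t = ∑ ζ : ↥(rootsOfUnity n A), iB A B n ζ⁻¹ * σ (η * ζ) c := by
      show σ η (∑ ζ : ↥(rootsOfUnity n A), iB A B n ζ⁻¹ * σ ζ c) = _
      rw [map_sum]
      apply Finset.sum_congr rfl
      intro ζ _
      rw [map_mul, iB_apply, (σ η).commutes, H.mul]
      rfl
    have h2 : ∑ ζ : ↥(rootsOfUnity n A), iB A B n ζ⁻¹ * σ (η * ζ) c =
        ∑ ζ : ↥(rootsOfUnity n A), iB A B n (η * ζ⁻¹) * σ ζ c := by
      rw [← Equiv.sum_comp (Equiv.mulLeft η) (fun ζ => iB A B n (η * ζ⁻¹) * σ ζ c)]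
      apply Finset.sum_congr rfl
      intro ζ _
      simp only [Equiv.coe_mulLeft]
      have e : η * (η * ζ)⁻¹ = ζ⁻¹ := by
        rw [mul_inv_rev, mul_comm ζ⁻¹ η⁻¹, mul_inv_cancel_left]
      rw [e]
    rw [h1, h2]
    show _ = iB A B n η * ∑ ζ : ↥(rootsOfUnity n A), iB A B n ζ⁻¹ * σ ζ c
    rw [Finset.mul_sum]
    apply Finset.sum_congr rfl
    intro ζ _
    rw [map_mul, mul_assoc]
  have hinvt : ∀ ζ : rootsOfUnity n A, σ ζ (t ^ n) = t ^ n := by
    intro ζ
    rw [map_pow, ht, mul_pow, ← map_pow, root_pow, map_one, one_mul]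
  obtain ⟨a0, ha0⟩ := inv_mem H (t ^ n) hinvt
  have ha0u : IsUnit a0 := by
    by_contra hnu
    have h1 : a0 ∈ 𝔪 := (IsLocalRing.mem_maximalIdeal _).mpr hnu
    have h2 : χ a0 = 0 := by
      show (algebraMap (A ⧸ 𝔪) Ω) (Ideal.Quotient.mk 𝔪 a0) = 0
      rw [Ideal.Quotient.eq_zero_iff_mem.mpr h1, map_zero]
    have h3 : s0 (algebraMap A B a0) = χ a0 := by
      rw [← hs0]
      rfl
    rw [ha0, map_pow, h2] at h3
    exact hst ((pow_eq_zero_iff (by omega)).mp h3)
  exact ⟨t, ha0u.unit, by rw [IsUnit.unit_spec]; exact ha0, ht⟩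

theorem theta_surjective (hn1 : 1 ≤ n) (hn : IsUnit ((n : ℕ) : A)) (ζ₀ : A)
    (hζ₀ : IsPrimitiveRoot ζ₀ n) (z : rootsOfUnity n A) (hz : ((z : Aˣ) : A) = ζ₀)
    (t : B) (ht : ∀ ζ : rootsOfUnity n A, σ ζ t = iB A B n ζ * t) (a : A)
    (hta : algebraMap A B a = t ^ n) (hau : IsUnit a) :
    Function.Surjective (theta t a hta) := by
  intro b
  haveI : NeZero n := ⟨by omega⟩
  have htu : IsUnit t := by
    have h : IsUnit (t ^ n) := by
      rw [← hta]
      exact hau.map _
    exact (isUnit_pow_iff (by omega)).mp h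
  have hu := isUnit_det (B := B) hn ζ₀ hζ₀ z hz t htu
  have hts : ∀ k : ZMod n, σ (zp z k) t = io B z k * t := fun k => ht _
  let V := Matrix.vandermonde (vv z t)
  let w : Fin n → B := fun k => σ (zp z (en n k)) b
  let c : Fin n → B := V⁻¹.mulVec w
  have hVc : V.mulVec c = w := by
    rw [Matrix.mulVec_mulVec, Matrix.mul_nonsing_inv _ hu, Matrix.one_mulVec]
  have hrow : ∀ k, ∑ i : Fin n, (io B z (en n k) * t) ^ (i : ℕ) * c i =
      σ (zp z (en n k)) b := by
    intro k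
    rw [← vand_row]
    exact congrFun hVc k
  have hinv : ∀ (m : ZMod n) (i : Fin n), σ (zp z m) (c i) = c i := by
    intro m
    have hfun : (fun i => σ (zp z m) (c i)) = c := by
      apply vand_inj (vv z t) hu
      rw [show (Matrix.vandermonde (vv z t)).mulVec c = w from hVc]
      funext k
      rw [vand_row]
      have hk' : en n ((en n).symm (en n k - m)) = en n k - m := (en n).apply_symm_apply _
      have h1 := congrArg (σ (zp z m)) (hrow ((en n).symm (en n k - m)))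
      rw [hk', map_sum] at h1
      have h2 : io B z (en n k - m) * io B z m = io B z (en n k) := by
        rw [← io_add, sub_add_cancel]
      have h3 : σ (zp z m) (σ (zp z (en n k - m)) b) = σ (zp z (en n k)) b := by
        have h4 := H.mul (zp z m) (zp z (en n k - m))
        rw [← zp_add, add_sub_cancel] at h4
        rw [h4]
        rfl
      rw [h3] at h1
      show ∑ i : Fin n, (io B z (en n k) * t) ^ (i : ℕ) * σ (zp z m) (c i) = σ (zp z (en n k)) b
      rw [← h1]
      apply Finset.sum_congr rfl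
      intro i _
      rw [map_mul, map_pow, map_mul, hts, ← h2, sigma_io, mul_assoc]
    intro i
    exact congrFun hfun i
  choose α hα using fun i => inv_mem H (c i) (fun g => by
    obtain ⟨m, rfl⟩ := zp_surj hn1 hn ζ₀ hζ₀ z hz g
    exact hinv m i)
  have h0 := hrow ((en n).symm 0)
  rw [(en n).apply_symm_apply, io_zero, one_mul, zp_zero, H.one] at h0
  refine ⟨Ideal.Quotient.mk _
    (∑ i : Fin n, MvPolynomial.C (α i) * MvPolynomial.X () ^ (i : ℕ)), ?_⟩
  rw [theta_mk, map_sum]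
  simp only [map_mul, MvPolynomial.aeval_C, map_pow, MvPolynomial.aeval_X, hα]
  have h0' : ∑ i : Fin n, t ^ (i : ℕ) * c i = b := h0
  rw [← h0']
  apply Finset.sum_congr rfl
  intro i _
  ring

theorem theta_injective (hn1 : 1 ≤ n) (hn : IsUnit ((n : ℕ) : A)) (ζ₀ : A)
    (hζ₀ : IsPrimitiveRoot ζ₀ n) (z : rootsOfUnity n A) (hz : ((z : Aˣ) : A) = ζ₀)
    (t : B) (ht : ∀ ζ : rootsOfUnity n A, σ ζ t = iB A B n ζ * t) (a : A)
    (hta : algebraMap A B a = t ^ n) (hau : IsUnit a) :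
    Function.Injective (theta t a hta) := by
  haveI : NeZero n := ⟨by omega⟩
  have htu : IsUnit t := by
    have h : IsUnit (t ^ n) := by
      rw [← hta]
      exact hau.map _
    exact (isUnit_pow_iff (by omega)).mp h
  have hu := isUnit_det (B := B) hn ζ₀ hζ₀ z hz t htu
  have hts : ∀ k : ZMod n, σ (zp z k) t = io B z k * t := fun k => ht _
  rw [injective_iff_map_eq_zero]
  intro x hx
  obtain ⟨r0, rfl⟩ := ev_surj a n x
  obtain ⟨g, hgd⟩ : ∃ g : Polynomial A, g = Polynomial.X ^ n - Polynomial.C a := ⟨_, rfl⟩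
  have hg : g.Monic := by
    rw [hgd]
    exact Polynomial.monic_X_pow_sub_C a (by omega)
  have hgdeg : g.natDegree = n := by
    rw [hgd]
    exact Polynomial.natDegree_X_pow_sub_C
  have hg1 : g ≠ 1 := by
    intro h1
    rw [h1, Polynomial.natDegree_one] at hgdeg
    omega
  have hevg : Polynomial.aeval (x0 a n) g = 0 := by
    rw [hgd]
    exact ev_g a n
  have hqr : Polynomial.aeval (x0 a n) (r0 %ₘ g) = Polynomial.aeval (x0 a n) r0 := by
    have h7 := congrArg (Polynomial.aeval (x0 a n)) (Polynomial.modByMonic_add_div r0 g)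
    rw [map_add, map_mul, hevg, zero_mul, add_zero] at h7
    exact h7
  rw [← hqr] at hx ⊢
  rw [theta_ev] at hx
  have hrdeg : (r0 %ₘ g).natDegree < n := by
    have := Polynomial.natDegree_modByMonic_lt r0 hg hg1
    rwa [hgdeg] at this
  rw [Polynomial.aeval_eq_sum_range' hrdeg, Finset.sum_range] at hx
  have hall : ∀ k : Fin n, ∑ i : Fin n, (io B z (en n k) * t) ^ (i : ℕ) *
      algebraMap A B ((r0 %ₘ g).coeff i) = 0 := by
    intro k
    have h5 := congrArg (σ (zp z (en n k))) hx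
    rw [map_sum, map_zero] at h5
    rw [← h5]
    apply Finset.sum_congr rfl
    intro i _
    rw [map_smul, map_pow, hts, Algebra.smul_def, mul_comm]
  have hc : (fun i : Fin n => algebraMap A B ((r0 %ₘ g).coeff i)) = fun _ => 0 := by
    apply vand_inj (vv z t) hu
    funext k
    rw [vand_row, vand_row, hall k]
    simp
  have hr0 : r0 %ₘ g = 0 := by
    ext i
    by_cases hi : i < n
    · have h6 := congrFun hc ⟨i, hi⟩
      simp only at h6
      rw [Polynomial.coeff_zero]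
      exact FaithfulSMul.algebraMap_injective A B (by rw [h6, map_zero])
    · rw [Polynomial.coeff_zero]
      exact Polynomial.coeff_eq_zero_of_natDegree_lt (lt_of_lt_of_le hrdeg (not_lt.mp hi))
  rw [hr0, map_zero]

end main

end Groth.Agent.Helper12.Kum
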