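import Mathlib
import Groth.Prelude.Def_SGA1t
import Groth.Agent.Lib.Helper12.ArtSchC
import Groth.Agent.Lib.Helper12.KumB

/-!
# Kummer covers over a local ring (part C): the bridge to schemes

A principal `μ_n(A)`-cover `P` of `Spec A` (`A` local, `n` invertible, `A` containing a primitive
`n`-th root of unity) is `Spec A[T]/(T^n - a)` for a unit `a`, equivariantly.
-/

set_option autoImplicit false
set_option linter.style.haveILetI false
set_option linter.unusedVariables false
set_option linter.unusedSectionVars false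

universe u v
open CategoryTheory CategoryTheory.Limits AlgebraicGeometry
open Groth.Agent.Helper12

namespace Groth.Agent.Helper12.Kum

section bridge

variable {A : Type u} [CommRing A] {G : Type v} [Group G]
  (P : FEt.Cat (Spec (CommRingCat.of A))) (ρ : G →* Aut P)

variable [IsAffine P.left]

/-- the action on global sections -/
noncomputable def psiG (g : G) : Γ(P.left, ⊤) ⟶ Γ(P.left, ⊤) :=
  Spec.preimage (P.left.isoSpec.inv ≫ (ρ g).hom.left ≫ P.left.isoSpec.hom)

theorem map_psiG (g : G) : Spec.map (psiG P ρ g) =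
    P.left.isoSpec.inv ≫ (ρ g).hom.left ≫ P.left.isoSpec.hom :=
  Spec.map_preimage _

theorem left_comp_homG (g : G) : (ρ g).hom.left ≫ P.hom = P.hom :=
  MorphismProperty.Over.w (ρ g).hom

theorem phi_psiG (g : G) : ArtSch.phi P ≫ psiG P ρ g = ArtSch.phi P := by
  apply Spec.map_injective
  rw [Spec.map_comp, map_psiG, ArtSch.map_phi]
  simp only [Category.assoc, Iso.hom_inv_id_assoc]
  rw [left_comp_homG]

theorem psiG_one : psiG P ρ 1 = 𝟙 _ := by
  apply Spec.map_injective
  rw [map_psiG, Spec.map_id, map_one]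
  have : ((1 : Aut P).hom).left = 𝟙 P.left := rfl
  rw [this, Category.id_comp, Iso.inv_hom_id]

theorem psiG_mul (i j : G) : psiG P ρ (i * j) = psiG P ρ i ≫ psiG P ρ j := by
  apply Spec.map_injective
  rw [Spec.map_comp, map_psiG, map_psiG, map_psiG, map_mul]
  have : ((ρ i * ρ j).hom).left = (ρ j).hom.left ≫ (ρ i).hom.left := rfl
  rw [this]
  simp only [Category.assoc, Iso.hom_inv_id_assoc]

attribute [local instance] ArtSch.algInst

/-- the action as algebra maps -/
noncomputable def sigG (g : G) : Γ(P.left, ⊤) →ₐ[A] Γ(P.left, ⊤) :=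
  { (psiG P ρ g).hom with
    commutes' := fun a =>
      congrArg (fun m : CommRingCat.of A ⟶ Γ(P.left, ⊤) => m.hom a) (phi_psiG P ρ g) }

theorem torsG_of_principal (hP : SGA1t.IsPrincipal G P ρ) (hcomm : ∀ g h : G, g * h = h * g) :
    TorsG G (sigG P ρ) where
  one := by
    apply AlgHom.ext
    intro b
    show (psiG P ρ 1).hom b = b
    rw [psiG_one]
    rfl
  mul := by
    intro i j
    apply AlgHom.ext
    intro b
    show (psiG P ρ (i * j)).hom b = (psiG P ρ i).hom ((psiG P ρ j).hom b)
    rw [hcomm i j, psiG_mul]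
    rfl
  tors := by
    intro Ω _ _ s t hst
    let ξ : Spec (CommRingCat.of Ω) ⟶ Spec (CommRingCat.of A) :=
      Spec.map (ArtSch.phi P ≫ CommRingCat.ofHom s)
    have hs' : (Spec.map (CommRingCat.ofHom s) ≫ P.left.isoSpec.inv) ≫ P.hom = ξ := by
      rw [Category.assoc, ← ArtSch.map_phi, ← Spec.map_comp]
    have hpt : ArtSch.phi P ≫ CommRingCat.ofHom t = ArtSch.phi P ≫ CommRingCat.ofHom s := by
      ext a
      exact (RingHom.congr_fun hst a).symm
    have ht' : (Spec.map (CommRingCat.ofHom t) ≫ P.left.isoSpec.inv) ≫ P.hom = ξ := by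
      rw [Category.assoc, ← ArtSch.map_phi, ← Spec.map_comp, hpt]
    let s' : FEt.fiberObj ξ P :=
      (Subtype.mk _ hs' : {s : Spec (CommRingCat.of Ω) ⟶ P.left // s ≫ P.hom = ξ})
    let t' : FEt.fiberObj ξ P :=
      (Subtype.mk _ ht' : {s : Spec (CommRingCat.of Ω) ⟶ P.left // s ≫ P.hom = ξ})
    have key : ∀ g : G, (FEt.fiber ξ).map (ρ g).hom s' = t' ↔
        s.comp (sigG P ρ g).toRingHom = t := by
      intro g
      constructor
      · intro h
        have h1 : (Spec.map (CommRingCat.ofHom s) ≫ P.left.isoSpec.inv) ≫ (ρ g).hom.left =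
            Spec.map (CommRingCat.ofHom t) ≫ P.left.isoSpec.inv := by
          have h0 := congrArg Subtype.val h
          exact h0
        have h2 : Spec.map (psiG P ρ g ≫ CommRingCat.ofHom s) =
            Spec.map (CommRingCat.ofHom t) := by
          rw [Spec.map_comp, map_psiG]
          calc Spec.map (CommRingCat.ofHom s) ≫
                P.left.isoSpec.inv ≫ (ρ g).hom.left ≫ P.left.isoSpec.hom
              = ((Spec.map (CommRingCat.ofHom s) ≫ P.left.isoSpec.inv) ≫ (ρ g).hom.left) ≫
                P.left.isoSpec.hom := by simp only [Category.assoc]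
            _ = (Spec.map (CommRingCat.ofHom t) ≫ P.left.isoSpec.inv) ≫ P.left.isoSpec.hom := by
                rw [h1]
            _ = Spec.map (CommRingCat.ofHom t) := by
                rw [Category.assoc, Iso.inv_hom_id, Category.comp_id]
        have h3 := Spec.map_injective h2
        exact RingHom.ext fun b =>
          congrArg (fun m : Γ(P.left, ⊤) ⟶ CommRingCat.of Ω => m.hom b) h3
      · intro h
        have h3 : psiG P ρ g ≫ CommRingCat.ofHom s = CommRingCat.ofHom t :=
          CommRingCat.hom_ext h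
        apply Subtype.ext
        show (Spec.map (CommRingCat.ofHom s) ≫ P.left.isoSpec.inv) ≫ (ρ g).hom.left =
          Spec.map (CommRingCat.ofHom t) ≫ P.left.isoSpec.inv
        calc (Spec.map (CommRingCat.ofHom s) ≫ P.left.isoSpec.inv) ≫ (ρ g).hom.left
            = (Spec.map (CommRingCat.ofHom s) ≫
                P.left.isoSpec.inv ≫ (ρ g).hom.left ≫ P.left.isoSpec.hom) ≫
                P.left.isoSpec.inv := by
              simp only [Category.assoc, Iso.hom_inv_id, Category.comp_id]
          _ = (Spec.map (CommRingCat.ofHom s) ≫ Spec.map (psiG P ρ g)) ≫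
                P.left.isoSpec.inv := by rw [map_psiG]
          _ = Spec.map (psiG P ρ g ≫ CommRingCat.ofHom s) ≫ P.left.isoSpec.inv := by
              rw [Spec.map_comp]
          _ = Spec.map (CommRingCat.ofHom t) ≫ P.left.isoSpec.inv := by rw [h3]
    obtain ⟨g, hg, huniq⟩ := hP.2 Ω ξ s' t'
    exact ⟨g, (key g).mp hg, fun j hj => huniq j ((key j).mpr hj)⟩

end bridge

section main

theorem main (A : Type u) [CommRing A] [IsLocalRing A] (n : ℕ) (hn1 : 1 ≤ n)
    (hn : IsUnit ((n : ℕ) : A)) (ζ₀ : A) (hζ₀ : IsPrimitiveRoot ζ₀ n)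
    (P : FEt.Cat (Spec (CommRingCat.of A))) (ρ : ↥(rootsOfUnity n A) →* Aut P)
    (hP : SGA1t.IsPrincipal ↥(rootsOfUnity n A) P ρ) :
    ∃ (a : Aˣ) (e : P.left ≅ Spec (CommRingCat.of (SGA1t.kummer A (fun _ : Unit => (a : A)) (fun _ => n)))),
      e.hom ≫ Spec.map (CommRingCat.ofHom (algebraMap A (SGA1t.kummer A (fun _ : Unit => (a : A)) (fun _ => n)))) = P.hom ∧
      ∀ ζ : ↥(rootsOfUnity n A), (ρ ζ).hom.left ≫ e.hom =
        e.hom ≫ Spec.map (CommRingCat.ofHom (SGA1t.kummerTwist A (fun _ : Unit => (a : A)) (fun _ => n) (fun _ => ζ))) := by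
  haveI := ArtSch.isAffine_left P
  letI := ArtSch.algInst P
  haveI := ArtSch.finite_inst P
  haveI := ArtSch.etale_inst P
  haveI := ArtSch.ff_inst P hP.1
  haveI : NeZero n := ⟨by omega⟩
  let z : rootsOfUnity n A := hζ₀.toRootsOfUnity
  have hz : ((z : Aˣ) : A) = ζ₀ := hζ₀.val_toRootsOfUnity_coe
  haveI : Finite ↥(rootsOfUnity n A) :=
    Finite.of_surjective (zp z) (zp_surj hn1 hn ζ₀ hζ₀ z hz)
  letI : Fintype ↥(rootsOfUnity n A) := Fintype.ofFinite _
  have H := torsG_of_principal P ρ hP (fun g h => mul_comm g h)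
  obtain ⟨t, a, hta, ht⟩ := exists_t H hn1
  have hinj := theta_injective H hn1 hn ζ₀ hζ₀ z hz t ht (a : A) hta a.isUnit
  have hsurj := theta_surjective H hn1 hn ζ₀ hζ₀ z hz t ht (a : A) hta a.isUnit
  let E := RingEquiv.ofBijective (theta t (a : A) hta) ⟨hinj, hsurj⟩
  let θc : CommRingCat.of (SGA1t.kummer A (fun _ : Unit => (a : A)) (fun _ => n)) ⟶ Γ(P.left, ⊤) :=
    CommRingCat.ofHom (theta t (a : A) hta).toRingHom
  let θi : Γ(P.left, ⊤) ⟶ CommRingCat.of (SGA1t.kummer A (fun _ : Unit => (a : A)) (fun _ => n)) :=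
    CommRingCat.ofHom E.symm.toRingHom
  have hθ1 : θc ≫ θi = 𝟙 _ := by
    apply CommRingCat.hom_ext
    apply RingHom.ext
    intro x
    exact E.symm_apply_apply x
  have hθ2 : θi ≫ θc = 𝟙 _ := by
    apply CommRingCat.hom_ext
    apply RingHom.ext
    intro x
    exact E.apply_symm_apply x
  refine ⟨a, ⟨P.left.isoSpec.hom ≫ Spec.map θc, Spec.map θi ≫ P.left.isoSpec.inv, ?_, ?_⟩, ?_, ?_⟩
  · rw [Category.assoc, ← Category.assoc (Spec.map θc), ← Spec.map_comp, hθ2, Spec.map_id,
      Category.id_comp, Iso.hom_inv_id]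
  · rw [Category.assoc, ← Category.assoc P.left.isoSpec.inv, Iso.inv_hom_id, Category.id_comp,
      ← Spec.map_comp, hθ1, Spec.map_id]
  · show (P.left.isoSpec.hom ≫ Spec.map θc) ≫
      Spec.map (CommRingCat.ofHom (algebraMap A
        (SGA1t.kummer A (fun _ : Unit => (a : A)) (fun _ => n)))) = P.hom
    rw [Category.assoc, ← Spec.map_comp]
    have h0 : CommRingCat.ofHom (algebraMap A
        (SGA1t.kummer A (fun _ : Unit => (a : A)) (fun _ => n))) ≫ θc = ArtSch.phi P := by
      apply CommRingCat.hom_ext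
      apply RingHom.ext
      intro x
      exact (theta t (a : A) hta).commutes x
    rw [h0, ArtSch.map_phi, Iso.hom_inv_id_assoc]
  · intro ζ
    show (ρ ζ).hom.left ≫ (P.left.isoSpec.hom ≫ Spec.map θc) =
      (P.left.isoSpec.hom ≫ Spec.map θc) ≫
        Spec.map (CommRingCat.ofHom
          (SGA1t.kummerTwist A (fun _ : Unit => (a : A)) (fun _ => n) (fun _ => ζ)))
    have h1 : θc ≫ psiG P ρ ζ = CommRingCat.ofHom
        (SGA1t.kummerTwist A (fun _ : Unit => (a : A)) (fun _ => n) (fun _ => ζ)) ≫ θc := by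
      apply CommRingCat.hom_ext
      apply RingHom.ext
      intro x
      exact sigma_theta (sigG P ρ) t (a : A) hta ζ (ht ζ) x
    have h2 : (ρ ζ).hom.left ≫ P.left.isoSpec.hom =
        P.left.isoSpec.hom ≫ Spec.map (psiG P ρ ζ) := by
      rw [map_psiG, Iso.hom_inv_id_assoc]
    rw [← Category.assoc, h2, Category.assoc, Category.assoc, ← Spec.map_comp, ← Spec.map_comp, h1]

end main

end Groth.Agent.Helper12.Kum
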