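import Groth.Agent.Lib.Helper8.Canon2
import Groth.Agent.Lib.Helper8.LCFin

/-!
# `M ⊗ H^n_I(R) ≃ H^n_I(M)` for arbitrary modules when `H^{n+1}_I` vanishes (helper12)
Extends helper8's `lcTensorEquiv` from finitely generated modules to all modules.
-/

set_option autoImplicit false
universe u

namespace Groth.Agent.Helper12.LCTensor

open TensorProduct CategoryTheory Groth.Agent.Helper8.LC Groth.Agent.Helper8.Canon

variable {R : Type u} [CommRing R] (I : Ideal R) (n : ℕ)

/-- the comparison map `M ⊗ H^n_I(R) → H^n_I(M)` -/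
noncomputable abbrev tau (M : Type u) [AddCommGroup M] [Module R M] :
    (M ⊗[R] H I n R) →ₗ[R] H I n M :=
  (lcComparison I n).τ (ModuleCat.of R M)

theorem tau_nat {M N : Type u} [AddCommGroup M] [Module R M] [AddCommGroup N] [Module R N]
    (f : M →ₗ[R] N) (z : M ⊗[R] H I n R) :
    Hmap I n f (tau I n M z) = tau I n N (f.rTensor (H I n R) z) :=
  (lcComparison I n).nat_apply (ModuleCat.ofHom f) z

variable [IsNoetherianRing R]
  (hcd : ∀ (N : Type u) [AddCommGroup N] [Module R N], Subsingleton (H I (n + 1) N))

include hcd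

theorem tau_bijective_of_finite (M : Type u) [AddCommGroup M] [Module R M] [Module.Finite R M] :
    Function.Bijective (tau I n M) :=
  (lcComparison I n).bijective (rightExact_localCohomology I n hcd)
    (lcComparison_bijective_self I n) (ModuleCat.of R M)

theorem tau_surjective (M : Type u) [AddCommGroup M] [Module R M] :
    Function.Surjective (tau I n M) := by
  intro y
  obtain ⟨k, ξ, rfl⟩ := exists_rep I n (ModuleCat.of R M) y
  obtain ⟨M', hM', ξ', rfl⟩ := ext_exists_fg n (R ⧸ I ^ k) M ξ
  have : Module.Finite R M' := Module.Finite.iff_fg.mpr hM'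
  obtain ⟨z', hz'⟩ := (tau_bijective_of_finite I n hcd M').2 (ι I n (ModuleCat.of R M') k ξ')
  refine ⟨M'.subtype.rTensor _ z', ?_⟩
  rw [← tau_nat, hz', Hmap_ι]

open Classical in
omit [IsNoetherianRing R] hcd in
/-- every element of `(ι →₀ R) ⊗ X` is fixed by the projector onto finitely many coordinates -/
theorem exists_finset_fix {ι : Type u} (X : Type u) [AddCommGroup X] [Module R X]
    (z : (ι →₀ R) ⊗[R] X) : ∃ s : Finset ι,
      ((Finsupp.supported R R (s : Set ι)).subtype.rTensor X)
        ((Finsupp.restrictDom R R (s : Set ι)).rTensor X z) = z := by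
  have key : ∀ (s t : Finset ι), s ⊆ t → ∀ z : (ι →₀ R) ⊗[R] X,
      ((Finsupp.supported R R (s : Set ι)).subtype.rTensor X)
        ((Finsupp.restrictDom R R (s : Set ι)).rTensor X z) = z →
      ((Finsupp.supported R R (t : Set ι)).subtype.rTensor X)
        ((Finsupp.restrictDom R R (t : Set ι)).rTensor X z) = z := by
    intro s t hst z hz
    have h1 : ((Finsupp.supported R R (t : Set ι)).subtype ∘ₗ
        (Finsupp.restrictDom R R (t : Set ι))) ∘ₗ
        ((Finsupp.supported R R (s : Set ι)).subtype ∘ₗ
        (Finsupp.restrictDom R R (s : Set ι))) =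
        ((Finsupp.supported R R (s : Set ι)).subtype ∘ₗ
        (Finsupp.restrictDom R R (s : Set ι))) := by
      ext i j
      simp only [LinearMap.comp_apply, Submodule.subtype_apply, Finsupp.restrictDom_apply,
        Finsupp.lsingle_apply]
      by_cases hj : j ∈ s
      · rw [Finsupp.filter_apply_pos _ _ (show j ∈ (t : Set ι) from hst hj)]
      · by_cases hjt : j ∈ t
        · rw [Finsupp.filter_apply_pos _ _ (show j ∈ (t : Set ι) from hjt)]
        · rw [Finsupp.filter_apply_neg _ _ (show j ∉ (t : Set ι) from hjt),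
            Finsupp.filter_apply_neg _ _ (show j ∉ (s : Set ι) from hj)]
    have h2 := congrArg (fun φ => (φ.rTensor X) z) h1
    simp only [LinearMap.rTensor_comp, LinearMap.comp_apply] at h2
    rw [hz] at h2
    exact h2
  induction z using TensorProduct.induction_on with
  | zero => exact ⟨∅, by simp⟩
  | tmul f x =>
    refine ⟨f.support, ?_⟩
    rw [LinearMap.rTensor_tmul, LinearMap.rTensor_tmul]
    congr 1
    have := LinearMap.congr_fun (Finsupp.restrictDom_comp_subtype (R := R) (M := R)
      (f.support : Set ι)) ⟨f, Finsupp.mem_supported_support R f⟩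
    have h3 := congrArg Subtype.val this
    exact h3
  | add z₁ z₂ h₁ h₂ =>
    obtain ⟨s₁, hs₁⟩ := h₁
    obtain ⟨s₂, hs₂⟩ := h₂
    refine ⟨s₁ ∪ s₂, ?_⟩
    rw [map_add, map_add, key s₁ (s₁ ∪ s₂) Finset.subset_union_left z₁ hs₁,
      key s₂ (s₁ ∪ s₂) Finset.subset_union_right z₂ hs₂]

theorem tau_injective_finsupp (ι : Type u) : Function.Injective (tau I n (ι →₀ R)) := by
  classical
  rw [injective_iff_map_eq_zero]
  intro z hz
  obtain ⟨s, hs⟩ := exists_finset_fix (H I n R) z
  have : Module.Finite R ↥(Finsupp.supported R R (s : Set ι)) :=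
    Module.Finite.equiv (Finsupp.supportedEquivFinsupp (R := R) (M := R) (s : Set ι)).symm
  have h1 : tau I n ↥(Finsupp.supported R R (s : Set ι))
      ((Finsupp.restrictDom R R (s : Set ι)).rTensor (H I n R) z) = 0 := by
    rw [← tau_nat, hz, map_zero]
  have h2 := (tau_bijective_of_finite I n hcd ↥(Finsupp.supported R R (s : Set ι))).1
    (h1.trans (map_zero _).symm)
  rw [← hs, h2, map_zero]

theorem tau_bijective_of_surjective {F M : Type u} [AddCommGroup F] [Module R F]
    [AddCommGroup M] [Module R M] (π : F →ₗ[R] M) (hπ : Function.Surjective π)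
    (hF : Function.Bijective (tau I n F)) : Function.Bijective (tau I n M) := by
  have hex : Function.Exact (LinearMap.ker π).subtype π := LinearMap.exact_subtype_ker_map π
  let F' : ModuleCat.of R ↥(LinearMap.ker π) ⟶ ModuleCat.of R F :=
    ModuleCat.ofHom (LinearMap.ker π).subtype
  let P : ModuleCat.of R F ⟶ ModuleCat.of R M := ModuleCat.ofHom π
  obtain ⟨hGex, hGsurj⟩ := rightExact_localCohomology I n hcd F' P hex hπ
  have hc1 : ((localCohomology I n).map F').hom ∘ₗ tau I n ↥(LinearMap.ker π) =
      tau I n F ∘ₗ (LinearMap.ker π).subtype.rTensor (H I n R) := (lcComparison I n).nat F'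
  have hc2 : ((localCohomology I n).map P).hom ∘ₗ tau I n F =
      tau I n M ∘ₗ π.rTensor (H I n R) := (lcComparison I n).nat P
  have hs1 : Function.Surjective (tau I n ↥(LinearMap.ker π)) :=
    tau_surjective I n hcd ↥(LinearMap.ker π)
  have hT : Function.Exact ((LinearMap.ker π).subtype.rTensor (H I n R))
      (π.rTensor (H I n R)) := rTensor_exact (H I n R) hex hπ
  have hTs : Function.Surjective (π.rTensor (H I n R)) :=
    LinearMap.rTensor_surjective (H I n R) hπ
  exact LinearMap.bijective_of_surjective_of_bijective_of_right_exact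
    ((LinearMap.ker π).subtype.rTensor (H I n R)) (π.rTensor (H I n R))
    ((localCohomology I n).map F').hom ((localCohomology I n).map P).hom
    (tau I n ↥(LinearMap.ker π)) (tau I n F) (tau I n M) hc1 hc2 hT hGex hs1 hF hTs hGsurj

theorem tau_bijective (M : Type u) [AddCommGroup M] [Module R M] :
    Function.Bijective (tau I n M) :=
  tau_bijective_of_surjective I n hcd (Finsupp.linearCombination R (id : M → M))
    (Finsupp.linearCombination_id_surjective R M)
    ⟨tau_injective_finsupp I n hcd M, tau_surjective I n hcd (M →₀ R)⟩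

/-- `M ⊗ H^n_I(R) ≃ H^n_I(M)` for every module `M` when `H^{n+1}_I` vanishes identically. -/
noncomputable def lcTensorEquiv' (M : Type u) [AddCommGroup M] [Module R M] :
    (M ⊗[R] H I n R) ≃ₗ[R] H I n M :=
  LinearEquiv.ofBijective (tau I n M) (tau_bijective I n hcd M)

end Groth.Agent.Helper12.LCTensor
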