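import Mathlib
import Groth.Prelude.Def_LCI2
import Groth.Prelude.Def_Wider
import Groth.Agent.Lib.Helper12.KoszEuler4
import Groth.Agent.Lib.Helper11.KoszPerf

set_option autoImplicit false
universe u
open CategoryTheory CategoryTheory.Limits CochainComplex HomologicalComplex

namespace Groth.Agent.Helper12.LciGor

variable {R : Type u} [CommRing R]

theorem loc_zero_of_smul (q : Ideal R) [q.IsPrime] (f : R) (hf : f ∈ q) (N : Type u)
    [AddCommGroup N] [Module R N] [Module.Finite R N]
    (h : ∀ x : N, ∃ s : R, s ∉ q ∧ ∃ y : N, s • x = f • y) :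
    ∀ x : N, ∃ s : R, s ∉ q ∧ s • x = 0 := by
  have hfin : Module.Finite (Localization.AtPrime q) (LocalizedModule q.primeCompl N) :=
    inferInstance
  have htop : (⊤ : Submodule (Localization.AtPrime q) (LocalizedModule q.primeCompl N)) ≤
      (IsLocalRing.maximalIdeal (Localization.AtPrime q)) • ⊤ := by
    intro y _
    induction y using LocalizedModule.induction_on with
    | h x t =>
      obtain ⟨s, hs, z, hz⟩ := h x
      have e1 : LocalizedModule.mk x t =
          (algebraMap R (Localization.AtPrime q) f) •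
            LocalizedModule.mk z ((⟨s, hs⟩ : q.primeCompl) * t) := by
        rw [algebraMap_smul, LocalizedModule.smul'_mk, ← hz, LocalizedModule.mk_eq]
        refine ⟨1, ?_⟩
        simp only [one_smul, Submonoid.smul_def, mul_smul]
        rw [smul_comm]
      rw [e1]
      refine Submodule.smul_mem_smul ?_ trivial
      rw [← Localization.AtPrime.map_eq_maximalIdeal]
      exact Ideal.mem_map_of_mem _ hf
  have hbot := Submodule.eq_bot_of_le_smul_of_le_jacobson_bot _ _ (Module.Finite.fg_top) htop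
    (IsLocalRing.maximalIdeal_le_jacobson _)
  have hsub : Subsingleton (LocalizedModule q.primeCompl N) := by
    rw [← Submodule.subsingleton_iff (Localization.AtPrime q)]
    exact subsingleton_of_bot_eq_top hbot.symm
  rw [LocalizedModule.subsingleton_iff] at hsub
  intro x
  obtain ⟨r, hr, h0⟩ := hsub x
  exact ⟨r, hr, h0⟩

open Koszul

/-- the Koszul homology of `l` vanishes after localizing at `q`, outside degree `0`. -/
def LocAcyclic (q : Ideal R) (l : List R) : Prop :=
  ∀ i : ℤ, i ≠ 0 → ∀ x : (koszul R l).homology i, ∃ s : R, s ∉ q ∧ s • x = 0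

theorem cone_les' {K L : CochainComplex (ModuleCat.{u} R) ℤ} (φ : K ⟶ L) (n m : ℤ)
    (h : n + 1 = m) :
    ∃ (δ : (mappingCone φ).homology n ⟶ K.homology m),
      Function.Exact δ.hom (homologyMap φ m).hom := by
  subst h
  obtain ⟨δ, w₁, w₂, w₃, h₁, h₂, h₃⟩ := KoszEuler.cone_les φ n
  rw [ShortComplex.ShortExact.moduleCat_exact_iff_function_exact] at h₃
  exact ⟨δ, h₃⟩

theorem locAcyclic_tail [IsNoetherianRing R] (q : Ideal R) [q.IsPrime] (f : R) (hf : f ∈ q)
    (l : List R) (h : LocAcyclic q (f :: l)) : LocAcyclic q l := by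
  intro i hi
  have : Module.Finite R ((koszul R l).X i) := (Helper11.KoszPerf.koszul_finite_free R l i).1
  have : Module.Finite R ((koszul R l).homology i) := KoszEuler.finite_homology _ i
  apply loc_zero_of_smul q f hf
  intro x
  obtain ⟨δ, w₁, w₂, w₃, h₁, h₂, h₃⟩ := KoszEuler.cone_les (f • 𝟙 (koszul R l)) i
  rw [ShortComplex.ShortExact.moduleCat_exact_iff_function_exact] at h₁
  obtain ⟨s, hs, h0⟩ := h i hi ((homologyMap (mappingCone.inr (f • 𝟙 (koszul R l))) i).hom x)
  refine ⟨s, hs, ?_⟩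
  have h1 : (homologyMap (mappingCone.inr (f • 𝟙 (koszul R l))) i).hom (s • x) = 0 := by
    rw [map_smul]; exact h0
  obtain ⟨y, hy⟩ := (h₁ _).mp h1
  refine ⟨y, ?_⟩
  rw [← hy]
  exact LinearMap.congr_fun (show ConcreteCategory.hom (homologyMap (f • 𝟙 (koszul R l)) i) =
    LinearMap.lsmul R _ f from KoszEuler.homologyMap_smul_id_hom _ f i) y

theorem loc_injective (q : Ideal R) (f : R) (l : List R) (h : LocAcyclic q (f :: l)) (a : R)
    (ha : f * a ∈ Ideal.ofList l) : ∃ s : R, s ∉ q ∧ s * a ∈ Ideal.ofList l := by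
  obtain ⟨e⟩ := Helper11.KoszPerf.homology_zero_equiv R l
  obtain ⟨δ, hδ⟩ := cone_les' (f • 𝟙 (koszul R l)) (-1) 0 (by norm_num)
  have hx : (homologyMap (f • 𝟙 (koszul R l)) 0).hom (e.symm (Ideal.Quotient.mk _ a)) = 0 := by
    rw [KoszEuler.homologyMap_smul_id_hom]
    show f • e.symm (Ideal.Quotient.mk _ a) = 0
    rw [← map_smul, show f • (Ideal.Quotient.mk (Ideal.ofList l)) a =
      (Ideal.Quotient.mk (Ideal.ofList l)) (f * a) from rfl,
      Ideal.Quotient.eq_zero_iff_mem.mpr ha, map_zero]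
  obtain ⟨z, hz⟩ := (hδ _).mp hx
  obtain ⟨s, hs, h0⟩ := h (-1) (by norm_num) z
  refine ⟨s, hs, ?_⟩
  have h2 : s • e.symm (Ideal.Quotient.mk _ a) = 0 := by
    rw [← hz, ← map_smul]
    have h0' : s • z = 0 := h0
    rw [h0', map_zero]
  rw [← map_smul, show s • (Ideal.Quotient.mk (Ideal.ofList l)) a =
      (Ideal.Quotient.mk (Ideal.ofList l)) (s * a) from rfl] at h2
  have h3 := congrArg e h2
  rw [LinearEquiv.apply_symm_apply, map_zero] at h3
  exact Ideal.Quotient.eq_zero_iff_mem.mp h3

end Groth.Agent.Helper12.LciGor
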