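import Mathlib
import Groth.Agent.Lib.Helper12.LciGor1
import Groth.Agent.Lib.Helper12.GorField
import Groth.Agent.S0343

set_option autoImplicit false
set_option linter.style.haveILetI false
universe u
open CategoryTheory CategoryTheory.Limits

namespace Groth.Agent.Helper12.LciGor

open Groth.Agent.Helper12.GorFlatLoc Koszul

variable {R : Type u} [CommRing R]

theorem gor_loc_quot_of_locAcyclic [IsNoetherianRing R] (q : Ideal R) [q.IsPrime]
    (hG : LocCoh.IsGorensteinLocalRing (Localization.AtPrime q)) :
    ∀ (l : List R), (∀ x ∈ l, x ∈ q) → LocAcyclic q l →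
      LocCoh.IsGorensteinLocalRing (Localization.AtPrime q ⧸
        (Ideal.ofList l).map (algebraMap R (Localization.AtPrime q)))
  | [], _, _ => by
    have h0 : (Ideal.ofList ([] : List R)).map (algebraMap R (Localization.AtPrime q)) = ⊥ := by
      rw [Ideal.ofList_nil, Ideal.map_bot]
    exact (gor_iff_of_ringEquiv
      ((Ideal.quotEquivOfEq h0).trans (RingEquiv.quotientBot _))).mpr hG
  | f :: l, hl, h => by
    have hf : f ∈ q := hl f List.mem_cons_self
    have hl' : ∀ x ∈ l, x ∈ q := fun x hx => hl x (List.mem_cons_of_mem _ hx)
    have h' := locAcyclic_tail q f hf l h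
    have IH := gor_loc_quot_of_locAcyclic q hG l hl' h'
    haveI := IH
    haveI : IsLocalRing (Localization.AtPrime q ⧸
        (Ideal.ofList l).map (algebraMap R (Localization.AtPrime q))) := inferInstance
    haveI : IsNoetherianRing (Localization.AtPrime q ⧸
        (Ideal.ofList l).map (algebraMap R (Localization.AtPrime q))) := inferInstance
    have hfm : Ideal.Quotient.mk ((Ideal.ofList l).map (algebraMap R (Localization.AtPrime q)))
        (algebraMap R (Localization.AtPrime q) f) ∈ IsLocalRing.maximalIdeal _ := by
      haveI := IsLocalHom.of_surjective (Ideal.Quotient.mk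
        ((Ideal.ofList l).map (algebraMap R (Localization.AtPrime q)))) Ideal.Quotient.mk_surjective
      have hfm0 : algebraMap R (Localization.AtPrime q) f ∈
          IsLocalRing.maximalIdeal (Localization.AtPrime q) :=
        (IsLocalization.AtPrime.to_map_mem_maximal_iff (Localization.AtPrime q) q f).mpr hf
      exact fun H => hfm0 (isUnit_of_map_unit (Ideal.Quotient.mk
        ((Ideal.ofList l).map (algebraMap R (Localization.AtPrime q)))) _ H)
    have hreg : IsSMulRegular (Localization.AtPrime q ⧸
        (Ideal.ofList l).map (algebraMap R (Localization.AtPrime q)))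
        (Ideal.Quotient.mk ((Ideal.ofList l).map (algebraMap R (Localization.AtPrime q)))
          (algebraMap R (Localization.AtPrime q) f)) := by
      rw [isSMulRegular_iff_right_eq_zero_of_smul]
      intro y hy
      obtain ⟨y, rfl⟩ := Ideal.Quotient.mk_surjective y
      obtain ⟨a, t, rfl⟩ := IsLocalization.exists_mk'_eq q.primeCompl y
      rw [smul_eq_mul, ← map_mul, Ideal.Quotient.eq_zero_iff_mem,
        IsLocalization.mul_mk'_eq_mk'_of_mul,
        IsLocalization.mk'_mem_map_algebraMap_iff q.primeCompl] at hy
      obtain ⟨u, hu, hua⟩ := hy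
      obtain ⟨s, hs, hsa⟩ := loc_injective q f l h (u * a) (by
        rw [show f * (u * a) = u * (f * a) by ring]; exact hua)
      rw [Ideal.Quotient.eq_zero_iff_mem, IsLocalization.mk'_mem_map_algebraMap_iff q.primeCompl]
      exact ⟨s * u, q.primeCompl.mul_mem hs hu, by rw [mul_assoc]; exact hsa⟩
    have h1 := (Groth.Agent.S0343.result _ _ hfm hreg).mp IH
    have hmap : (Ideal.ofList (f :: l)).map (algebraMap R (Localization.AtPrime q)) =
        (Ideal.ofList l).map (algebraMap R (Localization.AtPrime q)) ⊔
          Ideal.span {algebraMap R (Localization.AtPrime q) f} := by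
      rw [Ideal.ofList_cons, Ideal.map_sup, Ideal.map_span, Set.image_singleton, sup_comm]
    have hmap2 : (Ideal.span {algebraMap R (Localization.AtPrime q) f}).map
        (Ideal.Quotient.mk ((Ideal.ofList l).map (algebraMap R (Localization.AtPrime q)))) =
        Ideal.span {Ideal.Quotient.mk ((Ideal.ofList l).map (algebraMap R (Localization.AtPrime q)))
          (algebraMap R (Localization.AtPrime q) f)} :=
      (Ideal.map_span _ _).trans (by rw [Set.image_singleton])
    refine (gor_iff_of_ringEquiv (((Ideal.quotEquivOfEq hmap2.symm).trans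
      (DoubleQuot.quotQuotEquivQuotSup _ _)).trans (Ideal.quotEquivOfEq hmap.symm))).mp h1

end Groth.Agent.Helper12.LciGor
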