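import Mathlib
import Groth.Agent.Lib.Helper12.LciGor2

set_option autoImplicit false
set_option linter.style.haveILetI false
universe u
open CategoryTheory CategoryTheory.Limits

namespace Groth.Agent.Helper12.LciGor

open Groth.Agent.Helper12.GorFlatLoc Groth.Agent.Helper12.GorField Koszul

theorem locAcyclic_of_isKoszulRegularSeq {R : Type u} [CommRing R] (q : Ideal R) [q.IsPrime]
    (l : List R) (h : LCI.IsKoszulRegularSeq R l) : LocAcyclic q l := by
  intro i hi x
  haveI : Subsingleton ((koszul R l).homology i) := ModuleCat.subsingleton_of_isZero (h i hi)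
  exact ⟨1, fun h1 => (Ideal.IsPrime.ne_top inferInstance) ((Ideal.eq_top_iff_one q).mpr h1),
    Subsingleton.elim _ _⟩

/-- localization of `R_g` at a prime `P'` is the localization of `R` at the contraction of `P'`. -/
theorem exists_locAway_equiv {R : Type u} [CommRing R] (g : R) (P : Ideal R) [P.IsPrime]
    (P' : Ideal (Localization.Away g)) [P'.IsPrime]
    (hcomap : P'.comap (algebraMap R (Localization.Away g)) = P) :
    ∃ e : Localization.AtPrime P ≃+* Localization.AtPrime P',
      ∀ I : Ideal R, (I.map (algebraMap R (Localization.AtPrime P))).map e.toRingHom =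
        (I.map (algebraMap R (Localization.Away g))).map
          (algebraMap (Localization.Away g) (Localization.AtPrime P')) := by
  haveI h1 : IsLocalization.AtPrime (Localization.AtPrime P')
      (P'.comap (algebraMap R (Localization.Away g))) :=
    IsLocalization.isLocalization_isLocalization_atPrime_isLocalization (Submonoid.powers g)
      (Localization.AtPrime P') P'
  haveI h2 : IsLocalization P.primeCompl (Localization.AtPrime P') := by
    subst hcomap
    exact h1
  let e : Localization.AtPrime P ≃ₐ[R] Localization.AtPrime P' :=
    IsLocalization.algEquiv P.primeCompl _ _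
  refine ⟨e.toRingEquiv, fun I => ?_⟩
  rw [Ideal.map_map, Ideal.map_map]
  congr 1
  ext x
  simp only [RingHom.comp_apply]
  rw [← IsScalarTower.algebraMap_apply]
  exact e.commutes x

theorem isGorensteinRing_quotient_of_koszulRegular (R : Type u) [CommRing R]
    (hR : LocCoh.IsGorensteinRing R) (I : Ideal R) (hI : LCI.IsKoszulRegularIdeal I) :
    LocCoh.IsGorensteinRing (R ⧸ I) := by
  haveI := hR
  haveI : IsNoetherianRing R := inferInstance
  refine { isGorensteinLocalRing_localization := fun Pbar _ => ?_ }
  rw [gor_iff_of_ringEquiv (locQuotEquiv I Pbar)]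
  set P := Pbar.comap (Ideal.Quotient.mk I) with hP
  have hIP : I ≤ P := by
    intro x hx
    rw [hP, Ideal.mem_comap, Ideal.Quotient.eq_zero_iff_mem.mpr hx]
    exact Pbar.zero_mem
  obtain ⟨g, hg, l, hreg, hspan⟩ := hI ⟨P, inferInstance⟩ hIP
  have hdisj : Disjoint (Submonoid.powers g : Set R) (P : Set R) := by
    rw [Set.disjoint_left]
    rintro x ⟨n, rfl⟩ hx
    exact hg (Ideal.IsPrime.mem_of_pow_mem inferInstance n hx)
  have hP'prime : (P.map (algebraMap R (Localization.Away g))).IsPrime :=
    IsLocalization.isPrime_of_isPrime_disjoint (Submonoid.powers g) _ P inferInstance hdisj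
  have hcomap : (P.map (algebraMap R (Localization.Away g))).comap
      (algebraMap R (Localization.Away g)) = P :=
    IsLocalization.under_map_of_isPrime_disjoint (Submonoid.powers g) _ inferInstance hdisj
  haveI := hP'prime
  obtain ⟨e, he⟩ := exists_locAway_equiv g P (P.map (algebraMap R (Localization.Away g))) hcomap
  haveI : IsNoetherianRing (Localization.Away g) :=
    IsLocalization.isNoetherianRing (Submonoid.powers g) _ inferInstance
  have hG' : LocCoh.IsGorensteinLocalRing
      (Localization.AtPrime (P.map (algebraMap R (Localization.Away g)))) :=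
    (gor_iff_of_ringEquiv e).mp (hR.isGorensteinLocalRing_localization P)
  have hlP : ∀ x ∈ l, x ∈ P.map (algebraMap R (Localization.Away g)) := by
    intro x hx
    have : x ∈ I.map (algebraMap R (Localization.Away g)) := by
      rw [hspan]; exact Ideal.subset_span hx
    exact Ideal.map_mono hIP this
  have key := gor_loc_quot_of_locAcyclic (P.map (algebraMap R (Localization.Away g))) hG' l hlP
    (locAcyclic_of_isKoszulRegularSeq _ l hreg)
  have hmap : (Ideal.ofList l).map (algebraMap (Localization.Away g)
      (Localization.AtPrime (P.map (algebraMap R (Localization.Away g))))) =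
      (I.map (algebraMap R (Localization.AtPrime P))).map e.toRingHom := by
    rw [he I, hspan]
  exact (gor_iff_of_ringEquiv (Ideal.quotientEquiv _ _ e hmap)).mpr key

open TensorProduct in
theorem isGorensteinRing_mvPolynomial (A : Type u) [CommRing A] (hA : LocCoh.IsGorensteinRing A)
    (σ : Type u) [Finite σ] : LocCoh.IsGorensteinRing (MvPolynomial σ A) := by
  haveI := hA
  haveI : IsNoetherianRing A := inferInstance
  refine GorFib.isGorensteinRing_of_flat_of_fibres hA (fun p _ => ?_)
  let e : p.Fiber (MvPolynomial σ A) ≃+* MvPolynomial σ p.ResidueField :=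
    (MvPolynomial.algebraTensorAlgEquiv A p.ResidueField).toRingEquiv
  haveI : IsRegularRing (MvPolynomial σ p.ResidueField) := inferInstance
  exact isGorensteinRing_of_ringEquiv e.symm (GorFib.isGorensteinRing_of_isRegularRing _)

/-- a local complete intersection algebra over a Gorenstein ring is Gorenstein. -/
theorem isGorensteinRing_of_isLCI (A B : Type u) [CommRing A] [CommRing B] [Algebra A B]
    (hA : LocCoh.IsGorensteinRing A) (h : LCI.IsLCI A B) : LocCoh.IsGorensteinRing B := by
  obtain ⟨_, n, f, hf, hker⟩ := h
  have hP : LocCoh.IsGorensteinRing (MvPolynomial (ULift.{u} (Fin n)) A) :=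
    isGorensteinRing_mvPolynomial A hA _
  have hP' : LocCoh.IsGorensteinRing (MvPolynomial (Fin n) A) :=
    isGorensteinRing_of_ringEquiv
      (MvPolynomial.renameEquiv A Equiv.ulift).toRingEquiv hP
  have hQ := isGorensteinRing_quotient_of_koszulRegular _ hP' _ hker
  exact isGorensteinRing_of_ringEquiv
    (RingHom.quotientKerEquivOfSurjective (f := f.toRingHom) hf) hQ

end Groth.Agent.Helper12.LciGor
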