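import Mathlib
import Groth.Prelude.Def_Dual3
import Groth.Agent.Lib.Helper12.LciGor3

set_option autoImplicit false
set_option linter.style.haveILetI false
universe u
open CategoryTheory CategoryTheory.Limits AlgebraicGeometry

namespace Groth.Agent.Helper12.LciGor

open Groth.Agent.Helper12.GorFlatLoc Groth.Agent.Helper12.GorField

theorem isGorensteinRing_of_affineOpen {X : Scheme.{u}} (hX : Dual3.IsGorenstein X)
    (V : X.affineOpens) : LocCoh.IsGorensteinRing Γ(X, V.1) := by
  obtain ⟨hN, hG⟩ := hX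
  haveI := hN
  haveI : IsNoetherianRing Γ(X, V.1) := IsLocallyNoetherian.component_noetherian V
  refine { isGorensteinLocalRing_localization := fun p _ => ?_ }
  let y : PrimeSpectrum Γ(X, V.1) := ⟨p, inferInstance⟩
  have hy : V.2.fromSpec y ∈ V.1 := by
    have h1 : V.2.fromSpec y ∈ Set.range V.2.fromSpec := ⟨y, rfl⟩
    rw [V.2.range_fromSpec] at h1
    exact h1
  letI := TopCat.Presheaf.algebra_section_stalk X.presheaf ⟨V.2.fromSpec y, hy⟩
  haveI : IsLocalization.AtPrime (X.presheaf.stalk (V.2.fromSpec y)) p :=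
    V.2.isLocalization_stalk' y hy
  let e : Localization.AtPrime p ≃ₐ[Γ(X, V.1)] X.presheaf.stalk (V.2.fromSpec y) :=
    IsLocalization.algEquiv p.primeCompl _ _
  exact (gor_iff_of_ringEquiv e.toRingEquiv).mpr (hG _)

theorem gor_stalk_of_affineOpen {Y : Scheme.{u}} (U : Y.affineOpens)
    (hU : LocCoh.IsGorensteinRing Γ(Y, U.1)) (y : Y) (hy : y ∈ U.1) :
    LocCoh.IsGorensteinLocalRing (Y.presheaf.stalk y) := by
  letI := TopCat.Presheaf.algebra_section_stalk Y.presheaf ⟨y, hy⟩
  haveI : IsLocalization.AtPrime (Y.presheaf.stalk y) (U.2.primeIdealOf ⟨y, hy⟩).asIdeal :=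
    U.2.isLocalization_stalk ⟨y, hy⟩
  let e : Localization.AtPrime (U.2.primeIdealOf ⟨y, hy⟩).asIdeal ≃ₐ[Γ(Y, U.1)]
      Y.presheaf.stalk y :=
    IsLocalization.algEquiv (U.2.primeIdealOf ⟨y, hy⟩).asIdeal.primeCompl _ _
  exact (gor_iff_of_ringEquiv e.toRingEquiv).mp (hU.isGorensteinLocalRing_localization _)

theorem isGorenstein_of_isLCIMor (Y X : Scheme.{u}) (f : Y ⟶ X) (hf : Dual3.IsLCIMor f)
    (hX : Dual3.IsGorenstein X) : Dual3.IsGorenstein Y := by
  choose U V e hxU hlci using hf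
  have hGU : ∀ y, LocCoh.IsGorensteinRing Γ(Y, (U y).1) := fun y => by
    letI := (f.appLE (V y).1 (U y).1 (e y)).hom.toAlgebra
    exact isGorensteinRing_of_isLCI _ _ (isGorensteinRing_of_affineOpen hX (V y)) (hlci y)
  refine ⟨isLocallyNoetherian_of_affine_cover (S := U) ?_
    (fun y => by haveI := hGU y; infer_instance),
    fun y => gor_stalk_of_affineOpen (U y) (hGU y) y (hxU y)⟩
  rw [eq_top_iff]
  intro y _
  exact TopologicalSpace.Opens.mem_iSup.mpr ⟨y, hxU y⟩

end Groth.Agent.Helper12.LciGor
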