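import Mathlib

/-!
# Length of a localized module along a surjective ring map (helper12)

For `R → A` surjective, `T ⊆ R` a submonoid with image `T' ⊆ A`, and an `A`-module `M`:
`ℓ_{T⁻¹R}(T⁻¹M) = ℓ_{T'⁻¹A}(T'⁻¹M)`.
-/

set_option autoImplicit false
set_option linter.style.haveILetI false
universe u

namespace Groth.Agent.Helper12.LenTransfer

theorem length_localizedModule_of_surjective {R A : Type u} [CommRing R] [CommRing A] [Algebra R A]
    (hsurj : Function.Surjective (algebraMap R A)) (T : Submonoid R) (T' : Submonoid A)
    (hT' : T' = Algebra.algebraMapSubmonoid A T)
    (M : Type u) [AddCommGroup M] [Module R M] [Module A M] [IsScalarTower R A M] :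
    Module.length (Localization T) (LocalizedModule T M) =
      Module.length (Localization T') (LocalizedModule T' M) := by
  subst hT'
  set T' := Algebra.algebraMapSubmonoid A T with hT'def
  -- the ring map between the localizations
  have hle : T ≤ T'.comap (algebraMap R A) := fun t ht => ⟨t, ht, rfl⟩
  let φ : Localization T →+* Localization T' :=
    IsLocalization.map (Localization T') (algebraMap R A) hle
  have hφsurj : Function.Surjective φ := by
    have : IsLocalization (T.map (algebraMap R A)) (Localization T') :=
      inferInstanceAs (IsLocalization T' (Localization T'))
    exact IsLocalization.map_surjective_of_surjective T (Localization T) (Localization T') hsurj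
  -- module structures on `X = T'⁻¹M`
  letI modS : Module (Localization T) (LocalizedModule T' M) :=
    Module.compHom (LocalizedModule T' M) φ
  have towRS : IsScalarTower R (Localization T) (LocalizedModule T' M) := ⟨fun r s x => by
    change φ (r • s) • x = r • (φ s • x)
    rw [Algebra.smul_def, map_mul, mul_smul]
    change (IsLocalization.map (Localization T') (algebraMap R A) hle) (algebraMap R _ r) • _ = _
    rw [IsLocalization.map_eq, algebraMap_smul, algebraMap_smul]⟩
  letI algSS : Algebra (Localization T) (Localization T') := φ.toAlgebra
  have towSS : IsScalarTower (Localization T) (Localization T') (LocalizedModule T' M) :=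
    ⟨fun s s' x => by
      change (φ s * s') • x = φ s • (s' • x)
      rw [mul_smul]⟩
  have hloc : IsLocalizedModule T
      ((LocalizedModule.mkLinearMap T' M).restrictScalars R) :=
    IsLocalizedModule.restrictScalars T (LocalizedModule.mkLinearMap T' M)
  have e1 : LocalizedModule T M ≃ₗ[Localization T] LocalizedModule T' M :=
    (IsLocalizedModule.linearEquiv T (LocalizedModule.mkLinearMap T M)
      ((LocalizedModule.mkLinearMap T' M).restrictScalars R)).extendScalarsOfIsLocalization T
      (Localization T)
  rw [e1.length_eq]
  exact Module.length_eq_of_surjective (S := Localization T) (R := Localization T')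
    (M := LocalizedModule T' M) hφsurj

end Groth.Agent.Helper12.LenTransfer
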