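import Mathlib
import Groth.Agent.Lib.Helper12.GrCM

/-!
# Liaison: associated primes of colon ideals
-/

set_option autoImplicit false
universe u
open MvPolynomial

namespace Groth.Agent.Helper12.Liaison

variable {R : Type u} [CommRing R]

/-- `Ass(R/(𝔠 : I)) ⊆ Ass(R/𝔠)` for a Noetherian ring `R`. -/
theorem associatedPrimes_quotient_colon_subset [IsNoetherianRing R] (𝔠 I : Ideal R) :
    associatedPrimes R (R ⧸ 𝔠.colon (I : Set R)) ⊆ associatedPrimes R (R ⧸ 𝔠) := by
  classical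
  intro p hp
  obtain ⟨hpp, z, hz⟩ := (isAssociatedPrime_iff (R := R) (M := R ⧸ 𝔠.colon (I : Set R))).mp hp
  obtain ⟨x, rfl⟩ := Ideal.Quotient.mk_surjective z
  obtain ⟨T, hT⟩ := (IsNoetherian.noetherian I : I.FG)
  have hmem : ∀ r : R, r ∈ p ↔ ∀ a ∈ T, r * (x * a) ∈ 𝔠 := by
    intro r
    rw [hz, Submodule.mem_colon_singleton, Submodule.mem_bot]
    have h1 : r • (Ideal.Quotient.mk (𝔠.colon (I : Set R))) x =
        Ideal.Quotient.mk (𝔠.colon (I : Set R)) (r * x) := by
      rw [map_mul]; rfl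
    rw [h1, Ideal.Quotient.eq_zero_iff_mem, Submodule.mem_colon]
    constructor
    · intro h a ha
      have := h a (hT ▸ Ideal.subset_span ha)
      rw [smul_eq_mul, mul_assoc] at this
      exact this
    · intro h a ha
      rw [smul_eq_mul, mul_assoc]
      have hsub : I ≤ Submodule.comap (LinearMap.mulLeft R (r * x)) 𝔠 := by
        rw [← hT, Ideal.span_le]
        intro b hb
        change r * x * b ∈ 𝔠
        rw [mul_assoc]
        exact h b hb
      have := hsub ha
      change r * x * a ∈ 𝔠 at this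
      rw [mul_assoc] at this
      exact this
  let f : R → Ideal R := fun a =>
    (⊥ : Submodule R (R ⧸ 𝔠)).colon {Ideal.Quotient.mk 𝔠 (x * a)}
  have hfmem : ∀ a r, r ∈ f a ↔ r * (x * a) ∈ 𝔠 := by
    intro a r
    change r ∈ (⊥ : Submodule R (R ⧸ 𝔠)).colon {Ideal.Quotient.mk 𝔠 (x * a)} ↔ _
    rw [Submodule.mem_colon_singleton, Submodule.mem_bot]
    have h1 : r • (Ideal.Quotient.mk 𝔠) (x * a) = Ideal.Quotient.mk 𝔠 (r * (x * a)) := by
      rw [map_mul (Ideal.Quotient.mk 𝔠) r]; rfl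
    rw [h1, Ideal.Quotient.eq_zero_iff_mem]
  have hinf : T.inf f ≤ p := by
    intro r hr
    rw [hmem]
    intro a ha
    have : r ∈ f a := (Finset.inf_le ha : T.inf f ≤ f a) hr
    exact (hfmem a r).mp this
  obtain ⟨a, haT, hfa⟩ := (Ideal.IsPrime.inf_le' hpp).mp hinf
  have hpa : p = f a := by
    apply le_antisymm _ hfa
    intro r hr
    exact (hfmem a r).mpr ((hmem r).mp hr a haT)
  exact (isAssociatedPrime_iff (R := R) (M := R ⧸ 𝔠)).mpr ⟨hpp, _, hpa⟩

end Groth.Agent.Helper12.Liaison
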