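import Mathlib
import Groth.Agent.Lib.Helper12.Liaison1

/-!
# Liaison: basic double links
-/

set_option autoImplicit false
universe u
open MvPolynomial RingTheory.Sequence

namespace Groth.Agent.Helper12.Liaison

attribute [local instance] MvPolynomial.gradedAlgebra

variable {R : Type u} [CommRing R]

/-- The multiplication-by-`f` map `R/I → R/(J + fI)`. -/
noncomputable def mulQ (J I : Ideal R) (f : R) : (R ⧸ I) →ₗ[R] (R ⧸ (J ⊔ Ideal.span {f} * I)) :=
  Submodule.liftQ I ((Submodule.mkQ (J ⊔ Ideal.span {f} * I)).comp (LinearMap.mulLeft R f)) (by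
    intro a ha
    rw [LinearMap.mem_ker, LinearMap.comp_apply, LinearMap.mulLeft_apply, Submodule.mkQ_apply,
      Submodule.Quotient.mk_eq_zero]
    exact Ideal.mem_sup_right (Ideal.mul_mem_mul (Ideal.mem_span_singleton_self f) ha))

theorem mulQ_mk (J I : Ideal R) (f x : R) :
    mulQ J I f (Submodule.Quotient.mk x) = Submodule.Quotient.mk (f * x) := rfl

theorem mulQ_injective (J I : Ideal R) (f : R) (hJI : J ≤ I) (hJf : J.colon {f} = J) :
    Function.Injective (mulQ J I f) := by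
  rw [← LinearMap.ker_eq_bot, eq_bot_iff]
  intro z hz
  obtain ⟨x, rfl⟩ := Submodule.Quotient.mk_surjective _ z
  rw [LinearMap.mem_ker, mulQ_mk, Submodule.Quotient.mk_eq_zero] at hz
  rw [Submodule.mem_bot, Submodule.Quotient.mk_eq_zero]
  obtain ⟨j, hj, w, hw, hjw⟩ := Submodule.mem_sup.mp hz
  obtain ⟨i, hi, rfl⟩ := Ideal.mem_span_singleton_mul.mp hw
  have h1 : f * (x - i) ∈ J := by
    have : f * (x - i) = j := by rw [mul_sub, ← hjw]; ring
    rw [this]; exact hj
  have h2 : x - i ∈ J.colon {f} := by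
    rw [Submodule.mem_colon_singleton, smul_eq_mul, mul_comm]
    exact h1
  rw [hJf] at h2
  have : x = (x - i) + i := by ring
  rw [this]
  exact I.add_mem (hJI h2) hi

/-- The projection `R/(J + fI) → R/(J + (f))`. -/
noncomputable def projQ (J I : Ideal R) (f : R) :
    (R ⧸ (J ⊔ Ideal.span {f} * I)) →ₗ[R] (R ⧸ (J ⊔ Ideal.span {f})) :=
  Submodule.liftQ _ (Submodule.mkQ (J ⊔ Ideal.span {f})) (by
    rw [Submodule.ker_mkQ]
    exact sup_le le_sup_left (le_sup_of_le_right Ideal.mul_le_left))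

theorem projQ_mk (J I : Ideal R) (f x : R) :
    projQ J I f (Submodule.Quotient.mk x) = Submodule.Quotient.mk x := rfl

theorem exact_mulQ_projQ (J I : Ideal R) (f : R) :
    Function.Exact (mulQ J I f) (projQ J I f) := by
  intro z
  obtain ⟨x, rfl⟩ := Submodule.Quotient.mk_surjective _ z
  rw [projQ_mk, Submodule.Quotient.mk_eq_zero]
  constructor
  · intro hx
    obtain ⟨j, hj, w, hw, hjw⟩ := Submodule.mem_sup.mp hx
    obtain ⟨a, rfl⟩ := Ideal.mem_span_singleton'.mp hw
    refine ⟨Submodule.Quotient.mk a, ?_⟩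
    rw [mulQ_mk, Submodule.Quotient.eq]
    have : f * a - x = -j := by rw [← hjw]; ring
    rw [this]
    exact Ideal.mem_sup_left (J.neg_mem hj)
  · rintro ⟨y, hy⟩
    obtain ⟨a, rfl⟩ := Submodule.Quotient.mk_surjective _ y
    rw [mulQ_mk, Submodule.Quotient.eq] at hy
    have h1 : f * a - x ∈ J ⊔ Ideal.span {f} :=
      (sup_le le_sup_left (le_sup_of_le_right Ideal.mul_le_left) :
        J ⊔ Ideal.span {f} * I ≤ J ⊔ Ideal.span {f}) hy
    have h2 : f * a ∈ J ⊔ Ideal.span {f} :=
      Ideal.mem_sup_right (Ideal.mul_mem_right _ _ (Ideal.mem_span_singleton_self f))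
    have : x = f * a - (f * a - x) := by ring
    rw [this]
    exact Ideal.sub_mem _ h2 h1

theorem le_of_mem_associatedPrimes_quotient [IsNoetherianRing R] (J p : Ideal R)
    (hp : p ∈ associatedPrimes R (R ⧸ J)) : J ≤ p := by
  obtain ⟨-, z, hz⟩ := (isAssociatedPrime_iff (R := R) (M := R ⧸ J)).mp hp
  intro r hr
  rw [hz, Submodule.mem_colon_singleton, Submodule.mem_bot]
  obtain ⟨x, rfl⟩ := Ideal.Quotient.mk_surjective z
  have h1 : r • (Ideal.Quotient.mk J) x = Ideal.Quotient.mk J (r * x) := by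
    rw [map_mul]; rfl
  rw [h1, Ideal.Quotient.eq_zero_iff_mem]
  exact Ideal.mul_mem_right _ _ hr

/-- An associated prime of `R/(J + (f))` maps to an associated prime of `B/(f̄)`, `B = R/J`. -/
theorem map_mem_associatedPrimes [IsNoetherianRing R] (J : Ideal R) (f : R) (p : Ideal R)
    (hp : p ∈ associatedPrimes R (R ⧸ (J ⊔ Ideal.span {f}))) :
    p.map (Ideal.Quotient.mk J) ∈ associatedPrimes (R ⧸ J)
      ((R ⧸ J) ⧸ (Ideal.ofList [Ideal.Quotient.mk J f] • ⊤ : Submodule (R ⧸ J) (R ⧸ J))) := by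
  have hJp : J ≤ p := le_sup_left.trans (le_of_mem_associatedPrimes_quotient _ p hp)
  obtain ⟨hpp, z, hz⟩ := (isAssociatedPrime_iff (R := R)
    (M := R ⧸ (J ⊔ Ideal.span {f}))).mp hp
  obtain ⟨x, rfl⟩ := Ideal.Quotient.mk_surjective z
  have key : ∀ r, r ∈ p ↔ r * x ∈ J ⊔ Ideal.span {f} := by
    intro r
    rw [hz, Submodule.mem_colon_singleton, Submodule.mem_bot]
    have h1 : r • (Ideal.Quotient.mk (J ⊔ Ideal.span {f})) x =
        Ideal.Quotient.mk (J ⊔ Ideal.span {f}) (r * x) := by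
      rw [map_mul]; rfl
    rw [h1, Ideal.Quotient.eq_zero_iff_mem]
  have hprime : (p.map (Ideal.Quotient.mk J)).IsPrime :=
    Ideal.map_isPrime_of_surjective Ideal.Quotient.mk_surjective (by rw [Ideal.mk_ker]; exact hJp)
  refine (isAssociatedPrime_iff (R := R ⧸ J)).mpr
    ⟨hprime, Submodule.Quotient.mk (Ideal.Quotient.mk J x), ?_⟩
  ext b
  obtain ⟨r, rfl⟩ := Ideal.Quotient.mk_surjective b
  rw [Ideal.mem_quotient_iff_mem hJp, key, Submodule.mem_colon_singleton, Submodule.mem_bot,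
    ← Submodule.Quotient.mk_smul, Submodule.Quotient.mk_eq_zero, Ideal.ofList_singleton,
    smul_eq_mul, smul_eq_mul, Ideal.mul_top, ← map_mul, Ideal.mem_span_singleton']
  constructor
  · intro h
    obtain ⟨j, hj, w, hw, hjw⟩ := Submodule.mem_sup.mp h
    obtain ⟨a, rfl⟩ := Ideal.mem_span_singleton'.mp hw
    refine ⟨Ideal.Quotient.mk J a, ?_⟩
    rw [← map_mul, Ideal.Quotient.eq]
    have : a * f - r * x = -j := by rw [← hjw]; ring
    rw [this]
    exact J.neg_mem hj
  · rintro ⟨c, hc⟩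
    obtain ⟨a, rfl⟩ := Ideal.Quotient.mk_surjective c
    rw [← map_mul, Ideal.Quotient.eq] at hc
    have : r * x = a * f - (a * f - r * x) := by ring
    rw [this]
    exact Ideal.sub_mem _ (Ideal.mem_sup_right (Ideal.mul_mem_left _ _
      (Ideal.mem_span_singleton_self f))) (Ideal.mem_sup_left hc)

section Poly

open Groth.Agent.Helper12.ProjHilb

variable {k : Type u} [Field k] {n : ℕ}

/-- For `J` homogeneous with `R/J` Cohen–Macaulay and `f` a nonzerodivisor mod `J`, every
associated prime of `R/(J + (f))` has height `ht J + 1`. -/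
theorem height_eq_of_mem_associatedPrimes_sup_span (J : Ideal (MvPolynomial (Fin n) k))
    (hJ : J.IsHomogeneous (homogeneousSubmodule (Fin n) k))
    [hCMJ : LocCoh.IsCohenMacaulayRing (MvPolynomial (Fin n) k ⧸ J)]
    (f : MvPolynomial (Fin n) k) (hJf : J.colon {f} = J) (p : Ideal (MvPolynomial (Fin n) k))
    (hp : p ∈ associatedPrimes (MvPolynomial (Fin n) k)
      (MvPolynomial (Fin n) k ⧸ (J ⊔ Ideal.span {f}))) : p.height = J.height + 1 := by
  have hpp : p.IsPrime := hp.isPrime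
  have hJp : J ≤ p := le_sup_left.trans (le_of_mem_associatedPrimes_quotient _ p hp)
  have h1 := map_mem_associatedPrimes J f p hp
  have hreg : IsWeaklyRegular (MvPolynomial (Fin n) k ⧸ J) [Ideal.Quotient.mk J f] := by
    rw [isWeaklyRegular_singleton_iff]
    intro a b hab
    obtain ⟨a, rfl⟩ := Ideal.Quotient.mk_surjective a
    obtain ⟨b, rfl⟩ := Ideal.Quotient.mk_surjective b
    simp only [smul_eq_mul] at hab
    rw [← map_mul, ← map_mul, Ideal.Quotient.eq, ← mul_sub] at hab
    rw [Ideal.Quotient.eq]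
    have : a - b ∈ J.colon {f} := by
      rw [Submodule.mem_colon_singleton, smul_eq_mul, mul_comm]
      exact hab
    rwa [hJf] at this
  obtain ⟨-, h2⟩ := height_eq_length_of_mem_associatedPrimes [Ideal.Quotient.mk J f] hreg _ h1
  have hCM : ∀ (q : Ideal (MvPolynomial (Fin n) k ⧸ J)) [q.IsPrime],
      LocCoh.IsCohenMacaulayLocalRing (Localization.AtPrime q) :=
    fun q _ => hCMJ.isCohenMacaulayLocalRing_localization q
  obtain ⟨Q, hQ, hQp⟩ := Ideal.exists_minimalPrimes_le hJp
  have h3 := height_add_eq_of_mem_minimalPrimes J hCM p Q hQ hQp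
  rw [h3, h2, height_eq_of_mem_minimalPrimes J hJ hCM Q hQ]
  simp

end Poly

end Groth.Agent.Helper12.Liaison
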