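import Mathlib
import Groth.Agent.Lib.Helper12.Liaison2
import Groth.Agent.Lib.Helper9.InjDim
import Groth.Agent.Lib.Lead.Bass5

/-!
# Zero-dimensional Gorenstein local rings are self-injective; double annihilators
-/

set_option autoImplicit false
universe u
open CategoryTheory

namespace Groth.Agent.Helper12.Liaison

section Baer

variable {A : Type u} [CommRing A]

/-- A zero-dimensional Gorenstein local ring is self-injective (Baer form). -/
theorem baer_of_gorenstein_dim_zero [LocCoh.IsGorensteinLocalRing A] (hdim : ringKrullDim A = 0) :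
    Module.Baer A A := by
  have h1 : Injective (ModuleCat.of A A) := by
    apply Groth.Agent.Helper9.InjDim.injective_of_ext_one
    intro I
    exact Groth.Agent.Lead.Depth.gorenstein_ext_subsingleton 0 (by simpa using hdim) (A ⧸ I) 1
      (by omega)
  have h2 : Module.Injective A A := (Module.injective_iff_injective_object A A).2 h1
  exact Module.Baer.iff_injective.2 h2

/-- In a self-injective ring, `ann (I ∩ J) = ann I + ann J`. -/
theorem exists_add_of_mul_inf_eq_zero (hB : Module.Baer A A) (I J : Ideal A) (x : A)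
    (hx : ∀ w, w ∈ I → w ∈ J → x * w = 0) :
    ∃ c : A, (∀ i ∈ I, c * i = 0) ∧ ∀ j ∈ J, (x - c) * j = 0 := by
  classical
  have hwd : ∀ i ∈ I, ∀ j ∈ J, ∀ i' ∈ I, ∀ j' ∈ J, i + j = i' + j' → x * j = x * j' := by
    intro i hi j hj i' hi' j' hj' h
    have h1 : j - j' = i' - i := by linear_combination h
    have h2 : j - j' ∈ I := by rw [h1]; exact I.sub_mem hi' hi
    have h3 : j - j' ∈ J := J.sub_mem hj hj'
    have := hx _ h2 h3
    rw [mul_sub, sub_eq_zero] at this
    exact this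
  have hch : ∀ w : ↥(I ⊔ J), ∃ i ∈ I, ∃ j ∈ J, i + j = (w : A) := fun w =>
    Submodule.mem_sup.mp w.2
  let jj : ↥(I ⊔ J) → A := fun w => (hch w).choose_spec.2.choose
  have hjj : ∀ w : ↥(I ⊔ J), ∀ i ∈ I, ∀ j ∈ J, i + j = (w : A) → x * jj w = x * j := by
    intro w i hi j hj h
    have hs := (hch w).choose_spec
    have hs2 := hs.2.choose_spec
    exact hwd _ hs.1 _ hs2.1 i hi j hj (hs2.2.trans h.symm)
  have hjjmem : ∀ w : ↥(I ⊔ J), ∃ i ∈ I, jj w ∈ J ∧ i + jj w = (w : A) := by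
    intro w
    have hs := (hch w).choose_spec
    have hs2 := hs.2.choose_spec
    exact ⟨_, hs.1, hs2.1, hs2.2⟩
  let g : ↥(I ⊔ J) →ₗ[A] A :=
    { toFun := fun w => x * jj w
      map_add' := by
        intro w w'
        obtain ⟨i, hi, hj, h⟩ := hjjmem w
        obtain ⟨i', hi', hj', h'⟩ := hjjmem w'
        rw [← mul_add]
        apply hjj (w + w') (i + i') (I.add_mem hi hi') (jj w + jj w') (J.add_mem hj hj')
        rw [Submodule.coe_add, ← h, ← h']
        ring
      map_smul' := by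
        intro r w
        obtain ⟨i, hi, hj, h⟩ := hjjmem w
        simp only [RingHom.id_apply, smul_eq_mul]
        rw [mul_left_comm]
        apply hjj (r • w) (r * i) (I.mul_mem_left r hi) (r * jj w) (J.mul_mem_left r hj)
        rw [Submodule.coe_smul, smul_eq_mul, ← h]
        ring }
  obtain ⟨g', hg'⟩ := hB (I ⊔ J) g
  refine ⟨g' 1, ?_, ?_⟩
  · intro i hi
    have h1 := hg' i (Ideal.mem_sup_left hi)
    have h2 : g' i = g' 1 * i := by
      have := g'.map_smul i 1
      rw [smul_eq_mul, mul_one, smul_eq_mul, mul_comm] at this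
      exact this
    rw [← h2, h1]
    change x * jj ⟨i, _⟩ = 0
    rw [hjj ⟨i, Ideal.mem_sup_left hi⟩ i hi 0 J.zero_mem (by simp), mul_zero]
  · intro j hj
    have h1 := hg' j (Ideal.mem_sup_right hj)
    have h2 : g' j = g' 1 * j := by
      have := g'.map_smul j 1
      rw [smul_eq_mul, mul_one, smul_eq_mul, mul_comm] at this
      exact this
    rw [sub_mul, ← h2, h1, sub_eq_zero]
    change x * j = x * jj ⟨j, _⟩
    rw [hjj ⟨j, Ideal.mem_sup_right hj⟩ 0 I.zero_mem j hj (by simp)]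

/-- In a self-injective ring, `ann (ann (y)) = (y)`. -/
theorem mem_span_singleton_of_ann_ann (hB : Module.Baer A A) (y x : A)
    (hx : ∀ r, r * y = 0 → r * x = 0) : x ∈ Ideal.span {y} := by
  classical
  have hch : ∀ w : ↥(Ideal.span {y}), ∃ r, r * y = (w : A) := fun w =>
    Ideal.mem_span_singleton'.mp w.2
  let rr : ↥(Ideal.span {y}) → A := fun w => (hch w).choose
  have hrr : ∀ w : ↥(Ideal.span {y}), ∀ r, r * y = (w : A) → rr w * x = r * x := by
    intro w r h
    have hs : rr w * y = (w : A) := (hch w).choose_spec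
    have h1 : (rr w - r) * y = 0 := by rw [sub_mul, hs, h, sub_self]
    have := hx _ h1
    rw [sub_mul, sub_eq_zero] at this
    exact this
  have hrrs : ∀ w : ↥(Ideal.span {y}), rr w * y = (w : A) := fun w => (hch w).choose_spec
  let g : ↥(Ideal.span {y}) →ₗ[A] A :=
    { toFun := fun w => rr w * x
      map_add' := by
        intro w w'
        rw [← add_mul]
        apply hrr (w + w') (rr w + rr w')
        rw [add_mul, hrrs, hrrs, Submodule.coe_add]
      map_smul' := by
        intro r w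
        simp only [RingHom.id_apply, smul_eq_mul]
        rw [← mul_assoc]
        apply hrr (r • w) (r * rr w)
        rw [mul_assoc, hrrs, Submodule.coe_smul, smul_eq_mul] }
  obtain ⟨g', hg'⟩ := hB (Ideal.span {y}) g
  have h1 := hg' y (Ideal.mem_span_singleton_self y)
  have h2 : g' y = g' 1 * y := by
    have := g'.map_smul y 1
    rw [smul_eq_mul, mul_one, smul_eq_mul, mul_comm] at this
    exact this
  have h3 : g ⟨y, Ideal.mem_span_singleton_self y⟩ = x := by
    change rr ⟨y, _⟩ * x = x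
    rw [hrr ⟨y, Ideal.mem_span_singleton_self y⟩ 1 (one_mul y), one_mul]
  rw [Ideal.mem_span_singleton']
  exact ⟨g' 1, by rw [← h2, h1, h3]⟩

/-- Double annihilator property of self-injective Noetherian rings. -/
theorem mem_of_ann_ann (hB : Module.Baer A A) [IsNoetherianRing A] (a : Ideal A) :
    ∀ x : A, (∀ y, (∀ z ∈ a, y * z = 0) → x * y = 0) → x ∈ a := by
  induction a, (IsNoetherian.noetherian a : a.FG) using Submodule.fg_induction with
  | singleton y =>
    intro x hx
    apply mem_span_singleton_of_ann_ann hB y x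
    intro r hr
    rw [mul_comm]
    apply hx
    intro z hz
    obtain ⟨c, rfl⟩ := Ideal.mem_span_singleton'.mp hz
    rw [← mul_assoc, mul_comm r c, mul_assoc, hr, mul_zero]
  | sup a b _ _ iha ihb =>
    intro x hx
    -- the annihilators
    let Ia : Ideal A := Submodule.annihilator a
    let Ib : Ideal A := Submodule.annihilator b
    have hIa : ∀ y, y ∈ Ia ↔ ∀ z ∈ a, y * z = 0 := fun y => by
      change y ∈ Submodule.annihilator a ↔ _
      rw [Submodule.mem_annihilator]
      rfl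
    have hIb : ∀ y, y ∈ Ib ↔ ∀ z ∈ b, y * z = 0 := fun y => by
      change y ∈ Submodule.annihilator b ↔ _
      rw [Submodule.mem_annihilator]
      rfl
    obtain ⟨c, hc1, hc2⟩ := exists_add_of_mul_inf_eq_zero hB Ia Ib x (by
      intro w hwa hwb
      apply hx
      intro z hz
      obtain ⟨z1, hz1, z2, hz2, rfl⟩ := Submodule.mem_sup.mp hz
      rw [mul_add, (hIa w).mp hwa z1 hz1, (hIb w).mp hwb z2 hz2, add_zero])
    have h1 : c ∈ a := iha c (fun y hy => hc1 y ((hIa y).mpr hy))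
    have h2 : x - c ∈ b := ihb (x - c) (fun y hy => hc2 y ((hIb y).mpr hy))
    have : x = c + (x - c) := by ring
    rw [this]
    exact Submodule.add_mem_sup h1 h2

end Baer

section Link

variable {R : Type u} [CommRing R] [IsNoetherianRing R]

/-- `𝔠 : (𝔠 : I) ⊆ I` when `R/𝔠` is Gorenstein and all associated primes of `R/I` are minimal
over `𝔠`. -/
theorem colon_colon_le (𝔠 I : Ideal R) (h𝔠I : 𝔠 ≤ I)
    [hG : LocCoh.IsGorensteinRing (R ⧸ 𝔠)]
    (hmin : ∀ P ∈ associatedPrimes R (R ⧸ I), P ∈ 𝔠.minimalPrimes) :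
    𝔠.colon ((𝔠.colon (I : Set R) : Ideal R) : Set R) ≤ I := by
  classical
  intro x hx
  by_contra hxI
  have hz : (Ideal.Quotient.mk I x) ≠ 0 := by
    rwa [Ne, Ideal.Quotient.eq_zero_iff_mem]
  obtain ⟨P, hP, hle⟩ := exists_le_isAssociatedPrime_of_isNoetherianRing R _ hz
  have hPmin := hmin P hP
  have hPp : P.IsPrime := hPmin.1.1
  have h𝔠P : 𝔠 ≤ P := hPmin.1.2
  have hsurj : Function.Surjective (Ideal.Quotient.mk 𝔠) := Ideal.Quotient.mk_surjective
  have hP'prime : (P.map (Ideal.Quotient.mk 𝔠)).IsPrime :=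
    Ideal.map_isPrime_of_surjective hsurj (by rw [Ideal.mk_ker]; exact h𝔠P)
  have hP'min : P.map (Ideal.Quotient.mk 𝔠) ∈ minimalPrimes (R ⧸ 𝔠) := by
    have := hPmin
    rw [Ideal.minimalPrimes_eq_comap] at this
    obtain ⟨p', hp', rfl⟩ := this
    rw [Ideal.map_comap_of_surjective _ hsurj]
    exact hp'
  have hGl : LocCoh.IsGorensteinLocalRing (Localization.AtPrime (P.map (Ideal.Quotient.mk 𝔠))) :=
    hG.isGorensteinLocalRing_localization _
  have hdim : ringKrullDim (Localization.AtPrime (P.map (Ideal.Quotient.mk 𝔠))) = 0 := by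
    rw [IsLocalization.AtPrime.ringKrullDim_eq_height (P.map (Ideal.Quotient.mk 𝔠)),
      Ideal.height_eq_zero_iff.mpr hP'min]
    rfl
  have hB := baer_of_gorenstein_dim_zero hdim
  have hmemP : ∀ w : R, Ideal.Quotient.mk 𝔠 w ∈ P.map (Ideal.Quotient.mk 𝔠) ↔ w ∈ P :=
    fun w => Ideal.mem_quotient_iff_mem h𝔠P
  -- the key membership
  have hkey : algebraMap (R ⧸ 𝔠) (Localization.AtPrime (P.map (Ideal.Quotient.mk 𝔠)))
      (Ideal.Quotient.mk 𝔠 x) ∈
      (I.map (Ideal.Quotient.mk 𝔠)).map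
        (algebraMap (R ⧸ 𝔠) (Localization.AtPrime (P.map (Ideal.Quotient.mk 𝔠)))) := by
    apply mem_of_ann_ann hB
    intro y hy
    obtain ⟨b, s, rfl⟩ := IsLocalization.exists_mk'_eq (P.map (Ideal.Quotient.mk 𝔠)).primeCompl y
    obtain ⟨β, rfl⟩ := hsurj b
    obtain ⟨T, hT⟩ := (IsNoetherian.noetherian I : I.FG)
    have hex : ∀ i : R, ∃ t : (P.map (Ideal.Quotient.mk 𝔠)).primeCompl, i ∈ T →
        (t : R ⧸ 𝔠) * (Ideal.Quotient.mk 𝔠 β * Ideal.Quotient.mk 𝔠 i) = 0 := by
      intro i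
      by_cases hi : i ∈ T
      · have hiI : i ∈ I := hT ▸ Ideal.subset_span hi
        have h1 := hy _ (Ideal.mem_map_of_mem _ (Ideal.mem_map_of_mem (Ideal.Quotient.mk 𝔠) hiI))
        have h2 : algebraMap (R ⧸ 𝔠) (Localization.AtPrime (P.map (Ideal.Quotient.mk 𝔠)))
            (Ideal.Quotient.mk 𝔠 β * Ideal.Quotient.mk 𝔠 i) = 0 := by
          rw [map_mul, ← IsLocalization.mk'_spec
            (Localization.AtPrime (P.map (Ideal.Quotient.mk 𝔠))) (Ideal.Quotient.mk 𝔠 β) s]
          rw [mul_right_comm, h1, zero_mul]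
        obtain ⟨t, ht⟩ := (IsLocalization.map_eq_zero_iff
          (P.map (Ideal.Quotient.mk 𝔠)).primeCompl _ _).mp h2
        exact ⟨t, fun _ => ht⟩
      · exact ⟨1, fun h => absurd h hi⟩
    choose t ht using hex
    obtain ⟨τ, hτ⟩ := hsurj ((∏ i ∈ T, t i : (P.map (Ideal.Quotient.mk 𝔠)).primeCompl) : R ⧸ 𝔠)
    have hτP : τ ∉ P := by
      rw [← hmemP, hτ]
      exact (∏ i ∈ T, t i : (P.map (Ideal.Quotient.mk 𝔠)).primeCompl).2
    have hτβ : τ * β ∈ 𝔠.colon (I : Set R) := by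
      rw [Submodule.mem_colon]
      have hsub : I ≤ Submodule.comap (LinearMap.mulLeft R (τ * β)) 𝔠 := by
        rw [← hT, Ideal.span_le]
        intro i hi
        change τ * β * i ∈ 𝔠
        rw [← Ideal.Quotient.eq_zero_iff_mem, map_mul, map_mul, hτ]
        obtain ⟨u, hu⟩ := Finset.dvd_prod_of_mem t hi
        have h8 : ((∏ i ∈ T, t i : (P.map (Ideal.Quotient.mk 𝔠)).primeCompl) : R ⧸ 𝔠) =
            (t i : R ⧸ 𝔠) * (u : R ⧸ 𝔠) := by rw [hu, Submonoid.coe_mul]
        rw [h8]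
        have h9 := ht i hi
        calc (t i : R ⧸ 𝔠) * (u : R ⧸ 𝔠) * Ideal.Quotient.mk 𝔠 β * Ideal.Quotient.mk 𝔠 i
            = (u : R ⧸ 𝔠) * ((t i : R ⧸ 𝔠) * (Ideal.Quotient.mk 𝔠 β * Ideal.Quotient.mk 𝔠 i)) := by
              ring
          _ = 0 := by rw [h9, mul_zero]
      intro a ha
      exact hsub ha
    have h3 := (Submodule.mem_colon.mp hx) _ hτβ
    rw [smul_eq_mul] at h3
    have h4 : algebraMap (R ⧸ 𝔠) (Localization.AtPrime (P.map (Ideal.Quotient.mk 𝔠)))
        (Ideal.Quotient.mk 𝔠 x) *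
        algebraMap (R ⧸ 𝔠) (Localization.AtPrime (P.map (Ideal.Quotient.mk 𝔠)))
          (Ideal.Quotient.mk 𝔠 β) = 0 := by
      have h5 : Ideal.Quotient.mk 𝔠 τ * (Ideal.Quotient.mk 𝔠 x * Ideal.Quotient.mk 𝔠 β) = 0 := by
        rw [← map_mul, ← map_mul, Ideal.Quotient.eq_zero_iff_mem]
        have : τ * (x * β) = x * (τ * β) := by ring
        rw [this]
        exact h3
      have h6 := congrArg
        (algebraMap (R ⧸ 𝔠) (Localization.AtPrime (P.map (Ideal.Quotient.mk 𝔠)))) h5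
      rw [map_mul, map_zero, map_mul] at h6
      have hu : IsUnit (algebraMap (R ⧸ 𝔠) (Localization.AtPrime (P.map (Ideal.Quotient.mk 𝔠)))
          (Ideal.Quotient.mk 𝔠 τ)) := by
        rw [hτ]
        exact IsLocalization.map_units _ (∏ i ∈ T, t i)
      exact (hu.mul_right_eq_zero).mp h6
    have hus : IsUnit (algebraMap (R ⧸ 𝔠) (Localization.AtPrime (P.map (Ideal.Quotient.mk 𝔠)))
        (s : R ⧸ 𝔠)) := IsLocalization.map_units _ s
    have h7 : algebraMap (R ⧸ 𝔠) (Localization.AtPrime (P.map (Ideal.Quotient.mk 𝔠)))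
        (Ideal.Quotient.mk 𝔠 x) *
        IsLocalization.mk' (Localization.AtPrime (P.map (Ideal.Quotient.mk 𝔠)))
          (Ideal.Quotient.mk 𝔠 β) s *
        algebraMap (R ⧸ 𝔠) (Localization.AtPrime (P.map (Ideal.Quotient.mk 𝔠))) (s : R ⧸ 𝔠) = 0 := by
      rw [mul_assoc, IsLocalization.mk'_spec, h4]
    exact (hus.mul_left_eq_zero).mp h7
  obtain ⟨⟨⟨i', hi'⟩, s⟩, hs⟩ := (IsLocalization.mem_map_algebraMap_iff
    (P.map (Ideal.Quotient.mk 𝔠)).primeCompl _).mp hkey
  simp only at hs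
  rw [← map_mul, ← sub_eq_zero, ← map_sub] at hs
  obtain ⟨t', ht'⟩ := (IsLocalization.map_eq_zero_iff
    (P.map (Ideal.Quotient.mk 𝔠)).primeCompl _ _).mp hs
  obtain ⟨σ, hσ⟩ := hsurj ((t' * s : (P.map (Ideal.Quotient.mk 𝔠)).primeCompl) : R ⧸ 𝔠)
  have hσP : σ ∉ P := by
    rw [← hmemP, hσ]
    exact (t' * s : (P.map (Ideal.Quotient.mk 𝔠)).primeCompl).2
  have hσx : σ * x ∈ I := by
    rw [← Ideal.mem_quotient_iff_mem h𝔠I, map_mul, hσ, Submonoid.coe_mul]
    rw [mul_sub, sub_eq_zero] at ht'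
    have : (t' : R ⧸ 𝔠) * (s : R ⧸ 𝔠) * Ideal.Quotient.mk 𝔠 x = (t' : R ⧸ 𝔠) * i' := by
      rw [← ht']; ring
    rw [this]
    exact Ideal.mul_mem_left _ _ hi'
  apply hσP
  apply hle
  rw [Submodule.mem_colon_singleton, Submodule.mem_bot]
  have h1 : σ • (Ideal.Quotient.mk I) x = Ideal.Quotient.mk I (σ * x) := by
    rw [map_mul]; rfl
  rw [h1, Ideal.Quotient.eq_zero_iff_mem]
  exact hσx

end Link

end Groth.Agent.Helper12.Liaison
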