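import Groth.Agent.Lib.Helper12.Liaison2
import Groth.Agent.Lib.Helper12.GrCM
import Groth.Agent.Lib.Helper8.LCAnn
import Groth.Agent.Lib.Helper8.LCFin
import Groth.Agent.Lib.Helper21.DepthFin
import Groth.Agent.Lib.Helper23.GrSyzLib
import Groth.Agent.Lib.Helper17.EX2
import Groth.Agent.Lib.Helper14.SmoothDim

/-!
# Liaison, part 4: depth of a graded Cohen–Macaulay quotient along the irrelevant ideal (helper12)

* `irrel_eq_idealOfVars`, `isMaximal_idealOfVars`
* `quotSupEquiv : R ⧸ (J ⊔ (f)) ≃ₗ[R] QuotSMulTop f (R ⧸ J)`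
* `isSMulRegular_of_colon_eq`
* `idealDepth_quot_add_height`: `depth_𝔪 (R/J) + ht J = n` for `J` homogeneous with `R/J` CM.
-/

set_option autoImplicit false
universe u
open MvPolynomial LocCoh Pointwise

namespace Groth.Agent.Helper12.Liaison

section Irrel

variable {K : Type u} [Field K] {σ : Type*}

theorem idealOfVars_eq_ker_constantCoeff :
    idealOfVars σ K = RingHom.ker (constantCoeff : MvPolynomial σ K →+* K) := by
  apply le_antisymm
  · intro p hp
    exact Groth.Agent.Helper17.EX.constantCoeff_eq_zero_of_mem hp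
  · intro p hp
    have h1 := Groth.Agent.Helper17.EX.sub_C_mem_idealOfVars p
    rw [RingHom.mem_ker] at hp
    rwa [hp, map_zero, sub_zero] at h1

theorem isMaximal_idealOfVars : (idealOfVars σ K).IsMaximal := by
  rw [idealOfVars_eq_ker_constantCoeff]
  exact RingHom.ker_isMaximal_of_surjective _ (fun c => ⟨C c, constantCoeff_C _ c⟩)

theorem irrel_eq_idealOfVars :
    (GrSyz.irrel (GrSyz.stdGr K σ)).toIdeal = idealOfVars σ K := by
  apply le_antisymm
  · intro p hp
    have h0 := Groth.Agent.Helper23.GrSyzLib.constantCoeff_eq_zero_of_mem_irrel K σ hp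
    have h1 := Groth.Agent.Helper17.EX.sub_C_mem_idealOfVars p
    rwa [h0, map_zero, sub_zero] at h1
  · rw [idealOfVars, Ideal.span_le]
    rintro _ ⟨i, rfl⟩
    refine Groth.Agent.Helper23.GrSyzLib.mem_irrel_of_pos K σ one_pos ?_
    rw [GrSyz.mem_stdGr_iff]
    exact MvPolynomial.isWeightedHomogeneous_X K _ i

end Irrel

section Quot

variable {R : Type u} [CommRing R]

theorem map_mkQ_sup_span (J : Ideal R) (f : R) :
    Submodule.map (Submodule.mkQ J) (J ⊔ Ideal.span {f}) =
      f • (⊤ : Submodule R (R ⧸ J)) := by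
  ext x
  obtain ⟨x, rfl⟩ := Submodule.Quotient.mk_surjective _ x
  constructor
  · rintro ⟨y, hy, hyx⟩
    obtain ⟨j, hj, w, hw, rfl⟩ := Submodule.mem_sup.mp hy
    obtain ⟨a, rfl⟩ := Ideal.mem_span_singleton'.mp hw
    rw [← hyx, Submodule.mem_smul_pointwise_iff_exists]
    refine ⟨Submodule.Quotient.mk a, trivial, ?_⟩
    rw [map_add, Submodule.mkQ_apply, Submodule.mkQ_apply,
      (Submodule.Quotient.mk_eq_zero J (x := j)).mpr hj, zero_add, mul_comm]
    rfl
  · intro hx
    obtain ⟨z, -, hz⟩ := (Submodule.mem_smul_pointwise_iff_exists _ _ _).mp hx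
    obtain ⟨a, rfl⟩ := Submodule.Quotient.mk_surjective _ z
    exact ⟨f * a, Ideal.mem_sup_right (Ideal.mem_span_singleton'.mpr ⟨a, mul_comm _ _⟩), hz⟩

/-- `R/(J + (f)) ≃ (R/J)/f(R/J)` as `R`-modules. -/
noncomputable def quotSupEquiv (J : Ideal R) (f : R) :
    (R ⧸ (J ⊔ Ideal.span {f})) ≃ₗ[R] QuotSMulTop f (R ⧸ J) :=
  (Submodule.quotientQuotientEquivQuotient J (J ⊔ Ideal.span {f}) le_sup_left).symm ≪≫ₗ
    Submodule.quotEquivOfEq _ _ (map_mkQ_sup_span J f)

theorem isSMulRegular_of_colon_eq (J : Ideal R) (f : R) (h : J.colon {f} = J) :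
    IsSMulRegular (R ⧸ J) f := by
  intro a b hab
  obtain ⟨x, rfl⟩ := Submodule.Quotient.mk_surjective _ a
  obtain ⟨y, rfl⟩ := Submodule.Quotient.mk_surjective _ b
  have h1 : (Submodule.Quotient.mk (f * x) : R ⧸ J) = Submodule.Quotient.mk (f * y) := hab
  rw [Submodule.Quotient.eq] at h1 ⊢
  rw [← h, Submodule.mem_colon_singleton]
  have : (x - y) • f = f * x - f * y := by rw [smul_eq_mul]; ring
  rw [this]
  exact h1

end Quot

section Depth

open Groth.Agent.Helper12.ProjHilb Groth.Agent.Lead.Depth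

attribute [local instance] MvPolynomial.gradedAlgebra

variable {K : Type u} [Field K] {n : ℕ}

/-- `depth_𝔪 (R/J) + ht J = n` for a proper homogeneous ideal `J` of `R = K[x₁..xₙ]` with `R/J`
Cohen–Macaulay. -/
theorem idealDepth_quot_add_height (J : Ideal (MvPolynomial (Fin n) K))
    (hJ : J.IsHomogeneous (homogeneousSubmodule (Fin n) K)) (hJtop : J ≠ ⊤)
    [hCM : LocCoh.IsCohenMacaulayRing (MvPolynomial (Fin n) K ⧸ J)] :
    LocCoh.idealDepth (idealOfVars (Fin n) K) (MvPolynomial (Fin n) K ⧸ J) + J.height = n := by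
  set m := idealOfVars (Fin n) K with hm
  have hmax : m.IsMaximal := isMaximal_idealOfVars
  have hmp : m.IsPrime := hmax.isPrime
  have hJm : J ≤ m := le_idealOfVars_of_isHomogeneous hJ hJtop
  have hCM' : ∀ (p : Ideal (MvPolynomial (Fin n) K ⧸ J)) [p.IsPrime],
      LocCoh.IsCohenMacaulayLocalRing (Localization.AtPrime p) :=
    fun q _ => hCM.isCohenMacaulayLocalRing_localization q
  obtain ⟨Q, hQ, hQm⟩ := Ideal.exists_minimalPrimes_le hJm
  have h1 := height_add_eq_of_mem_minimalPrimes J hCM' m Q hQ hQm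
  have h2 := height_eq_of_mem_minimalPrimes J hJ hCM' Q hQ
  have h3 : m.height = n := Groth.Agent.Helper14.SmoothDim.height_eq_of_isMaximal_mvPolynomial K n m
  have h4 := Groth.Agent.Helper21.DF.idealDepth_eq_map
    (B := MvPolynomial (Fin n) K ⧸ J) m (MvPolynomial (Fin n) K ⧸ J)
  have hprime : (m.map (Ideal.Quotient.mk J)).IsPrime :=
    Ideal.map_isPrime_of_surjective Ideal.Quotient.mk_surjective (by rw [Ideal.mk_ker]; exact hJm)
  have h5 := (isCohenMacaulayRing_iff_idealDepth_eq_height.mp hCM) _ hprime.ne_top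
  rw [h4]
  change LocCoh.idealDepth (m.map (Ideal.Quotient.mk J)) _ + _ = _
  rw [h5, ← h2, add_comm, ← h1, h3]

end Depth

end Groth.Agent.Helper12.Liaison
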