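import Groth.Agent.Lib.Helper12.Liaison3
import Groth.Agent.Lib.Helper12.SamuelAssoc

/-!
# Liaison, part 5: lengths in rings with the double annihilator property (helper12)

* `DA A`: every ideal is its own double annihilator (holds for self-injective Noetherian rings,
  in particular zero-dimensional Gorenstein local rings).
* `DA.length_add`: `ℓ(A/a) + ℓ(A/ann a) = ℓ(A)`.
-/

set_option autoImplicit false
universe u

namespace Groth.Agent.Helper12.Liaison

section DA

variable {A : Type u} [CommRing A]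

/-- The double annihilator property. -/
def DA (A : Type u) [CommRing A] : Prop :=
  ∀ (a : Ideal A) (x : A), (∀ y, (∀ z ∈ a, y * z = 0) → x * y = 0) → x ∈ a

theorem da_of_baer (hB : Module.Baer A A) [IsNoetherianRing A] : DA A :=
  fun a => mem_of_ann_ann hB a

theorem DA.of_ringEquiv {A₂ : Type u} [CommRing A₂] (e : A ≃+* A₂) (h : DA A) : DA A₂ := by
  intro a₂ x₂ hx₂
  have h1 : e.symm x₂ ∈ a₂.comap (e : A →+* A₂) := by
    apply h
    intro y hy
    have h2 : x₂ * e y = 0 := by
      apply hx₂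
      intro z₂ hz₂
      have h3 := hy (e.symm z₂) (by
        rw [Ideal.mem_comap]
        simpa using hz₂)
      have h4 := congrArg e h3
      rwa [map_mul, e.apply_symm_apply, map_zero] at h4
    have h5 := congrArg e.symm h2
    rwa [map_mul, e.symm_apply_apply, map_zero] at h5
  rw [Ideal.mem_comap] at h1
  simpa using h1

/-- the annihilator of an ideal, as an ideal -/
def ann (a : Ideal A) : Ideal A := Submodule.annihilator a

theorem mem_ann {a : Ideal A} {y : A} : y ∈ ann a ↔ ∀ z ∈ a, y * z = 0 := by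
  unfold ann
  rw [Submodule.mem_annihilator]
  rfl

theorem ann_anti {a b : Ideal A} (h : a ≤ b) : ann b ≤ ann a := by
  intro y hy
  rw [mem_ann] at hy ⊢
  exact fun z hz => hy z (h hz)

theorem le_ann_ann (a : Ideal A) : a ≤ ann (ann a) := by
  intro x hx
  rw [mem_ann]
  intro y hy
  rw [mul_comm]
  exact mem_ann.mp hy x hx

theorem DA.ann_ann (h : DA A) (a : Ideal A) : ann (ann a) = a := by
  apply le_antisymm _ (le_ann_ann a)
  intro x hx
  apply h a x
  intro y hy
  exact mem_ann.mp hx y (mem_ann.mpr hy)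

/-- `a ↦ ann a` as an order anti-automorphism of the lattice of ideals. -/
noncomputable def DA.annIso (h : DA A) : Ideal A ≃o (Ideal A)ᵒᵈ where
  toFun a := OrderDual.toDual (ann a)
  invFun b := ann (OrderDual.ofDual b)
  left_inv a := h.ann_ann a
  right_inv b := by
    change OrderDual.toDual (ann (ann (OrderDual.ofDual b))) = b
    rw [h.ann_ann]
    rfl
  map_rel_iff' := by
    intro a b
    change ann b ≤ ann a ↔ a ≤ b
    constructor
    · intro hab
      have := ann_anti hab
      rwa [h.ann_ann, h.ann_ann] at this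
    · exact ann_anti

theorem DA.length_quot_ann (h : DA A) (a : Ideal A) :
    Module.length A (A ⧸ ann a) = Module.length A a := by
  have h1 : Module.length A (A ⧸ ann a) = Order.coheight (ann a) :=
    Module.length_quotient (R := A) (M := A) (N := ann a)
  have h2 : Module.length A a = Order.height a :=
    Module.length_submodule (R := A) (M := A) (N := a)
  rw [h1, h2, ← Order.height_orderIso h.annIso a]
  rfl

theorem DA.length_add (h : DA A) (a : Ideal A) :
    Module.length A (A ⧸ a) + Module.length A (A ⧸ ann a) = Module.length A A := by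
  rw [h.length_quot_ann, add_comm]
  exact (Module.length_eq_add_of_exact (Submodule.subtype a) (Submodule.mkQ a)
    (Submodule.injective_subtype a) (Submodule.mkQ_surjective a)
    (LinearMap.exact_subtype_mkQ a)).symm

end DA


section Colon

variable {R : Type u} [CommRing R]

/-- Colon ideals commute with localization when the second ideal is finitely generated. -/
theorem map_colon_eq (M : Submonoid R) (S : Type*) [CommRing S] [Algebra R S] [IsLocalization M S]
    (𝔠 I : Ideal R) (hI : I.FG) :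
    (𝔠.colon (I : Set R) : Ideal R).map (algebraMap R S) =
      (𝔠.map (algebraMap R S)).colon ((I.map (algebraMap R S) : Ideal S) : Set S) := by
  classical
  apply le_antisymm
  · rw [Ideal.map_le_iff_le_comap]
    intro j hj
    rw [Ideal.mem_comap, show (I.map (algebraMap R S) : Ideal S) =
      Ideal.span ((algebraMap R S) '' (I : Set R)) from rfl, Ideal.colon_span, Submodule.mem_colon]
    rintro _ ⟨i, hi, rfl⟩
    rw [smul_eq_mul, ← map_mul]
    apply Ideal.mem_map_of_mem
    have := Submodule.mem_colon.mp hj i hi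
    rwa [smul_eq_mul] at this
  · intro y hy
    obtain ⟨β, s, rfl⟩ := IsLocalization.exists_mk'_eq M y
    obtain ⟨T, hT⟩ := hI
    have hex : ∀ i : R, ∃ t : M, i ∈ T → (t : R) * (β * i) ∈ 𝔠 := by
      intro i
      by_cases hi : i ∈ T
      · have hiI : i ∈ I := hT ▸ Ideal.subset_span hi
        have h1 := Submodule.mem_colon.mp hy _ (Ideal.mem_map_of_mem (algebraMap R S) hiI)
        rw [smul_eq_mul] at h1
        have h2 : algebraMap R S (β * i) ∈ 𝔠.map (algebraMap R S) := by
          rw [map_mul, ← IsLocalization.mk'_spec S β s, mul_right_comm]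
          exact Ideal.mul_mem_right _ _ h1
        obtain ⟨m, hm, hm'⟩ := (IsLocalization.algebraMap_mem_map_algebraMap_iff M S 𝔠 _).mp h2
        exact ⟨⟨m, hm⟩, fun _ => hm'⟩
      · exact ⟨1, fun h => absurd h hi⟩
    choose t ht using hex
    rw [IsLocalization.mk'_mem_map_algebraMap_iff M]
    refine ⟨((∏ i ∈ T, t i : M) : R), (∏ i ∈ T, t i : M).2, ?_⟩
    rw [← hT, Ideal.colon_span, Submodule.mem_colon]
    intro i hi
    obtain ⟨u, hu⟩ := Finset.dvd_prod_of_mem t hi
    rw [hu, Submonoid.coe_mul, smul_eq_mul]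
    have h9 := ht i hi
    have : (t i : R) * (u : R) * β * i = (u : R) * ((t i : R) * (β * i)) := by ring
    rw [this]
    exact Ideal.mul_mem_left _ _ h9

/-- In `S/𝔠`, the image of `𝔠 : X` is the annihilator of the image of `X`. -/
theorem map_mk_colon_eq_ann (𝔠 X : Ideal R) :
    (𝔠.colon (X : Set R) : Ideal R).map (Ideal.Quotient.mk 𝔠) = ann (X.map (Ideal.Quotient.mk 𝔠)) := by
  ext y
  obtain ⟨y, rfl⟩ := Ideal.Quotient.mk_surjective y
  rw [Ideal.mem_quotient_iff_mem Ideal.le_colon, mem_ann, Submodule.mem_colon]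
  constructor
  · intro h z hz
    obtain ⟨x, hx, rfl⟩ := (Ideal.mem_map_iff_of_surjective _ Ideal.Quotient.mk_surjective).mp hz
    rw [← map_mul, Ideal.Quotient.eq_zero_iff_mem]
    exact h x hx
  · intro h x hx
    rw [smul_eq_mul, ← Ideal.Quotient.eq_zero_iff_mem, map_mul]
    exact h _ (Ideal.mem_map_of_mem _ hx)

/-- `ℓ_S(S/X) = ℓ_{S/𝔠}((S/𝔠)/X̄)` for `𝔠 ≤ X`. -/
theorem length_quot_quot (𝔠 X : Ideal R) (h : 𝔠 ≤ X) :
    Module.length R (R ⧸ X) =
      Module.length (R ⧸ 𝔠) ((R ⧸ 𝔠) ⧸ X.map (Ideal.Quotient.mk 𝔠)) := by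
  rw [← Module.length_eq_of_surjective (S := R) (R := R ⧸ 𝔠)
    (M := (R ⧸ 𝔠) ⧸ X.map (Ideal.Quotient.mk 𝔠)) Ideal.Quotient.mk_surjective]
  have heq : (X.map (Ideal.Quotient.mk 𝔠)).restrictScalars R = Submodule.map 𝔠.mkQ X := by
    ext y
    obtain ⟨y, rfl⟩ := Ideal.Quotient.mk_surjective y
    rw [Submodule.restrictScalars_mem, Ideal.mem_quotient_iff_mem h]
    constructor
    · intro hy
      exact ⟨y, hy, rfl⟩
    · rintro ⟨x, hx, hxy⟩
      have h1 : x - y ∈ 𝔠 := by
        rw [← Ideal.Quotient.eq]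
        exact hxy
      have : y = x - (x - y) := by ring
      rw [this]
      exact X.sub_mem hx (h h1)
  exact ((Submodule.quotientQuotientEquivQuotient 𝔠 X h).symm ≪≫ₗ
    (Submodule.quotEquivOfEq _ _ heq.symm) ≪≫ₗ
    (Submodule.Quotient.restrictScalarsEquiv R (X.map (Ideal.Quotient.mk 𝔠)))).length_eq

end Colon

section Local

open Groth.Agent.Helper12.SamuelAssoc

variable {R : Type u} [CommRing R]

/-- `ℓ((R/X)_q) = ℓ_{R_q}(R_q / X R_q)`. -/
theorem lenAt_quot_eq_length (q : PrimeSpectrum R) (X : Ideal R) :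
    lenAt q (R ⧸ X) = Module.length (Localization.AtPrime q.asIdeal)
      (Localization.AtPrime q.asIdeal ⧸
        X.map (algebraMap R (Localization.AtPrime q.asIdeal))) := by
  unfold lenAt
  have e1 : LocalizedModule q.asIdeal.primeCompl (R ⧸ X) ≃ₗ[Localization.AtPrime q.asIdeal]
      Localization.AtPrime q.asIdeal ⧸ Submodule.localized' (Localization.AtPrime q.asIdeal)
        q.asIdeal.primeCompl (Algebra.linearMap R (Localization.AtPrime q.asIdeal)) X :=
    (IsLocalizedModule.linearEquiv q.asIdeal.primeCompl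
      (LocalizedModule.mkLinearMap q.asIdeal.primeCompl (R ⧸ X))
      (Submodule.toLocalizedQuotient' (Localization.AtPrime q.asIdeal) q.asIdeal.primeCompl
        (Algebra.linearMap R (Localization.AtPrime q.asIdeal)) X)).extendScalarsOfIsLocalization
      q.asIdeal.primeCompl (Localization.AtPrime q.asIdeal)
  rw [e1.length_eq]
  exact (Submodule.quotEquivOfEq _ _
    (Ideal.localized'_eq_map (Localization.AtPrime q.asIdeal) q.asIdeal.primeCompl X)).length_eq


variable [IsNoetherianRing R]

/-- For `q` minimal over `𝔠` with `R/𝔠` Gorenstein, the ring `R_q/𝔠R_q` has the double annihilator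
property. -/
theorem da_quot_localization (𝔠 : Ideal R) [hG : LocCoh.IsGorensteinRing (R ⧸ 𝔠)]
    (q : Ideal R) [hqp : q.IsPrime] (hq : q ∈ 𝔠.minimalPrimes) :
    DA (Localization.AtPrime q ⧸ 𝔠.map (algebraMap R (Localization.AtPrime q))) := by
  have h𝔠q : 𝔠 ≤ q := hq.1.2
  have hsurj : Function.Surjective (Ideal.Quotient.mk 𝔠) := Ideal.Quotient.mk_surjective
  have hq'prime : (q.map (Ideal.Quotient.mk 𝔠)).IsPrime :=
    Ideal.map_isPrime_of_surjective hsurj (by rw [Ideal.mk_ker]; exact h𝔠q)
  have hq'min : q.map (Ideal.Quotient.mk 𝔠) ∈ minimalPrimes (R ⧸ 𝔠) := by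
    have := hq
    rw [Ideal.minimalPrimes_eq_comap] at this
    obtain ⟨p', hp', hp'q⟩ := this
    rw [← hp'q, Ideal.map_comap_of_surjective _ hsurj]
    exact hp'
  have hGl : LocCoh.IsGorensteinLocalRing (Localization.AtPrime (q.map (Ideal.Quotient.mk 𝔠))) :=
    hG.isGorensteinLocalRing_localization _
  have hdim : ringKrullDim (Localization.AtPrime (q.map (Ideal.Quotient.mk 𝔠))) = 0 := by
    rw [IsLocalization.AtPrime.ringKrullDim_eq_height (q.map (Ideal.Quotient.mk 𝔠)),
      Ideal.height_eq_zero_iff.mpr hq'min]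
    rfl
  have hDA : DA (Localization.AtPrime (q.map (Ideal.Quotient.mk 𝔠))) :=
    da_of_baer (baer_of_gorenstein_dim_zero hdim)
  have hsub : Algebra.algebraMapSubmonoid (R ⧸ 𝔠) q.primeCompl =
      (q.map (Ideal.Quotient.mk 𝔠)).primeCompl := by
    ext b
    constructor
    · rintro ⟨x, hx, rfl⟩
      change ¬ (Ideal.Quotient.mk 𝔠 x ∈ q.map (Ideal.Quotient.mk 𝔠))
      rw [Ideal.mem_quotient_iff_mem h𝔠q]
      exact hx
    · intro hb
      obtain ⟨x, rfl⟩ := hsurj b
      refine ⟨x, ?_, rfl⟩
      intro hx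
      exact hb (Ideal.mem_map_of_mem _ hx)
  haveI : IsLocalization (q.map (Ideal.Quotient.mk 𝔠)).primeCompl
      (Localization.AtPrime q ⧸ 𝔠.map (algebraMap R (Localization.AtPrime q))) := by
    rw [← hsub]
    infer_instance
  exact hDA.of_ringEquiv (IsLocalization.algEquiv (q.map (Ideal.Quotient.mk 𝔠)).primeCompl
    (Localization.AtPrime (q.map (Ideal.Quotient.mk 𝔠)))
    (Localization.AtPrime q ⧸ 𝔠.map (algebraMap R (Localization.AtPrime q)))).toRingEquiv

/-- **Local liaison identity**: at a minimal prime `q` of `𝔠` (with `R/𝔠` Gorenstein),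
`ℓ((R/𝔠)_q) = ℓ((R/I)_q) + ℓ((R/(𝔠:I))_q)` for every ideal `I ⊇ 𝔠`. -/
theorem lenAt_quot_eq_add_colon (𝔠 I : Ideal R) (h𝔠I : 𝔠 ≤ I)
    [hG : LocCoh.IsGorensteinRing (R ⧸ 𝔠)] (q : PrimeSpectrum R)
    (hq : q.asIdeal ∈ 𝔠.minimalPrimes) :
    lenAt q (R ⧸ 𝔠) = lenAt q (R ⧸ I) + lenAt q (R ⧸ (𝔠.colon (I : Set R) : Ideal R)) := by
  rw [lenAt_quot_eq_length, lenAt_quot_eq_length, lenAt_quot_eq_length]
  have hDA := da_quot_localization 𝔠 q.asIdeal hq
  rw [length_quot_quot (𝔠.map (algebraMap R (Localization.AtPrime q.asIdeal))) _ le_rfl,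
    length_quot_quot (𝔠.map (algebraMap R (Localization.AtPrime q.asIdeal))) _
      (Ideal.map_mono h𝔠I),
    length_quot_quot (𝔠.map (algebraMap R (Localization.AtPrime q.asIdeal))) _
      (Ideal.map_mono (Ideal.le_colon (I := 𝔠) (S := (I : Set R))))]
  rw [map_colon_eq q.asIdeal.primeCompl (Localization.AtPrime q.asIdeal) 𝔠 I
    (IsNoetherian.noetherian I), map_mk_colon_eq_ann, hDA.length_add, Ideal.map_quotient_self]
  exact (Submodule.quotEquivOfEqBot _ rfl).length_eq

end Local

end Groth.Agent.Helper12.Liaison
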