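import Groth.Agent.Lib.Helper12.Liaison5
import Groth.Agent.Lib.Helper12.GrCM
import Groth.Agent.Lib.Helper12.ProjHilb6

/-!
# Liaison, part 6: degrees of linked ideals (helper12)

`deg (𝔠 : I) = deg 𝔠 − deg I` for homogeneous ideals `𝔠 ⊆ I` of `K[x₀..xₙ]` with `R/𝔠` Gorenstein,
in Hilbert polynomial form (`ct_colon`).
-/

set_option autoImplicit false
universe u
open MvPolynomial Polynomial Groth.Agent.Helper5 Groth.Agent.Helper5.HS
  Groth.Agent.Helper12.SamuelAssoc Groth.Agent.Helper12.ProjHilb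

namespace Groth.Agent.Helper12.Liaison

attribute [local instance] MvPolynomial.gradedAlgebra

section Std

variable {K : Type u} [Field K] {σ : Type}

theorem stdGr_natCast_eq (j : ℕ) :
    GrSyz.stdGr K σ (j : ℤ) = homogeneousSubmodule σ K j := by
  ext x
  rw [GrSyz.mem_stdGr_iff, mem_homogeneousSubmodule]
  have h3 : ∀ e : σ →₀ ℕ, (Finsupp.weight 1) e = e.degree := by
    intro e
    rw [Finsupp.degree_eq_weight_one]
    rfl
  constructor
  · intro hx e he
    have h1 := hx he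
    rw [weight_one_int] at h1
    rw [h3]
    exact_mod_cast h1
  · intro hx e he
    have h1 := hx he
    rw [h3] at h1
    rw [weight_one_int, h1]

variable [Finite σ]

/-- The Hilbert function of `R/X` as the dimension of the image of the degree `j` piece. -/
theorem finrank_map_mkₐ (X : Ideal (MvPolynomial σ K)) (j : ℕ) :
    Module.finrank K ↥(Submodule.map (Ideal.Quotient.mkₐ K X).toLinearMap
      (GrSyz.stdGr K σ (j : ℤ))) = hf X j := by
  rw [stdGr_natCast_eq]
  set V := homogeneousSubmodule σ K j with hV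
  set φ := (Ideal.Quotient.mkₐ K X).toLinearMap with hφ
  have h1 := LinearMap.finrank_range_add_finrank_ker (φ.domRestrict V)
  rw [LinearMap.range_domRestrict] at h1
  have h2 : Module.finrank K (LinearMap.ker (φ.domRestrict V)) = Module.finrank K (part X j) := by
    rw [← Submodule.finrank_map_subtype_eq V (LinearMap.ker (φ.domRestrict V))]
    have h4 : Submodule.map V.subtype (LinearMap.ker (φ.domRestrict V)) = part X j := by
      ext x
      rw [mem_part]
      constructor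
      · rintro ⟨⟨v, hv⟩, hker, rfl⟩
        refine ⟨?_, hv⟩
        rw [SetLike.mem_coe, LinearMap.mem_ker, LinearMap.domRestrict_apply] at hker
        exact Ideal.Quotient.eq_zero_iff_mem.mp hker
      · rintro ⟨hxX, hxV⟩
        refine ⟨⟨x, hxV⟩, ?_, rfl⟩
        rw [SetLike.mem_coe, LinearMap.mem_ker, LinearMap.domRestrict_apply]
        exact Ideal.Quotient.eq_zero_iff_mem.mpr hxX
    rw [h4]
  have h3 := hf_add X j
  rw [← hV] at h3
  omega

omit [Finite σ] in
theorem colon_isHomogeneous {𝔠 I : Ideal (MvPolynomial σ K)}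
    (h𝔠 : 𝔠.IsHomogeneous (homogeneousSubmodule σ K))
    (hI : I.IsHomogeneous (homogeneousSubmodule σ K)) :
    (𝔠.colon (I : Set (MvPolynomial σ K)) : Ideal _).IsHomogeneous (homogeneousSubmodule σ K) := by
  obtain ⟨S, rfl⟩ := (Ideal.IsHomogeneous.iff_exists (𝒜 := homogeneousSubmodule σ K) I).mp hI
  have h1 : (𝔠.colon ((Ideal.span (Subtype.val '' S) : Ideal (MvPolynomial σ K)) :
      Set (MvPolynomial σ K)) : Ideal _) = ⨅ s ∈ S, col 𝔠 (s : MvPolynomial σ K) := by
    rw [Ideal.colon_span]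
    ext r
    rw [Submodule.mem_colon]
    simp only [Ideal.mem_iInf, mem_col]
    constructor
    · intro h s hs
      have := h s ⟨s, hs, rfl⟩
      rwa [smul_eq_mul, mul_comm] at this
    · rintro h _ ⟨s, hs, rfl⟩
      rw [smul_eq_mul, mul_comm]
      exact h s hs
  rw [h1]
  exact Ideal.IsHomogeneous.iInf₂ fun s _ => col_isHomogeneous 𝔠 h𝔠 s.2.choose_spec

end Std

section Deg

variable {K : Type u} [Field K] {n : ℕ}

/-- `deg HP(𝔠) + 1 ≤ n − ht 𝔠` for a homogeneous ideal of `K[x₁..xₙ]` with nonzero Hilbert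
polynomial. -/
theorem HP_natDegree_add_one_le (𝔠 : Ideal (MvPolynomial (Fin n) K))
    (h𝔠 : 𝔠.IsHomogeneous (homogeneousSubmodule (Fin n) K)) (h0 : HP 𝔠 ≠ 0)
    (c : ℕ) (hc : 𝔠.height = c) : (HP 𝔠).natDegree + 1 ≤ n - c := by
  have h1 := ringKrullDim_quotient_eq 𝔠 h𝔠 h0
  have h2 : ringKrullDim (MvPolynomial (Fin n) K ⧸ 𝔠) ≤ ((n - c : ℕ) : WithBot ℕ∞) := by
    apply ringKrullDim_quotient_le_of_minimalPrimes
    intro q hq
    have : q.IsPrime := hq.1.1
    obtain ⟨a, b, ha, hb, hab⟩ := exists_dim_height q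
    have h3 : 𝔠.height ≤ q.height := Ideal.height_mono hq.1.2
    rw [hc, hb] at h3
    have h4 : c ≤ b := by exact_mod_cast h3
    rw [ha]
    exact_mod_cast (by omega : a ≤ n - c)
  rw [h1] at h2
  exact_mod_cast h2

/-- **Degrees of linked ideals**: `deg 𝔠 = deg I + deg (𝔠 : I)` in Hilbert-polynomial form, for
homogeneous `𝔠 ⊆ I` with `R/𝔠` Gorenstein. -/
theorem ct_colon (𝔠 I : Ideal (MvPolynomial (Fin n) K))
    (h𝔠 : 𝔠.IsHomogeneous (homogeneousSubmodule (Fin n) K))
    (hI : I.IsHomogeneous (homogeneousSubmodule (Fin n) K))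
    [hG : LocCoh.IsGorensteinRing (MvPolynomial (Fin n) K ⧸ 𝔠)] (h𝔠I : 𝔠 ≤ I)
    (t : ℕ) (ht : (HP 𝔠).natDegree ≤ t) :
    ct t 𝔠 = ct t I +
      ct t (𝔠.colon (I : Set (MvPolynomial (Fin n) K)) : Ideal (MvPolynomial (Fin n) K)) := by
  set J : Ideal (MvPolynomial (Fin n) K) := 𝔠.colon (I : Set (MvPolynomial (Fin n) K)) with hJdef
  have h𝔠J : 𝔠 ≤ J := Ideal.le_colon
  have hJ : J.IsHomogeneous (homogeneousSubmodule (Fin n) K) := colon_isHomogeneous h𝔠 hI
  have htI : (HP I).natDegree ≤ t := (HP_natDegree_le_of_le h𝔠 hI h𝔠I).trans ht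
  have htJ : (HP J).natDegree ≤ t := (HP_natDegree_le_of_le h𝔠 hJ h𝔠J).trans ht
  rw [ct_eq_finsum 𝔠 h𝔠 t ht, ct_eq_finsum I hI t htI, ct_eq_finsum J hJ t htJ,
    ← finsum_mem_add_distrib' (finite_support_term hI htI) (finite_support_term hJ htJ)]
  apply finsum_mem_congr rfl
  intro q hq
  by_cases hle : 𝔠 ≤ q.asIdeal
  · have hmin := mem_minimalPrimes_of_Dm h𝔠 ht hq hle
    have hadd := lenAt_quot_eq_add_colon 𝔠 I h𝔠I q hmin
    have hfin := lenAt_quot_ne_top_of_minimal q 𝔠 hmin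
    rw [hadd] at hfin
    have hfinI : lenAt q (MvPolynomial (Fin n) K ⧸ I) ≠ ⊤ := fun h => hfin (by rw [h, top_add])
    have hfinJ : lenAt q (MvPolynomial (Fin n) K ⧸ J) ≠ ⊤ := fun h => hfin (by rw [h, add_top])
    unfold term
    rw [hadd, ENat.toNat_add hfinI hfinJ]
    push_cast
    ring
  · rw [term_eq_zero_of_not_le t 𝔠 q hle, term_eq_zero_of_not_le t I q (fun h => hle (h𝔠I.trans h)),
      term_eq_zero_of_not_le t J q (fun h => hle (h𝔠J.trans h)), add_zero]

end Deg

end Groth.Agent.Helper12.Liaison
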