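import Mathlib
import Groth.Prelude

set_option autoImplicit false
set_option linter.style.haveILetI false
universe u
open CategoryTheory CategoryTheory.Limits AlgebraicGeometry Opposite TopologicalSpace Topology

noncomputable section

namespace Groth.Agent.Helper12.LieEpi

/-- a surjective ring homomorphism with nil kernel is surjective on spectra. -/
theorem comap_surjective_of_nil {R R' : Type u} [CommRing R] [CommRing R'] (π : R →+* R')
    (hπ : Function.Surjective π) (hk : RingHom.ker π ≤ nilradical R) :
    Function.Surjective (PrimeSpectrum.comap π) := by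
  intro q
  have hkq : RingHom.ker π ≤ q.asIdeal := by
    refine hk.trans ?_
    rw [nilradical_eq_sInf]
    exact sInf_le q.isPrime
  haveI := q.isPrime
  refine ⟨⟨Ideal.map π q.asIdeal, Ideal.map_isPrime_of_surjective hπ hkq⟩, ?_⟩
  apply PrimeSpectrum.ext
  show Ideal.comap π (Ideal.map π q.asIdeal) = q.asIdeal
  rw [Ideal.comap_map_of_surjective π hπ]
  exact sup_eq_left.mpr hkq

/-- two ring maps out of `R` which are jointly injective, one of which is surjective on spectra,
induce a jointly epimorphic pair of morphisms into `Spec R` (for arbitrary target schemes). -/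
theorem hom_ext_of_jointly_injective {R R₁ R₂ : CommRingCat.{u}} (π₁ : R ⟶ R₁) (π₂ : R ⟶ R₂)
    (hinj : ∀ r : R, π₁.hom r = 0 → π₂.hom r = 0 → r = 0)
    (hsurj : Function.Surjective (Spec.map π₁).base) {Z : Scheme.{u}} (w w' : Spec R ⟶ Z)
    (h₁ : Spec.map π₁ ≫ w = Spec.map π₁ ≫ w') (h₂ : Spec.map π₂ ≫ w = Spec.map π₂ ≫ w') :
    w = w' := by
  let ι := equalizer.ι w w'
  let j₁ : Spec R₁ ⟶ equalizer w w' := equalizer.lift (Spec.map π₁) h₁
  let j₂ : Spec R₂ ⟶ equalizer w w' := equalizer.lift (Spec.map π₂) h₂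
  have hj₁ : j₁ ≫ ι = Spec.map π₁ := equalizer.lift_ι _ _
  have hj₂ : j₂ ≫ ι = Spec.map π₂ := equalizer.lift_ι _ _
  have hιs : Function.Surjective ι.base := by
    intro x
    obtain ⟨y, hy⟩ := hsurj x
    refine ⟨j₁.base y, ?_⟩
    rw [← hy, ← hj₁]
    rfl
  haveI : IsClosedImmersion ι := by
    apply IsClosedImmersion.of_isPreimmersion
    have : Set.range ι = Set.univ := Set.range_eq_univ.mpr hιs
    rw [this]
    exact isClosed_univ
  haveI : IsIso ι := by
    apply IsClosedImmersion.isIso_of_injective_of_isAffine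
    rw [injective_iff_map_eq_zero]
    intro r hr
    -- transport `r` to `R`
    have key : ∀ (R' : CommRingCat.{u}) (π : R ⟶ R') (j : Spec R' ⟶ equalizer w w'),
        j ≫ ι = Spec.map π → π.hom ((Scheme.ΓSpecIso R).hom.hom r) = 0 := by
      intro R' π j hj
      have h1 : (Spec.map π).appTop.hom r = 0 := by
        rw [← hj, Scheme.Hom.comp_appTop]
        simp only [CommRingCat.hom_comp, RingHom.coe_comp, Function.comp_apply]
        rw [hr, map_zero]
      have h2 := Scheme.ΓSpecIso_naturality π
      have h3 := congrArg (fun f => f.hom r) h2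
      simp only [CommRingCat.hom_comp, RingHom.coe_comp, Function.comp_apply] at h3
      rw [← h3, h1, map_zero]
    have h0 := hinj _ (key R₁ π₁ j₁ hj₁) (key R₂ π₂ j₂ hj₂)
    have := congrArg (Scheme.ΓSpecIso R).inv.hom h0
    simpa using this
  rw [← cancel_epi ι]
  exact equalizer.condition w w'

/-- single map version. -/
theorem hom_ext_of_injective {R R₁ : CommRingCat.{u}} (π₁ : R ⟶ R₁)
    (hinj : Function.Injective π₁.hom)
    (hsurj : Function.Surjective (Spec.map π₁).base) {Z : Scheme.{u}} (w w' : Spec R ⟶ Z)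
    (h₁ : Spec.map π₁ ≫ w = Spec.map π₁ ≫ w') : w = w' :=
  hom_ext_of_jointly_injective π₁ π₁ (fun r hr _ => hinj (by rw [hr, map_zero])) hsurj w w' h₁ h₁

end Groth.Agent.Helper12.LieEpi
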