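import Mathlib
import Groth.Prelude
import Groth.Agent.Lib.Helper12.LieEpi

set_option autoImplicit false
set_option linter.style.haveILetI false
universe u
open CategoryTheory CategoryTheory.Limits AlgebraicGeometry Opposite TopologicalSpace Topology
  MonoidalCategory CartesianMonoidalCategory MonObj

noncomputable section

namespace Groth.Agent.Helper12.LieAdd

open LieS

section Rings

variable (B : Type u) [CommRing B]

/-- `B[ε₁, ε₂]/(ε₁, ε₂)²`. -/
abbrev E2 : Type u := TrivSqZeroExt B (B × B)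

variable {B}

/-- `ε ↦ bε₁ + cε₂`. -/
def mixHom (b c : B) : DualNumber B →+* E2 B :=
  dualHom (algebraMap B (E2 B)) (TrivSqZeroExt.inr (b, c)) (TrivSqZeroExt.inr_mul_inr _ _ _)

theorem mixHom_comp_algebraMap (b c : B) :
    (mixHom b c).comp (algebraMap B (DualNumber B)) = algebraMap B (E2 B) :=
  dualHom_comp_algebraMap _ _ _

variable (B)

/-- `ε₁ ↦ ε, ε₂ ↦ 0`. -/
def pr₁ : E2 B →+* DualNumber B := (TrivSqZeroExt.map (LinearMap.fst B B B)).toRingHom

/-- `ε₁ ↦ 0, ε₂ ↦ ε`. -/
def pr₂ : E2 B →+* DualNumber B := (TrivSqZeroExt.map (LinearMap.snd B B B)).toRingHom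

/-- `ε₁ ↦ ε, ε₂ ↦ ε`. -/
def dg : E2 B →+* DualNumber B :=
  (TrivSqZeroExt.map (LinearMap.coprod LinearMap.id LinearMap.id : B × B →ₗ[B] B)).toRingHom

theorem pr₁_comp_algebraMap : (pr₁ B).comp (algebraMap B (E2 B)) = algebraMap B (DualNumber B) :=
  (TrivSqZeroExt.map (LinearMap.fst B B B)).comp_algebraMap

theorem pr₂_comp_algebraMap : (pr₂ B).comp (algebraMap B (E2 B)) = algebraMap B (DualNumber B) :=
  (TrivSqZeroExt.map (LinearMap.snd B B B)).comp_algebraMap

theorem dg_comp_algebraMap : (dg B).comp (algebraMap B (E2 B)) = algebraMap B (DualNumber B) :=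
  (TrivSqZeroExt.map (LinearMap.coprod LinearMap.id LinearMap.id : B × B →ₗ[B] B)).comp_algebraMap

variable {B}

theorem pr₁_comp_mixHom (b c : B) : (pr₁ B).comp (mixHom b c) = scaleHom b := by
  apply RingHom.ext
  intro x
  apply TrivSqZeroExt.ext <;>
    simp [pr₁, mixHom, scaleHom, TrivSqZeroExt.algebraMap_eq_inl', mul_comm]

theorem pr₂_comp_mixHom (b c : B) : (pr₂ B).comp (mixHom b c) = scaleHom c := by
  apply RingHom.ext
  intro x
  apply TrivSqZeroExt.ext <;>
    simp [pr₂, mixHom, scaleHom, TrivSqZeroExt.algebraMap_eq_inl', mul_comm]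

theorem dg_comp_mixHom (b c : B) : (dg B).comp (mixHom b c) = scaleHom (b + c) := by
  apply RingHom.ext
  intro x
  apply TrivSqZeroExt.ext <;>
    simp [dg, mixHom, scaleHom, TrivSqZeroExt.algebraMap_eq_inl', mul_comm, mul_add, add_mul]

theorem scaleHom_zero :
    scaleHom (0 : B) = (algebraMap B (DualNumber B)).comp (TrivSqZeroExt.fstHom B B B).toRingHom := by
  apply RingHom.ext
  intro x
  apply TrivSqZeroExt.ext <;> simp [scaleHom, TrivSqZeroExt.algebraMap_eq_inl']

theorem scaleHom_one : scaleHom (1 : B) = RingHom.id _ := by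
  apply RingHom.ext
  intro x
  apply TrivSqZeroExt.ext <;> simp [scaleHom, TrivSqZeroExt.algebraMap_eq_inl']

theorem pr_jointly_injective (x : E2 B) (h₁ : pr₁ B x = 0) (h₂ : pr₂ B x = 0) : x = 0 := by
  have a1 := congrArg TrivSqZeroExt.fst h₁
  have a2 := congrArg TrivSqZeroExt.snd h₁
  have a3 := congrArg TrivSqZeroExt.snd h₂
  simp [pr₁, pr₂] at a1 a2 a3
  apply TrivSqZeroExt.ext
  · simpa using a1
  · apply Prod.ext
    · simpa using a2
    · simpa using a3

theorem pr₁_surjective : Function.Surjective (pr₁ B) := by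
  intro x
  refine ⟨TrivSqZeroExt.inl x.fst + TrivSqZeroExt.inr (x.snd, 0), ?_⟩
  apply TrivSqZeroExt.ext <;> simp [pr₁]

theorem ker_pr₁_le_nilradical : RingHom.ker (pr₁ B) ≤ nilradical (E2 B) := by
  intro x hx
  rw [RingHom.mem_ker] at hx
  have a1 := congrArg TrivSqZeroExt.fst hx
  simp [pr₁] at a1
  rw [mem_nilradical]
  refine ⟨2, ?_⟩
  apply TrivSqZeroExt.ext
  · simp [pow_two, a1]
  · simp [pow_two, a1]

end Rings

section Schemes

variable {S : Scheme.{u}} (B : Type u) [CommRing B] (f : Spec (CommRingCat.of B) ⟶ S)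

/-- `Spec B[ε₁, ε₂]/(ε₁, ε₂)²` as an `S`-scheme. -/
def e2pt : Over S := Over.mk (Spec.map (CommRingCat.ofHom (algebraMap B (E2 B))) ≫ f)

/-- `ε ↦ bε₁ + cε₂`. -/
def mixMap (b c : B) : e2pt B f ⟶ dpt B f :=
  Over.homMk (Spec.map (CommRingCat.ofHom (mixHom b c))) (by
    change Spec.map _ ≫ Spec.map _ ≫ f = Spec.map _ ≫ f
    rw [← Category.assoc, specMap_comp, mixHom_comp_algebraMap])

def prMap₁ : dpt B f ⟶ e2pt B f :=
  Over.homMk (Spec.map (CommRingCat.ofHom (pr₁ B))) (by
    change Spec.map _ ≫ Spec.map _ ≫ f = Spec.map _ ≫ f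
    rw [← Category.assoc, specMap_comp, pr₁_comp_algebraMap])

def prMap₂ : dpt B f ⟶ e2pt B f :=
  Over.homMk (Spec.map (CommRingCat.ofHom (pr₂ B))) (by
    change Spec.map _ ≫ Spec.map _ ≫ f = Spec.map _ ≫ f
    rw [← Category.assoc, specMap_comp, pr₂_comp_algebraMap])

def dgMap : dpt B f ⟶ e2pt B f :=
  Over.homMk (Spec.map (CommRingCat.ofHom (dg B))) (by
    change Spec.map _ ≫ Spec.map _ ≫ f = Spec.map _ ≫ f
    rw [← Category.assoc, specMap_comp, dg_comp_algebraMap])

theorem prMap₁_mixMap (b c : B) : prMap₁ B f ≫ mixMap B f b c = scale B f b := by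
  ext; change Spec.map _ ≫ Spec.map _ = Spec.map _
  rw [specMap_comp, pr₁_comp_mixHom]

theorem prMap₂_mixMap (b c : B) : prMap₂ B f ≫ mixMap B f b c = scale B f c := by
  ext; change Spec.map _ ≫ Spec.map _ = Spec.map _
  rw [specMap_comp, pr₂_comp_mixHom]

theorem dgMap_mixMap (b c : B) : dgMap B f ≫ mixMap B f b c = scale B f (b + c) := by
  ext; change Spec.map _ ≫ Spec.map _ = Spec.map _
  rw [specMap_comp, dg_comp_mixHom]

theorem scale_zero : scale B f 0 = proj B f ≫ zeroSec B f := by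
  ext; change Spec.map _ = Spec.map _ ≫ Spec.map _
  rw [specMap_comp, scaleHom_zero]

theorem scale_one : scale B f 1 = 𝟙 _ := by
  ext; change Spec.map _ = 𝟙 _
  rw [scaleHom_one, CommRingCat.ofHom_id]; erw [Spec.map_id]

/-- the two projections `Spec B[ε] ⇉ Spec B[ε₁, ε₂]` are jointly epimorphic. -/
theorem e2pt_hom_ext {X : Over S} (w w' : e2pt B f ⟶ X)
    (h₁ : prMap₁ B f ≫ w = prMap₁ B f ≫ w') (h₂ : prMap₂ B f ≫ w = prMap₂ B f ≫ w') : w = w' := by
  apply Over.OverMorphism.ext
  refine LieEpi.hom_ext_of_jointly_injective (CommRingCat.ofHom (pr₁ B)) (CommRingCat.ofHom (pr₂ B))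
    (fun r h1 h2 => pr_jointly_injective r h1 h2) ?_ w.left w'.left ?_ ?_
  · intro x
    obtain ⟨y, hy⟩ := LieEpi.comap_surjective_of_nil (pr₁ B) pr₁_surjective ker_pr₁_le_nilradical x
    exact ⟨y, hy⟩
  · exact congrArg (fun t => t.left) h₁
  · exact congrArg (fun t => t.left) h₂

/-- additivity of rescaling on points with values in the dual numbers restricting to the unit
(Eckmann–Hilton). -/
theorem scale_add_comp {X : Over S} [MonObj X] (v : dpt B f ⟶ X) (hv : zeroSec B f ≫ v = 1)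
    (b c : B) : scale B f (b + c) ≫ v = (scale B f b ≫ v) * (scale B f c ≫ v) := by
  have h0 : scale B f 0 ≫ v = 1 := by
    rw [scale_zero, Category.assoc, hv, MonObj.comp_one]
  have hw : mixMap B f b c ≫ v = (mixMap B f b 0 ≫ v) * (mixMap B f 0 c ≫ v) := by
    apply e2pt_hom_ext
    · rw [MonObj.comp_mul, ← Category.assoc, ← Category.assoc, ← Category.assoc, prMap₁_mixMap,
        prMap₁_mixMap, prMap₁_mixMap, h0, _root_.mul_one]
    · rw [MonObj.comp_mul, ← Category.assoc, ← Category.assoc, ← Category.assoc, prMap₂_mixMap,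
        prMap₂_mixMap, prMap₂_mixMap, h0, _root_.one_mul]
  have : dgMap B f ≫ mixMap B f b c ≫ v =
      dgMap B f ≫ ((mixMap B f b 0 ≫ v) * (mixMap B f 0 c ≫ v)) := by rw [hw]
  rw [MonObj.comp_mul, ← Category.assoc, ← Category.assoc, ← Category.assoc, dgMap_mixMap,
    dgMap_mixMap, dgMap_mixMap, add_zero, zero_add] at this
  exact this

end Schemes

section MulHom

variable {S : Scheme.{u}} (B : Type u) [CommRing B] (f : Spec (CommRingCat.of B) ⟶ S)

theorem mulHom_fst (x : DualNumber B) : (mulHom B x).fst = TrivSqZeroExt.inl x.fst := by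
  apply TrivSqZeroExt.ext <;> simp [mulHom, TrivSqZeroExt.algebraMap_eq_inl']

theorem mulHom_snd (x : DualNumber B) : (mulHom B x).snd = TrivSqZeroExt.inr x.snd := by
  apply TrivSqZeroExt.ext <;>
    simp [mulHom, TrivSqZeroExt.algebraMap_eq_inl', DualNumber.eps, -DualNumber.inr_eq_smul_eps]

theorem mulHom_injective : Function.Injective (mulHom B) := by
  intro x y h
  have h1 := congrArg TrivSqZeroExt.fst h
  have h2 := congrArg TrivSqZeroExt.snd h
  rw [mulHom_fst, mulHom_fst] at h1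
  rw [mulHom_snd, mulHom_snd] at h2
  exact TrivSqZeroExt.ext (TrivSqZeroExt.inl_injective h1) (TrivSqZeroExt.inr_injective h2)

theorem fst_surjective : Function.Surjective (TrivSqZeroExt.fstHom B B B).toRingHom := by
  intro b
  exact ⟨TrivSqZeroExt.inl b, by simp⟩

theorem ker_fst_le_nilradical :
    RingHom.ker (TrivSqZeroExt.fstHom B B B).toRingHom ≤ nilradical (DualNumber B) := by
  intro x hx
  rw [RingHom.mem_ker] at hx
  have a1 : x.fst = 0 := by simpa using hx
  rw [mem_nilradical]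
  refine ⟨2, ?_⟩
  apply TrivSqZeroExt.ext
  · simp [pow_two, a1]
  · simp [pow_two, a1]

theorem specMap_mulHom_surjective :
    Function.Surjective (Spec.map (CommRingCat.ofHom (mulHom B) :
      CommRingCat.of (DualNumber B) ⟶ CommRingCat.of (D2 B))).base := by
  intro q
  obtain ⟨p, hp⟩ := LieEpi.comap_surjective_of_nil (TrivSqZeroExt.fstHom B B B).toRingHom
    (fst_surjective B) (ker_fst_le_nilradical B) q
  let ρ : D2 B →+* B :=
    (TrivSqZeroExt.fstHom B B B).toRingHom.comp
      (TrivSqZeroExt.fstHom (DualNumber B) (DualNumber B) (DualNumber B)).toRingHom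
  have hρ : ρ.comp (mulHom B) = (TrivSqZeroExt.fstHom B B B).toRingHom := by
    apply RingHom.ext
    intro x
    show ((mulHom B x).fst).fst = x.fst
    rw [mulHom_fst]
    simp
  refine ⟨PrimeSpectrum.comap (R := D2 B) (S := B) ρ p, ?_⟩
  rw [← hp]
  show PrimeSpectrum.comap (R := DualNumber B) (S := D2 B) (mulHom B)
    (PrimeSpectrum.comap (R := D2 B) (S := B) ρ p) = _
  rw [← hρ]
  rfl

/-- a point with values in the dual numbers is determined by its pull-back along `ε ↦ εε'`. -/
theorem mulMap_cancel {X : Over S} (z z' : dpt B f ⟶ X)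
    (h : mulMap B f ≫ z = mulMap B f ≫ z') : z = z' := by
  apply Over.OverMorphism.ext
  exact LieEpi.hom_ext_of_injective (CommRingCat.ofHom (mulHom B) :
      CommRingCat.of (DualNumber B) ⟶ CommRingCat.of (D2 B)) (mulHom_injective B)
    (specMap_mulHom_surjective B) z.left z'.left (congrArg (fun t => t.left) h)

end MulHom

end Groth.Agent.Helper12.LieAdd
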