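import Groth.Prelude.Def_LieS
import Groth.Prelude.Def_Red
set_option autoImplicit false
universe u
open CategoryTheory MonoidalCategory CartesianMonoidalCategory MonObj GrpObj AlgebraicGeometry Opposite

noncomputable section
namespace Groth.Agent.Helper12.LieDiag
variable (R : Type u) [CommRing R] (M : Type) [AddCommGroup M]
    (B : Type u) [CommRing B] [Algebra R B]

abbrev A := MonoidAlgebra R (Multiplicative M)
abbrev f₀ := Spec.map (CommRingCat.ofHom (algebraMap R B))
abbrev D := LieS.dpt B (f₀ R B)

/-- the underlying morphism of affine schemes of a point -/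
def vl (v : D R B ⟶ Red.diag R M) :
    Spec (CommRingCat.of (DualNumber B)) ⟶ Spec (CommRingCat.of (A R M)) := v.left

theorem vl_injective (v v' : D R B ⟶ Red.diag R M) (h : vl R M B v = vl R M B v') : v = v' :=
  Over.OverMorphism.ext h

/-- the algebra map attached to a point -/
def phi (v : D R B ⟶ Red.diag R M) : A R M →ₐ[R] DualNumber B :=
  (Spec.mapMulEquiv.symm ((LieS.dptIso (R := R) B).inv ≫ v)).ofConv

theorem dptIso_inv_left :
    (LieS.dptIso (R := R) B).inv.left = 𝟙 (Spec (CommRingCat.of (DualNumber B))) := by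
  unfold LieS.dptIso
  exact Over.isoMk_inv_left _ _

theorem comp_left_eq (v : D R B ⟶ Red.diag R M) :
    (((LieS.dptIso (R := R) B).inv ≫ v).left :
      Spec (CommRingCat.of (DualNumber B)) ⟶ Spec (CommRingCat.of (A R M))) = vl R M B v := by
  rw [Over.comp_left, dptIso_inv_left]
  exact Category.id_comp _

theorem spec_phi (v : D R B ⟶ Red.diag R M) :
    Spec.map (CommRingCat.ofHom (phi R M B v).toRingHom) = vl R M B v := by
  have h := Spec.mapMulEquiv.apply_symm_apply ((LieS.dptIso (R := R) B).inv ≫ v)
  have h2 : ((Spec.mapMulEquiv (Spec.mapMulEquiv.symm ((LieS.dptIso (R := R) B).inv ≫ v))).left :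
      Spec (CommRingCat.of (DualNumber B)) ⟶ Spec (CommRingCat.of (A R M))) =
      ((LieS.dptIso (R := R) B).inv ≫ v).left := congrArg (fun w => w.left) h
  rw [← comp_left_eq]
  exact h2

theorem phi_injective (v v' : D R B ⟶ Red.diag R M) (h : phi R M B v = phi R M B v') : v = v' := by
  apply vl_injective
  rw [← spec_phi, ← spec_phi, h]

theorem phi_mul (v v' : D R B ⟶ Red.diag R M) :
    WithConv.toConv (phi R M B (v * v')) = WithConv.toConv (phi R M B v) * WithConv.toConv (phi R M B v') := by
  unfold phi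
  rw [MonObj.comp_mul, map_mul]

theorem phi_mul_single (v v' : D R B ⟶ Red.diag R M) (m : Multiplicative M) :
    phi R M B (v * v') (MonoidAlgebra.single m 1) =
      phi R M B v (MonoidAlgebra.single m 1) * phi R M B v' (MonoidAlgebra.single m 1) := by
  have h := congrArg (fun x => x.ofConv (MonoidAlgebra.single m 1)) (phi_mul R M B v v')
  have h2 : (phi R M B (v * v')) (MonoidAlgebra.single m 1) =
      (WithConv.toConv (phi R M B v) * WithConv.toConv (phi R M B v')) (MonoidAlgebra.single m 1) := h
  rw [h2, AlgHom.convMul_apply]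
  simp


theorem zeroSec_comp_left (v : D R B ⟶ Red.diag R M) :
    ((LieS.zeroSec B (f₀ R B) ≫ v).left :
      Spec (CommRingCat.of B) ⟶ Spec (CommRingCat.of (A R M))) =
      Spec.map (CommRingCat.ofHom (TrivSqZeroExt.fstHom B B B).toRingHom) ≫ vl R M B v := rfl

theorem one_left :
    ((1 : LieS.pt B (f₀ R B) ⟶ Red.diag R M).left :
      Spec (CommRingCat.of B) ⟶ Spec (CommRingCat.of (A R M))) =
      f₀ R B ≫ Spec.map (CommRingCat.ofHom (Bialgebra.counitAlgHom R (A R M)).toRingHom) := by
  rw [Hom.one_def]
  rfl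

theorem mem_iff (v : D R B ⟶ Red.diag R M) :
    v ∈ LieS.LieR (Red.diag R M) B ↔
      ((TrivSqZeroExt.fstHom B B B).toRingHom).comp (phi R M B v).toRingHom =
        (algebraMap R B).comp (Bialgebra.counitAlgHom R (A R M)).toRingHom := by
  rw [LieS.mem_Lie_iff]
  have key : (Spec.map (CommRingCat.ofHom (TrivSqZeroExt.fstHom B B B).toRingHom) ≫ vl R M B v =
      f₀ R B ≫ Spec.map (CommRingCat.ofHom (Bialgebra.counitAlgHom R (A R M)).toRingHom)) ↔
      ((TrivSqZeroExt.fstHom B B B).toRingHom).comp (phi R M B v).toRingHom =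
        (algebraMap R B).comp (Bialgebra.counitAlgHom R (A R M)).toRingHom := by
    rw [← spec_phi, LieS.specMap_comp, LieS.specMap_comp]
    constructor
    · intro h
      exact congrArg (fun g => g.hom) (Spec.map_injective h)
    · intro h
      rw [h]
  rw [← key]
  constructor
  · intro h
    have h2 := congrArg (fun w => w.left) h
    exact (zeroSec_comp_left R M B v).symm.trans (h2.trans (one_left R M B))
  · intro h
    apply Over.OverMorphism.ext
    exact (zeroSec_comp_left R M B v).trans (h.trans (one_left R M B).symm)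

theorem fst_phi (v : D R B ⟶ Red.diag R M) (hv : v ∈ LieS.LieR (Red.diag R M) B) (a : A R M) :
    TrivSqZeroExt.fst (phi R M B v a) = algebraMap R B (Coalgebra.counit a) := by
  have h := (mem_iff R M B v).mp hv
  exact congrArg (fun g => g a) h

theorem mem_of_fst_phi (v : D R B ⟶ Red.diag R M)
    (h : ∀ a : A R M, TrivSqZeroExt.fst (phi R M B v a) = algebraMap R B (Coalgebra.counit a)) :
    v ∈ LieS.LieR (Red.diag R M) B := by
  rw [mem_iff]
  exact RingHom.ext fun a => h a

/-- the monoid homomorphism `m ↦ 1 + d(m) ε`. -/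
def mh (d : M →+ B) : Multiplicative M →* DualNumber B where
  toFun m := TrivSqZeroExt.inl 1 + TrivSqZeroExt.inr (d (Multiplicative.toAdd m))
  map_one' := by simp
  map_mul' m m' := by
    ext <;> simp [add_comm]

def psi (d : M →+ B) : A R M →ₐ[R] DualNumber B :=
  MonoidAlgebra.lift R (DualNumber B) (Multiplicative M) (mh M B d)

theorem psi_single (d : M →+ B) (m : Multiplicative M) :
    psi R M B d (MonoidAlgebra.single m 1) =
      TrivSqZeroExt.inl 1 + TrivSqZeroExt.inr (d (Multiplicative.toAdd m)) := by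
  unfold psi
  rw [MonoidAlgebra.lift_single, one_smul]
  rfl

def vd (d : M →+ B) : D R B ⟶ Red.diag R M :=
  (LieS.dptIso B).hom ≫ Spec.mapMulEquiv (WithConv.toConv (psi R M B d))

theorem phi_vd (d : M →+ B) : phi R M B (vd R M B d) = psi R M B d := by
  unfold phi vd
  rw [Iso.inv_hom_id_assoc, MulEquiv.symm_apply_apply]


theorem fst_phi_single (v : D R B ⟶ Red.diag R M) (hv : v ∈ LieS.LieR (Red.diag R M) B)
    (m : Multiplicative M) : TrivSqZeroExt.fst (phi R M B v (MonoidAlgebra.single m 1)) = 1 := by
  rw [fst_phi R M B v hv]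
  simp

/-- the additive map attached to a Lie point. -/
def Dv (v : LieS.LieR (Red.diag R M) B) : M →+ B where
  toFun m := TrivSqZeroExt.snd (phi R M B v.1 (MonoidAlgebra.single (Multiplicative.ofAdd m) 1))
  map_zero' := by
    have h : (MonoidAlgebra.single (Multiplicative.ofAdd (0 : M)) (1 : R)) = 1 := rfl
    rw [h, map_one]
    simp
  map_add' m m' := by
    have h : (MonoidAlgebra.single (Multiplicative.ofAdd (m + m')) (1 : R)) =
        MonoidAlgebra.single (Multiplicative.ofAdd m) 1 *
          MonoidAlgebra.single (Multiplicative.ofAdd m') 1 := by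
      rw [MonoidAlgebra.single_mul_single, _root_.one_mul]
      rfl
    rw [h, map_mul, TrivSqZeroExt.snd_mul, fst_phi_single R M B v.1 v.2,
      fst_phi_single R M B v.1 v.2]
    simp [add_comm]

theorem phi_eq_psi (v : LieS.LieR (Red.diag R M) B) : phi R M B v.1 = psi R M B (Dv R M B v) := by
  refine MonoidAlgebra.algHom_ext (fun m => ?_) (Subsingleton.elim _ _)
  rw [psi_single]
  ext
  · rw [fst_phi_single R M B v.1 v.2]
    simp
  · simp [Dv]

theorem vd_mem (d : M →+ B) : vd R M B d ∈ LieS.LieR (Red.diag R M) B := by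
  apply mem_of_fst_phi
  intro a
  rw [phi_vd]
  induction a using MonoidAlgebra.induction_on with
  | of m =>
    have : (MonoidAlgebra.of R (Multiplicative M)) m = MonoidAlgebra.single m 1 := rfl
    rw [this, psi_single]
    simp
  | add x y hx hy => rw [map_add, TrivSqZeroExt.fst_add, hx, hy, map_add, map_add]
  | smul r x hx =>
    rw [map_smul, TrivSqZeroExt.fst_smul, hx, map_smul, Algebra.smul_def]
    simp

theorem scale_comp_left (b : B) (v : D R B ⟶ Red.diag R M) :
    vl R M B (LieS.scale B (f₀ R B) b ≫ v) =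
      Spec.map (CommRingCat.ofHom (LieS.scaleHom b)) ≫ vl R M B v := rfl

theorem phi_scale (b : B) (v : D R B ⟶ Red.diag R M) (a : A R M) :
    phi R M B (LieS.scale B (f₀ R B) b ≫ v) a = LieS.scaleHom b (phi R M B v a) := by
  have h1 : Spec.map (CommRingCat.ofHom (phi R M B (LieS.scale B (f₀ R B) b ≫ v)).toRingHom) =
      Spec.map (CommRingCat.ofHom ((LieS.scaleHom b).comp (phi R M B v).toRingHom)) := by
    rw [spec_phi, ← LieS.specMap_comp, spec_phi, scale_comp_left]
  have h2 := congrArg (fun g => g.hom) (Spec.map_injective h1)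
  exact congrArg (fun g => g a) h2

def e : LieS.LieR (Red.diag R M) B ≃* Multiplicative (M →+ B) where
  toFun v := Multiplicative.ofAdd (Dv R M B v)
  invFun d := ⟨vd R M B (Multiplicative.toAdd d), vd_mem R M B _⟩
  left_inv v := by
    apply Subtype.ext
    apply phi_injective
    show phi R M B (vd R M B (Dv R M B v)) = phi R M B v.1
    rw [phi_vd, phi_eq_psi]
  right_inv d := by
    apply Multiplicative.toAdd.injective
    ext m
    show TrivSqZeroExt.snd (phi R M B (vd R M B (Multiplicative.toAdd d))
      (MonoidAlgebra.single (Multiplicative.ofAdd m) 1)) = _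
    rw [phi_vd, psi_single]
    simp
  map_mul' v v' := by
    apply Multiplicative.toAdd.injective
    ext m
    show TrivSqZeroExt.snd (phi R M B (v.1 * v'.1)
      (MonoidAlgebra.single (Multiplicative.ofAdd m) 1)) =
      TrivSqZeroExt.snd (phi R M B v.1 (MonoidAlgebra.single (Multiplicative.ofAdd m) 1)) +
      TrivSqZeroExt.snd (phi R M B v'.1 (MonoidAlgebra.single (Multiplicative.ofAdd m) 1))
    rw [phi_mul_single, TrivSqZeroExt.snd_mul, fst_phi_single R M B v.1 v.2,
      fst_phi_single R M B v'.1 v'.2]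
    simp [add_comm]

theorem main :
    ∃ e : LieS.LieR (Red.diag R M) B ≃* Multiplicative (M →+ B),
      (∀ (v : LieS.LieR (Red.diag R M) B) (m : M),
        Multiplicative.toAdd (e v) m =
          TrivSqZeroExt.snd (((Spec.mapMulEquiv.symm ((LieS.dptIso B).inv ≫ v.1)).ofConv :
            MonoidAlgebra R (Multiplicative M) →ₐ[R] DualNumber B)
            (MonoidAlgebra.single (Multiplicative.ofAdd m) 1))) ∧
      ∀ (b : B) (v : LieS.LieR (Red.diag R M) B),
        e (b • v) = Multiplicative.ofAdd (b • Multiplicative.toAdd (e v)) := by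
  refine ⟨e R M B, fun v m => rfl, fun b v => ?_⟩
  apply Multiplicative.toAdd.injective
  ext m
  show TrivSqZeroExt.snd (phi R M B (LieS.scale B (f₀ R B) b ≫ v.1)
      (MonoidAlgebra.single (Multiplicative.ofAdd m) 1)) =
    b * TrivSqZeroExt.snd (phi R M B v.1 (MonoidAlgebra.single (Multiplicative.ofAdd m) 1))
  rw [phi_scale]
  simp [LieS.scaleHom, TrivSqZeroExt.algebraMap_eq_inl', mul_comm]

end Groth.Agent.Helper12.LieDiag
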