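import Mathlib.RingTheory.AdicCompletion.Basic
import Mathlib.RingTheory.Finiteness.Basic
import Mathlib.RingTheory.Ideal.Operations

/-!
# Inverse limits of `I`-adic systems over a complete ring
-/

set_option autoImplicit false
universe u v

namespace Groth.Agent.Helper12.LimComplete

open Submodule

section Nak
variable {A : Type u} [CommRing A]

theorem eq_top_of_sup_smul {M : Type*} [AddCommGroup M] [Module A M] (J : Ideal A)
    (N : Submodule A M) (hJ : (J * J) • (⊤ : Submodule A M) = ⊥) (h : N ⊔ J • ⊤ = ⊤) : N = ⊤ := by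
  have h1 : J • (⊤ : Submodule A M) ≤ N := by
    calc J • (⊤ : Submodule A M) = J • (N ⊔ J • ⊤) := by rw [h]
      _ = J • N ⊔ J • J • ⊤ := Submodule.smul_sup _ _ _
      _ = J • N ⊔ ⊥ := by rw [← mul_smul, hJ]
      _ ≤ N := by simp [Submodule.smul_le_right]
  rw [← h]; exact (sup_eq_left.mpr h1).symm

end Nak

variable {A : Type u} [CommRing A] (I : Ideal A)
  {M : ℕ → Type v} [∀ n, AddCommGroup (M n)] [∀ n, Module A (M n)]
  (f : ∀ n, M (n + 1) →ₗ[A] M n)
  {L : Type v} [AddCommGroup L] [Module A L] (π : ∀ n, L →ₗ[A] M n)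

/-- the filtration by kernels, shifted: `K 0 = ⊤`, `K (m+1) = ker (π m)` -/
def K : ℕ → Submodule A L
  | 0 => ⊤
  | (m + 1) => LinearMap.ker (π m)

section
variable (hf : ∀ n, Function.Surjective (f n))
  (hk : ∀ n, I ^ (n + 1) • (⊤ : Submodule A (M n)) = ⊥)
  (hker : ∀ n, LinearMap.ker (f n) = I ^ (n + 1) • (⊤ : Submodule A (M (n + 1))))
  (hπ : ∀ n, f n ∘ₗ π (n + 1) = π n)
  (hinj : ∀ x : L, (∀ n, π n x = 0) → x = 0)
  (hlift : ∀ y : (∀ n, M n), (∀ n, f n (y (n + 1)) = y n) → ∃ x : L, ∀ n, π n x = y n)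

include hf hlift in
theorem pi_zero_surjective : Function.Surjective (π 0) := by
  intro y0
  let z : ∀ n, M n := fun n => Nat.rec (motive := M) y0 (fun m zm => (hf m zm).choose) n
  have hz : ∀ n, f n (z (n + 1)) = z n := fun n => (hf n (z n)).choose_spec
  obtain ⟨x, hx⟩ := hlift z hz
  exact ⟨x, hx 0⟩

include hk in
theorem sq_zero (n : ℕ) :
    ((I ^ (n + 1)) * (I ^ (n + 1))) • (⊤ : Submodule A (M (n + 1))) = ⊥ := by
  rw [eq_bot_iff, ← hk (n + 1), ← pow_add]
  exact Submodule.smul_mono_left (Ideal.pow_le_pow_right (by omega))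

include hk hker in
/-- a submodule of `M (n+1)` mapping onto `M n` is everything -/
theorem eq_top_of_map_eq_top (n : ℕ) (N : Submodule A (M (n + 1)))
    (h : N.map (f n) = ⊤) : N = ⊤ := by
  apply eq_top_of_sup_smul (I ^ (n + 1)) N (sq_zero I hk n)
  rw [← hker n, eq_top_iff]
  intro y _
  have : f n y ∈ N.map (f n) := by rw [h]; trivial
  obtain ⟨w, hw, hwy⟩ := this
  have hyw : y - w ∈ LinearMap.ker (f n) := by
    rw [LinearMap.mem_ker, map_sub, hwy, sub_self]
  have : y = w + (y - w) := by abel
  rw [this]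
  exact Submodule.add_mem_sup hw hyw

include hf hk hker hπ hlift in
theorem pi_surjective (n : ℕ) : Function.Surjective (π n) := by
  induction n with
  | zero => exact pi_zero_surjective f π hf hlift
  | succ n ih =>
    rw [← LinearMap.range_eq_top]
    apply eq_top_of_map_eq_top I f hk hker n
    rw [← LinearMap.range_comp, hπ n, LinearMap.range_eq_top]
    exact ih

include hk hker hπ in
theorem span_eq_top {t : ℕ} (v : Fin t → L)
    (h0 : span A (Set.range (fun i => π 0 (v i))) = ⊤) (n : ℕ) :
    span A (Set.range (fun i => π n (v i))) = ⊤ := by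
  induction n with
  | zero => exact h0
  | succ n ih =>
    apply eq_top_of_map_eq_top I f hk hker n
    rw [Submodule.map_span, ← Set.range_comp, ← ih]
    congr 2
    funext i
    exact LinearMap.congr_fun (hπ n) (v i)

include hk hker hπ in
theorem step {t : ℕ} (v : Fin t → L)
    (h0 : span A (Set.range (fun i => π 0 (v i))) = ⊤) (m : ℕ) (x : L) (hx : x ∈ K π m) :
    ∃ b : Fin t → A, (∀ i, b i ∈ I ^ m) ∧ x - ∑ i, b i • v i ∈ K π (m + 1) := by
  cases m with
  | zero =>
    have : π 0 x ∈ span A (Set.range (fun i => π 0 (v i))) := by rw [h0]; trivial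
    obtain ⟨c, hc⟩ := (Submodule.mem_span_range_iff_exists_fun A).mp this
    refine ⟨c, fun i => by simp, ?_⟩
    show x - ∑ i, c i • v i ∈ LinearMap.ker (π 0)
    rw [LinearMap.mem_ker, map_sub, map_sum]
    simp only [map_smul]
    rw [hc, sub_self]
  | succ m =>
    have hx' : π m x = 0 := hx
    have h1 : π (m + 1) x ∈ LinearMap.ker (f m) := by
      rw [LinearMap.mem_ker]
      have := LinearMap.congr_fun (hπ m) x
      simp only [LinearMap.comp_apply] at this
      rw [this, hx']
    rw [hker m, ← span_eq_top I f π hk hker hπ v h0 (m + 1)] at h1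
    obtain ⟨a, ha, hax⟩ := (Submodule.mem_ideal_smul_span_iff_exists_sum _ _ _).mp h1
    refine ⟨⇑a, ha, ?_⟩
    show x - ∑ i, a i • v i ∈ LinearMap.ker (π (m + 1))
    rw [LinearMap.mem_ker, map_sub, map_sum]
    simp only [map_smul]
    rw [Finsupp.sum_fintype a (fun i c => c • (π (m + 1)) (v i)) (fun i => zero_smul _ _)] at hax
    rw [hax, sub_self]

include hπ in
theorem K_anti (m n : ℕ) (h : n + 1 ≤ m) : K π m ≤ LinearMap.ker (π n) := by
  obtain ⟨d, rfl⟩ : ∃ d, m = n + 1 + d := ⟨m - (n + 1), by omega⟩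
  induction d with
  | zero => exact le_rfl
  | succ d ih =>
    intro x hx
    apply ih (by omega)
    have hx' : π (n + 1 + d) x = 0 := hx
    cases d with
    | zero =>
      show π n x = 0
      have := LinearMap.congr_fun (hπ n) x
      simp only [LinearMap.comp_apply] at this
      rw [← this, hx', map_zero]
    | succ d =>
      show π (n + 1 + d) x = 0
      have := LinearMap.congr_fun (hπ (n + 1 + d)) x
      simp only [LinearMap.comp_apply] at this
      rw [← this]
      have e : π (n + 1 + d + 1) x = 0 := hx'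
      rw [e, map_zero]

include hk hker hπ hinj in
theorem approx [IsPrecomplete I A] {t : ℕ} (v : Fin t → L)
    (h0 : span A (Set.range (fun i => π 0 (v i))) = ⊤) (k : ℕ) (x : L) (hx : x ∈ K π k) :
    ∃ a : Fin t → A, (∀ i, a i ∈ I ^ k) ∧ ∑ i, a i • v i = x := by
  classical
  have hstep := step I f π hk hker hπ v h0
  choose! nb hnb1 hnb2 using hstep
  let s : ℕ → (Fin t → A) := fun j => Nat.rec (motive := fun _ => Fin t → A) 0
    (fun j sj => sj + nb (k + j) (x - ∑ i, sj i • v i)) j
  have hs0 : s 0 = 0 := rfl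
  have hsS : ∀ j, s (j + 1) = s j + nb (k + j) (x - ∑ i, s j i • v i) := fun j => rfl
  have hinv : ∀ j, x - ∑ i, s j i • v i ∈ K π (k + j) := by
    intro j
    induction j with
    | zero => simpa [hs0] using hx
    | succ j ih =>
      have := hnb2 (k + j) _ ih
      rw [hsS]
      have e : x - ∑ i, (s j + nb (k + j) (x - ∑ i, s j i • v i)) i • v i =
          (x - ∑ i, s j i • v i) - ∑ i, nb (k + j) (x - ∑ i, s j i • v i) i • v i := by
        simp only [Pi.add_apply, add_smul, Finset.sum_add_distrib]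
        abel
      rw [e]
      exact this
  have hdiff : ∀ j i, s (j + 1) i - s j i ∈ I ^ (k + j) := by
    intro j i
    rw [hsS]
    simp only [Pi.add_apply, add_sub_cancel_left]
    exact hnb1 (k + j) _ (hinv j) i
  have hcauchy : ∀ i m d, s (m + d) i - s m i ∈ I ^ (k + m) := by
    intro i m d
    induction d with
    | zero => simp
    | succ d ih =>
      have h1 : s (m + (d + 1)) i - s m i =
          (s (m + d + 1) i - s (m + d) i) + (s (m + d) i - s m i) := by
        rw [← add_assoc]; abel
      rw [h1]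
      exact Ideal.add_mem _ (Ideal.pow_le_pow_right (by omega) (hdiff (m + d) i)) ih
  have hlim : ∀ i, ∃ a : A, ∀ j, s j i - a ∈ I ^ (k + j) := by
    intro i
    obtain ⟨a, ha⟩ := IsPrecomplete.prec' (I := I) (M := A) (fun j => s j i) (by
      intro m n hmn
      obtain ⟨d, rfl⟩ := Nat.exists_eq_add_of_le hmn
      rw [SModEq.sub_mem, smul_eq_mul, Ideal.mul_top]
      have := hcauchy i m d
      have h2 : s m i - s (m + d) i = -(s (m + d) i - s m i) := by abel
      rw [h2]
      exact (Ideal.neg_mem_iff _).mpr (Ideal.pow_le_pow_right (by omega) this))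
    refine ⟨a, fun j => ?_⟩
    have h1 := ha (k + j)
    rw [SModEq.sub_mem, smul_eq_mul, Ideal.mul_top] at h1
    have h2 : s j i - a = -(s (j + k) i - s j i) + (s (k + j) i - a) := by
      rw [add_comm j k]; abel
    rw [h2]
    exact Ideal.add_mem _ ((Ideal.neg_mem_iff _).mpr (hcauchy i j k)) h1
  choose a ha using hlim
  refine ⟨a, fun i => ?_, ?_⟩
  · have h1 := ha i 0
    have h2 : s 0 i = 0 := by rw [hs0]; rfl
    rw [h2, zero_sub, add_zero] at h1
    exact (Ideal.neg_mem_iff _).mp h1
  · rw [← sub_eq_zero]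
    apply hinj
    intro n
    have h1 := K_anti f π hπ (k + (n + 1)) n (by omega) (hinv (n + 1))
    rw [LinearMap.mem_ker] at h1
    have h3 : ∑ i, a i • v i - x =
        ∑ i, (a i - s (n + 1) i) • v i - (x - ∑ i, s (n + 1) i • v i) := by
      simp only [sub_smul, Finset.sum_sub_distrib]; abel
    rw [h3, map_sub, h1, sub_zero, map_sum]
    apply Finset.sum_eq_zero
    intro i _
    rw [map_smul]
    have h4 : (a i - s (n + 1) i) • π n (v i) ∈ I ^ (n + 1) • (⊤ : Submodule A (M n)) := by
      refine Submodule.smul_mem_smul ?_ Submodule.mem_top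
      have := ha i (n + 1)
      have h5 : a i - s (n + 1) i = -(s (n + 1) i - a i) := by abel
      rw [h5]
      exact (Ideal.neg_mem_iff _).mpr (Ideal.pow_le_pow_right (by omega) this)
    rw [hk n] at h4
    exact h4

include hf hk hker hπ hinj hlift in
theorem ker_pi_eq [IsPrecomplete I A] (h0 : Module.Finite A (M 0)) :
    Module.Finite A L ∧
      ∀ n, LinearMap.ker (π n) = I ^ (n + 1) • (⊤ : Submodule A L) := by
  obtain ⟨t, w, hw⟩ := Module.Finite.exists_fin (R := A) (M := M 0)
  choose v hv using fun i => pi_zero_surjective f π hf hlift (w i)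
  have h0' : span A (Set.range (fun i => π 0 (v i))) = ⊤ := by
    simp only [hv]; exact hw
  have happ := approx I f π hk hker hπ hinj v h0'
  constructor
  · have hspan : span A (Set.range v) = ⊤ := by
      rw [eq_top_iff]
      intro x _
      obtain ⟨a, -, ha⟩ := happ 0 x trivial
      exact (Submodule.mem_span_range_iff_exists_fun A).mpr ⟨a, ha⟩
    exact ⟨(Submodule.fg_iff_exists_fin_generating_family).mpr ⟨t, v, hspan⟩⟩
  · intro n
    apply le_antisymm
    · intro x hx
      obtain ⟨a, ha, hax⟩ := happ (n + 1) x hx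
      rw [← hax]
      exact Submodule.sum_mem _ fun i _ => Submodule.smul_mem_smul (ha i) Submodule.mem_top
    · intro x hx
      have h1 : π n x ∈ (I ^ (n + 1) • (⊤ : Submodule A L)).map (π n) := ⟨x, hx, rfl⟩
      rw [Submodule.map_smul''] at h1
      have h2 : π n x ∈ I ^ (n + 1) • (⊤ : Submodule A (M n)) :=
        Submodule.smul_mono le_rfl le_top h1
      rw [hk n] at h2
      exact h2

include hf hk hker hπ hinj hlift in
theorem main [IsAdicComplete I A] (h0 : Module.Finite A (M 0)) :
    Module.Finite A L ∧ IsAdicComplete I L ∧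
      ∀ n, Function.Surjective (π n) ∧
        LinearMap.ker (π n) = I ^ (n + 1) • (⊤ : Submodule A L) := by
  obtain ⟨hfin, hkerπ⟩ := ker_pi_eq I f π hf hk hker hπ hinj hlift h0
  refine ⟨hfin, ?_, fun n => ⟨pi_surjective I f π hf hk hker hπ hlift n, hkerπ n⟩⟩
  have hH : IsHausdorff I L := by
    refine ⟨fun x hx => hinj x fun n => ?_⟩
    have := hx (n + 1)
    rw [SModEq.zero, ← hkerπ n] at this
    exact this
  have hP : IsPrecomplete I L := by
    refine ⟨fun g hg => ?_⟩
    have hcompat : ∀ n, f n (π (n + 1) (g (n + 2))) = π n (g (n + 1)) := by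
      intro n
      have h1 := LinearMap.congr_fun (hπ n) (g (n + 2))
      simp only [LinearMap.comp_apply] at h1
      rw [h1]
      have h2 : g (n + 1) ≡ g (n + 2) [SMOD (I ^ (n + 1) • ⊤ : Submodule A L)] :=
        hg (Nat.le_succ (n + 1))
      rw [SModEq.sub_mem, ← hkerπ n, LinearMap.mem_ker, map_sub, sub_eq_zero] at h2
      exact h2.symm
    obtain ⟨x, hx⟩ := hlift (fun n => π n (g (n + 1))) hcompat
    refine ⟨x, fun n => ?_⟩
    cases n with
    | zero =>
      rw [SModEq.sub_mem, pow_zero, Ideal.one_eq_top, Submodule.top_smul]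
      exact Submodule.mem_top
    | succ n =>
      rw [SModEq.sub_mem, ← hkerπ n, LinearMap.mem_ker, map_sub, sub_eq_zero]
      exact (hx n).symm
  exact { haus' := hH.haus', prec' := hP.prec' }

end

end Groth.Agent.Helper12.LimComplete
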