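import Groth.Agent.Lib.Helper12.LimComplete
import Mathlib.Algebra.Module.Projective
import Mathlib.RingTheory.Ideal.Quotient.Defs
import Mathlib.LinearAlgebra.Pi
import Mathlib.LinearAlgebra.StdBasis

/-!
# Inverse limits of finite projective systems over a complete ring are projective
-/

set_option autoImplicit false
universe u v w

namespace Groth.Agent.Helper12.LimProj

open Submodule

variable {A : Type u} [CommRing A]

section Pi

theorem mem_smul_top_pi {t : ℕ} (J : Ideal A) (z : Fin t → A) :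
    z ∈ J • (⊤ : Submodule A (Fin t → A)) ↔ ∀ i, z i ∈ J := by
  constructor
  · intro hz
    refine Submodule.smul_induction_on hz ?_ ?_
    · intro r hr n _ i
      simp only [Pi.smul_apply, smul_eq_mul]
      exact J.mul_mem_right _ hr
    · intro x y hx hy i
      exact J.add_mem (hx i) (hy i)
  · intro hz
    rw [pi_eq_sum_univ z]
    refine Submodule.sum_mem _ fun i _ => ?_
    exact Submodule.smul_mem_smul (hz i) Submodule.mem_top

instance isAdicComplete_pi (I : Ideal A) [IsAdicComplete I A] (t : ℕ) :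
    IsAdicComplete I (Fin t → A) where
  haus' := by
    intro z hz
    funext i
    apply IsHausdorff.haus' (I := I) (M := A)
    intro n
    have := hz n
    rw [SModEq.zero] at this ⊢
    rw [smul_eq_mul, Ideal.mul_top]
    exact (mem_smul_top_pi _ z).mp this i
  prec' := by
    intro g hg
    have : ∀ i, ∃ a : A, ∀ n, g n i ≡ a [SMOD (I ^ n • ⊤ : Submodule A A)] := by
      intro i
      apply IsPrecomplete.prec' (I := I) (M := A) (fun n => g n i)
      intro m n hmn
      have := hg hmn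
      rw [SModEq.sub_mem] at this ⊢
      rw [smul_eq_mul, Ideal.mul_top]
      exact (mem_smul_top_pi _ _).mp this i
    choose a ha using this
    refine ⟨a, fun n => ?_⟩
    rw [SModEq.sub_mem, mem_smul_top_pi]
    intro i
    have := ha i n
    rw [SModEq.sub_mem, smul_eq_mul, Ideal.mul_top] at this
    exact this

end Pi

section Lift

/-- lifting maps out of a free `A/J`-module along a surjection onto a module killed by `J` -/
theorem exists_lift_free (J : Ideal A) {X Y : Type*} [AddCommGroup X] [Module A X]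
    [AddCommGroup Y] [Module A Y] (q : X →ₗ[A] Y) (hq : Function.Surjective q)
    (hJ : J • (⊤ : Submodule A X) = ⊥) {m : ℕ} (g : (Fin m → A ⧸ J) →ₗ[A] Y) :
    ∃ g' : (Fin m → A ⧸ J) →ₗ[A] X, q ∘ₗ g' = g := by
  classical
  choose x hx using fun j : Fin m => hq (g (Pi.single j 1))
  have hker : ∀ j, J ≤ LinearMap.ker (LinearMap.toSpanSingleton A X (x j)) := by
    intro j a ha
    rw [LinearMap.mem_ker, LinearMap.toSpanSingleton_apply]
    have : a • x j ∈ J • (⊤ : Submodule A X) := Submodule.smul_mem_smul ha Submodule.mem_top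
    rw [hJ] at this
    exact this
  let ℓ : ∀ j, (A ⧸ J) →ₗ[A] X := fun j =>
    Submodule.liftQ J (LinearMap.toSpanSingleton A X (x j)) (hker j)
  refine ⟨∑ j, (ℓ j) ∘ₗ (LinearMap.proj j), ?_⟩
  apply LinearMap.pi_ext
  intro j c
  obtain ⟨a, rfl⟩ := Ideal.Quotient.mk_surjective c
  have h1 : (Pi.single j (Ideal.Quotient.mk J a) : Fin m → A ⧸ J) =
      a • Pi.single j (1 : A ⧸ J) := by
    rw [← Pi.single_smul]
    congr 1
    rw [Algebra.smul_def, mul_one]
    rfl
  rw [h1, map_smul, map_smul]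
  congr 1
  rw [LinearMap.comp_apply, LinearMap.sum_apply, Finset.sum_eq_single j]
  · rw [LinearMap.comp_apply, LinearMap.proj_apply, Pi.single_eq_same]
    show q (Submodule.liftQ J (LinearMap.toSpanSingleton A X (x j)) (hker j)
      (Submodule.Quotient.mk 1)) = _
    rw [Submodule.liftQ_apply, LinearMap.toSpanSingleton_apply, one_smul, hx]
  · intro j' _ hj'
    rw [LinearMap.comp_apply, LinearMap.proj_apply, Pi.single_eq_of_ne hj', map_zero]
  · intro h; exact absurd (Finset.mem_univ j) h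

/-- lifting maps out of a retract of a free `A/J`-module -/
theorem exists_lift_retract (J : Ideal A) {X Y N : Type*} [AddCommGroup X] [Module A X]
    [AddCommGroup Y] [Module A Y] [AddCommGroup N] [Module A N]
    (q : X →ₗ[A] Y) (hq : Function.Surjective q)
    (hJ : J • (⊤ : Submodule A X) = ⊥)
    (hN : ∃ (m : ℕ) (i : N →ₗ[A] (Fin m → A ⧸ J)) (r : (Fin m → A ⧸ J) →ₗ[A] N),
      r ∘ₗ i = LinearMap.id)
    (h : N →ₗ[A] Y) : ∃ h' : N →ₗ[A] X, q ∘ₗ h' = h := by
  obtain ⟨m, i, r, hri⟩ := hN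
  obtain ⟨g', hg'⟩ := exists_lift_free J q hq hJ (h ∘ₗ r)
  refine ⟨g' ∘ₗ i, ?_⟩
  rw [← LinearMap.comp_assoc, hg', LinearMap.comp_assoc, hri, LinearMap.comp_id]

end Lift

section Tower

variable (I : Ideal A)
  {M : ℕ → Type v} [∀ n, AddCommGroup (M n)] [∀ n, Module A (M n)]
  (f : ∀ n, M (n + 1) →ₗ[A] M n)
  {Q : ℕ → Type w} [∀ n, AddCommGroup (Q n)] [∀ n, Module A (Q n)]
  (q : ∀ n, Q (n + 1) →ₗ[A] Q n)
  (p : ∀ n, Q n →ₗ[A] M n)

theorem exists_sections
    (hk : ∀ n, I ^ (n + 1) • (⊤ : Submodule A (M n)) = ⊥)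
    (hker : ∀ n, LinearMap.ker (f n) = I ^ (n + 1) • (⊤ : Submodule A (M (n + 1))))
    (hkQ : ∀ n, I ^ (n + 1) • (⊤ : Submodule A (Q n)) = ⊥)
    (hq : ∀ n, Function.Surjective (q n))
    (hp : ∀ n, Function.Surjective (p n))
    (hpq : ∀ n, f n ∘ₗ p (n + 1) = p n ∘ₗ q n)
    (hproj : ∀ n, ∃ (m : ℕ) (i : M n →ₗ[A] (Fin m → A ⧸ I ^ (n + 1)))
      (r : (Fin m → A ⧸ I ^ (n + 1)) →ₗ[A] M n), r ∘ₗ i = LinearMap.id) :
    ∃ σ : ∀ n, M n →ₗ[A] Q n, (∀ n, p n ∘ₗ σ n = LinearMap.id) ∧
      ∀ n, q n ∘ₗ σ (n + 1) = σ n ∘ₗ f n := by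
  obtain ⟨σ0, h0⟩ := exists_lift_retract (I ^ (0 + 1)) (p 0) (hp 0) (hkQ 0) (hproj 0)
    LinearMap.id
  have step : ∀ (n : ℕ) (s : M n →ₗ[A] Q n), p n ∘ₗ s = LinearMap.id →
      ∃ s' : M (n + 1) →ₗ[A] Q (n + 1), p (n + 1) ∘ₗ s' = LinearMap.id ∧
        q n ∘ₗ s' = s ∘ₗ f n := by
    intro n s hs
    obtain ⟨s₁, hs₁⟩ := exists_lift_retract (I ^ (n + 1 + 1)) (q n) (hq n) (hkQ (n + 1))
      (hproj (n + 1)) (s ∘ₗ f n)
    set ε : M (n + 1) →ₗ[A] M (n + 1) := p (n + 1) ∘ₗ s₁ - LinearMap.id with hεdef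
    have hfε : f n ∘ₗ ε = 0 := by
      rw [hεdef, LinearMap.comp_sub, ← LinearMap.comp_assoc, hpq n, LinearMap.comp_assoc, hs₁,
        ← LinearMap.comp_assoc, hs, LinearMap.id_comp, LinearMap.comp_id, sub_self]
    have hε : ∀ y, ε y ∈ I ^ (n + 1) • (⊤ : Submodule A (M (n + 1))) := by
      intro y
      rw [← hker n, LinearMap.mem_ker]
      exact LinearMap.congr_fun hfε y
    have hε2 : ε ∘ₗ ε = 0 := by
      ext y
      have h1 : ε (ε y) ∈ (I ^ (n + 1) • (⊤ : Submodule A (M (n + 1)))).map ε :=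
        ⟨ε y, hε y, rfl⟩
      rw [Submodule.map_smul''] at h1
      have h2 : I ^ (n + 1) • (⊤ : Submodule A (M (n + 1))).map ε ≤
          I ^ (n + 1) • (I ^ (n + 1) • (⊤ : Submodule A (M (n + 1)))) := by
        apply Submodule.smul_mono le_rfl
        rintro _ ⟨y', -, rfl⟩
        exact hε y'
      have h3 := h2 h1
      rw [← mul_smul, Groth.Agent.Helper12.LimComplete.sq_zero I hk n] at h3
      exact h3
    refine ⟨s₁ ∘ₗ (LinearMap.id - ε), ?_, ?_⟩
    · have h1 : p (n + 1) ∘ₗ s₁ = LinearMap.id + ε := by rw [hεdef]; abel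
      rw [← LinearMap.comp_assoc, h1, LinearMap.comp_sub, LinearMap.add_comp, LinearMap.add_comp,
        hε2]
      simp
    · rw [← LinearMap.comp_assoc, hs₁, LinearMap.comp_sub, LinearMap.comp_id,
        LinearMap.comp_assoc, hfε, LinearMap.comp_zero, sub_zero]
  choose nxt hnxt1 hnxt2 using step
  let S : ∀ n, {s : M n →ₗ[A] Q n // p n ∘ₗ s = LinearMap.id} := fun n =>
    Nat.rec (motive := fun n => {s : M n →ₗ[A] Q n // p n ∘ₗ s = LinearMap.id}) ⟨σ0, h0⟩
      (fun n s => ⟨nxt n s.1 s.2, hnxt1 n s.1 s.2⟩) n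
  exact ⟨fun n => (S n).1, fun n => (S n).2, fun n => hnxt2 n (S n).1 (S n).2⟩

end Tower

section Complete

variable (I : Ideal A) (P : Type w) [AddCommGroup P] [Module A P]

/-- the transition maps of the tower `P / I^(n+1) P` -/
def qmap (n : ℕ) : (P ⧸ (I ^ (n + 1 + 1) • ⊤ : Submodule A P)) →ₗ[A]
    (P ⧸ (I ^ (n + 1) • ⊤ : Submodule A P)) :=
  Submodule.mapQ _ _ LinearMap.id (by
    rw [Submodule.comap_id]
    exact Submodule.smul_mono_left (Ideal.pow_le_pow_right (Nat.le_succ _)))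

theorem qmap_mk (n : ℕ) (c : P) :
    qmap I P n (Submodule.Quotient.mk c) = Submodule.Quotient.mk c := rfl

theorem qmap_surjective (n : ℕ) : Function.Surjective (qmap I P n) := by
  intro y
  obtain ⟨c, rfl⟩ := Submodule.Quotient.mk_surjective _ y
  exact ⟨Submodule.Quotient.mk c, rfl⟩

theorem smul_top_quot (n : ℕ) :
    I ^ (n + 1) • (⊤ : Submodule A (P ⧸ (I ^ (n + 1) • ⊤ : Submodule A P))) = ⊥ := by
  rw [eq_bot_iff, Submodule.smul_le]
  intro r hr y _
  obtain ⟨c, rfl⟩ := Submodule.Quotient.mk_surjective _ y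
  rw [Submodule.mem_bot, ← Submodule.Quotient.mk_smul, Submodule.Quotient.mk_eq_zero]
  exact Submodule.smul_mem_smul hr Submodule.mem_top

theorem exists_of_compatible [IsPrecomplete I P]
    (z : ∀ n, P ⧸ (I ^ (n + 1) • ⊤ : Submodule A P))
    (hz : ∀ n, qmap I P n (z (n + 1)) = z n) :
    ∃ c : P, ∀ n, (Submodule.Quotient.mk c : P ⧸ (I ^ (n + 1) • ⊤ : Submodule A P)) = z n := by
  choose c hc using fun n => Submodule.Quotient.mk_surjective _ (z n)
  have hdiff : ∀ n, c (n + 1) - c n ∈ (I ^ (n + 1) • ⊤ : Submodule A P) := by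
    intro n
    rw [← Submodule.Quotient.eq, hc n, ← hz n, ← hc (n + 1), qmap_mk]
  have hcauchy : ∀ m d, c (m + d) - c m ∈ (I ^ m • ⊤ : Submodule A P) := by
    intro m d
    induction d with
    | zero => simp
    | succ d ih =>
      have h1 : c (m + (d + 1)) - c m = (c (m + d + 1) - c (m + d)) + (c (m + d) - c m) := by
        rw [← add_assoc]; abel
      rw [h1]
      refine Submodule.add_mem _ ?_ ih
      exact Submodule.smul_mono_left (Ideal.pow_le_pow_right (by omega)) (hdiff (m + d))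
  obtain ⟨a, ha⟩ := IsPrecomplete.prec' (I := I) (M := P) c (by
    intro m n hmn
    obtain ⟨d, rfl⟩ := Nat.exists_eq_add_of_le hmn
    rw [SModEq.sub_mem]
    have h2 : c m - c (m + d) = -(c (m + d) - c m) := by abel
    rw [h2]
    exact Submodule.neg_mem _ (hcauchy m d))
  refine ⟨a, fun n => ?_⟩
  rw [← hc n, Submodule.Quotient.eq]
  have h1 := ha (n + 1)
  rw [SModEq.sub_mem] at h1
  have h2 : a - c n = -(c (n + 1) - a) + (c (n + 1) - c n) := by abel
  rw [h2]
  exact Submodule.add_mem _ (Submodule.neg_mem _ h1) (hdiff n)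

theorem eq_of_mk_eq [IsHausdorff I P] (c c' : P)
    (h : ∀ n, (Submodule.Quotient.mk c : P ⧸ (I ^ (n + 1) • ⊤ : Submodule A P)) =
      Submodule.Quotient.mk c') : c = c' := by
  rw [← sub_eq_zero]
  apply IsHausdorff.haus' (I := I)
  intro n
  rw [SModEq.zero]
  have := (Submodule.Quotient.eq _).mp (h n)
  exact Submodule.smul_mono_left (Ideal.pow_le_pow_right (Nat.le_succ _)) this

end Complete

section Main

open Groth.Agent.Helper12.LimComplete

variable (I : Ideal A) [IsAdicComplete I A]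
  {M : ℕ → Type v} [∀ n, AddCommGroup (M n)] [∀ n, Module A (M n)]
  (f : ∀ n, M (n + 1) →ₗ[A] M n)
  {L : Type v} [AddCommGroup L] [Module A L] (π : ∀ n, L →ₗ[A] M n)

theorem main (hf : ∀ n, Function.Surjective (f n))
    (hk : ∀ n, I ^ (n + 1) • (⊤ : Submodule A (M n)) = ⊥)
    (hker : ∀ n, LinearMap.ker (f n) = I ^ (n + 1) • (⊤ : Submodule A (M (n + 1))))
    (hπ : ∀ n, f n ∘ₗ π (n + 1) = π n)
    (hinj : ∀ x : L, (∀ n, π n x = 0) → x = 0)
    (hlift : ∀ y : (∀ n, M n), (∀ n, f n (y (n + 1)) = y n) → ∃ x : L, ∀ n, π n x = y n)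
    (hproj : ∀ n, ∃ (m : ℕ) (i : M n →ₗ[A] (Fin m → A ⧸ I ^ (n + 1)))
      (r : (Fin m → A ⧸ I ^ (n + 1)) →ₗ[A] M n), r ∘ₗ i = LinearMap.id) :
    Module.Finite A L ∧ Module.Projective A L ∧
      ∀ n, Function.Surjective (π n) ∧
        LinearMap.ker (π n) = I ^ (n + 1) • (⊤ : Submodule A L) := by
  classical
  have h0 : Module.Finite A (M 0) := by
    obtain ⟨m, i, r, hri⟩ := hproj 0
    have hr : Function.Surjective r := fun y => ⟨i y, LinearMap.congr_fun hri y⟩
    exact Module.Finite.of_surjective r hr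
  obtain ⟨hfin, -, hrest⟩ := LimComplete.main I f π hf hk hker hπ hinj hlift h0
  refine ⟨hfin, ?_, hrest⟩
  obtain ⟨t, v, hv⟩ := Module.Finite.exists_fin (R := A) (M := L)
  let P := Fin t → A
  let pL : P →ₗ[A] L := Fintype.linearCombination A v
  have hpL : Function.Surjective pL := by
    rw [← LinearMap.range_eq_top, Fintype.range_linearCombination, hv]
  -- the tower
  have hkerp : ∀ n, (I ^ (n + 1) • ⊤ : Submodule A P) ≤ LinearMap.ker (π n ∘ₗ pL) := by
    intro n z hz
    rw [LinearMap.mem_ker]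
    have h1 : (π n ∘ₗ pL) z ∈ (I ^ (n + 1) • ⊤ : Submodule A P).map (π n ∘ₗ pL) := ⟨z, hz, rfl⟩
    rw [Submodule.map_smul''] at h1
    have h2 : (π n ∘ₗ pL) z ∈ I ^ (n + 1) • (⊤ : Submodule A (M n)) :=
      Submodule.smul_mono le_rfl le_top h1
    rw [hk n] at h2
    exact h2
  let p : ∀ n, (P ⧸ (I ^ (n + 1) • ⊤ : Submodule A P)) →ₗ[A] M n := fun n =>
    Submodule.liftQ _ (π n ∘ₗ pL) (hkerp n)
  have hp_mk : ∀ n (z : P), p n (Submodule.Quotient.mk z) = π n (pL z) := fun n z => rfl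
  have hp : ∀ n, Function.Surjective (p n) := by
    intro n y
    obtain ⟨x, rfl⟩ := (hrest n).1 y
    obtain ⟨z, rfl⟩ := hpL x
    exact ⟨Submodule.Quotient.mk z, rfl⟩
  have hpq : ∀ n, f n ∘ₗ p (n + 1) = p n ∘ₗ qmap I P n := by
    intro n
    apply Submodule.linearMap_qext
    refine LinearMap.ext fun z => ?_
    simp only [LinearMap.comp_apply, Submodule.mkQ_apply, hp_mk, qmap_mk]
    exact LinearMap.congr_fun (hπ n) (pL z)
  obtain ⟨σ, hσ1, hσ2⟩ := exists_sections I f (qmap I P) p hk hker (smul_top_quot I P)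
    (qmap_surjective I P) hp hpq hproj
  -- the limit section
  have hcompat : ∀ x : L, ∀ n, qmap I P n (σ (n + 1) (π (n + 1) x)) = σ n (π n x) := by
    intro x n
    have h1 := LinearMap.congr_fun (hσ2 n) (π (n + 1) x)
    simp only [LinearMap.comp_apply] at h1
    rw [h1]
    have h2 := LinearMap.congr_fun (hπ n) x
    simp only [LinearMap.comp_apply] at h2
    rw [h2]
  choose c hc using fun x : L => exists_of_compatible I P (fun n => σ n (π n x)) (hcompat x)
  let σL : L →ₗ[A] P :=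
    { toFun := c
      map_add' := by
        intro x y
        apply eq_of_mk_eq I P
        intro n
        rw [Submodule.Quotient.mk_add, hc, hc, hc, map_add, map_add]
      map_smul' := by
        intro a x
        apply eq_of_mk_eq I P
        intro n
        rw [RingHom.id_apply, Submodule.Quotient.mk_smul, hc, hc, map_smul, map_smul] }
  have hsec : pL ∘ₗ σL = LinearMap.id := by
    ext x
    rw [LinearMap.comp_apply, LinearMap.id_apply, ← sub_eq_zero]
    apply hinj
    intro n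
    rw [map_sub, sub_eq_zero, ← hp_mk n]
    show p n (Submodule.Quotient.mk (c x)) = π n x
    rw [hc x n]
    exact LinearMap.congr_fun (hσ1 n) (π n x)
  haveI : Module.Projective A P := inferInstanceAs (Module.Projective A (Fin t → A))
  exact Module.Projective.of_split σL pL hsec

end Main

end Groth.Agent.Helper12.LimProj
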