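import Mathlib

/-!
# Milnor squares of commutative rings (helper12)

`IsMilnor π₁ π₂ ρ₁ ρ₂`: `E` is the fibre product `P₁ ×_{Q₀} P₂` and `ρ₂ : P₂ → Q₀` is surjective.
Stability under localization at an element, the universal property for ring maps, and the
description of the prime spectrum (every prime of `E` comes from `P₁` or `P₂`).
-/

set_option autoImplicit false
set_option linter.style.haveILetI false
universe u v

namespace Groth.Agent.Helper12.Milnor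

variable {E P₁ P₂ Q₀ : Type u} [CommRing E] [CommRing P₁] [CommRing P₂] [CommRing Q₀]

structure IsMilnor (π₁ : E →+* P₁) (π₂ : E →+* P₂) (ρ₁ : P₁ →+* Q₀) (ρ₂ : P₂ →+* Q₀) : Prop where
  comm : ∀ x, ρ₁ (π₁ x) = ρ₂ (π₂ x)
  inj : ∀ x, π₁ x = 0 → π₂ x = 0 → x = 0
  exists_of_eq : ∀ p₁ p₂, ρ₁ p₁ = ρ₂ p₂ → ∃ x, π₁ x = p₁ ∧ π₂ x = p₂
  surj : Function.Surjective ρ₂

namespace IsMilnor

variable {π₁ : E →+* P₁} {π₂ : E →+* P₂} {ρ₁ : P₁ →+* Q₀} {ρ₂ : P₂ →+* Q₀}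

theorem ext (h : IsMilnor π₁ π₂ ρ₁ ρ₂) {x y : E} (h1 : π₁ x = π₁ y) (h2 : π₂ x = π₂ y) : x = y :=
  sub_eq_zero.mp (h.inj _ (by rw [map_sub, h1, sub_self]) (by rw [map_sub, h2, sub_self]))

theorem surjective_fst (h : IsMilnor π₁ π₂ ρ₁ ρ₂) : Function.Surjective π₁ := fun p₁ => by
  obtain ⟨p₂, hp₂⟩ := h.surj (ρ₁ p₁)
  obtain ⟨x, hx, _⟩ := h.exists_of_eq p₁ p₂ hp₂.symm
  exact ⟨x, hx⟩

section lift

variable {D : Type v} [CommRing D] (h : IsMilnor π₁ π₂ ρ₁ ρ₂) (α₁ : D →+* P₁) (α₂ : D →+* P₂)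
  (hα : ∀ d, ρ₁ (α₁ d) = ρ₂ (α₂ d))

/-- The universal property of a Milnor square for ring maps. -/
noncomputable def lift : D →+* E where
  toFun d := (h.exists_of_eq _ _ (hα d)).choose
  map_one' := h.ext
    (by rw [(h.exists_of_eq _ _ (hα 1)).choose_spec.1, map_one, map_one])
    (by rw [(h.exists_of_eq _ _ (hα 1)).choose_spec.2, map_one, map_one])
  map_mul' a b := h.ext
    (by rw [(h.exists_of_eq _ _ (hα (a * b))).choose_spec.1, map_mul, map_mul,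
      (h.exists_of_eq _ _ (hα a)).choose_spec.1, (h.exists_of_eq _ _ (hα b)).choose_spec.1])
    (by rw [(h.exists_of_eq _ _ (hα (a * b))).choose_spec.2, map_mul, map_mul,
      (h.exists_of_eq _ _ (hα a)).choose_spec.2, (h.exists_of_eq _ _ (hα b)).choose_spec.2])
  map_zero' := h.ext
    (by rw [(h.exists_of_eq _ _ (hα 0)).choose_spec.1, map_zero, map_zero])
    (by rw [(h.exists_of_eq _ _ (hα 0)).choose_spec.2, map_zero, map_zero])
  map_add' a b := h.ext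
    (by rw [(h.exists_of_eq _ _ (hα (a + b))).choose_spec.1, map_add, map_add,
      (h.exists_of_eq _ _ (hα a)).choose_spec.1, (h.exists_of_eq _ _ (hα b)).choose_spec.1])
    (by rw [(h.exists_of_eq _ _ (hα (a + b))).choose_spec.2, map_add, map_add,
      (h.exists_of_eq _ _ (hα a)).choose_spec.2, (h.exists_of_eq _ _ (hα b)).choose_spec.2])

theorem fst_lift (d : D) : π₁ (h.lift α₁ α₂ hα d) = α₁ d :=
  (h.exists_of_eq _ _ (hα d)).choose_spec.1

theorem snd_lift (d : D) : π₂ (h.lift α₁ α₂ hα d) = α₂ d :=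
  (h.exists_of_eq _ _ (hα d)).choose_spec.2

theorem fst_comp_lift : π₁.comp (h.lift α₁ α₂ hα) = α₁ := RingHom.ext (h.fst_lift α₁ α₂ hα)

theorem snd_comp_lift : π₂.comp (h.lift α₁ α₂ hα) = α₂ := RingHom.ext (h.snd_lift α₁ α₂ hα)

end lift

theorem hom_ext (h : IsMilnor π₁ π₂ ρ₁ ρ₂) {D : Type v} [CommRing D] {γ γ' : D →+* E}
    (h1 : π₁.comp γ = π₁.comp γ') (h2 : π₂.comp γ = π₂.comp γ') : γ = γ' :=
  RingHom.ext fun d => h.ext (congrArg (fun f => f d) h1) (congrArg (fun f => f d) h2)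

section away

variable (π₁ π₂ ρ₁ ρ₂) (ε : E)

/-- localized maps -/
noncomputable def awayFst : Localization.Away ε →+* Localization.Away (π₁ ε) :=
  IsLocalization.Away.lift (S := Localization.Away ε) ε
    (g := (algebraMap P₁ (Localization.Away (π₁ ε))).comp π₁)
    (IsLocalization.Away.algebraMap_isUnit (π₁ ε))

noncomputable def awaySnd : Localization.Away ε →+* Localization.Away (π₂ ε) :=
  IsLocalization.Away.lift (S := Localization.Away ε) ε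
    (g := (algebraMap P₂ (Localization.Away (π₂ ε))).comp π₂)
    (IsLocalization.Away.algebraMap_isUnit (π₂ ε))

noncomputable def awayRho₁ : Localization.Away (π₁ ε) →+* Localization.Away (ρ₁ (π₁ ε)) :=
  IsLocalization.Away.lift (S := Localization.Away (π₁ ε)) (π₁ ε)
    (g := (algebraMap Q₀ (Localization.Away (ρ₁ (π₁ ε)))).comp ρ₁)
    (IsLocalization.Away.algebraMap_isUnit (ρ₁ (π₁ ε)))

variable {π₁ π₂ ρ₁ ρ₂}

noncomputable def awayRho₂ (h : IsMilnor π₁ π₂ ρ₁ ρ₂) :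
    Localization.Away (π₂ ε) →+* Localization.Away (ρ₁ (π₁ ε)) :=
  IsLocalization.Away.lift (S := Localization.Away (π₂ ε)) (π₂ ε)
    (g := (algebraMap Q₀ (Localization.Away (ρ₁ (π₁ ε)))).comp ρ₂)
    (by
      change IsUnit (algebraMap Q₀ _ (ρ₂ (π₂ ε)))
      rw [← h.comm]
      exact IsLocalization.Away.algebraMap_isUnit (ρ₁ (π₁ ε)))

variable (π₁ π₂ ρ₁ ρ₂)

@[simp] theorem awayFst_algebraMap (x : E) :
    awayFst π₁ ε (algebraMap E _ x) = algebraMap P₁ _ (π₁ x) :=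
  IsLocalization.Away.lift_eq _ _ _

@[simp] theorem awaySnd_algebraMap (x : E) :
    awaySnd π₂ ε (algebraMap E _ x) = algebraMap P₂ _ (π₂ x) :=
  IsLocalization.Away.lift_eq _ _ _

@[simp] theorem awayRho₁_algebraMap (x : P₁) :
    awayRho₁ π₁ ρ₁ ε (algebraMap P₁ _ x) = algebraMap Q₀ _ (ρ₁ x) :=
  IsLocalization.Away.lift_eq _ _ _

variable {π₁ π₂ ρ₁ ρ₂}

@[simp] theorem awayRho₂_algebraMap (h : IsMilnor π₁ π₂ ρ₁ ρ₂) (x : P₂) :
    h.awayRho₂ ε (algebraMap P₂ _ x) = algebraMap Q₀ _ (ρ₂ x) :=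
  IsLocalization.Away.lift_eq _ _ _

theorem away (h : IsMilnor π₁ π₂ ρ₁ ρ₂) :
    IsMilnor (awayFst π₁ ε) (awaySnd π₂ ε) (awayRho₁ π₁ ρ₁ ε) (h.awayRho₂ ε) where
  comm := by
    have : (awayRho₁ π₁ ρ₁ ε).comp (awayFst π₁ ε) = (h.awayRho₂ ε).comp (awaySnd π₂ ε) := by
      apply IsLocalization.ringHom_ext (Submonoid.powers ε)
      ext x
      simp [h.comm]
    exact fun x => congrArg (fun f => f x) this
  inj := by
    intro z h1 h2
    obtain ⟨n, a, ha⟩ := IsLocalization.Away.surj ε z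
    have e1 : algebraMap P₁ (Localization.Away (π₁ ε)) (π₁ a) = 0 := by
      rw [← awayFst_algebraMap, ← ha, map_mul, h1, zero_mul]
    have e2 : algebraMap P₂ (Localization.Away (π₂ ε)) (π₂ a) = 0 := by
      rw [← awaySnd_algebraMap, ← ha, map_mul, h2, zero_mul]
    rw [← map_zero (algebraMap P₁ (Localization.Away (π₁ ε)))] at e1
    rw [← map_zero (algebraMap P₂ (Localization.Away (π₂ ε)))] at e2
    obtain ⟨m₁, hm₁⟩ := IsLocalization.Away.exists_of_eq (π₁ ε) e1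
    obtain ⟨m₂, hm₂⟩ := IsLocalization.Away.exists_of_eq (π₂ ε) e2
    have h0 : ε ^ (m₁ + m₂) * a = 0 := by
      apply h.inj
      · rw [map_mul, map_pow, pow_add, mul_comm (π₁ ε ^ m₁), mul_assoc, hm₁, mul_zero, mul_zero]
      · rw [map_mul, map_pow, pow_add, mul_assoc, hm₂, mul_zero, mul_zero]
    have hu : IsUnit (algebraMap E (Localization.Away ε) ε) :=
      IsLocalization.Away.algebraMap_isUnit ε
    have h3 : algebraMap E (Localization.Away ε) a = 0 := by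
      have := congrArg (algebraMap E (Localization.Away ε)) h0
      rw [map_mul, map_pow, map_zero] at this
      exact ((hu.pow (m₁ + m₂)).mul_right_eq_zero).mp this
    rw [h3] at ha
    exact ((hu.pow n).mul_left_eq_zero).mp ha
  exists_of_eq := by
    intro z₁ z₂ hz
    obtain ⟨n₁, p₁, hp₁⟩ := IsLocalization.Away.surj (π₁ ε) z₁
    obtain ⟨n₂, p₂, hp₂⟩ := IsLocalization.Away.surj (π₂ ε) z₂
    -- common exponent
    have hp₁' : z₁ * algebraMap P₁ (Localization.Away (π₁ ε)) (π₁ ε) ^ (n₁ + n₂) =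
        algebraMap P₁ _ (π₁ ε ^ n₂ * p₁) := by
      rw [pow_add, ← mul_assoc, hp₁, map_mul, map_pow, mul_comm]
    have hp₂' : z₂ * algebraMap P₂ (Localization.Away (π₂ ε)) (π₂ ε) ^ (n₁ + n₂) =
        algebraMap P₂ _ (π₂ ε ^ n₁ * p₂) := by
      rw [pow_add, mul_comm (_ ^ n₁), ← mul_assoc, hp₂, map_mul, map_pow, mul_comm]
    have hc : ρ₁ (π₁ ε) = ρ₂ (π₂ ε) := h.comm ε
    have e : algebraMap Q₀ (Localization.Away (ρ₁ (π₁ ε))) (ρ₁ (π₁ ε ^ n₂ * p₁)) =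
        algebraMap Q₀ _ (ρ₂ (π₂ ε ^ n₁ * p₂)) := by
      have a1 : algebraMap Q₀ (Localization.Away (ρ₁ (π₁ ε))) (ρ₁ (π₁ ε ^ n₂ * p₁)) =
          awayRho₁ π₁ ρ₁ ε z₁ * algebraMap Q₀ _ (ρ₁ (π₁ ε)) ^ (n₁ + n₂) := by
        rw [← awayRho₁_algebraMap π₁ ρ₁ ε, ← hp₁', map_mul, map_pow, awayRho₁_algebraMap]
      have a2 : algebraMap Q₀ (Localization.Away (ρ₁ (π₁ ε))) (ρ₂ (π₂ ε ^ n₁ * p₂)) =
          h.awayRho₂ ε z₂ * algebraMap Q₀ _ (ρ₂ (π₂ ε)) ^ (n₁ + n₂) := by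
        rw [← awayRho₂_algebraMap ε h, ← hp₂', map_mul, map_pow, awayRho₂_algebraMap]
      rw [a1, a2, hz]
      exact congrArg (fun t => h.awayRho₂ ε z₂ * algebraMap Q₀ _ t ^ (n₁ + n₂)) hc
    obtain ⟨m, hm⟩ := IsLocalization.Away.exists_of_eq (ρ₁ (π₁ ε)) e
    have e' : ρ₁ (π₁ ε ^ m * (π₁ ε ^ n₂ * p₁)) = ρ₂ (π₂ ε ^ m * (π₂ ε ^ n₁ * p₂)) := by
      have l : ρ₁ (π₁ ε ^ m * (π₁ ε ^ n₂ * p₁)) = ρ₁ (π₁ ε) ^ m * ρ₁ (π₁ ε ^ n₂ * p₁) := by
        rw [map_mul, map_pow]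
      have r : ρ₂ (π₂ ε ^ m * (π₂ ε ^ n₁ * p₂)) = ρ₁ (π₁ ε) ^ m * ρ₂ (π₂ ε ^ n₁ * p₂) := by
        rw [map_mul, map_pow, hc]
      rw [l, r, hm]
    obtain ⟨x, hx1, hx2⟩ := h.exists_of_eq _ _ e'
    have hu : IsUnit (algebraMap E (Localization.Away ε) ε) :=
      IsLocalization.Away.algebraMap_isUnit ε
    have hu₁ : IsUnit (algebraMap P₁ (Localization.Away (π₁ ε)) (π₁ ε)) :=
      IsLocalization.Away.algebraMap_isUnit (π₁ ε)
    have hu₂ : IsUnit (algebraMap P₂ (Localization.Away (π₂ ε)) (π₂ ε)) :=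
      IsLocalization.Away.algebraMap_isUnit (π₂ ε)
    obtain ⟨w, hw⟩ := (hu.pow (m + (n₁ + n₂))).exists_left_inv
    refine ⟨algebraMap E _ x * w, ?_, ?_⟩
    · have hw1 := congrArg (awayFst π₁ ε) hw
      rw [map_mul, map_pow, awayFst_algebraMap, map_one] at hw1
      rw [map_mul, awayFst_algebraMap, hx1]
      have : algebraMap P₁ (Localization.Away (π₁ ε)) (π₁ ε ^ m * (π₁ ε ^ n₂ * p₁)) =
          z₁ * algebraMap P₁ _ (π₁ ε) ^ (m + (n₁ + n₂)) := by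
        rw [map_mul, hp₁'.symm, map_pow, pow_add]; ring
      rw [this, mul_assoc, mul_comm _ (awayFst π₁ ε w), hw1, mul_one]
    · have hw2 := congrArg (awaySnd π₂ ε) hw
      rw [map_mul, map_pow, awaySnd_algebraMap, map_one] at hw2
      rw [map_mul, awaySnd_algebraMap, hx2]
      have : algebraMap P₂ (Localization.Away (π₂ ε)) (π₂ ε ^ m * (π₂ ε ^ n₁ * p₂)) =
          z₂ * algebraMap P₂ _ (π₂ ε) ^ (m + (n₁ + n₂)) := by
        rw [map_mul, hp₂'.symm, map_pow, pow_add]; ring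
      rw [this, mul_assoc, mul_comm _ (awaySnd π₂ ε w), hw2, mul_one]
  surj := by
    intro z
    have : IsLocalization.Away (ρ₂ (π₂ ε)) (Localization.Away (ρ₁ (π₁ ε))) := by
      rw [← h.comm]; infer_instance
    obtain ⟨n, q, hq⟩ := IsLocalization.Away.surj (ρ₂ (π₂ ε)) z
    obtain ⟨p₂, rfl⟩ := h.surj q
    have hu₂ : IsUnit (algebraMap P₂ (Localization.Away (π₂ ε)) (π₂ ε)) :=
      IsLocalization.Away.algebraMap_isUnit (π₂ ε)
    obtain ⟨w, hw⟩ := (hu₂.pow n).exists_left_inv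
    refine ⟨algebraMap P₂ _ p₂ * w, ?_⟩
    have hw' := congrArg (h.awayRho₂ ε) hw
    rw [map_mul, map_pow, awayRho₂_algebraMap, map_one] at hw'
    rw [map_mul, awayRho₂_algebraMap, ← hq, mul_assoc, mul_comm _ (h.awayRho₂ ε w), hw', mul_one]

end away

end IsMilnor

end Groth.Agent.Helper12.Milnor
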