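import Mathlib
import Groth.Agent.Lib.Helper12.MilnorA

/-!
# Milnor squares: the prime spectrum (helper12)

Every prime of the fibre product `E = P₁ ×_{Q₀} P₂` (with `P₂ → Q₀` surjective) is the contraction
of a prime of `P₁` or of a prime of `P₂`.
-/

set_option autoImplicit false
set_option linter.style.haveILetI false
universe u v

namespace Groth.Agent.Helper12.Milnor

variable {E P₁ P₂ Q₀ : Type u} [CommRing E] [CommRing P₁] [CommRing P₂] [CommRing Q₀]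
variable {π₁ : E →+* P₁} {π₂ : E →+* P₂} {ρ₁ : P₁ →+* Q₀} {ρ₂ : P₂ →+* Q₀}

theorem IsMilnor.exists_comap_eq (h : IsMilnor π₁ π₂ ρ₁ ρ₂) (𝔮 : Ideal E) [h𝔮 : 𝔮.IsPrime] :
    (∃ 𝔭 : Ideal P₁, 𝔭.IsPrime ∧ 𝔭.comap π₁ = 𝔮) ∨ (∃ 𝔭 : Ideal P₂, 𝔭.IsPrime ∧ 𝔭.comap π₂ = 𝔮) := by
  by_cases hk : RingHom.ker π₁ ≤ 𝔮
  · left
    refine ⟨𝔮.map π₁, Ideal.map_isPrime_of_surjective h.surjective_fst hk, ?_⟩
    rw [Ideal.comap_map_of_surjective π₁ h.surjective_fst]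
    exact sup_eq_left.mpr hk
  · right
    obtain ⟨t, ht, ht𝔮⟩ := SetLike.not_le_iff_exists.mp hk
    rw [RingHom.mem_ker] at ht
    have ht₂ : ρ₂ (π₂ t) = 0 := by rw [← h.comm, ht, map_zero]
    have hx : ∀ p₂ : P₂, ∃ x, π₁ x = 0 ∧ π₂ x = π₂ t * p₂ := fun p₂ =>
      h.exists_of_eq 0 (π₂ t * p₂) (by rw [map_zero, map_mul, ht₂, zero_mul])
    choose x hx1 hx2 using hx
    have x_add : ∀ a b, x (a + b) = x a + x b := fun a b => h.ext
      (by rw [map_add, hx1, hx1, hx1, add_zero]) (by rw [map_add, hx2, hx2, hx2, mul_add])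
    have x_zero : x 0 = 0 := h.ext (by rw [hx1, map_zero]) (by rw [hx2, mul_zero, map_zero])
    have x_one : x 1 = t := h.ext (by rw [hx1, ht]) (by rw [hx2, mul_one])
    have x_mul : ∀ a b, t * x (a * b) = x a * x b := fun a b => h.ext
      (by rw [map_mul, map_mul, hx1, hx1, mul_zero, zero_mul])
      (by rw [map_mul, map_mul, hx2, hx2, hx2]; ring)
    have x_map : ∀ y, x (π₂ y) = t * y := fun y => h.ext
      (by rw [hx1, map_mul, ht, zero_mul]) (by rw [hx2, map_mul])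
    let 𝔭 : Ideal P₂ :=
      { carrier := {p | x p ∈ 𝔮}
        add_mem' := fun {a b} ha hb => by
          change x (a + b) ∈ 𝔮
          rw [x_add]; exact 𝔮.add_mem ha hb
        zero_mem' := by
          change x 0 ∈ 𝔮
          rw [x_zero]; exact 𝔮.zero_mem
        smul_mem' := fun a b hb => by
          change x (a * b) ∈ 𝔮
          have h1 : t * x (a * b) ∈ 𝔮 := by rw [x_mul]; exact 𝔮.mul_mem_left _ hb
          exact (h𝔮.mem_or_mem h1).resolve_left ht𝔮 }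
    have mem𝔭 : ∀ p, p ∈ 𝔭 ↔ x p ∈ 𝔮 := fun p => Iff.rfl
    refine ⟨𝔭, ⟨?_, ?_⟩, ?_⟩
    · intro htop
      have : (1 : P₂) ∈ 𝔭 := by rw [htop]; trivial
      rw [mem𝔭, x_one] at this
      exact ht𝔮 this
    · intro a b hab
      rw [mem𝔭] at hab
      have h1 : x a * x b ∈ 𝔮 := by rw [← x_mul]; exact 𝔮.mul_mem_left _ hab
      exact (h𝔮.mem_or_mem h1).imp (fun h => h) (fun h => h)
    · ext y
      rw [Ideal.mem_comap, mem𝔭, x_map]
      constructor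
      · intro hy
        exact (h𝔮.mem_or_mem hy).resolve_left ht𝔮
      · intro hy
        exact 𝔮.mul_mem_left _ hy

/-- Spectrum version. -/
theorem IsMilnor.exists_primeSpectrum_comap (h : IsMilnor π₁ π₂ ρ₁ ρ₂) (y : PrimeSpectrum E) :
    (∃ y₁ : PrimeSpectrum P₁, PrimeSpectrum.comap π₁ y₁ = y) ∨
      (∃ y₂ : PrimeSpectrum P₂, PrimeSpectrum.comap π₂ y₂ = y) := by
  haveI := y.isPrime
  rcases h.exists_comap_eq y.asIdeal with ⟨𝔭, h𝔭, e⟩ | ⟨𝔭, h𝔭, e⟩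
  · exact Or.inl ⟨⟨𝔭, h𝔭⟩, PrimeSpectrum.ext e⟩
  · exact Or.inr ⟨⟨𝔭, h𝔭⟩, PrimeSpectrum.ext e⟩

end Groth.Agent.Helper12.Milnor
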