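import Mathlib
import Groth.Agent.Lib.Helper12.MilnorB

/-!
# Milnor squares: morphisms out of `Spec E` are determined by their restrictions (helper12)
-/

set_option autoImplicit false
set_option linter.style.haveILetI false
universe u

open AlgebraicGeometry CategoryTheory

namespace Groth.Agent.Helper12.Milnor

/-- `Spec` of a ring map between types. -/
noncomputable abbrev sp {A B : Type u} [CommRing A] [CommRing B] (f : A →+* B) :
    Spec (CommRingCat.of B) ⟶ Spec (CommRingCat.of A) :=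
  Spec.map (CommRingCat.ofHom f)

theorem sp_comp {A B C : Type u} [CommRing A] [CommRing B] [CommRing C] (f : A →+* B)
    (g : B →+* C) : sp (g.comp f) = sp g ≫ sp f := by
  unfold sp
  rw [CommRingCat.ofHom_comp, Spec.map_comp]

variable {E P₁ P₂ Q₀ : Type u} [CommRing E] [CommRing P₁] [CommRing P₂] [CommRing Q₀]
variable {π₁ : E →+* P₁} {π₂ : E →+* P₂} {ρ₁ : P₁ →+* Q₀} {ρ₂ : P₂ →+* Q₀}

/-- affine target -/
theorem IsMilnor.hom_ext_affine (h : IsMilnor π₁ π₂ ρ₁ ρ₂) {Z : Scheme.{u}} [IsAffine Z]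
    (a b : Spec (CommRingCat.of E) ⟶ Z) (h1 : sp π₁ ≫ a = sp π₁ ≫ b)
    (h2 : sp π₂ ≫ a = sp π₂ ≫ b) : a = b := by
  rw [← cancel_mono Z.isoSpec.hom]
  rw [← Spec.map_preimage (a ≫ Z.isoSpec.hom), ← Spec.map_preimage (b ≫ Z.isoSpec.hom)]
  congr 1
  set α := Spec.preimage (a ≫ Z.isoSpec.hom) with hα
  set β := Spec.preimage (b ≫ Z.isoSpec.hom) with hβ
  have e1 : α ≫ CommRingCat.ofHom π₁ = β ≫ CommRingCat.ofHom π₁ := by
    apply Spec.map_injective
    rw [Spec.map_comp, Spec.map_comp, hα, hβ, Spec.map_preimage, Spec.map_preimage,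
      ← Category.assoc, ← Category.assoc]
    exact congrArg (fun t => t ≫ Z.isoSpec.hom) h1
  have e2 : α ≫ CommRingCat.ofHom π₂ = β ≫ CommRingCat.ofHom π₂ := by
    apply Spec.map_injective
    rw [Spec.map_comp, Spec.map_comp, hα, hβ, Spec.map_preimage, Spec.map_preimage,
      ← Category.assoc, ← Category.assoc]
    exact congrArg (fun t => t ≫ Z.isoSpec.hom) h2
  ext d
  exact h.ext (congrArg (fun t => t.hom d) e1) (congrArg (fun t => t.hom d) e2)

theorem sp_away_fst (ε : E) : sp (IsMilnor.awayFst π₁ ε) ≫ sp (algebraMap E (Localization.Away ε)) =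
    sp (algebraMap P₁ (Localization.Away (π₁ ε))) ≫ sp π₁ := by
  rw [← sp_comp, ← sp_comp]
  congr 1
  ext x
  simp

theorem sp_away_snd (ε : E) : sp (IsMilnor.awaySnd π₂ ε) ≫ sp (algebraMap E (Localization.Away ε)) =
    sp (algebraMap P₂ (Localization.Away (π₂ ε))) ≫ sp π₂ := by
  rw [← sp_comp, ← sp_comp]
  congr 1
  ext x
  simp

theorem not_mem_of_sp_away (ε : E) (z : Spec (CommRingCat.of (Localization.Away ε))) :
    ε ∉ ((sp (algebraMap E (Localization.Away ε))).base z).asIdeal := by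
  intro hmem
  have hz : algebraMap E (Localization.Away ε) ε ∈ z.asIdeal := hmem
  exact z.isPrime.ne_top (Ideal.eq_top_of_isUnit_mem _ hz
    (IsLocalization.Away.algebraMap_isUnit ε))

/-- Morphisms out of `Spec E` into any scheme are determined by their restrictions to
`Spec P₁` and `Spec P₂`. -/
theorem IsMilnor.hom_ext_scheme (h : IsMilnor π₁ π₂ ρ₁ ρ₂) {X : Scheme.{u}}
    (a b : Spec (CommRingCat.of E) ⟶ X) (h1 : sp π₁ ≫ a = sp π₁ ≫ b)
    (h2 : sp π₂ ≫ a = sp π₂ ≫ b) : a = b := by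
  -- pointwise
  have hpt : ∀ y : Spec (CommRingCat.of E), a.base y = b.base y := by
    intro y
    rcases h.exists_primeSpectrum_comap y with ⟨y₁, rfl⟩ | ⟨y₂, rfl⟩
    · have := congrArg (fun t => t.base y₁) h1
      simp only [Scheme.Hom.comp_base, TopCat.comp_app] at this
      exact this
    · have := congrArg (fun t => t.base y₂) h2
      simp only [Scheme.Hom.comp_base, TopCat.comp_app] at this
      exact this
  -- local agreement
  have hloc : ∀ y : Spec (CommRingCat.of E), ∃ δ : E, δ ∉ y.asIdeal ∧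
      sp (algebraMap E (Localization.Away δ)) ≫ a = sp (algebraMap E (Localization.Away δ)) ≫ b := by
    intro y
    obtain ⟨W, hW, hyW⟩ : ∃ W : X.Opens, IsAffineOpen W ∧ a.base y ∈ W := by
      obtain ⟨_, ⟨W, hW, rfl⟩, hy, -⟩ := X.isBasis_affineOpens.exists_subset_of_mem_open
        (Set.mem_univ (a.base y)) isOpen_univ
      exact ⟨W, hW, hy⟩
    let U : (Spec (CommRingCat.of E)).Opens := a ⁻¹ᵁ W ⊓ b ⁻¹ᵁ W
    have hyU : y ∈ U := ⟨hyW, by change b.base y ∈ W; rw [← hpt]; exact hyW⟩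
    obtain ⟨_, ⟨_, ⟨δ, rfl⟩, rfl⟩, hyδ, hsub⟩ := PrimeSpectrum.isBasis_basic_opens.exists_subset_of_mem_open
      hyU U.isOpen
    refine ⟨δ, hyδ, ?_⟩
    set j := sp (algebraMap E (Localization.Away δ)) with hj
    have hjU : ∀ z, j.base z ∈ U := fun z => hsub (not_mem_of_sp_away δ z)
    haveI : IsAffine W.toScheme := hW
    have ra : Set.range (j ≫ a).base ⊆ Set.range W.ι.base := by
      rintro _ ⟨z, rfl⟩
      rw [Scheme.Opens.range_ι]
      exact (hjU z).1
    have rb : Set.range (j ≫ b).base ⊆ Set.range W.ι.base := by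
      rintro _ ⟨z, rfl⟩
      rw [Scheme.Opens.range_ι]
      exact (hjU z).2
    let a' := IsOpenImmersion.lift W.ι (j ≫ a) ra
    let b' := IsOpenImmersion.lift W.ι (j ≫ b) rb
    have ha' : a' ≫ W.ι = j ≫ a := IsOpenImmersion.lift_fac _ _ _
    have hb' : b' ≫ W.ι = j ≫ b := IsOpenImmersion.lift_fac _ _ _
    have hab : a' = b' := by
      apply (h.away δ).hom_ext_affine
      · rw [← cancel_mono W.ι, Category.assoc, Category.assoc, ha', hb', hj,
          ← Category.assoc, ← Category.assoc, sp_away_fst, Category.assoc, Category.assoc, h1]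
      · rw [← cancel_mono W.ι, Category.assoc, Category.assoc, ha', hb', hj,
          ← Category.assoc, ← Category.assoc, sp_away_snd, Category.assoc, Category.assoc, h2]
    rw [← ha', ← hb', hab]
  choose δ hδ1 hδ2 using hloc
  have hspan : Ideal.span (Set.range δ) = ⊤ := by
    by_contra hne
    obtain ⟨𝔪, h𝔪, hle⟩ := Ideal.exists_le_maximal _ hne
    exact hδ1 ⟨𝔪, h𝔪.isPrime⟩ (hle (Ideal.subset_span ⟨_, rfl⟩))
  apply Scheme.Cover.hom_ext
    (Scheme.affineOpenCoverOfSpanRangeEqTop (R := CommRingCat.of E) δ hspan).openCover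
  intro y
  exact hδ2 y

end Groth.Agent.Helper12.Milnor
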