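import Mathlib
import Groth.Agent.Lib.Helper12.MilnorC

/-!
# Milnor squares: gluing morphisms out of `Spec E` (affine Ferrand pushout, helper12)

For a Milnor square `E = P₁ ×_{Q₀} P₂` (`P₂ → Q₀` surjective) and any scheme `X`, compatible
morphisms `Spec P₁ → X`, `Spec P₂ → X` glue to a morphism `Spec E → X`.
-/

set_option autoImplicit false
set_option linter.style.haveILetI false
universe u

open AlgebraicGeometry CategoryTheory CategoryTheory.Limits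

namespace Groth.Agent.Helper12.Milnor

variable {E P₁ P₂ Q₀ : Type u} [CommRing E] [CommRing P₁] [CommRing P₂] [CommRing Q₀]
variable {π₁ : E →+* P₁} {π₂ : E →+* P₂} {ρ₁ : P₁ →+* Q₀} {ρ₂ : P₂ →+* Q₀}

theorem sp_away_rho₁ (ε : E) :
    sp (IsMilnor.awayRho₁ π₁ ρ₁ ε) ≫ sp (algebraMap P₁ (Localization.Away (π₁ ε))) =
    sp (algebraMap Q₀ (Localization.Away (ρ₁ (π₁ ε)))) ≫ sp ρ₁ := by
  rw [← sp_comp, ← sp_comp]
  congr 1
  ext x
  simp

theorem sp_away_rho₂ (h : IsMilnor π₁ π₂ ρ₁ ρ₂) (ε : E) :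
    sp (h.awayRho₂ ε) ≫ sp (algebraMap P₂ (Localization.Away (π₂ ε))) =
    sp (algebraMap Q₀ (Localization.Away (ρ₁ (π₁ ε)))) ≫ sp ρ₂ := by
  rw [← sp_comp, ← sp_comp]
  congr 1
  ext x
  simp

/-- Local existence: a chart. -/
theorem IsMilnor.exists_chart (h : IsMilnor π₁ π₂ ρ₁ ρ₂) {X : Scheme.{u}}
    (a₁ : Spec (CommRingCat.of P₁) ⟶ X) (a₂ : Spec (CommRingCat.of P₂) ⟶ X)
    (hc : sp ρ₁ ≫ a₁ = sp ρ₂ ≫ a₂) (y : Spec (CommRingCat.of E)) :
    ∃ (W : X.Opens) (ε : E), IsAffineOpen W ∧ ε ∉ y.asIdeal ∧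
      (∀ z : Spec (CommRingCat.of P₁), π₁ ε ∉ z.asIdeal → a₁.base z ∈ W) ∧
      (∀ z : Spec (CommRingCat.of P₂), π₂ ε ∉ z.asIdeal → a₂.base z ∈ W) := by
  haveI := y.isPrime
  have haff : ∀ x : X, ∃ W : X.Opens, IsAffineOpen W ∧ x ∈ W := by
    intro x
    obtain ⟨_, ⟨W, hW, rfl⟩, hy, -⟩ := X.isBasis_affineOpens.exists_subset_of_mem_open
      (Set.mem_univ x) isOpen_univ
    exact ⟨W, hW, hy⟩
  by_cases hk : RingHom.ker π₁ ≤ y.asIdeal
  · -- `y` comes from `y₁ ∈ Spec P₁`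
    let y₁ : Spec (CommRingCat.of P₁) :=
      ⟨y.asIdeal.map π₁, Ideal.map_isPrime_of_surjective h.surjective_fst hk⟩
    have hy₁ : y₁.asIdeal.comap π₁ = y.asIdeal := by
      change (y.asIdeal.map π₁).comap π₁ = _
      rw [Ideal.comap_map_of_surjective π₁ h.surjective_fst]
      exact sup_eq_left.mpr hk
    obtain ⟨W, hW, hyW⟩ := haff (a₁.base y₁)
    obtain ⟨_, ⟨_, ⟨c, rfl⟩, rfl⟩, hyc, hsub⟩ :=
      PrimeSpectrum.isBasis_basic_opens.exists_subset_of_mem_open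
        (show y₁ ∈ ((a₁ ⁻¹ᵁ W : (Spec (CommRingCat.of P₁)).Opens) : Set _) from hyW)
        (a₁ ⁻¹ᵁ W).isOpen
    obtain ⟨J, hJ⟩ := (PrimeSpectrum.isClosed_iff_zeroLocus_ideal _).mp
      (a₂ ⁻¹ᵁ W).isOpen.isClosed_compl
    -- `ρ₁ c` lies in the radical of `J.map ρ₂`
    have hrad : ρ₁ c ∈ (J.map ρ₂).radical := by
      rw [Ideal.radical_eq_sInf, Ideal.mem_sInf]
      rintro 𝔭 ⟨hle, h𝔭⟩
      by_contra hcn
      let z₀ : Spec (CommRingCat.of Q₀) := ⟨𝔭, h𝔭⟩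
      have h1 : (sp ρ₁).base z₀ ∈ ((a₁ ⁻¹ᵁ W : (Spec (CommRingCat.of P₁)).Opens) : Set _) :=
        hsub (show c ∉ ((sp ρ₁).base z₀).asIdeal from hcn)
      have h2 : a₁.base ((sp ρ₁).base z₀) = a₂.base ((sp ρ₂).base z₀) := by
        have := congrArg (fun t => t.base z₀) hc
        simp only [Scheme.Hom.comp_base, TopCat.comp_app] at this
        exact this
      have h3 : (sp ρ₂).base z₀ ∈ ((a₂ ⁻¹ᵁ W : (Spec (CommRingCat.of P₂)).Opens) : Set _) := by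
        change a₂.base ((sp ρ₂).base z₀) ∈ W
        rw [← h2]; exact h1
      have h4 : (sp ρ₂).base z₀ ∈ PrimeSpectrum.zeroLocus (J : Set P₂) := by
        intro j hj
        change ρ₂ j ∈ 𝔭
        exact hle (Ideal.mem_map_of_mem ρ₂ hj)
      rw [← hJ] at h4
      exact h4 h3
    obtain ⟨n, hn⟩ := hrad
    have hn' : ρ₁ c ^ (n + 1) ∈ J.map ρ₂ := by
      rw [pow_succ]; exact Ideal.mul_mem_right _ _ hn
    obtain ⟨j, hjJ, hj⟩ := (Ideal.mem_map_iff_of_surjective ρ₂ h.surj).mp hn'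
    obtain ⟨ε, hε1, hε2⟩ := h.exists_of_eq (c ^ (n + 1)) j (by rw [map_pow, hj])
    refine ⟨W, ε, hW, ?_, ?_, ?_⟩
    · intro hmem
      rw [← hy₁, Ideal.mem_comap, hε1] at hmem
      exact hyc (y₁.isPrime.mem_of_pow_mem (n + 1) hmem)
    · intro z hz
      rw [hε1] at hz
      exact hsub (show c ∉ z.asIdeal from fun hcz =>
        hz (z.asIdeal.pow_mem_of_mem hcz (n + 1) (Nat.succ_pos n)))
    · intro z hz
      rw [hε2] at hz
      have : z ∉ PrimeSpectrum.zeroLocus (J : Set P₂) := fun hzl => hz (hzl hjJ)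
      rw [← hJ] at this
      exact not_not.mp this
  · -- `y` lies in the open part coming from `Spec P₂`
    obtain ⟨t, ht, hty⟩ := SetLike.not_le_iff_exists.mp hk
    rw [RingHom.mem_ker] at ht
    have ht₂ : ρ₂ (π₂ t) = 0 := by rw [← h.comm, ht, map_zero]
    rcases h.exists_primeSpectrum_comap y with ⟨y₁, hy₁⟩ | ⟨y₂, hy₂⟩
    · exfalso
      apply hk
      intro x hx
      rw [← hy₁]
      change π₁ x ∈ y₁.asIdeal
      rw [RingHom.mem_ker.mp hx]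
      exact y₁.asIdeal.zero_mem
    · obtain ⟨y₂, rfl⟩ : ∃ y₂' : Spec (CommRingCat.of P₂), y₂' = y₂ := ⟨y₂, rfl⟩
      obtain ⟨W, hW, hyW⟩ := haff (a₂.base y₂)
      obtain ⟨_, ⟨_, ⟨j', rfl⟩, rfl⟩, hyj, hsub⟩ :=
        PrimeSpectrum.isBasis_basic_opens.exists_subset_of_mem_open
          (show y₂ ∈ ((a₂ ⁻¹ᵁ W : (Spec (CommRingCat.of P₂)).Opens) : Set _) from hyW)
          (a₂ ⁻¹ᵁ W).isOpen
      obtain ⟨ε, hε1, hε2⟩ := h.exists_of_eq 0 (π₂ t * j')
        (by rw [map_zero, map_mul, ht₂, zero_mul])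
      have hty₂ : π₂ t ∉ y₂.asIdeal := by
        intro hmem
        apply hty
        rw [← hy₂]
        exact hmem
      refine ⟨W, ε, hW, ?_, ?_, ?_⟩
      · intro hmem
        rw [← hy₂] at hmem
        have hm : π₂ ε ∈ y₂.asIdeal := hmem
        rw [hε2] at hm
        rcases y₂.isPrime.mem_or_mem hm with h1 | h1
        · exact hty₂ h1
        · exact hyj h1
      · intro z hz
        rw [hε1] at hz
        exact absurd z.asIdeal.zero_mem hz
      · intro z hz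
        rw [hε2] at hz
        exact hsub (show j' ∉ z.asIdeal from fun hjz => hz (z.asIdeal.mul_mem_left _ hjz))

end Groth.Agent.Helper12.Milnor
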