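import Mathlib
import Groth.Agent.Lib.Helper12.MilnorD

/-!
# Milnor squares: gluing morphisms out of `Spec E`, local pieces and the glued morphism (helper12)
-/

set_option autoImplicit false
set_option linter.style.haveILetI false
universe u

open AlgebraicGeometry CategoryTheory CategoryTheory.Limits

namespace Groth.Agent.Helper12.Milnor

variable {E P₁ P₂ Q₀ : Type u} [CommRing E] [CommRing P₁] [CommRing P₂] [CommRing Q₀]
variable {π₁ : E →+* P₁} {π₂ : E →+* P₂} {ρ₁ : P₁ →+* Q₀} {ρ₂ : P₂ →+* Q₀}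

/-- Local existence of the glued morphism. -/
theorem IsMilnor.exists_local (h : IsMilnor π₁ π₂ ρ₁ ρ₂) {X : Scheme.{u}}
    (a₁ : Spec (CommRingCat.of P₁) ⟶ X) (a₂ : Spec (CommRingCat.of P₂) ⟶ X)
    (hc : sp ρ₁ ≫ a₁ = sp ρ₂ ≫ a₂) (y : Spec (CommRingCat.of E)) :
    ∃ (ε : E), ε ∉ y.asIdeal ∧ ∃ φ : Spec (CommRingCat.of (Localization.Away ε)) ⟶ X,
      sp (IsMilnor.awayFst π₁ ε) ≫ φ = sp (algebraMap P₁ (Localization.Away (π₁ ε))) ≫ a₁ ∧
      sp (IsMilnor.awaySnd π₂ ε) ≫ φ = sp (algebraMap P₂ (Localization.Away (π₂ ε))) ≫ a₂ := by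
  obtain ⟨W, ε, hW, hεy, hW₁, hW₂⟩ := h.exists_chart a₁ a₂ hc y
  refine ⟨ε, hεy, ?_⟩
  haveI : IsAffine W.toScheme := hW
  have r₁ : Set.range (sp (algebraMap P₁ (Localization.Away (π₁ ε))) ≫ a₁).base ⊆
      Set.range W.ι.base := by
    rintro _ ⟨z, rfl⟩
    rw [Scheme.Opens.range_ι]
    exact hW₁ _ (not_mem_of_sp_away (π₁ ε) z)
  have r₂ : Set.range (sp (algebraMap P₂ (Localization.Away (π₂ ε))) ≫ a₂).base ⊆
      Set.range W.ι.base := by
    rintro _ ⟨z, rfl⟩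
    rw [Scheme.Opens.range_ι]
    exact hW₂ _ (not_mem_of_sp_away (π₂ ε) z)
  let b₁ := IsOpenImmersion.lift W.ι _ r₁
  let b₂ := IsOpenImmersion.lift W.ι _ r₂
  have hb₁ : b₁ ≫ W.ι = sp (algebraMap P₁ (Localization.Away (π₁ ε))) ≫ a₁ :=
    IsOpenImmersion.lift_fac _ _ _
  have hb₂ : b₂ ≫ W.ι = sp (algebraMap P₂ (Localization.Away (π₂ ε))) ≫ a₂ :=
    IsOpenImmersion.lift_fac _ _ _
  have hb : sp (IsMilnor.awayRho₁ π₁ ρ₁ ε) ≫ b₁ = sp (h.awayRho₂ ε) ≫ b₂ := by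
    rw [← cancel_mono W.ι, Category.assoc, Category.assoc, hb₁, hb₂, ← Category.assoc,
      ← Category.assoc, sp_away_rho₁, sp_away_rho₂ h, Category.assoc, Category.assoc, hc]
  set iso := W.toScheme.isoSpec with hiso
  set α₁ := Spec.preimage (b₁ ≫ iso.hom) with hα₁
  set α₂ := Spec.preimage (b₂ ≫ iso.hom) with hα₂
  have hα₁' : Spec.map α₁ = b₁ ≫ iso.hom := Spec.map_preimage _
  have hα₂' : Spec.map α₂ = b₂ ≫ iso.hom := Spec.map_preimage _
  have hcompat : ∀ d, IsMilnor.awayRho₁ π₁ ρ₁ ε (α₁.hom d) = h.awayRho₂ ε (α₂.hom d) := by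
    have e : α₁ ≫ CommRingCat.ofHom (IsMilnor.awayRho₁ π₁ ρ₁ ε) =
        α₂ ≫ CommRingCat.ofHom (h.awayRho₂ ε) := by
      apply Spec.map_injective
      rw [Spec.map_comp, Spec.map_comp, hα₁', hα₂', ← Category.assoc, ← Category.assoc]
      exact congrArg (fun t => t ≫ iso.hom) hb
    exact fun d => congrArg (fun t => t.hom d) e
  let γ := (h.away ε).lift α₁.hom α₂.hom hcompat
  have hγ₁ : CommRingCat.ofHom γ ≫ CommRingCat.ofHom (IsMilnor.awayFst π₁ ε) = α₁ := by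
    ext d
    exact (h.away ε).fst_lift α₁.hom α₂.hom hcompat d
  have hγ₂ : CommRingCat.ofHom γ ≫ CommRingCat.ofHom (IsMilnor.awaySnd π₂ ε) = α₂ := by
    ext d
    exact (h.away ε).snd_lift α₁.hom α₂.hom hcompat d
  refine ⟨Spec.map (CommRingCat.ofHom γ) ≫ iso.inv ≫ W.ι, ?_, ?_⟩
  · unfold sp
    rw [← Category.assoc, ← Spec.map_comp, hγ₁, hα₁', Category.assoc, Iso.hom_inv_id_assoc]
    exact hb₁
  · unfold sp
    rw [← Category.assoc, ← Spec.map_comp, hγ₂, hα₂', Category.assoc, Iso.hom_inv_id_assoc]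
    exact hb₂

end Groth.Agent.Helper12.Milnor
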