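import Mathlib
import Groth.Agent.Lib.Helper12.MilnorE

/-!
# Milnor squares: the affine Ferrand pushout property (helper12)

`IsMilnor.exists_glue`: for a Milnor square `E = P₁ ×_{Q₀} P₂` (`P₂ → Q₀` surjective) and any scheme
`X`, compatible morphisms `Spec P₁ → X`, `Spec P₂ → X` glue to a morphism `Spec E → X`
(unique by `IsMilnor.hom_ext_scheme`).
-/

set_option autoImplicit false
set_option linter.style.haveILetI false
universe u

open AlgebraicGeometry CategoryTheory CategoryTheory.Limits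

namespace Groth.Agent.Helper12.Milnor

variable {E P₁ P₂ Q₀ : Type u} [CommRing E] [CommRing P₁] [CommRing P₂] [CommRing Q₀]
variable {π₁ : E →+* P₁} {π₂ : E →+* P₂} {ρ₁ : P₁ →+* Q₀} {ρ₂ : P₂ →+* Q₀}

/-- restriction of a local piece to a smaller basic open, first component -/
theorem restrict_fst {X : Scheme.{u}} (a₁ : Spec (CommRingCat.of P₁) ⟶ X) (ε ε'' : E)
    (hu : IsUnit (algebraMap E (Localization.Away ε'') ε))
    (φ : Spec (CommRingCat.of (Localization.Away ε)) ⟶ X)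
    (hφ₁ : sp (IsMilnor.awayFst π₁ ε) ≫ φ = sp (algebraMap P₁ (Localization.Away (π₁ ε))) ≫ a₁) :
    sp (IsMilnor.awayFst π₁ ε'') ≫
      sp (IsLocalization.Away.lift (S := Localization.Away ε) ε
        (g := algebraMap E (Localization.Away ε'')) hu) ≫ φ =
    sp (algebraMap P₁ (Localization.Away (π₁ ε''))) ≫ a₁ := by
  have hu₁ : IsUnit (algebraMap P₁ (Localization.Away (π₁ ε'')) (π₁ ε)) := by
    have := hu.map (IsMilnor.awayFst π₁ ε'')
    rwa [IsMilnor.awayFst_algebraMap] at this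
  let mu : Localization.Away (π₁ ε) →+* Localization.Away (π₁ ε'') :=
    IsLocalization.Away.lift (S := Localization.Away (π₁ ε)) (π₁ ε)
      (g := algebraMap P₁ (Localization.Away (π₁ ε''))) hu₁
  have e1 : (IsMilnor.awayFst π₁ ε'').comp (IsLocalization.Away.lift (S := Localization.Away ε) ε
      (g := algebraMap E (Localization.Away ε'')) hu) = mu.comp (IsMilnor.awayFst π₁ ε) := by
    apply IsLocalization.ringHom_ext (Submonoid.powers ε)
    ext x
    simp [mu, IsLocalization.Away.lift_eq]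
  have e2 : mu.comp (algebraMap P₁ (Localization.Away (π₁ ε))) =
      algebraMap P₁ (Localization.Away (π₁ ε'')) := by
    ext x
    simp [mu, IsLocalization.Away.lift_eq]
  rw [← Category.assoc, ← sp_comp, e1, sp_comp, Category.assoc, hφ₁, ← Category.assoc, ← sp_comp, e2]

theorem restrict_snd {X : Scheme.{u}} (a₂ : Spec (CommRingCat.of P₂) ⟶ X) (ε ε'' : E)
    (hu : IsUnit (algebraMap E (Localization.Away ε'') ε))
    (φ : Spec (CommRingCat.of (Localization.Away ε)) ⟶ X)
    (hφ₂ : sp (IsMilnor.awaySnd π₂ ε) ≫ φ = sp (algebraMap P₂ (Localization.Away (π₂ ε))) ≫ a₂) :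
    sp (IsMilnor.awaySnd π₂ ε'') ≫
      sp (IsLocalization.Away.lift (S := Localization.Away ε) ε
        (g := algebraMap E (Localization.Away ε'')) hu) ≫ φ =
    sp (algebraMap P₂ (Localization.Away (π₂ ε''))) ≫ a₂ := by
  have hu₂ : IsUnit (algebraMap P₂ (Localization.Away (π₂ ε'')) (π₂ ε)) := by
    have := hu.map (IsMilnor.awaySnd π₂ ε'')
    rwa [IsMilnor.awaySnd_algebraMap] at this
  let mu : Localization.Away (π₂ ε) →+* Localization.Away (π₂ ε'') :=
    IsLocalization.Away.lift (S := Localization.Away (π₂ ε)) (π₂ ε)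
      (g := algebraMap P₂ (Localization.Away (π₂ ε''))) hu₂
  have e1 : (IsMilnor.awaySnd π₂ ε'').comp (IsLocalization.Away.lift (S := Localization.Away ε) ε
      (g := algebraMap E (Localization.Away ε'')) hu) = mu.comp (IsMilnor.awaySnd π₂ ε) := by
    apply IsLocalization.ringHom_ext (Submonoid.powers ε)
    ext x
    simp [mu, IsLocalization.Away.lift_eq]
  have e2 : mu.comp (algebraMap P₂ (Localization.Away (π₂ ε))) =
      algebraMap P₂ (Localization.Away (π₂ ε'')) := by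
    ext x
    simp [mu, IsLocalization.Away.lift_eq]
  rw [← Category.assoc, ← sp_comp, e1, sp_comp, Category.assoc, hφ₂, ← Category.assoc, ← sp_comp, e2]

/-- Two local pieces agree on overlaps (affine test scheme). -/
theorem IsMilnor.agree_affine (h : IsMilnor π₁ π₂ ρ₁ ρ₂) {X : Scheme.{u}}
    (a₁ : Spec (CommRingCat.of P₁) ⟶ X) (a₂ : Spec (CommRingCat.of P₂) ⟶ X) (ε ε' : E)
    (φ : Spec (CommRingCat.of (Localization.Away ε)) ⟶ X)
    (φ' : Spec (CommRingCat.of (Localization.Away ε')) ⟶ X)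
    (hφ₁ : sp (IsMilnor.awayFst π₁ ε) ≫ φ = sp (algebraMap P₁ (Localization.Away (π₁ ε))) ≫ a₁)
    (hφ₂ : sp (IsMilnor.awaySnd π₂ ε) ≫ φ = sp (algebraMap P₂ (Localization.Away (π₂ ε))) ≫ a₂)
    (hφ₁' : sp (IsMilnor.awayFst π₁ ε') ≫ φ' = sp (algebraMap P₁ (Localization.Away (π₁ ε'))) ≫ a₁)
    (hφ₂' : sp (IsMilnor.awaySnd π₂ ε') ≫ φ' = sp (algebraMap P₂ (Localization.Away (π₂ ε'))) ≫ a₂)
    {R' : CommRingCat.{u}} (z : Spec R' ⟶ Spec (CommRingCat.of (Localization.Away ε)))
    (z' : Spec R' ⟶ Spec (CommRingCat.of (Localization.Away ε')))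
    (hz : z ≫ sp (algebraMap E (Localization.Away ε)) =
      z' ≫ sp (algebraMap E (Localization.Away ε'))) : z ≫ φ = z' ≫ φ' := by
  have huu : IsUnit (algebraMap E (Localization.Away (ε * ε')) (ε * ε')) :=
    IsLocalization.Away.algebraMap_isUnit (ε * ε')
  have hu : IsUnit (algebraMap E (Localization.Away (ε * ε')) ε) := by
    rw [map_mul] at huu; exact isUnit_of_mul_isUnit_left huu
  have hu' : IsUnit (algebraMap E (Localization.Away (ε * ε')) ε') := by
    rw [map_mul] at huu; exact isUnit_of_mul_isUnit_right huu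
  set lam := IsLocalization.Away.lift (S := Localization.Away ε) ε
    (g := algebraMap E (Localization.Away (ε * ε'))) hu with hlam
  set lam' := IsLocalization.Away.lift (S := Localization.Away ε') ε'
    (g := algebraMap E (Localization.Away (ε * ε'))) hu' with hlam'
  have hcore : sp lam ≫ φ = sp lam' ≫ φ' := by
    apply (h.away (ε * ε')).hom_ext_scheme
    · rw [restrict_fst a₁ ε (ε * ε') hu φ hφ₁, restrict_fst a₁ ε' (ε * ε') hu' φ' hφ₁']
    · rw [restrict_snd a₂ ε (ε * ε') hu φ hφ₂, restrict_snd a₂ ε' (ε * ε') hu' φ' hφ₂']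
  set ζ := Spec.preimage z with hζ
  set ζ' := Spec.preimage z' with hζ'
  have hζm : Spec.map ζ = z := Spec.map_preimage _
  have hζm' : Spec.map ζ' = z' := Spec.map_preimage _
  have hζζ : CommRingCat.ofHom (algebraMap E (Localization.Away ε)) ≫ ζ =
      CommRingCat.ofHom (algebraMap E (Localization.Away ε')) ≫ ζ' := by
    apply Spec.map_injective
    rw [Spec.map_comp, Spec.map_comp, hζm, hζm']
    exact hz
  have hζζ' : ∀ x : E, ζ.hom (algebraMap E _ x) = ζ'.hom (algebraMap E _ x) :=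
    fun x => congrArg (fun t => t.hom x) hζζ
  let ζ₀ : E →+* R' := ζ.hom.comp (algebraMap E (Localization.Away ε))
  have hζ₀u : IsUnit (ζ₀ (ε * ε')) := by
    rw [map_mul]
    refine IsUnit.mul ?_ ?_
    · exact (IsLocalization.Away.algebraMap_isUnit ε).map ζ.hom
    · change IsUnit (ζ.hom (algebraMap E _ ε'))
      rw [hζζ']
      exact (IsLocalization.Away.algebraMap_isUnit ε').map ζ'.hom
  let ζ'' := IsLocalization.Away.lift (S := Localization.Away (ε * ε')) (ε * ε') (g := ζ₀) hζ₀u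
  have e1 : ζ.hom = ζ''.comp lam := by
    apply IsLocalization.ringHom_ext (Submonoid.powers ε)
    ext x
    simp [ζ'', lam, ζ₀, IsLocalization.Away.lift_eq]
  have e2 : ζ'.hom = ζ''.comp lam' := by
    apply IsLocalization.ringHom_ext (Submonoid.powers ε')
    ext x
    simp only [RingHom.comp_apply, ζ'', lam', IsLocalization.Away.lift_eq, ζ₀]
    exact (hζζ' x).symm
  have f1 : z = Spec.map (CommRingCat.ofHom ζ'') ≫ sp lam := by
    rw [← hζm]
    unfold sp
    rw [← Spec.map_comp]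
    congr 1
    ext x
    exact congrArg (fun t => t x) e1
  have f2 : z' = Spec.map (CommRingCat.ofHom ζ'') ≫ sp lam' := by
    rw [← hζm']
    unfold sp
    rw [← Spec.map_comp]
    congr 1
    ext x
    exact congrArg (fun t => t x) e2
  rw [f1, f2, Category.assoc, Category.assoc, hcore]

/-- Two local pieces agree on overlaps. -/
theorem IsMilnor.agree (h : IsMilnor π₁ π₂ ρ₁ ρ₂) {X : Scheme.{u}}
    (a₁ : Spec (CommRingCat.of P₁) ⟶ X) (a₂ : Spec (CommRingCat.of P₂) ⟶ X) (ε ε' : E)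
    (φ : Spec (CommRingCat.of (Localization.Away ε)) ⟶ X)
    (φ' : Spec (CommRingCat.of (Localization.Away ε')) ⟶ X)
    (hφ₁ : sp (IsMilnor.awayFst π₁ ε) ≫ φ = sp (algebraMap P₁ (Localization.Away (π₁ ε))) ≫ a₁)
    (hφ₂ : sp (IsMilnor.awaySnd π₂ ε) ≫ φ = sp (algebraMap P₂ (Localization.Away (π₂ ε))) ≫ a₂)
    (hφ₁' : sp (IsMilnor.awayFst π₁ ε') ≫ φ' = sp (algebraMap P₁ (Localization.Away (π₁ ε'))) ≫ a₁)
    (hφ₂' : sp (IsMilnor.awaySnd π₂ ε') ≫ φ' = sp (algebraMap P₂ (Localization.Away (π₂ ε'))) ≫ a₂)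
    {T : Scheme.{u}} (z : T ⟶ Spec (CommRingCat.of (Localization.Away ε)))
    (z' : T ⟶ Spec (CommRingCat.of (Localization.Away ε')))
    (hz : z ≫ sp (algebraMap E (Localization.Away ε)) =
      z' ≫ sp (algebraMap E (Localization.Away ε'))) : z ≫ φ = z' ≫ φ' := by
  apply Scheme.Cover.hom_ext T.affineCover
  intro i
  have := h.agree_affine a₁ a₂ ε ε' φ φ' hφ₁ hφ₂ hφ₁' hφ₂' (T.affineCover.f i ≫ z)
    (T.affineCover.f i ≫ z') (by simp only [Category.assoc]; exact congrArg _ hz)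
  exact (Category.assoc _ _ _).symm.trans (this.trans (Category.assoc _ _ _))

/-- **Affine Ferrand pushout**: compatible morphisms out of `Spec P₁`, `Spec P₂` glue to a morphism
out of `Spec E`. -/
theorem IsMilnor.exists_glue (h : IsMilnor π₁ π₂ ρ₁ ρ₂) {X : Scheme.{u}}
    (a₁ : Spec (CommRingCat.of P₁) ⟶ X) (a₂ : Spec (CommRingCat.of P₂) ⟶ X)
    (hc : sp ρ₁ ≫ a₁ = sp ρ₂ ≫ a₂) :
    ∃ a : Spec (CommRingCat.of E) ⟶ X, sp π₁ ≫ a = a₁ ∧ sp π₂ ≫ a = a₂ := by
  choose ε hε φ hφ₁ hφ₂ using h.exists_local a₁ a₂ hc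
  have hspan : Ideal.span (Set.range ε) = ⊤ := by
    by_contra hne
    obtain ⟨𝔪, h𝔪, hle⟩ := Ideal.exists_le_maximal _ hne
    exact hε ⟨𝔪, h𝔪.isPrime⟩ (hle (Ideal.subset_span ⟨_, rfl⟩))
  let 𝒰 := (Scheme.affineOpenCoverOfSpanRangeEqTop (R := CommRingCat.of E) ε hspan).openCover
  have hcompat : ∀ x y : 𝒰.I₀, pullback.fst (𝒰.f x) (𝒰.f y) ≫ φ x = pullback.snd (𝒰.f x) (𝒰.f y) ≫ φ y := by
    intro x y
    exact h.agree a₁ a₂ (ε x) (ε y) (φ x) (φ y) (hφ₁ x) (hφ₂ x) (hφ₁ y) (hφ₂ y) _ _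
      pullback.condition
  let a := 𝒰.glueMorphisms φ hcompat
  have ha : ∀ y, sp (algebraMap E (Localization.Away (ε y))) ≫ a = φ y :=
    fun y => 𝒰.ι_glueMorphisms φ hcompat y
  refine ⟨a, ?_, ?_⟩
  · have hspan₁ : Ideal.span (Set.range fun y => π₁ (ε y)) = ⊤ := by
      have := congrArg (Ideal.map π₁) hspan
      rwa [Ideal.map_span, Ideal.map_top, ← Set.range_comp] at this
    apply Scheme.Cover.hom_ext
      (Scheme.affineOpenCoverOfSpanRangeEqTop (R := CommRingCat.of P₁) _ hspan₁).openCover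
    intro y
    change sp (algebraMap P₁ (Localization.Away (π₁ (ε y)))) ≫ sp π₁ ≫ a = _ ≫ a₁
    rw [← Category.assoc, ← sp_away_fst, Category.assoc, ha, hφ₁]
    rfl
  · have hspan₂ : Ideal.span (Set.range fun y => π₂ (ε y)) = ⊤ := by
      have := congrArg (Ideal.map π₂) hspan
      rwa [Ideal.map_span, Ideal.map_top, ← Set.range_comp] at this
    apply Scheme.Cover.hom_ext
      (Scheme.affineOpenCoverOfSpanRangeEqTop (R := CommRingCat.of P₂) _ hspan₂).openCover
    intro y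
    change sp (algebraMap P₂ (Localization.Away (π₂ (ε y)))) ≫ sp π₂ ≫ a = _ ≫ a₂
    rw [← Category.assoc, ← sp_away_snd, Category.assoc, ha, hφ₂]
    rfl

end Groth.Agent.Helper12.Milnor
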