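import Mathlib
import Groth.Agent.Lib.Helper12.ModHomology

/-!
# Minimal complexes of finite free modules over a local ring
-/

set_option autoImplicit false

open CategoryTheory IsLocalRing Groth.Agent.Helper12.ModHomology

namespace Groth.Agent.Helper12.MinimalComplex

universe v u

/-- Nakayama: a map of finite modules into a projective one, which is surjective mod `𝔪` and whose
kernel lies in `𝔪 E`, is bijective. -/
theorem bijective_of_nakayama {A : Type u} [CommRing A] [IsLocalRing A]
    {E F : Type v} [AddCommGroup E] [Module A E] [AddCommGroup F] [Module A F]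
    [Module.Finite A E] [Module.Finite A F] [Module.Projective A F] (f : E →ₗ[A] F)
    (ha : ∀ y : F, ∃ x : E, y - f x ∈ maximalIdeal A • (⊤ : Submodule A F))
    (hb : ∀ x : E, f x = 0 → x ∈ maximalIdeal A • (⊤ : Submodule A E)) :
    Function.Bijective f := by
  have hjac : maximalIdeal A ≤ Ideal.jacobson ⊥ := by
    rw [IsLocalRing.jacobson_eq_maximalIdeal ⊥ bot_ne_top]
  have hsurj : Function.Surjective f := by
    rw [← LinearMap.range_eq_top, eq_top_iff]
    apply Submodule.le_of_le_smul_of_le_jacobson_bot (Module.Finite.fg_top) hjac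
    intro y _
    obtain ⟨x, hx⟩ := ha y
    have : y = f x + (y - f x) := by abel
    rw [this]
    exact Submodule.add_mem_sup (LinearMap.mem_range_self f x) hx
  refine ⟨?_, hsurj⟩
  obtain ⟨s, hs⟩ := Module.projective_lifting_property f LinearMap.id hsurj
  have hs' : ∀ y, f (s y) = y := fun y => LinearMap.congr_fun hs y
  let π : E →ₗ[A] E := LinearMap.id - s ∘ₗ f
  have hπ1 : ∀ x, f (π x) = 0 := by
    intro x
    simp [π, hs']
  have hπ2 : ∀ x, f x = 0 → π x = x := by
    intro x hx
    simp [π, hx]
  have hK : LinearMap.ker f = LinearMap.range π := by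
    apply le_antisymm
    · intro x hx
      exact ⟨x, hπ2 x hx⟩
    · rintro _ ⟨x, rfl⟩
      exact hπ1 x
  have hKfg : (LinearMap.ker f).FG := by
    rw [hK, LinearMap.range_eq_map]
    exact Module.Finite.fg_top.map π
  have hle : LinearMap.ker f ≤ maximalIdeal A • LinearMap.ker f := by
    intro x hx
    have h1 : π x ∈ (maximalIdeal A • (⊤ : Submodule A E)).map π :=
      Submodule.mem_map_of_mem (hb x hx)
    rw [Submodule.map_smul'', hπ2 x hx, Submodule.map_top, ← hK] at h1
    exact h1
  have := Submodule.eq_bot_of_le_smul_of_le_jacobson_bot _ _ hKfg hle hjac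
  exact LinearMap.ker_eq_bot.mp this

variable (A : Type u) [CommRing A] [IsLocalRing A]

theorem bijective_of_quasiIso_minimal (E F : ChainComplex (ModuleCat.{v} A) ℕ)
    (hE : ∀ i, Module.Finite A (E.X i))
    (hF : ∀ i, Module.Finite A (F.X i) ∧ Module.Projective A (F.X i))
    (hEmin : ∀ i j, LinearMap.range (E.d i j).hom ≤ maximalIdeal A • (⊤ : Submodule A (E.X j)))
    (hFmin : ∀ i j, LinearMap.range (F.d i j).hom ≤ maximalIdeal A • (⊤ : Submodule A (F.X j)))
    (f : E ⟶ F) [QuasiIso f] (n : ℕ) : Function.Bijective (f.f n) := by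
  induction n using Nat.strong_induction_on with
  | _ n ih =>
    haveI := hE n
    haveI := (hF n).1
    haveI := (hF n).2
    -- elements of `ker f_n` are cycles
    have hcyc : ∀ (m : ℕ) (hm : m ≤ n) (x : E.X m) (k : ℕ), (∀ j, j < m → Function.Injective (f.f j)) →
        f.f m x = 0 → E.d m k x = 0 := by
      intro m hm x k hinj hx
      by_cases hrel : (ComplexShape.down ℕ).Rel m k
      · have hk : k + 1 = m := hrel
        apply hinj k (by omega)
        rw [f_d, hx, map_zero, map_zero]
      · exact d_eq_zero_of_not_rel E m k hrel x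
    have hinj_lt : ∀ j, j < n → Function.Injective (f.f j) := fun j hj => (ih j hj).1
    apply bijective_of_nakayama (f.f n).hom
    · intro y
      -- first find `z` with `y - f z` a cycle
      obtain ⟨z, hz⟩ : ∃ z : E.X n, F.d n ((ComplexShape.down ℕ).next n) (y - f.f n z) = 0 := by
        rcases Nat.eq_zero_or_pos n with rfl | hn
        · refine ⟨0, ?_⟩
          apply d_eq_zero_of_not_rel
          rw [ChainComplex.next_nat_zero]
          intro h
          have : 0 + 1 = 0 := h
          omega
        · obtain ⟨n', rfl⟩ : ∃ n', n = n' + 1 := ⟨n - 1, by omega⟩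
          rw [ChainComplex.next_nat_succ]
          obtain ⟨x', hx'⟩ := (ih n' (by omega)).2 (F.d (n' + 1) n' y)
          have hx'cyc : E.d n' ((ComplexShape.down ℕ).next n') x' = 0 := by
            by_cases hrel : (ComplexShape.down ℕ).Rel n' ((ComplexShape.down ℕ).next n')
            · have hk : (ComplexShape.down ℕ).next n' + 1 = n' := hrel
              apply (ih ((ComplexShape.down ℕ).next n') (by omega)).1
              rw [f_d, hx', d_d, map_zero]
            · exact d_eq_zero_of_not_rel E _ _ hrel x'
          obtain ⟨z, hz⟩ := inj_of_quasiIsoAt f (n' + 1) n' ((ComplexShape.down ℕ).next n')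
            (ChainComplex.prev ℕ n') rfl x' hx'cyc ⟨y, hx'.symm⟩
          refine ⟨z, ?_⟩
          rw [map_sub, ← f_d, hz, hx', sub_self]
      obtain ⟨x, -, w, hw⟩ := surj_of_quasiIsoAt f (n + 1) n ((ComplexShape.down ℕ).next n)
        (ChainComplex.prev ℕ n) rfl (y - f.f n z) hz
      refine ⟨z + x, ?_⟩
      have : y - (f.f n).hom (z + x) = F.d (n + 1) n w := by
        rw [hw, map_add]
        abel
      rw [this]
      exact hFmin (n + 1) n (LinearMap.mem_range_self _ w)
    · intro x hx
      have hxc := hcyc n le_rfl x ((ComplexShape.down ℕ).next n) hinj_lt hx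
      obtain ⟨z, hz⟩ := inj_of_quasiIsoAt f (n + 1) n ((ComplexShape.down ℕ).next n)
        (ChainComplex.prev ℕ n) rfl x hxc ⟨0, by rw [map_zero]; exact hx.symm⟩
      rw [← hz]
      exact hEmin (n + 1) n (LinearMap.mem_range_self _ z)

end Groth.Agent.Helper12.MinimalComplex
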