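import Mathlib
import Groth.Agent.Lib.Helper5.HS2
import Groth.Agent.Lib.Helper12.DeltaZero

/-!
# Reduced Noetherian rings: total fraction ring as a product of fields, and normalization
-/

set_option autoImplicit false
universe u

namespace Groth.Agent.Helper12.NagataDimOne

variable (A : Type u) [CommRing A] [IsReduced A] [IsNoetherianRing A]

/-- the (finite) type of minimal primes -/
abbrev MinP := {p : Ideal A // p ∈ minimalPrimes A}

instance : Finite (MinP A) := (minimalPrimes.finite_of_isNoetherianRing A).to_subtype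

instance (p : MinP A) : p.1.IsPrime := p.2.1.1

/-- fraction field of `A/p` -/
abbrev Kp (p : MinP A) := FractionRing (A ⧸ p.1)

/-- the product of the fraction fields -/
abbrev PK := ∀ p : MinP A, Kp A p

variable {A}

lemma algebraMap_PK_apply (a : A) (p : MinP A) :
    algebraMap A (PK A) a p = algebraMap (A ⧸ p.1) (Kp A p) (Ideal.Quotient.mk p.1 a) := rfl

lemma notMem_of_mem_nonZeroDivisors {s : A} (hs : s ∈ nonZeroDivisors A) (p : MinP A) :
    s ∉ p.1 := fun h =>
  Set.disjoint_left.mp (Ideal.disjoint_nonZeroDivisors_of_mem_minimalPrimes p.2) h hs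

lemma eq_zero_of_forall_mem {a : A} (h : ∀ p : MinP A, a ∈ p.1) : a = 0 := by
  have h1 : a ∈ sInf (minimalPrimes A) := by
    rw [Ideal.mem_sInf]
    intro q hq
    exact h ⟨q, hq⟩
  have h2 : sInf (minimalPrimes A) = nilradical A := by
    rw [minimalPrimes, Ideal.sInf_minimalPrimes]
    rfl
  rw [h2, nilradical_eq_zero] at h1
  exact h1

lemma mem_nonZeroDivisors_of_forall_notMem {s : A} (h : ∀ p : MinP A, s ∉ p.1) :
    s ∈ nonZeroDivisors A := by
  rw [mem_nonZeroDivisors_iff_right]
  intro c hc
  apply eq_zero_of_forall_mem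
  intro p
  have : c * s ∈ p.1 := by rw [hc]; exact zero_mem _
  exact (Ideal.IsPrime.mem_or_mem inferInstance this).resolve_right (h p)

lemma isUnit_algebraMap_PK {s : A} (hs : s ∈ nonZeroDivisors A) :
    IsUnit (algebraMap A (PK A) s) := by
  rw [Pi.isUnit_iff]
  intro p
  rw [algebraMap_PK_apply]
  apply IsUnit.mk0
  intro h0
  rw [map_eq_zero_iff _ (IsFractionRing.injective (A ⧸ p.1) (Kp A p)),
    Ideal.Quotient.eq_zero_iff_mem] at h0
  exact notMem_of_mem_nonZeroDivisors hs p h0

variable (A)

/-- the comparison map from the total fraction ring to the product of fields -/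
noncomputable def ψ : FractionRing A →ₐ[A] PK A :=
  IsLocalization.liftAlgHom (M := nonZeroDivisors A) (f := Algebra.ofId A (PK A))
    (fun y => isUnit_algebraMap_PK y.2)

variable {A}

lemma ψ_algebraMap (a : A) : ψ A (algebraMap A (FractionRing A) a) = algebraMap A (PK A) a :=
  (ψ A).commutes a

lemma ψ_injective : Function.Injective (ψ A) := by
  rw [injective_iff_map_eq_zero]
  intro x hx
  obtain ⟨a, s, rfl⟩ := IsLocalization.exists_mk'_eq (nonZeroDivisors A) x
  have h1 : ψ A (algebraMap A (FractionRing A) a) = 0 := by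
    rw [← IsLocalization.mk'_spec (FractionRing A) a s, map_mul, hx, zero_mul]
  rw [ψ_algebraMap] at h1
  have h2 : a = 0 := by
    apply eq_zero_of_forall_mem
    intro p
    have := congrFun h1 p
    rw [algebraMap_PK_apply, Pi.zero_apply,
      map_eq_zero_iff _ (IsFractionRing.injective (A ⧸ p.1) (Kp A p)),
      Ideal.Quotient.eq_zero_iff_mem] at this
    exact this
  rw [h2, IsLocalization.mk'_zero]


lemma exists_avoid (p : MinP A) : ∃ t : A, t ∉ p.1 ∧ ∀ q : MinP A, q ≠ p → t ∈ q.1 := by
  classical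
  haveI := Fintype.ofFinite (MinP A)
  by_contra hcon
  push Not at hcon
  have hle : (Finset.univ.erase p).inf (fun q : MinP A => q.1) ≤ p.1 := by
    intro t ht
    by_contra htp
    obtain ⟨q, hq, htq⟩ := hcon t htp
    exact htq (Finset.inf_le (f := fun q : MinP A => q.1)
      (Finset.mem_erase.mpr ⟨hq, Finset.mem_univ _⟩) ht)
  rw [Ideal.IsPrime.inf_le' inferInstance] at hle
  obtain ⟨q, hq, hqp⟩ := hle
  have hq' := (Finset.mem_erase.mp hq).1
  have : p.1 ≤ q.1 := p.2.2 ⟨inferInstance, bot_le⟩ hqp
  exact hq' (Subtype.ext (le_antisymm hqp this))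

lemma algebraMap_Kp_ne_zero (p : MinP A) {c : A} (hc : c ∉ p.1) :
    algebraMap (A ⧸ p.1) (Kp A p) (Ideal.Quotient.mk p.1 c) ≠ 0 := by
  intro h0
  rw [map_eq_zero_iff _ (IsFractionRing.injective (A ⧸ p.1) (Kp A p)),
    Ideal.Quotient.eq_zero_iff_mem] at h0
  exact hc h0

lemma ψ_surjective : Function.Surjective (ψ A) := by
  classical
  haveI := Fintype.ofFinite (MinP A)
  intro y
  have hrep : ∀ p : MinP A, ∃ a b : A, b ∉ p.1 ∧
      y p * algebraMap (A ⧸ p.1) (Kp A p) (Ideal.Quotient.mk p.1 b) =
        algebraMap (A ⧸ p.1) (Kp A p) (Ideal.Quotient.mk p.1 a) := by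
    intro p
    obtain ⟨x, d, hxd⟩ := IsLocalization.exists_mk'_eq (nonZeroDivisors (A ⧸ p.1)) (y p)
    obtain ⟨a, rfl⟩ := Ideal.Quotient.mk_surjective x
    obtain ⟨b, hb⟩ := Ideal.Quotient.mk_surjective (d : A ⧸ p.1)
    refine ⟨a, b, ?_, ?_⟩
    · intro hbp
      have : (d : A ⧸ p.1) = 0 := by rw [← hb]; exact Ideal.Quotient.eq_zero_iff_mem.mpr hbp
      exact nonZeroDivisors.coe_ne_zero d this
    · rw [hb, ← hxd, IsLocalization.mk'_spec]
  choose a b hb hab using hrep
  choose t ht ht' using fun p : MinP A => exists_avoid p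
  let s : A := ∑ p, t p * b p
  let n : A := ∑ p, t p * a p
  have hmod : ∀ (c : MinP A → A) (p : MinP A),
      Ideal.Quotient.mk p.1 (∑ q, t q * c q) = Ideal.Quotient.mk p.1 (t p * c p) := by
    intro c p
    rw [map_sum, Finset.sum_eq_single p]
    · intro q _ hq
      rw [Ideal.Quotient.eq_zero_iff_mem]
      exact Ideal.mul_mem_right _ _ (ht' q p (Ne.symm hq))
    · intro h; exact absurd (Finset.mem_univ p) h
  have hs : s ∈ nonZeroDivisors A := mem_nonZeroDivisors_of_forall_notMem (fun p hsp => by
    have h1 := hmod b p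
    rw [Ideal.Quotient.eq_zero_iff_mem.mpr hsp] at h1
    have h2 : t p * b p ∈ p.1 := Ideal.Quotient.eq_zero_iff_mem.mp h1.symm
    rcases Ideal.IsPrime.mem_or_mem inferInstance h2 with h | h
    exacts [ht p h, hb p h])
  refine ⟨IsLocalization.mk' (FractionRing A) n ⟨s, hs⟩, ?_⟩
  funext p
  have h1 : ψ A (IsLocalization.mk' (FractionRing A) n ⟨s, hs⟩) * algebraMap A (PK A) s =
      algebraMap A (PK A) n := by
    rw [← ψ_algebraMap, ← ψ_algebraMap, ← map_mul, IsLocalization.mk'_spec]
  have h2 := congrFun h1 p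
  rw [Pi.mul_apply, algebraMap_PK_apply, algebraMap_PK_apply, hmod b p, hmod a p,
    map_mul, map_mul, map_mul, map_mul, ← hab p] at h2
  have hT := algebraMap_Kp_ne_zero p (ht p)
  have hB := algebraMap_Kp_ne_zero p (hb p)
  have h3 : (ψ A (IsLocalization.mk' (FractionRing A) n ⟨s, hs⟩) p - y p) *
      (algebraMap (A ⧸ p.1) (Kp A p) (Ideal.Quotient.mk p.1 (t p)) *
        algebraMap (A ⧸ p.1) (Kp A p) (Ideal.Quotient.mk p.1 (b p))) = 0 := by
    rw [sub_mul, h2]; ring
  rcases mul_eq_zero.mp h3 with h | h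
  · exact sub_eq_zero.mp h
  · exact absurd h (mul_ne_zero hT hB)


section Integral

open Polynomial

lemma isIntegral_coord {x : FractionRing A} (hx : IsIntegral A x) (p : MinP A) :
    IsIntegral (A ⧸ p.1) (ψ A x p) := by
  have h1 : IsIntegral A (ψ A x) := hx.map (ψ A)
  have h2 : IsIntegral A (ψ A x p) := h1.map (Pi.evalAlgHom A (Kp A) p)
  exact h2.tower_top

lemma isIntegral_of_quotient (p : MinP A) {b : Kp A p} (hb : IsIntegral (A ⧸ p.1) b) :
    IsIntegral A b := by
  obtain ⟨f, hf, hfb⟩ := hb
  have hl : f ∈ Polynomial.lifts (Ideal.Quotient.mk p.1) := by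
    rw [Polynomial.mem_lifts]
    exact Polynomial.map_surjective _ Ideal.Quotient.mk_surjective f
  obtain ⟨q, hq, -, hqm⟩ := Polynomial.lifts_and_natDegree_eq_and_monic hl hf
  refine ⟨q, hqm, ?_⟩
  rw [← hq, Polynomial.eval₂_map] at hfb
  rw [IsScalarTower.algebraMap_eq A (A ⧸ p.1) (Kp A p)]
  exact hfb

lemma isIntegral_single (p : MinP A) {b : Kp A p} (hb : IsIntegral A b) :
    IsIntegral A (Pi.single p b : PK A) := by
  classical
  obtain ⟨f, hf, hfb⟩ := hb
  refine ⟨f * X, hf.mul monic_X, ?_⟩
  rw [← Polynomial.aeval_def, map_mul, Polynomial.aeval_X]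
  funext q
  rw [Pi.mul_apply, Pi.zero_apply]
  by_cases hq : q = p
  · subst hq
    have h1 : (Polynomial.aeval (Pi.single q b : PK A) f) q = Polynomial.aeval b f := by
      have := Polynomial.aeval_algHom_apply (Pi.evalAlgHom A (Kp A) q) (Pi.single q b : PK A) f
      rw [Pi.evalAlgHom_apply, Pi.single_eq_same] at this
      exact this.symm
    rw [h1, Polynomial.aeval_def, hfb, zero_mul]
  · rw [Pi.single_eq_of_ne hq, mul_zero]

lemma isIntegral_of_coord {x : FractionRing A}
    (hx : ∀ p : MinP A, IsIntegral (A ⧸ p.1) (ψ A x p)) : IsIntegral A x := by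
  classical
  haveI := Fintype.ofFinite (MinP A)
  rw [← isIntegral_algHom_iff (ψ A) ψ_injective]
  have : ψ A x = ∑ p, Pi.single p (ψ A x p) := by
    funext q
    rw [Finset.sum_apply, Finset.sum_eq_single q]
    · rw [Pi.single_eq_same]
    · intro p _ hp
      rw [Pi.single_eq_of_ne (Ne.symm hp)]
    · intro h; exact absurd (Finset.mem_univ q) h
  rw [this]
  exact IsIntegral.sum _ (fun p _ => isIntegral_single p (isIntegral_of_quotient p (hx p)))

end Integral


section Finite

variable (A) in
/-- the normalization of `A/p` -/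
abbrev Bp (p : MinP A) := integralClosure (A ⧸ p.1) (Kp A p)

variable (A) in
/-- the integral closure of `A` in its total fraction ring -/
abbrev A' := integralClosure A (FractionRing A)

/-- the `A`-linear injection `A' → ∏ B_p` -/
noncomputable def toPi : A' A →ₗ[A] (∀ p : MinP A, Bp A p) where
  toFun x p := ⟨ψ A x.1 p, isIntegral_coord x.2 p⟩
  map_add' x y := by
    funext p
    apply Subtype.ext
    simp
  map_smul' a x := by
    funext p
    apply Subtype.ext
    simp

lemma toPi_apply (x : A' A) (p : MinP A) : (toPi x p : Kp A p) = ψ A x.1 p := rfl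

lemma toPi_injective : Function.Injective (toPi (A := A)) := by
  intro x y hxy
  apply Subtype.ext
  apply ψ_injective
  funext p
  have := congrArg (fun z => (z p : Kp A p)) hxy
  exact this

theorem finite_integralClosure
    (hfin : ∀ p : MinP A, Module.Finite (A ⧸ p.1) (Bp A p)) :
    Module.Finite A (A' A) := by
  haveI : ∀ p : MinP A, Module.Finite A (Bp A p) := fun p => by
    haveI := hfin p
    exact Module.Finite.trans (A ⧸ p.1) (Bp A p)
  haveI := Fintype.ofFinite (MinP A)
  exact Module.Finite.of_injective toPi toPi_injective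

end Finite


section Delta

theorem isFiniteLength_quotient [Ring.KrullDimLE 1 A] [Module.Finite A (A' A)] :
    IsFiniteLength A ((A' A) ⧸ LinearMap.range (Algebra.linearMap A (A' A))) := by
  classical
  obtain ⟨S, hS⟩ := (Module.Finite.fg_top : (⊤ : Submodule A (A' A)).FG)
  obtain ⟨b, hb⟩ := IsLocalization.exist_integer_multiples_of_finset (nonZeroDivisors A)
    (S.image (fun x : A' A => (x : FractionRing A)))
  have hkill : ∀ x : A' A, (b : A) • x ∈ LinearMap.range (Algebra.linearMap A (A' A)) := by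
    intro x
    have hx : x ∈ Submodule.span A (S : Set (A' A)) := by rw [hS]; trivial
    induction hx using Submodule.span_induction with
    | mem x hx =>
      obtain ⟨a, ha⟩ := hb _ (Finset.mem_image_of_mem _ hx)
      refine ⟨a, Subtype.ext ?_⟩
      simpa using ha
    | zero => simp
    | add x y _ _ hx hy => rw [smul_add]; exact add_mem hx hy
    | smul a x _ hx => rw [smul_comm]; exact Submodule.smul_mem _ _ hx
  apply Groth.Agent.Helper5.HS.isFiniteLength_of_support
  intro q hq
  rw [Module.mem_support_iff_of_finite] at hq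
  have hbq : (b : A) ∈ q.asIdeal := hq (by
    rw [Module.mem_annihilator]
    intro n
    obtain ⟨x, rfl⟩ := Submodule.Quotient.mk_surjective _ n
    rw [← Submodule.Quotient.mk_smul, Submodule.Quotient.mk_eq_zero]
    exact hkill x)
  rcases Ring.krullDimLE_one_iff.mp ‹_› q.asIdeal q.isPrime with h | h
  · exact absurd hbq (notMem_of_mem_nonZeroDivisors b.2 ⟨q.asIdeal, h⟩)
  · exact h

end Delta


section Local

/-- the projection `A' → B_p` as a ring homomorphism -/
noncomputable def πp (p : MinP A) : A' A →+* Bp A p where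
  toFun x := toPi x p
  map_one' := Subtype.ext (by simp [toPi_apply])
  map_mul' x y := Subtype.ext (by simp [toPi_apply])
  map_zero' := Subtype.ext (by simp [toPi_apply])
  map_add' x y := Subtype.ext (by simp [toPi_apply])

lemma πp_apply (p : MinP A) (x : A' A) : (πp p x : Kp A p) = ψ A x.1 p := rfl

lemma exists_single (p : MinP A) (b : Bp A p) :
    ∃ x : A' A, ψ A x.1 p = (b : Kp A p) ∧ ∀ q, q ≠ p → ψ A x.1 q = 0 := by
  classical
  obtain ⟨x, hx⟩ := ψ_surjective (A := A) (Pi.single p (b : Kp A p))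
  refine ⟨⟨x, isIntegral_of_coord (fun q => ?_)⟩, ?_, ?_⟩
  · rw [hx]
    by_cases hq : q = p
    · subst hq
      rw [Pi.single_eq_same]
      exact b.2
    · rw [Pi.single_eq_of_ne hq]
      exact isIntegral_zero
  · change ψ A x p = _
    rw [hx, Pi.single_eq_same]
  · intro q hq
    change ψ A x q = _
    rw [hx, Pi.single_eq_of_ne hq]

lemma πp_surjective (p : MinP A) : Function.Surjective (πp p) := by
  intro b
  obtain ⟨x, hx, -⟩ := exists_single p b
  exact ⟨x, Subtype.ext hx⟩

/-- the idempotent of `A'` cutting out the factor `B_p` -/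
noncomputable def ε (p : MinP A) : A' A := (exists_single p (1 : Bp A p)).choose

lemma ψ_ε_same (p : MinP A) : ψ A (ε p).1 p = 1 :=
  (exists_single p (1 : Bp A p)).choose_spec.1

lemma ψ_ε_ne (p : MinP A) {q : MinP A} (hq : q ≠ p) : ψ A (ε p).1 q = 0 :=
  (exists_single p (1 : Bp A p)).choose_spec.2 q hq

lemma ε_mul_eq_iff (p : MinP A) (x y : A' A) : πp p x = πp p y ↔ ε p * x = ε p * y := by
  constructor
  · intro h
    apply Subtype.ext
    apply ψ_injective
    have h' : ψ A x.1 p = ψ A y.1 p := congrArg Subtype.val h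
    change ψ A ((ε p).1 * x.1) = ψ A ((ε p).1 * y.1)
    rw [map_mul, map_mul]
    funext q
    rw [Pi.mul_apply, Pi.mul_apply]
    by_cases hq : q = p
    · subst hq
      rw [h']
    · rw [ψ_ε_ne p hq, zero_mul, zero_mul]
  · intro h
    have h1 : πp p (ε p) = 1 := Subtype.ext (ψ_ε_same p)
    have := congrArg (πp p) h
    rwa [map_mul, map_mul, h1, one_mul, one_mul] at this

lemma ε_idem (p : MinP A) : IsIdempotentElem (ε p) := by
  apply Subtype.ext
  apply ψ_injective
  change ψ A ((ε p).1 * (ε p).1) = ψ A (ε p).1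
  rw [map_mul]
  funext q
  rw [Pi.mul_apply]
  by_cases hq : q = p
  · subst hq
    rw [ψ_ε_same, one_mul]
  · rw [ψ_ε_ne p hq, zero_mul]

lemma sum_ε [Fintype (MinP A)] : ∑ p : MinP A, ε p = 1 := by
  apply Subtype.ext
  apply ψ_injective
  have h1 : ((∑ p : MinP A, ε p : A' A) : FractionRing A) = ∑ p : MinP A, (ε p).1 := by
    simp
  rw [h1, map_sum]
  funext q
  rw [Finset.sum_apply, Finset.sum_eq_single q]
  · rw [ψ_ε_same]; simp
  · intro p _ hp
    exact ψ_ε_ne p (Ne.symm hp)
  · intro h; exact absurd (Finset.mem_univ q) h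


theorem localization_normal (P : Ideal (A' A)) [hP : P.IsPrime] :
    IsDomain (Localization.AtPrime P) ∧ IsIntegrallyClosed (Localization.AtPrime P) := by
  classical
  haveI := Fintype.ofFinite (MinP A)
  -- choose the factor
  obtain ⟨p, hp⟩ : ∃ p : MinP A, ε p ∉ P := by
    by_contra hcon
    push Not at hcon
    have : (1 : A' A) ∈ P := by
      rw [← sum_ε]
      exact Ideal.sum_mem _ (fun p _ => hcon p)
    exact hP.ne_top ((Ideal.eq_top_iff_one _).mpr this)
  have hker : RingHom.ker (πp p) ≤ P := by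
    intro x hx
    rw [RingHom.mem_ker] at hx
    have h0 : πp p x = πp p 0 := by rw [hx, map_zero]
    have h1 := (ε_mul_eq_iff p x 0).mp h0
    rw [mul_zero] at h1
    have : ε p * x ∈ P := by rw [h1]; exact zero_mem _
    exact (hP.mem_or_mem this).resolve_left hp
  let P' : Ideal (Bp A p) := P.map (πp p)
  haveI hP' : P'.IsPrime := Ideal.map_isPrime_of_surjective (πp_surjective p) hker
  have hcomap : P'.comap (πp p) = P := by
    rw [Ideal.comap_map_of_surjective _ (πp_surjective p)]
    exact sup_eq_left.mpr hker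
  letI : Algebra (A' A) (Bp A p) := (πp p).toAlgebra
  haveI : IsLocalization.Away (ε p) (Bp A p) :=
    IsLocalization.away_of_isIdempotentElem_of_mul (ε_idem p)
      (fun x y => ε_mul_eq_iff p x y) (πp_surjective p)
  have hloc : IsLocalization.AtPrime (Localization.AtPrime P')
      (P'.comap (algebraMap (A' A) (Bp A p))) :=
    IsLocalization.isLocalization_isLocalization_atPrime_isLocalization
      (Submonoid.powers (ε p)) (Localization.AtPrime P') P'
  have hcomap' : P'.comap (algebraMap (A' A) (Bp A p)) = P := hcomap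
  have hM : (P'.comap (algebraMap (A' A) (Bp A p))).primeCompl = P.primeCompl := by
    ext x
    change x ∉ P'.comap (algebraMap (A' A) (Bp A p)) ↔ x ∉ P
    rw [hcomap']
  haveI hloc' : IsLocalization P.primeCompl (Localization.AtPrime P') := hM ▸ hloc
  let e : Localization.AtPrime P ≃ₐ[A' A] Localization.AtPrime P' :=
    IsLocalization.algEquiv P.primeCompl _ _
  haveI : IsIntegrallyClosed (Bp A p) :=
    integralClosure.isIntegrallyClosedOfFiniteExtension (Kp A p)
  haveI : IsDomain (Localization.AtPrime P') :=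
    IsLocalization.isDomain_localization P'.primeCompl_le_nonZeroDivisors
  haveI : IsIntegrallyClosed (Localization.AtPrime P') :=
    isIntegrallyClosed_of_isLocalization (Localization.AtPrime P') P'.primeCompl
      P'.primeCompl_le_nonZeroDivisors
  exact ⟨e.toMulEquiv.isDomain _,
    IsIntegrallyClosed.of_equiv (R := Localization.AtPrime P') e.symm.toRingEquiv⟩

end Local

end Groth.Agent.Helper12.NagataDimOne
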