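import Mathlib
import Groth.Agent.Lib.Helper1.NAff1
import Groth.Agent.Lib.Helper7.FinBir
import Groth.Agent.Lib.Helper7.NormFin
import Groth.Agent.Lib.Helper7.NormalConn
import Groth.Agent.Lib.Helper16.Sch.GenEt3
import Groth.Agent.Lib.Helper16.Sch.NormalEtaleSch
import Groth.Agent.Lib.Helper12.NormalExt

/-!
# Finiteness of the relative normalization of a normal Noetherian scheme in an étale scheme
(helper12)

* `isField_stalk_of_maxPt`: the local ring at a maximal point is a field (if it is a domain).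
* `finite_integralClosure_sections_etale`, `isFinite_fromNormalization_of_etale_of_isIntegral`:
  `S` integral normal locally Noetherian, `f : X ⟶ S` étale, `X` Noetherian space: the relative
  normalization of `S` in `X` is finite over `S`.
-/

set_option autoImplicit false
set_option linter.style.haveILetI false
universe u
open CategoryTheory CategoryTheory.Limits AlgebraicGeometry TopologicalSpace

namespace Groth.Agent.Helper12.NormFinSep

open Groth.Agent.Helper7.NormalConn

/-- the local ring at a maximal point is a field as soon as it is a domain -/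
theorem isField_stalk_of_maxPt (X : Scheme.{u}) (ξ : X) [IsDomain (X.presheaf.stalk ξ)]
    (hξ : ξ ∈ maxPts X) : IsField (X.presheaf.stalk ξ) := by
  rw [IsLocalRing.isField_iff_maximalIdeal_eq]
  let j := X.fromSpecStalk ξ
  have hrange : Set.range j = {y | y ⤳ ξ} := Scheme.range_fromSpecStalk
  let η : PrimeSpectrum (X.presheaf.stalk ξ) := ⟨⊥, Ideal.isPrime_bot⟩
  let c : PrimeSpectrum (X.presheaf.stalk ξ) := IsLocalRing.closedPoint _
  have h1 : j η = ξ := by
    apply hξ
    have : j η ∈ Set.range j := ⟨η, rfl⟩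
    rw [hrange] at this
    exact this
  have h2 : j c = ξ := Scheme.fromSpecStalk_closedPoint
  have h3 : η = c := j.isEmbedding.injective (h1.trans h2.symm)
  have h4 := congrArg PrimeSpectrum.asIdeal h3
  exact h4.symm

theorem isIso_piece_of_isEmpty {X Y : Scheme.{u}} (f : X ⟶ Y) (U : Y.Opens) (hemp : IsEmpty U) :
    IsIso (Spec.map (f.normalizationDiagramMap.app (.op U))) := by
  have hbot : U = ⊥ := by
    rw [eq_bot_iff]
    intro x hx
    exact (hemp.false ⟨x, hx⟩).elim
  haveI : Subsingleton Γ(Y, U) := by rw [hbot]; infer_instance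
  haveI : IsEmpty (Spec Γ(Y, U)) := inferInstanceAs (IsEmpty (PrimeSpectrum Γ(Y, U)))
  exact isIso_of_isEmpty _

/-- for `S` integral, `f` flat: maximal points map to the generic point -/
theorem map_maxPt_eq_genericPoint {X S : Scheme.{u}} [IsIntegral S] (f : X ⟶ S) [Flat f]
    (ξ : X) (hξ : ξ ∈ maxPts X) : f ξ = genericPoint S := by
  obtain ⟨x', hx', hfx'⟩ := Flat.generalizingMap f (genericPoint_specializes (f ξ))
  rw [hξ x' hx'] at hfx'
  exact hfx'

theorem isField_stalk_of_eq_genericPoint {S : Scheme.{u}} [IsIntegral S] (y : S)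
    (hy : y = genericPoint S) : IsField (S.presheaf.stalk y) := by
  subst hy
  exact (inferInstance : Field S.functionField).toIsField

set_option backward.isDefEq.respectTransparency false in
/-- field-level finiteness: for a maximal point `ξ` of `X` étale over the integral normal locally
Noetherian `S`, the integral closure of `Γ(S, U)` in the local ring (a field) at `ξ` is finite. -/
theorem finite_integralClosure_stalk {X S : Scheme.{u}} [IsIntegral S] [IsLocallyNoetherian S]
    (hS : ∀ s : S, IsIntegrallyClosed (S.presheaf.stalk s)) (f : X ⟶ S) [Etale f]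
    (U : S.Opens) (hU : IsAffineOpen U) (ξ : X) (hξ : ξ ∈ maxPts X) (hξU : ξ ∈ f ⁻¹ᵁ U) :
    letI := (f.app U ≫ X.presheaf.germ (f ⁻¹ᵁ U) ξ hξU).hom.toAlgebra
    Module.Finite Γ(S, U) (integralClosure Γ(S, U) (X.presheaf.stalk ξ)) := by
  haveI : Nonempty U := ⟨⟨f ξ, hξU⟩⟩
  have hfξ : f ξ = genericPoint S := map_maxPt_eq_genericPoint f ξ hξ
  haveI : IsDomain (S.presheaf.stalk (f ξ)) := inferInstance
  haveI := hS (f ξ)
  haveI : IsDomain (X.presheaf.stalk ξ) :=
    (Groth.Agent.Helper16.NormalEtale.stalk_normal_of_etale f ξ).1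
  have hF : IsField (S.presheaf.stalk (f ξ)) := isField_stalk_of_eq_genericPoint _ hfξ
  have hF' : IsField (X.presheaf.stalk ξ) := isField_stalk_of_maxPt X ξ hξ
  letI := hF.toField
  letI := hF'.toField
  letI algAK : Algebra Γ(S, U) (S.presheaf.stalk (f ξ)) :=
    (S.presheaf.germ U (f ξ) hξU).hom.toAlgebra
  letI algKL : Algebra (S.presheaf.stalk (f ξ)) (X.presheaf.stalk ξ) :=
    (f.stalkMap ξ).hom.toAlgebra
  letI algAL : Algebra Γ(S, U) (X.presheaf.stalk ξ) :=
    (f.app U ≫ X.presheaf.germ (f ⁻¹ᵁ U) ξ hξU).hom.toAlgebra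
  haveI : IsScalarTower Γ(S, U) (S.presheaf.stalk (f ξ)) (X.presheaf.stalk ξ) := by
    refine IsScalarTower.of_algebraMap_eq (fun a => ?_)
    exact (Scheme.Hom.germ_stalkMap_apply f U ξ hξU a).symm
  haveI hfr : IsFractionRing Γ(S, U) (S.presheaf.stalk (f ξ)) :=
    Groth.Agent.Helper7.FinBir.isFractionRing_stalk_of_eq_genericPoint U hU _ hfξ hξU
  haveI : IsIntegrallyClosed Γ(S, U) :=
    Groth.Agent.Helper7.FinBir.isIntegrallyClosed_of_stalk hS U hU
  haveI : IsNoetherianRing Γ(S, U) := IsLocallyNoetherian.component_noetherian ⟨U, hU⟩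
  have hunr : (f.stalkMap ξ).hom.FormallyUnramified := FormallyUnramified.stalkMap f ξ
  obtain ⟨hfin, hsep⟩ :=
    (Groth.Agent.Helper16.GenEt.formallyUnramified_stalkMap_iff_finite_isSeparable f ξ hF hF').mp
      hunr
  haveI : FiniteDimensional (S.presheaf.stalk (f ξ)) (X.presheaf.stalk ξ) := hfin
  haveI : Algebra.IsSeparable (S.presheaf.stalk (f ξ)) (X.presheaf.stalk ξ) := hsep
  exact IsIntegralClosure.finite Γ(S, U) (S.presheaf.stalk (f ξ)) (X.presheaf.stalk ξ) _

set_option backward.isDefEq.respectTransparency false in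
theorem finite_integralClosure_sections_etale {X S : Scheme.{u}} [IsIntegral S]
    [IsLocallyNoetherian S] (hS : ∀ s : S, IsIntegrallyClosed (S.presheaf.stalk s))
    (f : X ⟶ S) [Etale f] [NoetherianSpace X] (U : S.Opens) (hU : IsAffineOpen U) :
    letI := (f.app U).hom.toAlgebra
    Module.Finite Γ(S, U) (integralClosure Γ(S, U) Γ(X, f ⁻¹ᵁ U)) := by
  letI := (f.app U).hom.toAlgebra
  haveI : IsNoetherianRing Γ(S, U) := IsLocallyNoetherian.component_noetherian ⟨U, hU⟩
  haveI : IsReduced X := by
    haveI : ∀ x : X, _root_.IsReduced (X.presheaf.stalk x) := fun x => by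
      haveI : IsDomain (S.presheaf.stalk (f x)) := inferInstance
      haveI := hS (f x)
      haveI := (Groth.Agent.Helper16.NormalEtale.stalk_normal_of_etale f x).1
      infer_instance
    exact isReduced_of_isReduced_stalk X
  let J : Type u := {ξ : X // ξ ∈ maxPts X ∧ ξ ∈ f ⁻¹ᵁ U}
  haveI : Finite J := by
    have h1 : (maxPts X).Finite := finite_maxPts
    exact (h1.subset (fun ξ (hξ : ξ ∈ maxPts X ∧ ξ ∈ f ⁻¹ᵁ U) => hξ.1)).to_subtype
  letI alg : ∀ j : J, Algebra Γ(S, U) (X.presheaf.stalk j.1) := fun j =>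
    (f.app U ≫ X.presheaf.germ (f ⁻¹ᵁ U) j.1 j.2.2).hom.toAlgebra
  let φ : ∀ j : J, Γ(X, f ⁻¹ᵁ U) →ₐ[Γ(S, U)] (X.presheaf.stalk j.1) := fun j =>
    { (X.presheaf.germ (f ⁻¹ᵁ U) j.1 j.2.2).hom with
      commutes' := fun r => rfl }
  refine Groth.Agent.Helper7.NormFin.finite_integralClosure_of_jointly_injective Γ(S, U)
    Γ(X, f ⁻¹ᵁ U) (fun j : J => X.presheaf.stalk j.1) φ ?_ ?_
  · intro a ha
    rw [← AlgebraicGeometry.basicOpen_eq_bot_iff, eq_bot_iff]
    intro z hz
    exfalso
    have hzW : z ∈ f ⁻¹ᵁ U := X.basicOpen_le a hz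
    obtain ⟨ξ, hξ, hsp, -⟩ := exists_maxPt_specializes z
    have hξa : ξ ∈ X.basicOpen a := hsp.mem_open (X.basicOpen a).isOpen hz
    have hξW : ξ ∈ f ⁻¹ᵁ U := X.basicOpen_le a hξa
    have h0 : (X.presheaf.germ (f ⁻¹ᵁ U) ξ hξW).hom a = 0 := ha ⟨ξ, hξ, hξW⟩
    have hu : IsUnit ((X.presheaf.germ (f ⁻¹ᵁ U) ξ hξW).hom a) :=
      (X.mem_basicOpen a ξ hξW).mp hξa
    rw [h0] at hu
    exact not_isUnit_zero hu
  · intro j
    exact finite_integralClosure_stalk hS f U hU j.1 j.2.1 j.2.2

set_option backward.isDefEq.respectTransparency false in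
/-- `S` integral normal locally Noetherian, `f : X ⟶ S` étale with `X` a Noetherian space: the
relative normalization of `S` in `X` is finite over `S`. -/
theorem isFinite_fromNormalization_of_etale_of_isIntegral {X S : Scheme.{u}} [IsIntegral S]
    [IsLocallyNoetherian S] (hS : ∀ s : S, IsIntegrallyClosed (S.presheaf.stalk s))
    (f : X ⟶ S) [Etale f] [QuasiCompact f] [QuasiSeparated f] [NoetherianSpace X] :
    IsFinite f.fromNormalization := by
  rw [Groth.Agent.Helper1.NAff.fromNormalization_iff _ @IsFinite]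
  intro U
  letI := (f.app U.1).hom.toAlgebra
  show IsFinite (Spec.map (CommRingCat.ofHom (algebraMap Γ(S, U.1)
      (integralClosure Γ(S, U.1) Γ(X, f ⁻¹ᵁ U.1)))))
  rw [IsFinite.SpecMap_iff]
  haveI := finite_integralClosure_sections_etale hS f U.1 U.2
  exact RingHom.finite_algebraMap.mpr inferInstance

/-- `S` normal locally Noetherian, `f : X ⟶ S` étale with `X` a Noetherian space: the relative
normalization of `S` in `X` is finite over `S`. -/
theorem isFinite_fromNormalization_of_etale {X S : Scheme.{u}} [IsLocallyNoetherian S]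
    (hS : ∀ s : S, IsDomain (S.presheaf.stalk s) ∧ IsIntegrallyClosed (S.presheaf.stalk s))
    (f : X ⟶ S) [Etale f] [QuasiCompact f] [QuasiSeparated f] [NoetherianSpace X] :
    IsFinite f.fromNormalization := by
  haveI : ∀ x : S, _root_.IsReduced (S.presheaf.stalk x) := fun x => by
    haveI := (hS x).1
    infer_instance
  haveI : IsReduced S := isReduced_of_isReduced_stalk S
  apply IsZariskiLocalAtTarget.of_forall_exists_morphismRestrict (P := @IsFinite) fun y ↦ ?_
  obtain ⟨W, hyW, hWirr⟩ :=
    Groth.Agent.Helper12.NormalExt.exists_irreducible_open S (fun y => (hS y).1) y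
  refine ⟨W, hyW, ?_⟩
  haveI : IrreducibleSpace ↥(W : Scheme.{u}) := Subtype.irreducibleSpace hWirr
  haveI : IsIntegral (W : Scheme.{u}) := isIntegral_of_irreducibleSpace_of_isReduced _
  haveI : IsLocallyNoetherian (W : Scheme.{u}) := isLocallyNoetherian_of_isOpenImmersion W.ι
  have hNW : ∀ v : (W : Scheme.{u}), IsIntegrallyClosed ((W : Scheme.{u}).presheaf.stalk v) := by
    intro v
    haveI := (hS v.1).2
    exact IsIntegrallyClosed.of_equiv (W.stalkIso v).commRingCatIsoToRingEquiv.symm
  haveI : NoetherianSpace ↥(pullback f W.ι) :=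
    (pullback.fst f W.ι).isOpenEmbedding.isInducing.noetherianSpace
  have key : IsFinite (pullback.snd f W.ι).fromNormalization :=
    isFinite_fromNormalization_of_etale_of_isIntegral hNW (pullback.snd f W.ι)
  have h2 : IsFinite (pullback.snd f.fromNormalization W.ι) := by
    have h3 := f.normalizationPullback_snd W.ι
    rw [← IsIso.eq_inv_comp] at h3
    rw [h3]
    infer_instance
  change IsFinite ((pullbackRestrictIsoRestrict _ _).inv ≫ pullback.snd _ _)
  infer_instance

end Groth.Agent.Helper12.NormFinSep
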