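import Mathlib

/-!
# Normalization commutes with localization-type base change (helper12)

Adaptation of Mathlib's `IsIso (f.normalizationPullback g)` for smooth `g` to flat `g` which is
affine-locally a localization.
-/

set_option autoImplicit false
set_option linter.style.haveILetI false
universe u
open CategoryTheory CategoryTheory.Limits AlgebraicGeometry TopologicalSpace

namespace Groth.Agent.Helper12.NormLoc

variable {X S Y : Scheme.{u}} (f : X ⟶ S) (g : Y ⟶ S) [QuasiCompact f] [QuasiSeparated f]

set_option backward.defeqAttrib.useBackward true in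
set_option backward.isDefEq.respectTransparency false in
open TensorProduct in
/-- Normalization commutes with flat base change which is affine-locally a localization. -/
theorem isIso_normalizationPullback_of_isLocalization [Flat g]
    (H : ∀ y : Y, ∃ (U : S.Opens) (V : Y.Opens) (_ : IsAffineOpen U) (_ : IsAffineOpen V)
      (hVU : V ≤ g ⁻¹ᵁ U), y ∈ V ∧ ∃ M : Submonoid Γ(S, U),
        letI := (g.appLE U V hVU).hom.toAlgebra
        IsLocalization M Γ(Y, V)) :
    IsIso (f.normalizationPullback g) := by
  apply IsZariskiLocalAtTarget.of_forall_exists_morphismRestrict (P := .isomorphisms _) fun x ↦ ?_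
  obtain ⟨U, V, hU, hV, hVU, hxV, M, hM⟩ := H (pullback.snd _ g x)
  let W := pullback.snd (Scheme.Hom.fromNormalization f) g ⁻¹ᵁ V
  refine ⟨W, hxV, (isIso_morphismRestrict_iff_isIso_app _ (U := W) (hV.preimage _)).mpr ?_⟩
  have := isIso_pushoutSection_of_isQuasiSeparated_of_flat_right
    (.of_hasPullback f.fromNormalization g) hVU le_rfl (UY := W)
    (by simp_rw [W, ← Scheme.Hom.comp_preimage, pullback.condition, Scheme.Hom.comp_preimage,
      ← Scheme.Hom.preimage_inf, inf_eq_right.mpr hVU]) hU hV
    (hU.preimage f.fromNormalization).isCompact (hU.preimage f.fromNormalization).isQuasiSeparated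
  rw [← @isIso_comp_left_iff _ _ _ _ _ _ _ this,
    ← isIso_comp_left_iff (pushout.congrHom f.fromNormalization.app_eq_appLE rfl).hom]
  algebraize [(f.app U).hom, (g.appLE U V hVU).hom, ((pullback.snd f g).app V).hom]
  haveI : IsLocalization M Γ(Y, V) := hM
  have := isIso_pushoutSection_of_isQuasiSeparated_of_flat_right
    (.of_hasPullback f g) hVU le_rfl (UY := pullback.snd f g ⁻¹ᵁ V)
    (by simp_rw [← Scheme.Hom.comp_preimage, pullback.condition, Scheme.Hom.comp_preimage,
      ← Scheme.Hom.preimage_inf, inf_eq_right.mpr hVU]) hU hV (f.isCompact_preimage hU.isCompact)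
    (f.isQuasiSeparated_preimage hU.isQuasiSeparated)
  let e₀ := (CommRingCat.isPushout_tensorProduct ..).flip.isoPushout ≪≫
    (pushout.congrHom f.app_eq_appLE rfl ≪≫ @asIso _ _ _ _ _ this :)
  let e : Γ(Y, V) ⊗[Γ(S, U)] Γ(X, f ⁻¹ᵁ U) ≃ₐ[Γ(Y, V)] Γ(pullback f g, pullback.snd f g ⁻¹ᵁ V) :=
    { toRingEquiv := e₀.commRingCatIsoToRingEquiv,
      commutes' r := by
        change (CommRingCat.ofHom Algebra.TensorProduct.includeLeftRingHom ≫ e₀.hom) r =
          (pullback.snd f g).app V r
        congr 2
        simp [e₀, pushout.inr_desc_assoc, Scheme.Hom.app_eq_appLE] }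
  let ψ : Γ(Y, V) ⊗[Γ(S, U)] integralClosure Γ(S, U) Γ(X, f ⁻¹ᵁ U) →ₐ[Γ(Y, V)]
      integralClosure Γ(Y, V) Γ(pullback f g, pullback.snd f g ⁻¹ᵁ V) :=
    e.mapIntegralClosure.toAlgHom.comp (TensorProduct.toIntegralClosure _ _ _)
  have hψ : Function.Bijective ψ := e.mapIntegralClosure.bijective.comp
    (TensorProduct.toIntegralClosure_bijective_of_isLocalization M)
  let φ : pushout (f.fromNormalization.app U) (g.appLE U V hVU) ⟶
      Γ((pullback.snd f g).normalization, f.normalizationPullback g ⁻¹ᵁ W) :=
    pushout.map _ _ (CommRingCat.ofHom (algebraMap Γ(S, U) (integralClosure Γ(S, U) Γ(X, f ⁻¹ᵁ U))))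
      (g.appLE U V hVU) (f.normalizationObjIso hU).hom (𝟙 _) (𝟙 _)
      (by simp [Scheme.Hom.fromNormalization_app _ hU]) (by simp) ≫
    (CommRingCat.isPushout_tensorProduct ..).flip.isoPushout.inv ≫
    (RingEquiv.ofBijective ψ.toRingHom hψ).toCommRingCatIso.hom ≫
    ((pullback.snd f g).normalizationObjIso hV).inv ≫
    (pullback.snd f g).normalization.presheaf.map (eqToHom
      (by simp only [W, ← Scheme.Hom.comp_preimage, Scheme.Hom.normalizationPullback_snd])).op
  convert! show IsIso φ by dsimp only [φ]; infer_instance using 1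
  ext1
  · dsimp [φ]
    simp only [Scheme.Hom.app_eq_appLE, colimit.ι_desc_assoc, span_left, PushoutCocone.mk_pt,
      PushoutCocone.mk_ι_app, Category.id_comp, Scheme.Hom.appLE_comp_appLE, eqToHom_op,
      Category.assoc, IsPushout.inl_isoPushout_inv_assoc]
    simp_rw [← Category.assoc, ← IsIso.comp_inv_eq]
    simp only [← Functor.map_inv, inv_eqToHom, Scheme.Hom.appLE_map, IsIso.Iso.inv_inv,
      Category.assoc]
    have : Mono (CommRingCat.ofHom (integralClosure Γ(Y, V)
        Γ(pullback f g, pullback.snd f g ⁻¹ᵁ V)).val.toRingHom) :=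
      ConcreteCategory.mono_of_injective _ Subtype.val_injective
    rw [← cancel_mono (CommRingCat.ofHom (Subalgebra.val _).toRingHom)]
    simp only [Category.assoc, Scheme.Hom.normalizationObjIso_hom_val, Scheme.Hom.appLE_comp_appLE,
      Scheme.Hom.toNormalization_normalizationPullback_fst, ← CommRingCat.ofHom_comp]
    have H : pullback.snd f g ⁻¹ᵁ V ≤ pullback.fst f g ⁻¹ᵁ f ⁻¹ᵁ U := by
      rw [← Scheme.Hom.comp_preimage, pullback.condition, Scheme.Hom.comp_preimage]
      exact Scheme.Hom.preimage_mono _ hVU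
    trans (f.normalizationObjIso hU).hom ≫ CommRingCat.ofHom
        (integralClosure Γ(S, U) Γ(X, f ⁻¹ᵁ U)).val.toRingHom ≫ (pullback.fst f g).appLE _ _ H
    · rw [reassoc_of% Scheme.Hom.normalizationObjIso_hom_val, Scheme.Hom.appLE_comp_appLE]
    · congr 1
      ext x
      change (pullback.fst f g).appLE _ _ H x = _
      trans (CommRingCat.ofHom Algebra.TensorProduct.includeRight.toRingHom ≫ e₀.hom) x
      · congr 2; simp [e₀, pushout.inl_desc_assoc]
      · simp [ψ, toIntegralClosure, e]; rfl
  · dsimp [φ]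
    simp only [Scheme.Hom.app_eq_appLE, colimit.ι_desc_assoc, span_right, PushoutCocone.mk_pt,
      PushoutCocone.mk_ι_app, Category.id_comp, Scheme.Hom.appLE_comp_appLE,
      Scheme.Hom.normalizationPullback_snd, eqToHom_op, IsPushout.inr_isoPushout_inv_assoc]
    simp_rw [← Category.assoc, ← IsIso.comp_inv_eq]
    simp only [← Functor.map_inv, inv_eqToHom, Scheme.Hom.appLE_map, ← Scheme.Hom.app_eq_appLE,
      Scheme.Hom.fromNormalization_app _ hV, IsIso.Iso.inv_inv, Category.assoc, Iso.inv_hom_id,
      Category.comp_id]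
    exact congr(CommRingCat.ofHom $(ψ.comp_algebraMap.symm))

end Groth.Agent.Helper12.NormLoc
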