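import Mathlib
import Groth.Agent.Lib.Helper4.NormalDecomp
import Groth.Agent.Lib.Helper7.NormalSections

/-!
# The relative normalization of a scheme in a normal Noetherian scheme is normal (helper12)

* `isIntegrallyClosed_integralClosure`: the integral closure of `A` in an integrally closed domain
  `B` is integrally closed.
* `stalk_normal_normalization_of_isIntegral`, `stalk_normal_normalization`: for `X` normal with
  Noetherian underlying space and `f : X ⟶ Y` qcqs, all local rings of `f.normalization` are
  integrally closed domains (Stacks 035L).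
-/

set_option autoImplicit false
set_option linter.style.haveILetI false
universe u
open CategoryTheory CategoryTheory.Limits AlgebraicGeometry TopologicalSpace

namespace Groth.Agent.Helper12.NormNormal

theorem isIntegrallyClosed_integralClosure (A B : Type*) [CommRing A] [CommRing B] [IsDomain B]
    [Algebra A B] [IsIntegrallyClosed B] : IsIntegrallyClosed (integralClosure A B) := by
  let L := FractionRing B
  have hinj : Function.Injective (algebraMap (integralClosure A B) L) :=
    (IsFractionRing.injective B L).comp Subtype.val_injective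
  rw [isIntegrallyClosed_iff (FractionRing (integralClosure A B))]
  intro x hx
  have h1 : IsIntegral (integralClosure A B) (IsFractionRing.lift hinj x) := by
    refine IsIntegral.map_of_comp_eq (RingHom.id _) (IsFractionRing.lift hinj) ?_ hx
    ext c
    simp
  have h2 : IsIntegral B (IsFractionRing.lift hinj x) := h1.tower_top
  obtain ⟨b, hb⟩ := IsIntegrallyClosed.isIntegral_iff.mp h2
  have h3 : IsIntegral A (IsFractionRing.lift hinj x) := isIntegral_trans (R := A) _ h1
  have h4 : IsIntegral A b := by
    rw [← hb] at h3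
    exact (isIntegral_algebraMap_iff (IsFractionRing.injective B L)).mp h3
  refine ⟨⟨b, h4⟩, ?_⟩
  apply (IsFractionRing.lift hinj).injective
  rw [IsFractionRing.lift_algebraMap, ← hb]
  rfl

/-- sections of a normal integral scheme with Noetherian space over a nonempty open form an
integrally closed domain -/
theorem isIntegrallyClosed_sections {X : Scheme.{u}} [IsIntegral X] [NoetherianSpace X]
    (hX : Pi1.IsNormalScheme X) (W : X.Opens) [Nonempty W] : IsIntegrallyClosed Γ(X, W) := by
  rw [isIntegrallyClosed_iff (FractionRing Γ(X, W))]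
  intro x hx
  exact Groth.Agent.Helper7.NormalSections.intClosedInTotal_sections X hX W x hx

set_option backward.isDefEq.respectTransparency false in
/-- the relative normalization of `Y` in a normal integral scheme `X` is normal -/
theorem stalk_normal_normalization_of_isIntegral {X Y : Scheme.{u}} [IsIntegral X]
    [NoetherianSpace X] (hX : Pi1.IsNormalScheme X) (f : X ⟶ Y) [QuasiCompact f]
    [QuasiSeparated f] (z : f.normalization) :
    IsDomain (f.normalization.presheaf.stalk z) ∧
      IsIntegrallyClosed (f.normalization.presheaf.stalk z) := by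
  refine ⟨inferInstance, ?_⟩
  obtain ⟨_, ⟨U, hU, rfl⟩, hxU, -⟩ := Y.isBasis_affineOpens.exists_subset_of_mem_open
    (Set.mem_univ (f.fromNormalization z)) isOpen_univ
  have hW : IsAffineOpen (f.fromNormalization ⁻¹ᵁ U) := hU.preimage f.fromNormalization
  have hz : z ∈ f.fromNormalization ⁻¹ᵁ U := hxU
  haveI hdomW : IsDomain Γ(f.normalization, f.fromNormalization ⁻¹ᵁ U) :=
    @IsIntegral.component_integral _ _ (f.fromNormalization ⁻¹ᵁ U) ⟨⟨z, hz⟩⟩
  letI := (f.app U).hom.toAlgebra
  let eC := (f.normalizationObjIso hU).commRingCatIsoToRingEquiv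
  haveI : Nontrivial (integralClosure Γ(Y, U) Γ(X, f ⁻¹ᵁ U)) := eC.symm.symm.injective.nontrivial
  haveI : Nontrivial Γ(X, f ⁻¹ᵁ U) :=
    (Subtype.val_injective : Function.Injective
      (Subtype.val : integralClosure Γ(Y, U) Γ(X, f ⁻¹ᵁ U) → Γ(X, f ⁻¹ᵁ U))).nontrivial
  haveI : Nonempty (f ⁻¹ᵁ U) := by
    by_contra hemp
    rw [not_nonempty_iff] at hemp
    have hbot : f ⁻¹ᵁ U = ⊥ := by
      rw [eq_bot_iff]
      intro x hx
      exact (hemp.false ⟨x, hx⟩).elim
    have : Subsingleton Γ(X, f ⁻¹ᵁ U) := by rw [hbot]; infer_instance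
    exact not_subsingleton _ this
  haveI : IsDomain Γ(X, f ⁻¹ᵁ U) := inferInstance
  haveI : IsIntegrallyClosed Γ(X, f ⁻¹ᵁ U) := isIntegrallyClosed_sections hX _
  haveI := isIntegrallyClosed_integralClosure Γ(Y, U) Γ(X, f ⁻¹ᵁ U)
  haveI : IsIntegrallyClosed Γ(f.normalization, f.fromNormalization ⁻¹ᵁ U) :=
    IsIntegrallyClosed.of_equiv eC.symm
  letI := f.normalization.presheaf.algebra_section_stalk ⟨z, hz⟩
  haveI := hW.isLocalization_stalk ⟨z, hz⟩
  exact isIntegrallyClosed_of_isLocalization _ (hW.primeIdealOf ⟨z, hz⟩).asIdeal.primeCompl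
    (Ideal.primeCompl_le_nonZeroDivisors _)

set_option backward.isDefEq.respectTransparency false in
/-- the relative normalization of `Y` in a normal scheme `X` with Noetherian underlying space is
normal (Stacks 035L) -/
theorem stalk_normal_normalization {X Y : Scheme.{u}} [NoetherianSpace X]
    (hX : Pi1.IsNormalScheme X) (f : X ⟶ Y) [QuasiCompact f] [QuasiSeparated f]
    (z : f.normalization) :
    IsDomain (f.normalization.presheaf.stalk z) ∧
      IsIntegrallyClosed (f.normalization.presheaf.stalk z) := by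
  classical
  have hdom : ∀ x : X, IsDomain (X.presheaf.stalk x) := fun x => (hX x).1
  -- `z` lies in the closure of the image of some irreducible component
  have hzcl : z ∈ closure (Set.range f.toNormalization) :=
    f.toNormalization.denseRange z
  have hfin : (irreducibleComponents X).Finite :=
    NoetherianSpace.finite_irreducibleComponents
  have hrange : Set.range f.toNormalization =
      ⋃ Z ∈ irreducibleComponents X, f.toNormalization '' Z := by
    rw [← Set.image_iUnion₂, ← Set.sUnion_eq_biUnion, sUnion_irreducibleComponents,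
      Set.image_univ]
  rw [hrange, hfin.closure_biUnion] at hzcl
  simp only [Set.mem_iUnion] at hzcl
  obtain ⟨Z, hZ, hzZ⟩ := hzcl
  -- decompose `X = X₁ ⊔ X₂`
  let X₁ : X.Opens := Groth.Agent.Helper4.NormalDecomp.comp X hdom ⟨Z, hZ⟩
  let X₂ : X.Opens := ⟨Zᶜ, (isClosed_of_mem_irreducibleComponents Z hZ).isOpen_compl⟩
  haveI : IsIntegral (X₁ : Scheme.{u}) :=
    Groth.Agent.Helper4.NormalDecomp.isIntegral_comp X hdom ⟨Z, hZ⟩
  have hcompl : IsCompl X₁.ι.opensRange X₂.ι.opensRange := by
    rw [Scheme.Opens.opensRange_ι, Scheme.Opens.opensRange_ι]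
    constructor
    · rw [disjoint_iff, eq_bot_iff]
      rintro x ⟨h1, h2⟩
      exact h2 h1
    · rw [codisjoint_iff, eq_top_iff]
      intro x _
      by_cases hx : x ∈ Z
      · exact Or.inl hx
      · exact Or.inr hx
  obtain ⟨e⟩ := nonempty_isColimit_binaryCofanMk_of_isCompl X₁.ι X₂.ι hcompl
  haveI : NoetherianSpace ↥(X₁ : Scheme.{u}) :=
    inferInstanceAs (NoetherianSpace (X₁ : Set X))
  haveI : NoetherianSpace ↥(X₂ : Scheme.{u}) :=
    inferInstanceAs (NoetherianSpace (X₂ : Set X))
  let iso := f.normalizationCoprodIso e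
  let ι₁ : (X₁.ι ≫ f).normalization ⟶ f.normalization := coprod.inl ≫ iso.hom
  let ι₂ : (X₂.ι ≫ f).normalization ⟶ f.normalization := coprod.inr ≫ iso.hom
  have h1 : (X₁.ι ≫ f).toNormalization ≫ ι₁ = X₁.ι ≫ f.toNormalization :=
    f.toNormalization_inl_normalizationCoprodIso_hom e
  -- `z` is in the image of `ι₁`
  have hz1 : z ∈ Set.range ι₁ := by
    have hcov := (isCompl_range_inl_inr (X₁.ι ≫ f).normalization
      (X₂.ι ≫ f).normalization).2
    rw [codisjoint_iff] at hcov
    have hz' : iso.inv z ∈ (Set.range (coprod.inl : (X₁.ι ≫ f).normalization ⟶ _)) ∪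
        Set.range (coprod.inr : (X₂.ι ≫ f).normalization ⟶ _) := by
      have : iso.inv z ∈ (⊤ : Set _) := trivial
      rw [← hcov] at this
      exact this
    have hisoz : iso.hom (iso.inv z) = z := by
      rw [← Scheme.Hom.comp_apply, iso.inv_hom_id]; rfl
    rcases hz' with ⟨a, ha⟩ | ⟨b, hb⟩
    · refine ⟨a, ?_⟩
      show (coprod.inl ≫ iso.hom) a = z
      rw [Scheme.Hom.comp_apply, ha, hisoz]
    · exfalso
      have hzO : z ∈ Set.range ι₂ := by
        refine ⟨b, ?_⟩
        show (coprod.inr ≫ iso.hom) b = z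
        rw [Scheme.Hom.comp_apply, hb, hisoz]
      have hO : IsOpen (Set.range ι₂) := ι₂.isOpenEmbedding.isOpen_range
      obtain ⟨_, ⟨b', rfl⟩, ⟨x, hxZ, hx⟩⟩ := mem_closure_iff.mp hzZ _ hO hzO
      have hx1 : f.toNormalization x = ι₁ ((X₁.ι ≫ f).toNormalization ⟨x, hxZ⟩) := by
        rw [← Scheme.Hom.comp_apply, h1]
        rfl
      replace hx : f.toNormalization x = ι₂ b' := hx
      rw [hx1] at hx
      have hx2 : (coprod.inl : (X₁.ι ≫ f).normalization ⟶ _)
          ((X₁.ι ≫ f).toNormalization ⟨x, hxZ⟩) = (coprod.inr : (X₂.ι ≫ f).normalization ⟶ _) b' := by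
        have hinj : Function.Injective iso.hom := iso.hom.isOpenEmbedding.injective
        apply hinj
        exact hx
      have hdisj := (isCompl_range_inl_inr (X₁.ι ≫ f).normalization
        (X₂.ι ≫ f).normalization).1
      exact Set.disjoint_iff.mp hdisj ⟨⟨_, hx2⟩, ⟨b', rfl⟩⟩
  obtain ⟨z₁, rfl⟩ := hz1
  -- transfer along the open immersion `ι₁`
  have hX₁ : Pi1.IsNormalScheme (X₁ : Scheme.{u}) := by
    intro v
    haveI := (hX v.1).1
    haveI := (hX v.1).2
    let ev := (X₁.stalkIso v).commRingCatIsoToRingEquiv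
    exact ⟨ev.toMulEquiv.isDomain _, IsIntegrallyClosed.of_equiv ev.symm⟩
  obtain ⟨hd, hic⟩ := stalk_normal_normalization_of_isIntegral hX₁ (X₁.ι ≫ f) z₁
  let eι := (asIso (ι₁.stalkMap z₁)).commRingCatIsoToRingEquiv
  exact ⟨eι.toMulEquiv.isDomain _, IsIntegrallyClosed.of_equiv eι.symm⟩

end Groth.Agent.Helper12.NormNormal
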