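import Mathlib
import Groth.Prelude
import Groth.Agent.Lib.Helper12.OpenSubgrp

set_option autoImplicit false
set_option linter.style.haveILetI false
set_option linter.unusedSectionVars false
universe u
open CategoryTheory CategoryTheory.Limits AlgebraicGeometry MonoidalCategory CartesianMonoidalCategory
  MonObj GrpObj

namespace Groth.Agent.Helper12.NeutralOpen

/-- The functor `Over.pullback g` sends a morphism to a base change of it. -/
theorem isPullback_overPullback_map {C : Type*} [Category C] [HasPullbacks C] {Y Z : C} (g : Z ⟶ Y)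
    {A B : Over Y} (f : A ⟶ B) :
    IsPullback ((Over.pullback g).map f).left (pullback.fst A.hom g) (pullback.fst B.hom g)
      f.left := by
  have hbig : IsPullback (pullback.fst A.hom g) (pullback.snd A.hom g) (f.left ≫ B.hom) g := by
    rw [Over.w f]
    exact IsPullback.of_hasPullback A.hom g
  have hright : IsPullback (pullback.fst B.hom g) (pullback.snd B.hom g) B.hom g :=
    IsPullback.of_hasPullback _ _
  have hl : ((Over.pullback g).map f).left ≫ pullback.snd B.hom g = pullback.snd A.hom g :=
    pullback.lift_snd _ _ _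
  have hf : ((Over.pullback g).map f).left ≫ pullback.fst B.hom g = pullback.fst A.hom g ≫ f.left :=
    pullback.lift_fst _ _ _
  refine IsPullback.of_right (t := hright.flip) ?_ hf
  rw [hl]
  exact hbig.flip

variable {S : Scheme.{u}} {G H : Over S} [GrpObj G] [GrpObj H] (i : H ⟶ G) [IsMonHom i]
  [IsOpenImmersion i.left]

/-- on each fibre, the open subgroup is closed -/
theorem fibre_closed (p : S) : IsClosed ((G.hom.fiberι p) ⁻¹' Set.range i.left) := by
  let c := S.fromSpecResidueField p
  let ip := (Over.pullback c).map i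
  haveI : IsMonHom ip := inferInstance
  have hpb := isPullback_overPullback_map c i
  haveI : IsOpenImmersion ip.left :=
    MorphismProperty.of_isPullback (P := @IsOpenImmersion) hpb.flip inferInstance
  have hcl := Groth.Agent.Helper12.OpenSubgrp.isClosed_range (k := S.residueField p) ip
  have hr : Set.range ip.left = (pullback.fst G.hom c) ⁻¹' Set.range i.left := by
    have h1 : ip.left = hpb.isoPullback.hom ≫ pullback.fst (pullback.fst G.hom c) i.left :=
      (hpb.isoPullback_hom_fst).symm
    rw [h1]
    have h2 : Set.range (hpb.isoPullback.hom ≫ pullback.fst (pullback.fst G.hom c) i.left) =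
        Set.range (pullback.fst (pullback.fst G.hom c) i.left) := by
      rw [Scheme.Hom.comp_base, TopCat.coe_comp, Set.range_comp]
      have : Set.range hpb.isoPullback.hom = Set.univ :=
        Set.range_eq_univ.mpr (hpb.isoPullback.hom.homeomorph.surjective)
      rw [this, Set.image_univ]
    rw [h2, Scheme.Pullback.range_fst]
  show IsClosed ((pullback.fst G.hom c) ⁻¹' Set.range i.left)
  rw [← hr]
  exact hcl

/-- a closed set of `G` cutting out the open subgroup on the fibre over `p` -/
theorem exists_closed (p : S) : ∃ Z : Set G.left, IsClosed Z ∧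
    ∀ x : G.left, G.hom.base x = p → (x ∈ Z ↔ x ∈ Set.range i.left) := by
  obtain ⟨Z, hZ, hZe⟩ := (G.hom.fiberι p).isEmbedding.isInducing.isClosed_iff.mp (fibre_closed i p)
  refine ⟨Z, hZ, ?_⟩
  intro x hx
  have hx' : x ∈ Set.range (G.hom.fiberι p) := by
    rw [Scheme.Hom.range_fiberι]
    exact hx
  obtain ⟨z, rfl⟩ := hx'
  exact Set.ext_iff.mp hZe z

theorem unit_mem_fibre (G : Over S) [GrpObj G] (p : (𝟙_ (Over S)).left) :
    G.hom.base (η[G].left.base p) = (𝟙_ (Over S)).hom.base p := by
  have h := Over.w η[G]
  rw [← Scheme.Hom.comp_apply, h]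

theorem i_unit (p : (𝟙_ (Over S)).left) : i.left.base (η[H].left.base p) = η[G].left.base p := by
  have h : η[H] ≫ i = η[G] := IsMonHom.one_hom i
  rw [← Scheme.Hom.comp_apply, ← Over.comp_left, h]

theorem cc_subset_range (p : (𝟙_ (Over S)).left) :
    connectedComponentIn (G.hom.base ⁻¹' {(𝟙_ (Over S)).hom.base p}) (η[G].left.base p) ⊆
      Set.range i.left.base := by
  set F := G.hom.base ⁻¹' {(𝟙_ (Over S)).hom.base p} with hF
  set e := η[G].left.base p with he
  obtain ⟨Z, hZ, hZe⟩ := exists_closed i ((𝟙_ (Over S)).hom.base p)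
  have hU : IsOpen (Set.range i.left.base) := i.left.isOpenEmbedding.isOpen_range
  have hC : _root_.IsPreconnected (connectedComponentIn F e) := isPreconnected_connectedComponentIn
  have hCF : connectedComponentIn F e ⊆ F := connectedComponentIn_subset F e
  have heF : e ∈ F := unit_mem_fibre G p
  have heC : e ∈ connectedComponentIn F e := mem_connectedComponentIn heF
  have heU : e ∈ Set.range i.left.base := ⟨η[H].left.base p, i_unit i p⟩
  by_contra hne
  rw [Set.not_subset] at hne
  obtain ⟨x, hxC, hxU⟩ := hne
  have hxF := hCF hxC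
  have hxZ : x ∈ Zᶜ := fun hz => hxU ((hZe x hxF).mp hz)
  have hcov : connectedComponentIn F e ⊆ Set.range i.left.base ∪ Zᶜ := by
    intro y hy
    by_cases hyU : y ∈ Set.range i.left.base
    · exact Or.inl hyU
    · exact Or.inr (fun hz => hyU ((hZe y (hCF hy)).mp hz))
  obtain ⟨y, hyC, hyU, hyZ⟩ := hC _ _ hU hZ.isOpen_compl hcov ⟨e, heC, heU⟩ ⟨x, hxC, hxZ⟩
  exact hyZ ((hZe y (hCF hyC)).mpr hyU)

theorem main :
    SGA3x.neutralSet G ⊆ Set.range i.left.base ∧
      i.left.base '' SGA3x.neutralSet H = SGA3x.neutralSet G := by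
  have h1 : SGA3x.neutralSet G ⊆ Set.range i.left.base := by
    intro x hx
    unfold SGA3x.neutralSet at hx
    obtain ⟨p, hp⟩ := Set.mem_iUnion.mp hx
    exact cc_subset_range i p hp
  refine ⟨h1, ?_⟩
  have hiH : ∀ y : H.left, G.hom.base (i.left.base y) = H.hom.base y := by
    intro y
    rw [← Scheme.Hom.comp_apply, Over.w i]
  apply Set.Subset.antisymm
  · rintro _ ⟨y, hy, rfl⟩
    unfold SGA3x.neutralSet at hy ⊢
    obtain ⟨p, hp⟩ := Set.mem_iUnion.mp hy
    refine Set.mem_iUnion.mpr ⟨p, ?_⟩
    set FH := H.hom.base ⁻¹' {(𝟙_ (Over S)).hom.base p}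
    set FG := G.hom.base ⁻¹' {(𝟙_ (Over S)).hom.base p}
    have hC : _root_.IsPreconnected (i.left.base '' connectedComponentIn FH (η[H].left.base p)) :=
      isPreconnected_connectedComponentIn.image _ i.left.base.hom.continuous.continuousOn
    have hsub : i.left.base '' connectedComponentIn FH (η[H].left.base p) ⊆ FG := by
      rintro _ ⟨z, hz, rfl⟩
      have := connectedComponentIn_subset FH _ hz
      show G.hom.base (i.left.base z) = _
      rw [hiH]
      exact this
    have hmem : η[G].left.base p ∈ i.left.base '' connectedComponentIn FH (η[H].left.base p) :=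
      ⟨η[H].left.base p, mem_connectedComponentIn (unit_mem_fibre H p), i_unit i p⟩
    exact hC.subset_connectedComponentIn hmem hsub ⟨y, hp, rfl⟩
  · intro x hx
    obtain ⟨y, rfl⟩ := h1 hx
    refine ⟨y, ?_, rfl⟩
    unfold SGA3x.neutralSet at hx ⊢
    obtain ⟨p, hp⟩ := Set.mem_iUnion.mp hx
    refine Set.mem_iUnion.mpr ⟨p, ?_⟩
    set FH := H.hom.base ⁻¹' {(𝟙_ (Over S)).hom.base p}
    set FG := G.hom.base ⁻¹' {(𝟙_ (Over S)).hom.base p}
    have hD : _root_.IsPreconnected
        (i.left.base ⁻¹' connectedComponentIn FG (η[G].left.base p)) :=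
      isPreconnected_connectedComponentIn.preimage_of_isOpenMap
        i.left.isOpenEmbedding.injective i.left.isOpenEmbedding.isOpenMap (cc_subset_range i p)
    have hsub : i.left.base ⁻¹' connectedComponentIn FG (η[G].left.base p) ⊆ FH := by
      intro z hz
      have := connectedComponentIn_subset FG _ hz
      show H.hom.base z = _
      rw [← hiH]
      exact this
    have hmem : η[H].left.base p ∈
        i.left.base ⁻¹' connectedComponentIn FG (η[G].left.base p) := by
      show i.left.base (η[H].left.base p) ∈ connectedComponentIn FG (η[G].left.base p)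
      rw [i_unit i p]
      exact mem_connectedComponentIn (unit_mem_fibre G p)
    exact hD.subset_connectedComponentIn hmem hsub hp

end Groth.Agent.Helper12.NeutralOpen
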