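import Mathlib.RingTheory.Ideal.MinimalPrime.Localization
import Mathlib.RingTheory.Ideal.MinimalPrime.Noetherian
import Mathlib.RingTheory.Finiteness.Ideal
import Mathlib.RingTheory.Noetherian.Basic
import Mathlib.RingTheory.Noetherian.Nilpotent
import Mathlib.RingTheory.Localization.AtPrime.Basic
import Mathlib.RingTheory.KrullDimension.Basic
import Mathlib.RingTheory.Spectrum.Prime.Basic
import Mathlib.Order.KrullDimension
import Mathlib.Algebra.Algebra.Pi
import Mathlib.Tactic

/-!
One-dimensional Noetherian local rings and the product of the localizations at minimal primes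
(helper12).
-/

set_option autoImplicit false
universe u

namespace Groth.Agent.Helper12

/-- In a one-dimensional Noetherian local ring, an ideal contained in no minimal prime contains a
power of the maximal ideal. -/
theorem exists_maximalIdeal_pow_le_of_not_le_minimalPrimes (A : Type u) [CommRing A]
    [IsLocalRing A] [IsNoetherianRing A] (hdim : ringKrullDim A = 1) (J : Ideal A)
    (hmin : ∀ q ∈ minimalPrimes A, ∃ s ∈ J, s ∉ q) :
    ∃ N : ℕ, IsLocalRing.maximalIdeal A ^ N ≤ J := by
  classical
  have hrad : IsLocalRing.maximalIdeal A ≤ J.radical := by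
    rw [Ideal.radical_eq_sInf]
    refine le_sInf ?_
    rintro q ⟨hJq, hq⟩
    by_contra hmq
    have hqm : q ≤ IsLocalRing.maximalIdeal A := IsLocalRing.le_maximalIdeal hq.ne_top
    have hqltm : q < IsLocalRing.maximalIdeal A := lt_of_le_not_ge hqm hmq
    obtain ⟨p₀, hp₀, hp₀q⟩ := Ideal.exists_minimalPrimes_le (bot_le : (⊥ : Ideal A) ≤ q)
    have hp₀' : p₀ ∈ minimalPrimes A := hp₀
    obtain ⟨s, hsJ, hsp⟩ := hmin p₀ hp₀'
    have hp₀ltq : p₀ < q := lt_of_le_of_ne hp₀q (fun h => hsp (h ▸ hJq hsJ))
    let x0 : PrimeSpectrum A := ⟨p₀, hp₀.1.1⟩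
    let x1 : PrimeSpectrum A := ⟨q, hq⟩
    let x2 : PrimeSpectrum A := ⟨IsLocalRing.maximalIdeal A, inferInstance⟩
    have h01 : x0 < x1 := hp₀ltq
    have h12 : x1 < x2 := hqltm
    let s0 : LTSeries (PrimeSpectrum A) := RelSeries.singleton _ x0
    let s1 : LTSeries (PrimeSpectrum A) := s0.snoc x1 (by simpa [s0] using h01)
    let s2 : LTSeries (PrimeSpectrum A) := s1.snoc x2 (by simpa [s1] using h12)
    have hlen : s2.length = 2 := by simp [s2, s1, s0]
    have h2 := Order.LTSeries.length_le_krullDim s2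
    rw [hlen] at h2
    have h3 : Order.krullDim (PrimeSpectrum A) = 1 := hdim
    rw [h3] at h2
    exact absurd h2 (by norm_cast)
  obtain ⟨N, hN⟩ := Ideal.exists_radical_pow_le_of_fg J (IsNoetherian.noetherian _)
  exact ⟨N, (Ideal.pow_right_mono hrad N).trans hN⟩

/-- An element of a minimal prime becomes nilpotent in the localization at that prime. -/
theorem exists_pow_map_eq_zero_of_mem_minimalPrimes {A : Type u} [CommRing A] (q : Ideal A)
    [q.IsPrime] (hq : q ∈ minimalPrimes A) (z : A) (hz : z ∈ q) :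
    ∃ n : ℕ, algebraMap A (Localization.AtPrime q) (z ^ n) = 0 := by
  have h := IsLocalization.AtPrime.radical_map_of_mem_minimalPrimes
    (A := Localization.AtPrime q) q ⊥ hq
  rw [Ideal.map_bot] at h
  have hz' : algebraMap A (Localization.AtPrime q) z ∈
      (⊥ : Ideal (Localization.AtPrime q)).radical := by
    rw [h]; exact Ideal.mem_map_of_mem _ hz
  obtain ⟨n, hn⟩ := hz'
  exact ⟨n, by rw [map_pow]; simpa using hn⟩

/-- index type: minimal primes -/
abbrev MinP (A : Type u) [CommRing A] := {p : PrimeSpectrum A // p.asIdeal ∈ minimalPrimes A}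

/-- product of the localizations at the minimal primes -/
abbrev ProdLoc (A : Type u) [CommRing A] := ∀ p : MinP A, Localization.AtPrime p.1.asIdeal

instance (A : Type u) [CommRing A] [IsNoetherianRing A] : Finite (MinP A) := by
  have hfin : (minimalPrimes A).Finite := minimalPrimes.finite_of_isNoetherianRing A
  have := hfin.to_subtype
  exact Finite.of_injective (fun p : MinP A => (⟨p.1.asIdeal, p.2⟩ : minimalPrimes A)) (by
    intro p p' h
    apply Subtype.ext; apply PrimeSpectrum.ext
    exact congrArg Subtype.val h)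

/-- The ideal of denominators of an element of the product of localizations. -/
def denomIdeal (A : Type u) [CommRing A] (x : ProdLoc A) : Ideal A where
  carrier := {b | algebraMap A (ProdLoc A) b * x ∈ (algebraMap A (ProdLoc A)).range}
  add_mem' := by
    intro b c hb hc
    show algebraMap A (ProdLoc A) (b + c) * x ∈ (algebraMap A (ProdLoc A)).range
    rw [map_add, add_mul]; exact add_mem hb hc
  zero_mem' := by
    show algebraMap A (ProdLoc A) 0 * x ∈ (algebraMap A (ProdLoc A)).range
    rw [map_zero, zero_mul]; exact zero_mem _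
  smul_mem' := by
    intro c b hb
    show algebraMap A (ProdLoc A) (c • b) * x ∈ (algebraMap A (ProdLoc A)).range
    rw [smul_eq_mul, map_mul, mul_assoc]
    exact mul_mem ⟨c, rfl⟩ hb

theorem denomIdeal_not_le (A : Type u) [CommRing A] [IsNoetherianRing A] (x : ProdLoc A)
    (p : MinP A) : ∃ s ∈ denomIdeal A x, s ∉ p.1.asIdeal := by
  classical
  let _ : Fintype (MinP A) := Fintype.ofFinite _
  have hpp : p.1.asIdeal.IsPrime := p.1.isPrime
  have hz : ∀ q' : MinP A, q' ≠ p → ∃ z : A, z ∈ q'.1.asIdeal ∧ z ∉ p.1.asIdeal := by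
    intro q' hne
    by_contra hcon; push Not at hcon
    have hle : q'.1.asIdeal ≤ p.1.asIdeal := fun z hz => hcon z hz
    have := p.2.2 ⟨q'.1.isPrime, bot_le⟩ hle
    exact hne (Subtype.ext (PrimeSpectrum.ext (le_antisymm hle this)))
  have hw : ∀ q' : MinP A, q' ≠ p → ∃ w : A, w ∉ p.1.asIdeal ∧
      algebraMap A (Localization.AtPrime q'.1.asIdeal) w = 0 := by
    intro q' hne
    obtain ⟨z, hz1, hz2⟩ := hz q' hne
    have := q'.1.isPrime
    obtain ⟨n, hn⟩ := exists_pow_map_eq_zero_of_mem_minimalPrimes q'.1.asIdeal q'.2 z hz1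
    exact ⟨z ^ n, fun h => hz2 (hpp.mem_of_pow_mem n h), hn⟩
  let w : MinP A → A := fun q' => if h : q' = p then 1 else (hw q' h).choose
  have hw1 : ∀ q', w q' ∉ p.1.asIdeal := by
    intro q'; by_cases h : q' = p
    · simp only [w, dif_pos h]
      exact fun h1 => hpp.ne_top ((Ideal.eq_top_iff_one _).2 h1)
    · simp only [w, dif_neg h]; exact (hw q' h).choose_spec.1
  have hw2 : ∀ q', q' ≠ p → algebraMap A (Localization.AtPrime q'.1.asIdeal) (w q') = 0 := by
    intro q' h; simp only [w, dif_neg h]; exact (hw q' h).choose_spec.2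
  have ht1 : (∏ q' : MinP A, w q') ∉ p.1.asIdeal := by
    intro h
    obtain ⟨q', -, hq'⟩ := (hpp.prod_mem_iff).1 h
    exact hw1 q' hq'
  have ht2 : ∀ q' : MinP A, q' ≠ p →
      algebraMap A (Localization.AtPrime q'.1.asIdeal) (∏ q' : MinP A, w q') = 0 := by
    intro q' h
    rw [map_prod]
    exact Finset.prod_eq_zero (Finset.mem_univ q') (hw2 q' h)
  obtain ⟨y, s, hys⟩ := IsLocalization.exists_mk'_eq p.1.asIdeal.primeCompl (x p)
  refine ⟨s * ∏ q' : MinP A, w q', ?_, ?_⟩
  · show algebraMap A (ProdLoc A) (s * ∏ q' : MinP A, w q') * x ∈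
      (algebraMap A (ProdLoc A)).range
    refine ⟨(∏ q' : MinP A, w q') * y, ?_⟩
    funext q'
    rw [Pi.mul_apply, Pi.algebraMap_apply, Pi.algebraMap_apply]
    by_cases h : q' = p
    · rw [h, ← hys, map_mul, map_mul, mul_comm (algebraMap A _ (s : A)), mul_assoc,
        IsLocalization.mk'_spec']
    · rw [map_mul, map_mul, ht2 q' h, zero_mul, mul_zero, zero_mul]
  · intro h
    rcases hpp.mem_or_mem h with h1 | h1
    · exact s.2 h1
    · exact ht1 h1

/-- Every element of the product of localizations at the minimal primes of a one-dimensional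
Noetherian local ring has a power of the maximal ideal as denominators. -/
theorem exists_pow_mul_mem_range (A : Type u) [CommRing A] [IsLocalRing A] [IsNoetherianRing A]
    (hdim : ringKrullDim A = 1) (x : ProdLoc A) :
    ∃ M : ℕ, ∀ b ∈ IsLocalRing.maximalIdeal A ^ M,
      algebraMap A (ProdLoc A) b * x ∈ (algebraMap A (ProdLoc A)).range := by
  obtain ⟨N, hN⟩ := exists_maximalIdeal_pow_le_of_not_le_minimalPrimes A hdim (denomIdeal A x)
    (fun q hq => denomIdeal_not_le A x ⟨⟨q, hq.1.1⟩, hq⟩)
  exact ⟨N, fun b hb => hN hb⟩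

end Groth.Agent.Helper12
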