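import Mathlib
import Groth.Agent.Lib.Helper6.PConeLib2
import Groth.Agent.Lib.Helper12.GradedFinGen

set_option autoImplicit false
universe u
open CategoryTheory CategoryTheory.Limits AlgebraicGeometry Opposite TopologicalSpace
open scoped HomogeneousIdeal
open HomogeneousLocalization

namespace Groth.Agent.Helper12.PConeIso

open Groth.Agent.Helper6.PConeLib

section Geom

variable {R A B : Type u} [CommRing R] [CommRing A] [Algebra R A] {𝒜 : ℕ → Submodule R A}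
  [GradedAlgebra 𝒜] [CommRing B] [Algebra R B] {ℬ : ℕ → Submodule R B} [GradedAlgebra ℬ]
  (φ : 𝒜 →+*ᵍ ℬ)
  (p : (PCone.dom φ : Scheme.{u}) ⟶ Proj 𝒜)
  (hp : ∀ (d : ℕ) (f : A) (hd : 0 < d) (hf : f ∈ 𝒜 d), PCone.chart φ hf hd ≫ p = gmap φ hf hd)

include hp in
theorem isIso_specMap_awayMap [IsIso p] {d : ℕ} {f : A} (hf : f ∈ 𝒜 d) (hd : 0 < d) :
    IsIso (Spec.map (CommRingCat.ofHom (Away.map φ f))) := by
  have h1 : IsOpenImmersion (Spec.map (CommRingCat.ofHom (Away.map φ f)) ≫ Proj.awayι 𝒜 f hf hd) := by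
    have : IsOpenImmersion (gmap φ hf hd) := by
      rw [← hp d f hd hf]; infer_instance
    exact this
  have h2 : IsOpenImmersion (Spec.map (CommRingCat.ofHom (Away.map φ f))) :=
    IsOpenImmersion.of_comp _ (Proj.awayι 𝒜 f hf hd)
  apply isIso_of_isOpenImmersion_of_opensRange_eq_top
  rw [eq_top_iff]
  intro x _
  -- the point `awayι x` of `D₊(f)` comes from a point `q` of `dom φ`
  let q : (PCone.dom φ : Scheme.{u}) := (inv p).base ((Proj.awayι 𝒜 f hf hd).base x)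
  have hq : p.base q = (Proj.awayι 𝒜 f hf hd).base x := by
    change (inv p ≫ p).base _ = _
    rw [IsIso.inv_hom_id]
    rfl
  have hq' : q ∈ p ⁻¹ᵁ Proj.basicOpen 𝒜 f := by
    change p.base q ∈ Proj.basicOpen 𝒜 f
    rw [hq, ← Proj.opensRange_awayι 𝒜 f hf hd]
    exact ⟨x, rfl⟩
  rw [p_preimage_eq_opensRange φ p hp hf hd] at hq'
  obtain ⟨y, hy⟩ := hq'
  refine ⟨y, ?_⟩
  apply (Proj.awayι 𝒜 f hf hd).isOpenEmbedding.injective
  rw [← hq, ← hy]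
  exact (p_chart_apply φ p hp hf hd y).symm

include hp in
theorem awayMap_bijective [IsIso p] {d : ℕ} {f : A} (hf : f ∈ 𝒜 d) (hd : 0 < d) :
    Function.Bijective (Away.map φ f) := by
  have := isIso_specMap_awayMap φ p hp hf hd
  have h2 : IsIso (CommRingCat.ofHom (Away.map φ f)) := by
    have h3 : IsIso (Scheme.Spec.map (CommRingCat.ofHom (Away.map φ f)).op) := this
    have h4 : IsIso (CommRingCat.ofHom (Away.map φ f)).op := isIso_of_reflects_iso _ Scheme.Spec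
    exact isIso_of_op _
  exact (ConcreteCategory.isIso_iff_bijective _).mp h2

end Geom

section Main

open Groth.Agent.Helper12.GradedFinGen

variable {R A B : Type u} [CommRing R] [CommRing A] [Algebra R A] {𝒜 : ℕ → Submodule R A}
  [GradedAlgebra 𝒜] [CommRing B] [Algebra R B] {ℬ : ℕ → Submodule R B} [GradedAlgebra ℬ]
  (φ : 𝒜 →+*ᵍ ℬ)

theorem map_mem_of_mem_pow (hφ1 : ∀ a ∈ 𝒜 1, φ a ∈ ℬ 1) {j : ℕ} {x : A} (hx : x ∈ 𝒜 1 ^ j) :
    φ x ∈ ℬ 0 * ℬ 1 ^ j := by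
  induction hx using Submodule.pow_induction_on_left' with
  | algebraMap r =>
    rw [pow_zero, mul_one]
    exact φ.2 (SetLike.algebraMap_mem_graded 𝒜 r)
  | add x y i hx hy hx' hy' =>
    rw [map_add]
    exact add_mem hx' hy'
  | mem_mul m hm i x hx hx' =>
    rw [map_mul, Nat.succ_eq_add_one, pow_succ', mul_left_comm]
    exact Submodule.mul_mem_mul (hφ1 m hm) hx'

theorem map_mem_pow (hφ1 : ∀ a ∈ 𝒜 1, φ a ∈ ℬ 1) {j : ℕ} (hj : 0 < j) {x : A} (hx : x ∈ 𝒜 1 ^ j) :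
    φ x ∈ ℬ 1 ^ j :=
  zero_mul_pow_le ℬ j hj (map_mem_of_mem_pow φ hφ1 hx)

theorem pow_le_span {j : ℕ} (hj : 0 < j) :
    ℬ 1 ^ j ≤ (Ideal.span (ℬ 1 : Set B)).restrictScalars R := by
  obtain ⟨k, rfl⟩ : ∃ k, j = k + 1 := ⟨j - 1, by omega⟩
  rw [pow_succ, Submodule.mul_le]
  intro a _ c hc
  exact Ideal.mul_mem_left _ _ (Ideal.subset_span hc)

theorem mem_radical_of_dom_eq_top (hgen : ∀ n : ℕ, 1 ≤ n → 𝒜 n = 𝒜 1 ^ n)
    (hdom : PCone.dom φ = ⊤) {n : ℕ} (hn : 0 < n) {b : B} (hb : b ∈ ℬ n) :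
    b ∈ (Ideal.span (ℬ 1 : Set B)).radical := by
  have hI : (Ideal.span (ℬ 1 : Set B)).IsHomogeneous ℬ :=
    Ideal.homogeneous_span ℬ _ fun y hy => ⟨1, hy⟩
  rw [hI.radical_eq, Ideal.mem_sInf]
  rintro J ⟨hJh, hIJ, hJp⟩
  by_cases hirr : (ℬ₊).toIdeal ≤ J
  · exact hirr (HomogeneousIdeal.mem_irrelevant_of_mem ℬ hn hb)
  · exfalso
    let x : Proj ℬ := ⟨⟨J, hJh⟩, hJp, hirr⟩
    have hx : x ∈ PCone.dom φ := by rw [hdom]; trivial
    obtain ⟨⟨f, d, hd, hf⟩, hxf⟩ := Opens.mem_iSup.mp hx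
    have hxf' : φ f ∉ J := hxf
    apply hxf'
    rw [hgen d hd] at hf
    exact hIJ (pow_le_span hd (map_mem_pow φ (fun a ha => φ.2 ha) hd hf))

variable (p : (PCone.dom φ : Scheme.{u}) ⟶ Proj 𝒜)
  (hp : ∀ (d : ℕ) (f : A) (hd : 0 < d) (hf : f ∈ 𝒜 d), PCone.chart φ hf hd ≫ p = gmap φ hf hd)

include hp in
theorem exists_pow_mul_mem [IsIso p] (h1 : Set.SurjOn φ (𝒜 1) (ℬ 1))
    (hgen : ∀ n : ℕ, 1 ≤ n → 𝒜 n = 𝒜 1 ^ n) (n : ℕ) (b : B) (hb : b ∈ ℬ n) (f : B) (hf : f ∈ ℬ 1) :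
    ∃ K, f ^ K * b ∈ ℬ 1 ^ (K + n) := by
  obtain ⟨f', hf', rfl⟩ := h1 hf
  have hsurj := (awayMap_bijective φ p hp hf' one_pos).2
  obtain ⟨w, hw⟩ := hsurj (Away.mk ℬ (φ.2 hf') n b (by simpa using hb))
  obtain ⟨m, a, ha, rfl⟩ := Away.mk_surjective 𝒜 hf' w
  rw [Away.map_mk] at hw
  have hw' := congrArg HomogeneousLocalization.val hw
  rw [Away.val_mk, Away.val_mk, Localization.mk_eq_mk_iff, Localization.r_iff_exists] at hw'
  obtain ⟨⟨_, k, rfl⟩, hk⟩ := hw'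
  have hk' : φ f' ^ k * (φ f' ^ n * φ a) = φ f' ^ k * (φ f' ^ m * b) := hk
  refine ⟨k + m + 1, ?_⟩
  have e1 : φ f' ^ (k + m + 1) * b = φ (f' ^ (k + n + 1) * a) := by
    rw [map_mul, map_pow]
    calc φ f' ^ (k + m + 1) * b = φ f' * (φ f' ^ k * (φ f' ^ m * b)) := by ring
      _ = φ f' * (φ f' ^ k * (φ f' ^ n * φ a)) := by rw [hk']
      _ = φ f' ^ (k + n + 1) * φ a := by ring
  rw [e1]
  have ha' : a ∈ 𝒜 m := by simpa using ha
  have h2 : f' ^ (k + n + 1) * a ∈ 𝒜 (k + m + 1 + n) := by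
    have := SetLike.mul_mem_graded (SetLike.pow_mem_graded (k + n + 1) hf') ha'
    have e : (k + n + 1) • 1 + m = k + m + 1 + n := by simp; ring
    rwa [e] at this
  rw [hgen _ (by omega)] at h2
  exact map_mem_pow φ (fun a ha => φ.2 ha) (by omega) h2

include hp in
theorem main [Algebra.FiniteType (ℬ 0) B] [IsIso p] (h1 : Set.SurjOn φ (𝒜 1) (ℬ 1))
    (hgen : ∀ n : ℕ, 1 ≤ n → 𝒜 n = 𝒜 1 ^ n) (hdom : PCone.dom φ = ⊤) :
    ∃ n₀ : ℕ, ∀ n : ℕ, n₀ ≤ n → ℬ n = ℬ 1 ^ n :=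
  eventually_eq_pow ℬ (fun _ hn _ hb => mem_radical_of_dom_eq_top φ hgen hdom hn hb)
    (exists_pow_mul_mem φ p hp h1 hgen)

end Main

end Groth.Agent.Helper12.PConeIso
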