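import Mathlib
import Groth.Prelude.Def_FGA
import Groth.Prelude.Def_ArSurf
import Groth.Prelude.Def_Pic
import Groth.Agent.Lib.Helper26.DualFun
import Groth.Agent.Lib.Helper13.PullbackLocal
import Groth.Agent.Lib.Helper13.PbUnit

/-!
# Pullback of an invertible module along a map collapsing to a point is trivial

Also: `FGA.eulerCharLE` and `ArSurf.curveDeg` only depend on the isomorphism class.
-/

set_option autoImplicit false
set_option linter.style.haveILetI false
universe u
open CategoryTheory CategoryTheory.Limits AlgebraicGeometry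

namespace Groth.Agent.Helper12.PbPoint

section iso

variable (A : Type u) [CommRing A] {X : Scheme.{u}} [X.Over (Spec (CommRingCat.of A))]

/-- Isomorphic modules have linearly equivalent cohomology. -/
noncomputable def HHequiv {F G : X.Modules} (e : F ≅ G) (r : ℕ) :
    Coh.HH X F r ≃ₗ[A] Coh.HH X G r :=
  LinearEquiv.ofLinearMap (Canon.HHlin A e.hom r) (Canon.HHlin A e.inv r)
    (by rw [← Groth.Agent.Helper26.DualFun.HHlin_comp, e.inv_hom_id,
      Groth.Agent.Helper26.DualFun.HHlin_id])
    (by rw [← Groth.Agent.Helper26.DualFun.HHlin_comp, e.hom_inv_id,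
      Groth.Agent.Helper26.DualFun.HHlin_id])

end iso

lemma eulerCharLE_congr (k : Type u) [Field k] (X : Scheme.{u}) [X.Over (Spec (CommRingCat.of k))]
    {F G : X.Modules} (e : F ≅ G) (d : ℕ) :
    FGA.eulerCharLE k X F d = FGA.eulerCharLE k X G d := by
  unfold FGA.eulerCharLE
  refine Finset.sum_congr rfl (fun i _ => ?_)
  rw [(HHequiv k e i).finrank_eq]

/-- the degree of a module isomorphic to the structure sheaf is zero. -/
lemma curveDeg_eq_zero_of_iso (k : Type u) [Field k] (Y : Scheme.{u}) [Y.Over (Spec (CommRingCat.of k))]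
    {M : Y.Modules} (e : M ≅ Coh.structureModule Y) : ArSurf.curveDeg k Y M = 0 := by
  unfold ArSurf.curveDeg
  rw [eulerCharLE_congr k Y e 1, sub_self]

/-- the pullback of an invertible module along a map with image a single point is trivial. -/
theorem nonempty_pullback_iso_unit {Z Y : Scheme.{u}} (g : Z ⟶ Y) (y : Y)
    (hg : Set.range (g.base : Z → Y) ⊆ {y}) (M : Y.Modules) (hM : PicF.IsInvertible M) :
    Nonempty ((Scheme.Modules.pullback g).obj M ≅ Coh.structureModule Z) := by
  obtain ⟨U, hyU, ⟨e⟩⟩ := hM y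
  have hrange : Set.range g.base ⊆ Set.range U.ι.base := by
    rintro _ ⟨z, rfl⟩
    have : g.base z = y := hg ⟨z, rfl⟩
    rw [this, Scheme.Opens.range_ι]
    exact hyU
  let g' : Z ⟶ U := IsOpenImmersion.lift U.ι g hrange
  have hg' : g' ≫ U.ι = g := IsOpenImmersion.lift_fac U.ι g hrange
  have h : 𝟙 Z ≫ g = g' ≫ U.ι := by rw [Category.id_comp, hg']
  exact ⟨(Scheme.Modules.restrictFunctorId.symm.app _) ≪≫
    (Groth.Agent.Helper13.Pullback.pullbackRestrictIso g (𝟙 Z) U.ι g' h).app M ≪≫
    (Scheme.Modules.pullback g').mapIso e ≪≫ Groth.Agent.Helper13.PbUnit.pullbackUnitIso g'⟩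

end Groth.Agent.Helper12.PbPoint
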