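import Mathlib.RingTheory.GradedAlgebra.HomogeneousLocalization
import Mathlib.RingTheory.Localization.AtPrime.Basic
import Mathlib.RingTheory.GradedAlgebra.Homogeneous.Ideal

/-!
# The maximal ideal of `A_𝔭` is the radical of the extension of the maximal ideal of `A_(𝔭)`
-/

set_option autoImplicit false
universe u
open HomogeneousLocalization

namespace Groth.Agent.Helper12.ProjCM

variable {A : Type u} [CommRing A] (𝒜 : ℕ → AddSubgroup A) [GradedRing 𝒜]
  (𝔭 : Ideal A) [𝔭.IsPrime]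

/-- the homogeneous fraction `b^m / f^i` for `b ∈ 𝒜 i`, `f ∈ 𝒜 m`, `f ∉ 𝔭`. -/
noncomputable def powFrac {m i : ℕ} {f b : A} (hf : f ∈ 𝒜 m) (hf𝔭 : f ∉ 𝔭) (hb : b ∈ 𝒜 i) :
    AtPrime 𝒜 𝔭 :=
  HomogeneousLocalization.mk
    { deg := m * i
      num := ⟨b ^ m, by
        have := SetLike.pow_mem_graded m hb
        simpa [smul_eq_mul] using this⟩
      den := ⟨f ^ i, by
        have := SetLike.pow_mem_graded i hf
        simpa [smul_eq_mul, mul_comm] using this⟩
      den_mem := fun h => hf𝔭 (Ideal.IsPrime.mem_of_pow_mem inferInstance i h) }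

theorem val_powFrac {m i : ℕ} {f b : A} (hf : f ∈ 𝒜 m) (hf𝔭 : f ∉ 𝔭) (hb : b ∈ 𝒜 i) :
    algebraMap A (Localization.AtPrime 𝔭) (f ^ i) * (powFrac 𝒜 𝔭 hf hf𝔭 hb).val =
      algebraMap A (Localization.AtPrime 𝔭) (b ^ m) := by
  rw [powFrac, HomogeneousLocalization.val_mk, Localization.mk_eq_mk']
  exact IsLocalization.mk'_spec' (Localization.AtPrime 𝔭) _ _

theorem eq_maximalIdeal_of_map_le (h𝔭 : 𝔭.IsHomogeneous 𝒜) {m : ℕ} (hm : 0 < m) {f : A}
    (hf : f ∈ 𝒜 m) (hf𝔭 : f ∉ 𝔭)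
    (P : Ideal (Localization.AtPrime 𝔭)) (hPp : P.IsPrime)
    (hP : (IsLocalRing.maximalIdeal (AtPrime 𝒜 𝔭)).map
      (algebraMap (AtPrime 𝒜 𝔭) (Localization.AtPrime 𝔭)) ≤ P) :
    P = IsLocalRing.maximalIdeal (Localization.AtPrime 𝔭) := by
  refine le_antisymm (IsLocalRing.le_maximalIdeal hPp.ne_top) ?_
  rw [← Localization.AtPrime.map_eq_maximalIdeal, Ideal.map_le_iff_le_comap]
  intro a ha
  rw [Ideal.mem_comap]
  -- reduce to homogeneous elements
  have key : ∀ (i : ℕ) (b : A), b ∈ 𝒜 i → b ∈ 𝔭 →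
      algebraMap A (Localization.AtPrime 𝔭) b ∈ P := by
    intro i b hb hb𝔭
    set q := powFrac 𝒜 𝔭 hf hf𝔭 hb with hq
    have hval := val_powFrac 𝒜 𝔭 hf hf𝔭 hb
    -- `q` lies in the maximal ideal
    have hbm : b ^ m ∈ 𝔭 := Ideal.pow_mem_of_mem 𝔭 hb𝔭 m hm
    have hqL : q.val ∈ IsLocalRing.maximalIdeal (Localization.AtPrime 𝔭) := by
      have h1 : algebraMap A (Localization.AtPrime 𝔭) (b ^ m) ∈
          IsLocalRing.maximalIdeal (Localization.AtPrime 𝔭) := by
        rw [← Localization.AtPrime.map_eq_maximalIdeal]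
        exact Ideal.mem_map_of_mem _ hbm
      rw [← hval] at h1
      have hu : IsUnit (algebraMap A (Localization.AtPrime 𝔭) (f ^ i)) :=
        IsLocalization.map_units (Localization.AtPrime 𝔭)
          (⟨f ^ i, fun h => hf𝔭 (Ideal.IsPrime.mem_of_pow_mem inferInstance i h)⟩ : 𝔭.primeCompl)
      exact (Ideal.unit_mul_mem_iff_mem _ hu).mp h1
    have hqR : q ∈ IsLocalRing.maximalIdeal (AtPrime 𝒜 𝔭) := by
      rw [IsLocalRing.mem_maximalIdeal, mem_nonunits_iff]
      intro hu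
      have hu' : IsUnit q.val := by
        have := hu.map (algebraMap (AtPrime 𝒜 𝔭) (Localization.AtPrime 𝔭))
        simpa using this
      exact (IsLocalRing.mem_maximalIdeal _).mp hqL hu'
    have hqP : q.val ∈ P := by
      have := hP (Ideal.mem_map_of_mem (algebraMap (AtPrime 𝒜 𝔭) (Localization.AtPrime 𝔭)) hqR)
      simpa using this
    have hpow : algebraMap A (Localization.AtPrime 𝔭) b ^ m ∈ P := by
      rw [← map_pow, ← hval]
      exact Ideal.mul_mem_left _ _ hqP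
    exact hPp.mem_of_pow_mem m hpow
  classical
  rw [← DirectSum.sum_support_decompose 𝒜 a, map_sum]
  refine Ideal.sum_mem _ fun i _ => ?_
  exact key i _ (SetLike.coe_mem _) (h𝔭 i ha)

end Groth.Agent.Helper12.ProjCM
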