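import Mathlib
import Groth.Prelude.Def_CAlg
import Groth.Agent.Lib.Lead.Depth15
import Groth.Agent.Lib.Lead.Depth8

/-!
# Cohen–Macaulayness descends along a pure local map whose closed fibre is a point

If `φ : R → L` is a ring map from a local ring to a Cohen–Macaulay local ring such that every ideal
of `R` is contracted from `L` and `𝔪_L` is the only prime of `L` containing `φ(𝔪_R)`, then `R` is a
Cohen–Macaulay local ring.
-/

set_option autoImplicit false
set_option linter.style.haveILetI false
universe u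
open IsLocalRing RingTheory.Sequence

namespace Groth.Agent.Helper12.ProjCM

theorem le_zero_of_add_nat_le (x : WithBot ℕ∞) (d : ℕ)
    (h : x + (d : WithBot ℕ∞) ≤ (d : WithBot ℕ∞)) : x ≤ 0 := by
  induction x using WithBot.recBotCoe with
  | bot => exact bot_le
  | coe n =>
    have h' : n + (d : ℕ∞) ≤ (d : ℕ∞) := by
      have : ((n + (d : ℕ∞) : ℕ∞) : WithBot ℕ∞) ≤ ((d : ℕ∞) : WithBot ℕ∞) := by
        simpa using h
      exact WithBot.coe_le_coe.mp this
    have hn : n ≤ 0 := by
      induction n using ENat.recTopCoe with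
      | top => simp at h'
      | coe m =>
        have : m + d ≤ d := by exact_mod_cast h'
        have : m = 0 := by omega
        simp [this]
    exact_mod_cast hn

section

variable {R L : Type u} [CommRing R] [CommRing L] (φ : R →+* L)

theorem map_le_map_iff_of_pure (hpure : ∀ J : Ideal R, (J.map φ).comap φ = J) {J J' : Ideal R} :
    J.map φ ≤ J'.map φ ↔ J ≤ J' := by
  constructor
  · intro h
    have := Ideal.comap_mono (f := φ) h
    rwa [hpure, hpure] at this
  · exact fun h => Ideal.map_mono h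

theorem isNoetherianRing_of_pure [IsNoetherianRing L]
    (hpure : ∀ J : Ideal R, (J.map φ).comap φ = J) : IsNoetherianRing R := by
  rw [isNoetherianRing_iff, isNoetherian_iff']
  have hmono : StrictMono (fun J : Ideal R => J.map φ) := by
    intro J J' hlt
    refine lt_of_le_of_ne (Ideal.map_mono hlt.le) ?_
    intro h
    have := congrArg (Ideal.comap φ) h
    simp only [hpure] at this
    exact hlt.ne this
  exact hmono.wellFoundedGT

theorem map_maximalIdeal_le [IsLocalRing R] [IsLocalRing L]
    (hpure : ∀ J : Ideal R, (J.map φ).comap φ = J) :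
    (maximalIdeal R).map φ ≤ maximalIdeal L := by
  apply IsLocalRing.le_maximalIdeal
  intro h
  have := hpure (maximalIdeal R)
  rw [h, Ideal.comap_top] at this
  exact (maximalIdeal.isMaximal R).ne_top this.symm

theorem exists_regular_of_one_le_depth [IsLocalRing R] [IsLocalRing L] [IsNoetherianRing L]
    (hrad : ∀ P : Ideal L, P.IsPrime → (maximalIdeal R).map φ ≤ P → P = maximalIdeal L)
    (M : Type u) [AddCommGroup M] [Module L M] [Module.Finite L M] [Nontrivial M]
    (h1 : (1 : ℕ∞) ≤ LocCoh.depth L M) :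
    ∃ y ∈ maximalIdeal R, IsSMulRegular M (φ y) := by
  by_contra hcon
  push Not at hcon
  have hsub : ((maximalIdeal R : Ideal R) : Set R) ⊆
      ⋃ P ∈ associatedPrimes L M, ((P.comap φ : Ideal R) : Set R) := by
    intro y hy
    have hnr := hcon y hy
    have hmem : φ y ∈ ⋃ p ∈ associatedPrimes L M, (p : Set L) := by
      rw [biUnion_associatedPrimes_eq_compl_regular L M]
      exact hnr
    simp only [Set.mem_iUnion, SetLike.mem_coe, exists_prop] at hmem ⊢
    obtain ⟨P, hP, hyP⟩ := hmem
    exact ⟨P, hP, hyP⟩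
  obtain ⟨P, hPass, hle⟩ := ((maximalIdeal R).subset_union_prime_finite
    (associatedPrimes.finite L M) (f := fun P => P.comap φ) 0 0
    (fun P hP _ _ => by haveI := hP.isPrime; exact Ideal.comap_isPrime φ P)).1 hsub
  have hPeq : P = maximalIdeal L := hrad P hPass.isPrime (Ideal.map_le_iff_le_comap.mpr hle)
  obtain ⟨rs, hlen, hwr, hmem⟩ := Groth.Agent.Lead.Depth.exists_of_le_idealDepth (maximalIdeal L) M
    (Groth.Agent.Lead.Depth.maximalIdeal_smul_top_ne_top M) 1 (by exact_mod_cast h1)
  obtain ⟨r, rfl⟩ := List.length_eq_one_iff.mp hlen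
  have hreg : IsSMulRegular M r := ((isWeaklyRegular_cons_iff M r []).mp hwr).1
  have hrm : r ∈ maximalIdeal L := hmem r (by simp)
  have hr : r ∈ ⋃ p ∈ associatedPrimes L M, (p : Set L) := by
    simp only [Set.mem_iUnion, SetLike.mem_coe, exists_prop]
    exact ⟨P, hPass, hPeq ▸ hrm⟩
  rw [biUnion_associatedPrimes_eq_compl_regular L M] at hr
  exact hr hreg

theorem exists_regular_list [IsLocalRing R] [IsLocalRing L] [IsNoetherianRing L]
    (hloc : (maximalIdeal R).map φ ≤ maximalIdeal L)
    (hrad : ∀ P : Ideal L, P.IsPrime → (maximalIdeal R).map φ ≤ P → P = maximalIdeal L) :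
    ∀ (n : ℕ) (M : Type u) [AddCommGroup M] [Module L M] [Module.Finite L M] [Nontrivial M],
      (n : ℕ∞) ≤ LocCoh.depth L M →
      ∃ ys : List R, ys.length = n ∧ (∀ y ∈ ys, y ∈ maximalIdeal R) ∧
        IsWeaklyRegular M (ys.map φ) := by
  intro n
  induction n with
  | zero =>
    intro M _ _ _ _ _
    exact ⟨[], rfl, by simp, by simp⟩
  | succ n ih =>
    intro M _ _ _ _ hn
    have h1 : (1 : ℕ∞) ≤ LocCoh.depth L M :=
      le_trans (by exact_mod_cast Nat.succ_le_succ (Nat.zero_le n)) hn
    obtain ⟨y, hy, hreg⟩ := exists_regular_of_one_le_depth φ hrad M h1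
    have hyL : φ y ∈ maximalIdeal L := hloc (Ideal.mem_map_of_mem φ hy)
    have htop := Groth.Agent.Lead.Depth.maximalIdeal_smul_top_ne_top (R := L) M
    have hQtop := Groth.Agent.Lead.Depth.smul_top_quotSMulTop_ne_top hyL htop
    haveI : Nontrivial (QuotSMulTop (φ y) M) := by
      by_contra hnt
      rw [not_nontrivial_iff_subsingleton] at hnt
      exact hQtop (Subsingleton.elim _ _)
    have hd := Groth.Agent.Lead.Depth.idealDepth_quotSMulTop_add_one (maximalIdeal L) M htop
      (φ y) hyL hreg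
    have hn' : (n : ℕ∞) ≤ LocCoh.depth L (QuotSMulTop (φ y) M) := by
      change (n : ℕ∞) ≤ LocCoh.idealDepth (maximalIdeal L) (QuotSMulTop (φ y) M)
      have h2 : ((n + 1 : ℕ) : ℕ∞) ≤
          LocCoh.idealDepth (maximalIdeal L) (QuotSMulTop (φ y) M) + 1 := by
        rw [hd]; exact hn
      induction hq : LocCoh.idealDepth (maximalIdeal L) (QuotSMulTop (φ y) M)
        using ENat.recTopCoe with
      | top => exact le_top
      | coe m =>
        rw [hq] at h2
        have : n + 1 ≤ m + 1 := by exact_mod_cast h2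
        exact_mod_cast Nat.le_of_succ_le_succ this
    obtain ⟨ys, hlen, hmem, hwr⟩ := ih (QuotSMulTop (φ y) M) hn'
    refine ⟨y :: ys, by simp [hlen], ?_, ?_⟩
    · intro z hz
      rcases List.mem_cons.mp hz with rfl | hz
      · exact hy
      · exact hmem z hz
    · rw [List.map_cons]
      exact (isWeaklyRegular_cons_iff M (φ y) (ys.map φ)).mpr ⟨hreg, hwr⟩

theorem isWeaklyRegular_of_map (hpure : ∀ J : Ideal R, (J.map φ).comap φ = J) (ys : List R)
    (h : IsWeaklyRegular L (ys.map φ)) : IsWeaklyRegular R ys := by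
  constructor
  intro i hi
  refine (isSMulRegular_quotient_iff_mem_of_smul_mem _ _).mpr ?_
  intro x hx
  have hi' : i < (ys.map φ).length := by simpa using hi
  have hL := (isSMulRegular_quotient_iff_mem_of_smul_mem _ _).mp (h.regular_mod_prev i hi')
  have e1 : (Ideal.ofList (ys.take i) • (⊤ : Submodule R R)) = Ideal.ofList (ys.take i) := by
    simp
  have e2 : (Ideal.ofList ((ys.map φ).take i) • (⊤ : Submodule L L)) =
      (Ideal.ofList (ys.take i)).map φ := by
    rw [Ideal.map_ofList, List.map_take]; simp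
  rw [e1] at hx ⊢
  have hφx : φ x ∈ (Ideal.ofList (ys.take i)).map φ := by
    rw [← e2]
    apply hL
    rw [e2]
    have := Ideal.mem_map_of_mem φ hx
    simpa [List.getElem_map, smul_eq_mul] using this
  rw [← hpure (Ideal.ofList (ys.take i))]
  exact hφx

end

theorem isCM_of_pure {R L : Type u} [CommRing R] [CommRing L] [IsLocalRing R] (φ : R →+* L)
    [hL : LocCoh.IsCohenMacaulayLocalRing L]
    (hpure : ∀ J : Ideal R, (J.map φ).comap φ = J)
    (hrad : ∀ P : Ideal L, P.IsPrime → (maximalIdeal R).map φ ≤ P → P = maximalIdeal L) :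
    LocCoh.IsCohenMacaulayLocalRing R := by
  classical
  haveI : IsNoetherianRing L := inferInstance
  haveI : IsLocalRing L := inferInstance
  haveI hRN : IsNoetherianRing R := isNoetherianRing_of_pure φ hpure
  have hloc := map_maximalIdeal_le φ hpure
  have hdim := hL.supportDim_eq_depth
  rw [Module.supportDim_self_eq_ringKrullDim] at hdim
  have hne : LocCoh.depth L L ≠ ⊤ := Groth.Agent.Lead.Depth.depth_ne_top (R := L) L
  obtain ⟨d, hd⟩ := ENat.ne_top_iff_exists.mp hne
  obtain ⟨ys, hlen, hmem, hwrL⟩ := exists_regular_list φ hloc hrad d L (by rw [← hd])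
  have hwrR := isWeaklyRegular_of_map φ hpure ys hwrL
  -- depth R ≥ d
  have hdepth : (d : ℕ∞) ≤ LocCoh.depth R R := by
    have := Groth.Agent.Lead.Depth.le_idealDepth_of_isWeaklyRegular (maximalIdeal R) R ys hwrR hmem
    rwa [hlen] at this
  -- dim L/(φ ys) = 0
  have hmemL : ∀ r ∈ ys.map φ, r ∈ maximalIdeal L := by
    intro r hr
    obtain ⟨y, hy, rfl⟩ := List.mem_map.mp hr
    exact hloc (Ideal.mem_map_of_mem φ (hmem y hy))
  have htopL := Groth.Agent.Lead.Depth.maximalIdeal_smul_top_ne_top (R := L) L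
  have hregL : IsRegular L (ys.map φ) :=
    Groth.Agent.Lead.Depth.isRegular_of_isWeaklyRegular_of_mem htopL hwrL hmemL
  have hkd := ringKrullDim_add_length_eq_ringKrullDim_of_isRegular (ys.map φ) hregL
  rw [hdim, ← hd, List.length_map, hlen] at hkd
  have h0 : ringKrullDim (L ⧸ Ideal.ofList (ys.map φ)) ≤ 0 :=
    le_zero_of_add_nat_le _ d hkd.le
  haveI : Ring.KrullDimLE 0 (L ⧸ Ideal.ofList (ys.map φ)) :=
    (Ring.krullDimLE_iff).mpr (by simpa using h0)
  have hprimeL : ∀ P : Ideal L, P.IsPrime → Ideal.ofList (ys.map φ) ≤ P →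
      P = maximalIdeal L := by
    intro P hP hle
    have hker : RingHom.ker (Ideal.Quotient.mk (Ideal.ofList (ys.map φ))) ≤ P := by
      rw [Ideal.mk_ker]; exact hle
    haveI hP' : (P.map (Ideal.Quotient.mk (Ideal.ofList (ys.map φ)))).IsPrime :=
      Ideal.map_isPrime_of_surjective Ideal.Quotient.mk_surjective hker
    have hmax : (P.map (Ideal.Quotient.mk (Ideal.ofList (ys.map φ)))).IsMaximal :=
      Ideal.IsPrime.isMaximal' hP'
    have hcomap : (P.map (Ideal.Quotient.mk (Ideal.ofList (ys.map φ)))).comap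
        (Ideal.Quotient.mk (Ideal.ofList (ys.map φ))) = P := by
      rw [Ideal.comap_map_of_surjective _ Ideal.Quotient.mk_surjective, sup_eq_left]
      rw [← RingHom.ker_eq_comap_bot]
      exact hker
    have hPmax : P.IsMaximal := by
      rw [← hcomap]
      exact Ideal.comap_isMaximal_of_surjective _ Ideal.Quotient.mk_surjective
    exact IsLocalRing.eq_maximalIdeal hPmax
  -- primes of `R` containing `ys`
  have hprimeR : ∀ 𝔮 : Ideal R, 𝔮.IsPrime → Ideal.ofList ys ≤ 𝔮 → 𝔮 = maximalIdeal R := by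
    intro 𝔮 h𝔮 hle
    obtain ⟨P, hPp, hPc⟩ := (Ideal.comap_map_eq_self_iff_of_isPrime 𝔮).mp (hpure 𝔮)
    have hleP : Ideal.ofList (ys.map φ) ≤ P := by
      rw [← Ideal.map_ofList, Ideal.map_le_iff_le_comap, hPc]; exact hle
    have hPm := hprimeL P hPp hleP
    refine le_antisymm (IsLocalRing.le_maximalIdeal h𝔮.ne_top) ?_
    rw [← hPc, hPm, ← Ideal.map_le_iff_le_comap]
    exact hloc
  have hmin : maximalIdeal R ∈ (Ideal.span ((ys.toFinset : Finset R) : Set R)).minimalPrimes := by
    have hspan : Ideal.span ((ys.toFinset : Finset R) : Set R) = Ideal.ofList ys := by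
      rw [List.coe_toFinset]
    rw [hspan]
    refine ⟨⟨inferInstance, ?_⟩, ?_⟩
    · rw [Ideal.ofList, Ideal.span_le]; intro y hy; exact hmem y hy
    · rintro 𝔮 ⟨h𝔮, hle⟩ _
      rw [hprimeR 𝔮 h𝔮 hle]
  have hht : (maximalIdeal R).height ≤ (d : ℕ∞) := by
    refine (Ideal.height_le_card_of_mem_minimalPrimes_span_finset hmin).trans ?_
    have := List.toFinset_card_le ys
    rw [hlen] at this
    exact_mod_cast this
  have hdimR : ringKrullDim R ≤ ((d : ℕ∞) : WithBot ℕ∞) := by
    rw [← IsLocalRing.maximalIdeal_height_eq_ringKrullDim]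
    exact_mod_cast hht
  refine ⟨?_⟩
  rw [Module.supportDim_self_eq_ringKrullDim]
  apply le_antisymm
  · refine hdimR.trans ?_
    exact_mod_cast hdepth
  · exact Groth.Agent.Lead.Depth.depth_self_le_ringKrullDim

end Groth.Agent.Helper12.ProjCM
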