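import Mathlib.RingTheory.GradedAlgebra.HomogeneousLocalization
import Mathlib.RingTheory.Localization.AtPrime.Basic
import Mathlib.RingTheory.GradedAlgebra.Homogeneous.Ideal
import Mathlib.RingTheory.Localization.Integer
import Mathlib.LinearAlgebra.Finsupp.LinearCombination

/-!
# Every ideal of `A_(𝔭)` is contracted from `A_𝔭`
-/

set_option autoImplicit false
universe u
open HomogeneousLocalization

namespace Groth.Agent.Helper12.ProjCM

variable {A : Type u} [CommRing A] (𝒜 : ℕ → AddSubgroup A) [GradedRing 𝒜]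
  (𝔭 : Ideal A) [𝔭.IsPrime]

/-- a common homogeneous denominator for finitely many homogeneous fractions -/
theorem exists_common_den (t : Finset (AtPrime 𝒜 𝔭)) :
    ∃ (M : ℕ) (D : A), D ∈ 𝒜 M ∧ D ∉ 𝔭 ∧ ∀ i ∈ t, ∃ a ∈ 𝒜 M,
      algebraMap A (Localization.AtPrime 𝔭) D * i.val =
        algebraMap A (Localization.AtPrime 𝔭) a := by
  classical
  induction t using Finset.induction_on with
  | empty =>
    exact ⟨0, 1, SetLike.GradedOne.one_mem,
      fun h => (Ideal.IsPrime.ne_top inferInstance) ((Ideal.eq_top_iff_one _).mpr h), by simp⟩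
  | insert j t hj ih =>
    obtain ⟨M, D, hD, hD𝔭, h⟩ := ih
    have hden : algebraMap A (Localization.AtPrime 𝔭) j.den * j.val =
        algebraMap A (Localization.AtPrime 𝔭) j.num := by
      have := j.den_smul_val
      rwa [Algebra.smul_def] at this
    refine ⟨j.deg + M, j.den * D, SetLike.mul_mem_graded j.den_mem_deg hD, ?_, ?_⟩
    · intro hmem
      rcases Ideal.IsPrime.mem_or_mem inferInstance hmem with h1 | h1
      · exact j.den_mem h1
      · exact hD𝔭 h1
    · intro i hi
      rcases Finset.mem_insert.mp hi with rfl | hi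
      · refine ⟨i.num * D, SetLike.mul_mem_graded i.num_mem_deg hD, ?_⟩
        rw [map_mul, map_mul, ← hden]; ring
      · obtain ⟨a, ha, hai⟩ := h i hi
        refine ⟨j.den * a, SetLike.mul_mem_graded j.den_mem_deg ha, ?_⟩
        rw [map_mul, map_mul, mul_assoc, hai]

theorem comap_map_val (J : Ideal (AtPrime 𝒜 𝔭)) :
    (J.map (algebraMap (AtPrime 𝒜 𝔭) (Localization.AtPrime 𝔭))).comap
      (algebraMap (AtPrime 𝒜 𝔭) (Localization.AtPrime 𝔭)) = J := by
  classical
  refine le_antisymm ?_ Ideal.le_comap_map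
  intro r hr
  rw [Ideal.mem_comap] at hr
  change algebraMap (AtPrime 𝒜 𝔭) (Localization.AtPrime 𝔭) r ∈
    Submodule.span (Localization.AtPrime 𝔭)
      ((algebraMap (AtPrime 𝒜 𝔭) (Localization.AtPrime 𝔭)) '' (J : Set _)) at hr
  obtain ⟨t, ht, c, hsum⟩ := (Submodule.mem_span_image_iff_exists_fun _).mp hr
  have hsum' : ∑ i : t, c i * (i : AtPrime 𝒜 𝔭).val = r.val := by
    simpa [smul_eq_mul] using hsum
  set g := algebraMap A (Localization.AtPrime 𝔭) with hg
  obtain ⟨M, D, hD, hD𝔭, hcd⟩ := exists_common_den 𝒜 𝔭 t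
  choose! a ha hai using hcd
  obtain ⟨s, hs⟩ := IsLocalization.exist_integer_multiples_of_finite 𝔭.primeCompl c
  have hs' : ∀ i : t, ∃ b : A, g b = g s * c i := fun i => by
    obtain ⟨b, hb⟩ := hs i
    exact ⟨b, by rw [hb, Algebra.smul_def]⟩
  choose b hb using hs'
  have hβ : g r.den * r.val = g r.num := by
    have := r.den_smul_val
    rwa [Algebra.smul_def] at this
  have hkey : g (s * D * r.num) = g (∑ i : t, b i * a i * r.den) := by
    rw [map_sum]
    have h1 : g (s * D * r.num) = g s * g D * g r.den * r.val := by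
      rw [map_mul, map_mul, ← hβ]; ring
    rw [h1, ← hsum', Finset.mul_sum]
    refine Finset.sum_congr rfl fun i _ => ?_
    rw [map_mul, map_mul, hb i, ← hai i i.2]
    ring
  obtain ⟨t', ht'⟩ := (IsLocalization.eq_iff_exists 𝔭.primeCompl (Localization.AtPrime 𝔭)).mp hkey
  set u : A := (t' : A) * (s : A) with hu_def
  have hu : u ∉ 𝔭 := 𝔭.primeCompl.mul_mem t'.2 s.2
  have E : u * (D * r.num) = ∑ i : t, ((t' : A) * b i) * (a i * r.den) := by
    have h2 : ∑ i : t, ((t' : A) * b i) * (a i * r.den) =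
        (t' : A) * ∑ i : t, b i * a i * r.den := by
      rw [Finset.mul_sum]; exact Finset.sum_congr rfl fun i _ => by ring
    rw [h2, ← ht', hu_def]; ring
  obtain ⟨e, he⟩ : ∃ e, (DirectSum.decompose 𝒜 u e : A) ∉ 𝔭 := by
    by_contra hcon
    push Not at hcon
    apply hu
    rw [← DirectSum.sum_support_decompose 𝒜 u]
    exact Ideal.sum_mem _ fun i _ => hcon i
  have hDα : D * r.num ∈ 𝒜 (M + r.deg) := SetLike.mul_mem_graded hD r.num_mem_deg
  have haβ : ∀ i : t, a i * r.den ∈ 𝒜 (M + r.deg) := fun i =>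
    SetLike.mul_mem_graded (ha i i.2) r.den_mem_deg
  have E' : (DirectSum.decompose 𝒜 u e : A) * (D * r.num) =
      ∑ i : t, (DirectSum.decompose 𝒜 ((t' : A) * b i) e : A) * (a i * r.den) := by
    have h3 := congrArg (GradedRing.proj 𝒜 (e + (M + r.deg))) E
    rw [map_sum] at h3
    simp only [GradedRing.proj_apply] at h3
    rw [DirectSum.coe_decompose_mul_add_of_right_mem 𝒜 hDα] at h3
    rw [h3]
    refine Finset.sum_congr rfl fun i _ => ?_
    exact DirectSum.coe_decompose_mul_add_of_right_mem 𝒜 (haβ i)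
  let ρ : t → AtPrime 𝒜 𝔭 := fun i => HomogeneousLocalization.mk
    { deg := e
      num := DirectSum.decompose 𝒜 ((t' : A) * b i) e
      den := DirectSum.decompose 𝒜 u e
      den_mem := he }
  have hρ : ∀ i, g (DirectSum.decompose 𝒜 u e : A) * (ρ i).val =
      g (DirectSum.decompose 𝒜 ((t' : A) * b i) e : A) := by
    intro i
    simp only [ρ, HomogeneousLocalization.val_mk, Localization.mk_eq_mk']
    exact IsLocalization.mk'_spec' (Localization.AtPrime 𝔭) _ _
  have hr_eq : r = ∑ i : t, ρ i * (i : AtPrime 𝒜 𝔭) := by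
    apply HomogeneousLocalization.val_injective
    have hval : (∑ i : t, ρ i * (i : AtPrime 𝒜 𝔭)).val =
        ∑ i : t, (ρ i).val * (i : AtPrime 𝒜 𝔭).val := by
      rw [← HomogeneousLocalization.algebraMap_apply, map_sum]
      simp only [map_mul, HomogeneousLocalization.algebraMap_apply]
    rw [hval]
    have hunit : IsUnit (g ((DirectSum.decompose 𝒜 u e : A) * D * r.den)) :=
      IsLocalization.map_units (Localization.AtPrime 𝔭)
        (⟨_, 𝔭.primeCompl.mul_mem (𝔭.primeCompl.mul_mem he hD𝔭) r.den_mem⟩ : 𝔭.primeCompl)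
    apply hunit.mul_left_cancel
    have hL : g ((DirectSum.decompose 𝒜 u e : A) * D * r.den) * r.val =
        g ((DirectSum.decompose 𝒜 u e : A) * (D * r.num)) := by
      rw [map_mul g, map_mul g, map_mul g, map_mul g, ← hβ]; ring
    rw [hL, E', map_sum, Finset.mul_sum]
    refine Finset.sum_congr rfl fun i _ => ?_
    rw [map_mul g, map_mul g, map_mul g, map_mul g, ← hρ i, ← hai i i.2]
    ring
  rw [hr_eq]
  exact Ideal.sum_mem _ fun i _ => Ideal.mul_mem_left _ _ (ht i.2)

end Groth.Agent.Helper12.ProjCM
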