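import Mathlib
import Groth.Agent.Lib.Helper12.ProjHilb7

/-!
# Hilbert polynomial of a homogeneous complete intersection (Bézout)
-/

set_option autoImplicit false
universe u
open MvPolynomial Polynomial RingTheory.Sequence Groth.Agent.Helper5 Groth.Agent.Helper5.HS

namespace Groth.Agent.Helper12.ProjHilb

attribute [local instance] MvPolynomial.gradedAlgebra

variable {k : Type u} [Field k]

theorem finrank_homogeneousSubmodule (N d : ℕ) :
    Module.finrank k (homogeneousSubmodule (Fin N) k d) = Nat.choose (N + d - 1) d := by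
  classical
  rw [homogeneousSubmodule_eq_finsupp_supported]
  have hS : {e : Fin N →₀ ℕ | e.degree = d} =
      ↑((Finset.univ : Finset (Fin N)).finsuppAntidiag d) := by
    ext e
    simp [Finset.mem_finsuppAntidiag, Finsupp.degree_eq_sum]
  rw [hS, (AddMonoidAlgebra.supportedEquivFinsupp _).finrank_eq, Module.finrank_finsupp_self,
    ← Nat.card_eq_fintype_card, Nat.card_coe_set_eq, Set.ncard_coe_finset,
    Finset.card_finsuppAntidiag_nat_eq_choose]
  simp only [Finset.card_univ, Fintype.card_fin]

theorem hf_bot (n m : ℕ) :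
    hf (⊥ : Ideal (MvPolynomial (Fin (n + 1)) k)) m = Nat.choose (m + n) n := by
  unfold hf
  have h0 : part (⊥ : Ideal (MvPolynomial (Fin (n + 1)) k)) m = ⊥ := by
    rw [eq_bot_iff]
    intro x hx
    rw [mem_part] at hx
    exact hx.1
  rw [h0, finrank_bot, Nat.sub_zero, finrank_homogeneousSubmodule]
  have : n + 1 + m - 1 = m + n := by omega
  rw [this, Nat.choose_symm_add]

/-- The Hilbert polynomial of the polynomial ring in `n + 1` variables. -/
noncomputable def P0 (n : ℕ) : ℚ[X] :=
  Polynomial.C (1 / (n.factorial : ℚ)) * taylor 1 (ascPochhammer ℚ n)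

theorem eval_P0 (n m : ℕ) : (P0 n).eval (m : ℚ) = (Nat.choose (m + n) n : ℚ) := by
  unfold P0
  rw [Polynomial.eval_mul, Polynomial.eval_C, taylor_eval]
  have h1 : ((m : ℚ) + 1) = ((m + 1 : ℕ) : ℚ) := by push_cast; ring
  rw [h1, ← ascPochhammer_eval_cast, ascPochhammer_nat_eq_descFactorial,
    Nat.descFactorial_eq_factorial_mul_choose]
  have h2 : m + 1 + n - 1 = m + n := by omega
  rw [h2]
  push_cast
  have h3 : (n.factorial : ℚ) ≠ 0 := by exact_mod_cast Nat.factorial_ne_zero n
  field_simp

theorem natDegree_P0 (n : ℕ) : (P0 n).natDegree = n := by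
  unfold P0
  have h3 : (1 / (n.factorial : ℚ)) ≠ 0 := by
    have : (n.factorial : ℚ) ≠ 0 := by exact_mod_cast Nat.factorial_ne_zero n
    positivity
  rw [Polynomial.natDegree_C_mul h3, natDegree_taylor, ascPochhammer_natDegree]

theorem leadingCoeff_P0 (n : ℕ) : (n.factorial : ℚ) * (P0 n).leadingCoeff = 1 := by
  unfold P0
  rw [Polynomial.leadingCoeff_mul, Polynomial.leadingCoeff_C, leadingCoeff_taylor, (monic_ascPochhammer ℚ n).leadingCoeff]
  have : (n.factorial : ℚ) ≠ 0 := by exact_mod_cast Nat.factorial_ne_zero n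
  field_simp

theorem HP_bot (n : ℕ) : HP (⊥ : Ideal (MvPolynomial (Fin (n + 1)) k)) = P0 n :=
  HP_eq ⟨0, fun m _ => by rw [hf_bot, eval_P0]⟩

/-- Hilbert polynomial of a homogeneous complete intersection: each regular hypersurface section
of degree `e` drops the degree by one and multiplies the normalised leading coefficient by `e`. -/
theorem HP_ci {n r : ℕ} (f : Fin r → MvPolynomial (Fin (n + 1)) k) (d : Fin r → ℕ)
    (hf : ∀ i, f i ∈ homogeneousSubmodule (Fin (n + 1)) k (d i)) (hd : ∀ i, 0 < d i)
    (hreg : IsWeaklyRegular (MvPolynomial (Fin (n + 1)) k) (List.ofFn f)) (hr : r ≤ n) :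
    ∀ j, j ≤ r →
      (Ideal.ofList ((List.ofFn f).take j)).IsHomogeneous
        (homogeneousSubmodule (Fin (n + 1)) k) ∧
      (HP (Ideal.ofList ((List.ofFn f).take j))).natDegree + j = n ∧
      ((HP (Ideal.ofList ((List.ofFn f).take j))).natDegree.factorial : ℚ) *
        (HP (Ideal.ofList ((List.ofFn f).take j))).leadingCoeff =
        ((((List.ofFn d).take j).prod : ℕ) : ℚ) := by
  intro j
  induction j with
  | zero =>
    intro _
    rw [List.take_zero, Ideal.ofList_nil, HP_bot, natDegree_P0, leadingCoeff_P0]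
    refine ⟨Ideal.IsHomogeneous.bot _, rfl, ?_⟩
    simp
  | succ j ih =>
    intro hj
    obtain ⟨hJh, hdeg, hlc⟩ := ih (by omega)
    have hj' : j < (List.ofFn f).length := by rw [List.length_ofFn]; omega
    have hj'' : j < (List.ofFn d).length := by rw [List.length_ofFn]; omega
    have hsucc : Ideal.ofList ((List.ofFn f).take (j + 1)) =
        Ideal.ofList ((List.ofFn f).take j) ⊔ Ideal.span {(List.ofFn f)[j]} := by
      rw [List.take_succ_eq_append_getElem hj', Ideal.ofList_append, Ideal.ofList_singleton]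
    have ha : (List.ofFn f)[j] ∈ homogeneousSubmodule (Fin (n + 1)) k (d ⟨j, by omega⟩) := by
      rw [List.getElem_ofFn]
      exact hf _
    have he : 0 < d ⟨j, by omega⟩ := hd _
    have hregj := hreg.regular_mod_prev j hj'
    have hregb : ∀ b, (List.ofFn f)[j] * b ∈ Ideal.ofList ((List.ofFn f).take j) →
        b ∈ Ideal.ofList ((List.ofFn f).take j) := by
      intro b hb
      have h1 : (List.ofFn f)[j] • (Submodule.Quotient.mk b : MvPolynomial (Fin (n + 1)) k ⧸
          (Ideal.ofList ((List.ofFn f).take j) • ⊤ : Submodule (MvPolynomial (Fin (n + 1)) k)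
            (MvPolynomial (Fin (n + 1)) k))) = (List.ofFn f)[j] • 0 := by
        rw [smul_zero, ← Submodule.Quotient.mk_smul, Submodule.Quotient.mk_eq_zero, smul_eq_mul,
          Ideal.mul_top]
        exact hb
      have h2 := hregj h1
      rw [Submodule.Quotient.mk_eq_zero, smul_eq_mul, Ideal.mul_top] at h2
      exact h2
    have ha0 : (List.ofFn f)[j] ≠ 0 := by
      intro h0
      have htop : Ideal.ofList ((List.ofFn f).take j) = ⊤ := by
        rw [eq_top_iff]
        intro b _
        apply hregb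
        rw [h0, zero_mul]
        exact Ideal.zero_mem _
      rw [htop, HP_top] at hdeg
      simp at hdeg
      omega
    rw [hsucc]
    have hJ'h := sup_span_isHomogeneous hJh ha
    obtain ⟨N₁, hN₁⟩ := HP_spec hJh
    obtain ⟨N₂, hN₂⟩ := HP_spec hJ'h
    have hdiff := degree_of_diff (HP (Ideal.ofList ((List.ofFn f).take j)))
      (HP (Ideal.ofList ((List.ofFn f).take j) ⊔ Ideal.span {(List.ofFn f)[j]}))
      (d ⟨j, by omega⟩) he (by omega) (max N₁ N₂) (by
        intro m hm
        have h1 := hf_sup_span _ hJh ha ha0 hregb m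
        rw [← hN₂ _ (by omega), ← hN₁ _ (by omega), ← hN₁ m (by omega), ← h1]
        push_cast
        ring)
    refine ⟨hJ'h, by omega, ?_⟩
    rw [hdiff.2, hlc, List.take_succ_eq_append_getElem hj'', List.prod_append, List.prod_singleton,
      List.getElem_ofFn]
    push_cast
    ring

/-- Bézout: the Hilbert function of `k[x_0..x_n]/(f_1..f_n)` for a homogeneous regular sequence
is eventually the constant `∏ deg f_i`. -/
theorem hf_ci_eventually {n : ℕ} (f : Fin n → MvPolynomial (Fin (n + 1)) k) (d : Fin n → ℕ)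
    (hfh : ∀ i, f i ∈ homogeneousSubmodule (Fin (n + 1)) k (d i)) (hd : ∀ i, 0 < d i)
    (hreg : IsWeaklyRegular (MvPolynomial (Fin (n + 1)) k) (List.ofFn f)) :
    ∃ m₀ : ℕ, ∀ m : ℕ, m₀ ≤ m → hf (Ideal.ofList (List.ofFn f)) m = ∏ i, d i := by
  obtain ⟨hJh, hdeg, hlc⟩ := HP_ci f d hfh hd hreg le_rfl n le_rfl
  rw [List.take_of_length_le (by rw [List.length_ofFn])] at hJh hdeg hlc
  rw [List.take_of_length_le (by rw [List.length_ofFn]), List.prod_ofFn] at hlc
  have h0 : (HP (Ideal.ofList (List.ofFn f))).natDegree = 0 := by omega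
  rw [h0, Nat.factorial_zero, Nat.cast_one, one_mul, Polynomial.leadingCoeff, h0] at hlc
  obtain ⟨N, hN⟩ := HP_spec hJh
  refine ⟨N, fun m hm => ?_⟩
  have h1 := hN m hm
  rw [Polynomial.eq_C_of_natDegree_eq_zero h0, Polynomial.eval_C, hlc] at h1
  exact_mod_cast h1

end Groth.Agent.Helper12.ProjHilb
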