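import Mathlib
import Groth.Agent.Lib.Helper12.ProjHilb6

/-!
# Generic linear sections of homogeneous ideals (infinite base field)
-/

set_option autoImplicit false
universe u
open MvPolynomial

namespace Groth.Agent.Helper12.ProjHilb

attribute [local instance] MvPolynomial.gradedAlgebra

variable {k : Type u} [Field k] {n : ℕ}

/-- Over an infinite field, there is a linear form avoiding finitely many ideals none of which
contains the irrelevant ideal. -/
theorem exists_linear_notMem [Infinite k] (S : Finset (Ideal (MvPolynomial (Fin n) k)))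
    (hS : ∀ P ∈ S, ¬ idealOfVars (Fin n) k ≤ P) :
    ∃ ℓ ∈ homogeneousSubmodule (Fin n) k 1, ∀ P ∈ S, ℓ ∉ P := by
  classical
  let W : Ideal (MvPolynomial (Fin n) k) → Subspace k (homogeneousSubmodule (Fin n) k 1) :=
    fun P => (P.restrictScalars k).comap (homogeneousSubmodule (Fin n) k 1).subtype
  have htop : (⊤ : Subspace k (homogeneousSubmodule (Fin n) k 1)) ∉ S.image W := by
    intro h
    obtain ⟨P, hP, hWP⟩ := Finset.mem_image.mp h
    apply hS P hP
    unfold idealOfVars
    rw [Ideal.span_le]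
    rintro _ ⟨i, rfl⟩
    have h1 : (⟨X i, X_mem_homogeneousSubmodule i⟩ : homogeneousSubmodule (Fin n) k 1) ∈ W P := by
      rw [hWP]
      trivial
    exact h1
  have hne := Subspace.biUnion_ne_univ_of_top_notMem htop
  rw [Ne, Set.eq_univ_iff_forall, not_forall] at hne
  obtain ⟨x, hx⟩ := hne
  refine ⟨x.1, x.2, fun P hP hxP => hx ?_⟩
  simp only [Set.mem_iUnion, exists_prop]
  exact ⟨W P, Finset.mem_image_of_mem W hP, hxP⟩

/-- A generic linear section of a homogeneous ideal drops the dimension. -/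
theorem exists_linear_dim_le [Infinite k] (J : Ideal (MvPolynomial (Fin n) k)) (s : ℕ)
    (hdim : ringKrullDim (MvPolynomial (Fin n) k ⧸ J) ≤ (s : WithBot ℕ∞) + 1) :
    ∃ ℓ ∈ homogeneousSubmodule (Fin n) k 1,
      ringKrullDim (MvPolynomial (Fin n) k ⧸ (J ⊔ Ideal.span {ℓ})) ≤ (s : WithBot ℕ∞) := by
  classical
  have hfin := J.finite_minimalPrimes_of_isNoetherianRing
  obtain ⟨ℓ, hℓ, hℓS⟩ := exists_linear_notMem
    (hfin.toFinset.filter (fun P => ¬ idealOfVars (Fin n) k ≤ P)) (by
      intro P hP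
      exact (Finset.mem_filter.mp hP).2)
  refine ⟨ℓ, hℓ, ?_⟩
  apply ringKrullDim_quotient_le_of_minimalPrimes
  intro Q hQ
  have hQp : Q.IsPrime := hQ.1.1
  have hJQ : J ≤ Q := le_sup_left.trans hQ.1.2
  have hℓQ : ℓ ∈ Q := hQ.1.2 (Ideal.mem_sup_right (Ideal.mem_span_singleton_self ℓ))
  obtain ⟨P, hP, hPQ⟩ := Ideal.exists_minimalPrimes_le hJQ
  have hPp : P.IsPrime := hP.1.1
  by_cases hmP : idealOfVars (Fin n) k ≤ P
  · rw [ringKrullDim_quotient_eq_zero_of_idealOfVars_le Q (hmP.trans hPQ)]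
    exact_mod_cast Nat.zero_le s
  · have hℓP : ℓ ∉ P := hℓS P (Finset.mem_filter.mpr ⟨hfin.mem_toFinset.mpr hP, hmP⟩)
    have hlt : P < Q := lt_of_le_of_ne hPQ (by
      rintro rfl
      exact hℓP hℓQ)
    obtain ⟨a, b, ha, hb, hab⟩ := exists_dim_height P
    obtain ⟨a', b', ha', hb', hab'⟩ := exists_dim_height Q
    have h1 := Ideal.height_add_one_le_of_lt_of_isPrime hlt
    rw [hb, hb'] at h1
    have h2 : b + 1 ≤ b' := by exact_mod_cast h1
    have h3 : ringKrullDim (MvPolynomial (Fin n) k ⧸ P) ≤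
        ringKrullDim (MvPolynomial (Fin n) k ⧸ J) :=
      ringKrullDim_le_of_surjective (Ideal.Quotient.factor hP.1.2)
        (Ideal.Quotient.factor_surjective hP.1.2)
    have h4 := h3.trans hdim
    rw [ha] at h4
    have h5 : a ≤ s + 1 := by exact_mod_cast h4
    rw [ha']
    have h6 : a' ≤ s := by omega
    exact_mod_cast h6

/-- A homogeneous ideal with `dim R/J ≤ 0` contains a power of the irrelevant ideal. -/
theorem exists_pow_idealOfVars_le (J : Ideal (MvPolynomial (Fin n) k))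
    (hJ : J.IsHomogeneous (homogeneousSubmodule (Fin n) k))
    (hdim : ringKrullDim (MvPolynomial (Fin n) k ⧸ J) ≤ 0) :
    ∃ N : ℕ, idealOfVars (Fin n) k ^ N ≤ J := by
  apply Ideal.exists_pow_le_of_le_radical_of_fg_radical _ (IsNoetherian.noetherian _)
  rw [← Ideal.sInf_minimalPrimes]
  refine le_sInf fun Q hQ => ?_
  have hQp : Q.IsPrime := hQ.1.1
  have hQdim : ringKrullDim (MvPolynomial (Fin n) k ⧸ Q) ≤ 0 :=
    (ringKrullDim_le_of_surjective (Ideal.Quotient.factor hQ.1.2)
      (Ideal.Quotient.factor_surjective hQ.1.2)).trans hdim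
  have : Ring.KrullDimLE 0 (MvPolynomial (Fin n) k ⧸ Q) :=
    Ring.krullDimLE_iff.mpr (by simpa using hQdim)
  have hfield : IsField (MvPolynomial (Fin n) k ⧸ Q) := Ring.KrullDimLE.isField_of_isDomain
  have hQmax : Q.IsMaximal := Ideal.Quotient.maximal_of_isField Q hfield
  have hQle : Q ≤ idealOfVars (Fin n) k :=
    le_idealOfVars_of_isHomogeneous (isHomogeneous_of_mem_minimalPrimes hJ hQ) hQp.ne_top
  rw [hQmax.eq_of_le idealOfVars_ne_top hQle]

end Groth.Agent.Helper12.ProjHilb
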