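import Mathlib
import Groth.Agent.Lib.Helper7.Graded

/-!
The graded ring `S♮ = ⊕ S_{≥ n}` presented as a graded subring of `S[X]` (helper12).
-/

set_option autoImplicit false
universe u

open DirectSum Polynomial

namespace Groth.Agent.Helper12.SNat

section I

variable {R A : Type u} [CommRing R] [CommRing A] [Algebra R A]
  (𝒜 : ℕ → Submodule R A) [GradedAlgebra 𝒜]

/-- `S_{≥ n}` -/
def I (n : ℕ) : Submodule R A := ⨆ (m : ℕ) (_ : n ≤ m), 𝒜 m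

theorem le_I {n m : ℕ} (h : n ≤ m) : 𝒜 m ≤ I 𝒜 n :=
  le_iSup₂_of_le m h le_rfl

theorem I_antitone {n n' : ℕ} (h : n ≤ n') : I 𝒜 n' ≤ I 𝒜 n :=
  iSup₂_le fun m hm => le_I 𝒜 (h.trans hm)

theorem I_zero : I 𝒜 0 = ⊤ := by
  rw [eq_top_iff]
  intro x _
  classical
  rw [← DirectSum.sum_support_decompose 𝒜 x]
  exact Submodule.sum_mem _ fun i _ => le_I 𝒜 (Nat.zero_le i) (decompose 𝒜 x i).2

theorem proj_eq_zero_of_mem_I {n : ℕ} {x : A} (hx : x ∈ I 𝒜 n) {j : ℕ} (hj : j < n) :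
    GradedRing.proj 𝒜 j x = 0 := by
  classical
  unfold I at hx
  induction hx using Submodule.iSup_induction' with
  | mem m y hy =>
    induction hy using Submodule.iSup_induction' with
    | mem hm y hy =>
      rw [GradedRing.proj_apply, DirectSum.decompose_of_mem_ne 𝒜 hy (by omega)]
    | zero => simp
    | add y z _ _ hy hz => rw [map_add, hy, hz, add_zero]
  | zero => simp
  | add y z _ _ hy hz => rw [map_add, hy, hz, add_zero]

theorem mem_I_of_proj {n : ℕ} {x : A} (h : ∀ j < n, GradedRing.proj 𝒜 j x = 0) : x ∈ I 𝒜 n := by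
  classical
  rw [← DirectSum.sum_support_decompose 𝒜 x]
  refine Submodule.sum_mem _ fun i hi => ?_
  by_cases hin : n ≤ i
  · exact le_I 𝒜 hin (decompose 𝒜 x i).2
  · have := h i (by omega)
    rw [GradedRing.proj_apply] at this
    rw [this]
    exact Submodule.zero_mem _

theorem mem_I_iff {n : ℕ} {x : A} : x ∈ I 𝒜 n ↔ ∀ j < n, GradedRing.proj 𝒜 j x = 0 :=
  ⟨fun hx _ hj => proj_eq_zero_of_mem_I 𝒜 hx hj, mem_I_of_proj 𝒜⟩

theorem I_mul_le (a b : ℕ) : I 𝒜 a * I 𝒜 b ≤ I 𝒜 (a + b) := by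
  unfold I
  rw [Submodule.iSup_mul]
  refine iSup_le fun m => ?_
  rw [Submodule.iSup_mul]
  refine iSup_le fun hm => ?_
  rw [Submodule.mul_iSup]
  refine iSup_le fun m' => ?_
  rw [Submodule.mul_iSup]
  refine iSup_le fun hm' => ?_
  refine le_trans ?_ (le_iSup₂_of_le (m + m') (by omega) le_rfl)
  rw [Submodule.mul_le]
  intro x hx y hy
  exact SetLike.GradedMul.mul_mem hx hy

theorem mul_mem_I {n : ℕ} (c : A) {x : A} (hx : x ∈ I 𝒜 n) : c * x ∈ I 𝒜 n := by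
  have h := I_mul_le 𝒜 0 n
  rw [zero_add] at h
  apply h
  apply Submodule.mul_mem_mul _ hx
  rw [I_zero]
  trivial

theorem proj_mem_I {n : ℕ} {x : A} (hx : x ∈ I 𝒜 n) (j : ℕ) : GradedRing.proj 𝒜 j x ∈ I 𝒜 n := by
  by_cases hj : j < n
  · rw [proj_eq_zero_of_mem_I 𝒜 hx hj]; exact Submodule.zero_mem _
  · rw [GradedRing.proj_apply]
    exact le_I 𝒜 (by omega) (decompose 𝒜 x j).2

theorem sub_proj_mem_I {n : ℕ} {x : A} (hx : x ∈ I 𝒜 n) :
    x - GradedRing.proj 𝒜 n x ∈ I 𝒜 (n + 1) := by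
  classical
  rw [mem_I_iff]
  intro j hj
  rw [map_sub]
  rcases Nat.lt_succ_iff_lt_or_eq.mp hj with h | h
  · rw [proj_eq_zero_of_mem_I 𝒜 hx h, GradedRing.proj_apply, GradedRing.proj_apply,
      DirectSum.decompose_of_mem_ne 𝒜 (decompose 𝒜 x n).2 (by omega), sub_zero]
  · subst h
    rw [GradedRing.proj_apply, GradedRing.proj_apply,
      DirectSum.decompose_of_mem_same 𝒜 (decompose 𝒜 x j).2, sub_self]

theorem I_le_sup (n : ℕ) : I 𝒜 n ≤ 𝒜 n ⊔ I 𝒜 (n + 1) := by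
  intro x hx
  have : x = GradedRing.proj 𝒜 n x + (x - GradedRing.proj 𝒜 n x) := by ring
  rw [this]
  refine Submodule.add_mem_sup ?_ (sub_proj_mem_I 𝒜 hx)
  rw [GradedRing.proj_apply]
  exact (decompose 𝒜 x n).2

theorem mul_le' {P P' Q Q' : Submodule R A} (h1 : P ≤ P') (h2 : Q ≤ Q') : P * Q ≤ P' * Q' :=
  Submodule.mul_le.mpr fun _ hx _ hy => Submodule.mul_mem_mul (h1 hx) (h2 hy)

theorem mul_le_I {P Q : Submodule R A} {a b c : ℕ} (hP : P ≤ I 𝒜 a) (hQ : Q ≤ I 𝒜 b)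
    (h : c ≤ a + b) : P * Q ≤ I 𝒜 c :=
  ((mul_le' hP hQ).trans (I_mul_le 𝒜 a b)).trans (I_antitone 𝒜 h)

theorem sup_mul_sup_le (P Q : Submodule R A) (a b : ℕ) (hP : P ≤ I 𝒜 a) (hQ : Q ≤ I 𝒜 b) :
    (P ⊔ I 𝒜 (a + 1)) * (Q ⊔ I 𝒜 (b + 1)) ≤ P * Q ⊔ I 𝒜 (a + b + 1) := by
  have e1 : (P ⊔ I 𝒜 (a + 1)) * (Q ⊔ I 𝒜 (b + 1)) =
      (P * Q ⊔ P * I 𝒜 (b + 1)) ⊔ (I 𝒜 (a + 1) * Q ⊔ I 𝒜 (a + 1) * I 𝒜 (b + 1)) := by
    rw [Submodule.sup_mul, Submodule.mul_sup, Submodule.mul_sup]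
  rw [e1]
  have h1 : P * I 𝒜 (b + 1) ≤ I 𝒜 (a + b + 1) := mul_le_I 𝒜 hP le_rfl (by omega)
  have h2 : I 𝒜 (a + 1) * Q ≤ I 𝒜 (a + b + 1) := mul_le_I 𝒜 le_rfl hQ (by omega)
  have h3 : I 𝒜 (a + 1) * I 𝒜 (b + 1) ≤ I 𝒜 (a + b + 1) := mul_le_I 𝒜 le_rfl le_rfl (by omega)
  exact sup_le (sup_le le_sup_left (h1.trans le_sup_right))
    (sup_le (h2.trans le_sup_right) (h3.trans le_sup_right))

theorem pow_le (n : ℕ) : (𝒜 1) ^ n ≤ 𝒜 n := by
  induction n with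
  | zero =>
    rw [pow_zero, Submodule.one_le]
    exact SetLike.GradedOne.one_mem
  | succ n ih =>
    rw [pow_succ]
    refine (mul_le' ih (le_refl (𝒜 1))).trans ?_
    rw [Submodule.mul_le]
    intro x hx y hy
    exact SetLike.GradedMul.mul_mem hx hy

theorem I_pow_le (n : ℕ) : (I 𝒜 1) ^ n ≤ I 𝒜 n := by
  induction n with
  | zero => rw [I_zero]; exact le_top
  | succ n ih =>
    rw [pow_succ]
    exact mul_le_I 𝒜 ih le_rfl le_rfl

/-- degree `n` part of an element of `𝒜 n ⊔ I (n+1)` -/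
theorem eq_of_mem_sup {n : ℕ} {x : A} (hx : x ∈ 𝒜 n) (P : Submodule R A) (hP : P ≤ 𝒜 n)
    (h : x ∈ P ⊔ I 𝒜 (n + 1)) : x ∈ P := by
  classical
  obtain ⟨y, hy, z, hz, rfl⟩ := Submodule.mem_sup.mp h
  have h1 : GradedRing.proj 𝒜 n (y + z) = y + z := by
    rw [GradedRing.proj_apply, DirectSum.decompose_of_mem_same 𝒜 hx]
  rw [map_add, proj_eq_zero_of_mem_I 𝒜 hz (Nat.lt_succ_self n), add_zero, GradedRing.proj_apply,
    DirectSum.decompose_of_mem_same 𝒜 (hP hy)] at h1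
  rw [← h1]
  exact hy

theorem mul_le_succ (n : ℕ) : 𝒜 1 * 𝒜 n ≤ 𝒜 (n + 1) := by
  rw [Submodule.mul_le]
  intro x hx y hy
  have := SetLike.GradedMul.mul_mem (A := 𝒜) hx hy
  rwa [add_comm] at this

/-- G1 -/
theorem I_succ_eq_iff (n₀ : ℕ) :
    (∀ n : ℕ, n₀ ≤ n → I 𝒜 (n + 1) = I 𝒜 1 * I 𝒜 n) ↔
      (∀ n : ℕ, n₀ ≤ n → 𝒜 (n + 1) = 𝒜 1 * 𝒜 n) := by
  constructor
  · intro h n hn
    apply le_antisymm _ (mul_le_succ 𝒜 n)
    intro x hx
    have hx' : x ∈ I 𝒜 1 * I 𝒜 n := by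
      rw [← h n hn]; exact le_I 𝒜 le_rfl hx
    have hle : I 𝒜 1 * I 𝒜 n ≤ 𝒜 1 * 𝒜 n ⊔ I 𝒜 (1 + n + 1) :=
      (mul_le' (I_le_sup 𝒜 1) (I_le_sup 𝒜 n)).trans
        (sup_mul_sup_le 𝒜 (𝒜 1) (𝒜 n) 1 n (le_I 𝒜 le_rfl) (le_I 𝒜 le_rfl))
    have hx'' := hle hx'
    rw [show 1 + n + 1 = n + 1 + 1 by omega] at hx''
    exact eq_of_mem_sup 𝒜 hx _ (mul_le_succ 𝒜 n) hx''
  · intro h n hn
    apply le_antisymm
    · unfold I
      refine iSup₂_le fun m hm => ?_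
      obtain ⟨m', rfl⟩ : ∃ m', m = m' + 1 := ⟨m - 1, by omega⟩
      rw [h m' (by omega)]
      exact mul_le' (le_I 𝒜 le_rfl) (le_I 𝒜 (by omega))
    · exact mul_le_I 𝒜 le_rfl le_rfl (by omega)

/-- G2 -/
theorem I_eq_pow_iff (n₀ : ℕ) (hn₀ : 1 ≤ n₀) :
    (∀ n : ℕ, n₀ ≤ n → I 𝒜 n = I 𝒜 1 ^ n) ↔ (∀ n : ℕ, n₀ ≤ n → 𝒜 n = 𝒜 1 ^ n) := by
  constructor
  · intro h n hn
    apply le_antisymm _ (pow_le 𝒜 n)
    have hC : ∀ n, I 𝒜 1 ^ n ≤ 𝒜 1 ^ n ⊔ I 𝒜 (n + 1) := by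
      intro n
      induction n with
      | zero => rw [pow_zero, pow_zero]; exact le_sup_left
      | succ n ih =>
        rw [pow_succ, pow_succ]
        exact (mul_le' ih (I_le_sup 𝒜 1)).trans
          (sup_mul_sup_le 𝒜 (𝒜 1 ^ n) (𝒜 1) n 1 ((pow_le 𝒜 n).trans (le_I 𝒜 le_rfl))
            (le_I 𝒜 le_rfl))
    intro x hx
    have hx' : x ∈ I 𝒜 1 ^ n := by
      rw [← h n hn]; exact le_I 𝒜 le_rfl hx
    exact eq_of_mem_sup 𝒜 hx _ (pow_le 𝒜 n) (hC n hx')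
  · intro h n hn
    apply le_antisymm _ (I_pow_le 𝒜 n)
    unfold I
    refine iSup₂_le fun m hm => ?_
    rw [h m (by omega)]
    obtain ⟨n', rfl⟩ : ∃ n', n = n' + 1 := ⟨n - 1, by omega⟩
    have hm' : m = n' + (m - n') := by omega
    rw [hm', pow_add, pow_succ]
    refine mul_le' ?_ ?_
    · exact pow_le_pow_left' (le_I 𝒜 le_rfl) n'
    · exact (pow_le 𝒜 _).trans (le_I 𝒜 (by omega))

end I

section Mon

variable {R A : Type u} [CommRing R] [CommRing A] [Algebra R A]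

/-- `s ↦ s X^n` as an `R`-linear map -/
noncomputable def mon (n : ℕ) : A →ₗ[R] Polynomial A :=
  (Polynomial.monomial n : A →ₗ[A] Polynomial A).restrictScalars R

@[simp] theorem mon_apply (n : ℕ) (a : A) : mon (R := R) n a = Polynomial.monomial n a := rfl

theorem mon_injective (n : ℕ) : Function.Injective (mon (R := R) (A := A) n) :=
  Polynomial.monomial_injective n

theorem map_mon_mul (a b : ℕ) (P Q : Submodule R A) :
    Submodule.map (mon a) P * Submodule.map (mon b) Q = Submodule.map (mon (a + b)) (P * Q) := by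
  apply le_antisymm
  · rw [Submodule.mul_le]
    rintro _ ⟨p, hp, rfl⟩ _ ⟨q, hq, rfl⟩
    refine ⟨p * q, Submodule.mul_mem_mul hp hq, ?_⟩
    simp [Polynomial.monomial_mul_monomial]
  · rw [Submodule.map_le_iff_le_comap, Submodule.mul_le]
    intro p hp q hq
    rw [Submodule.mem_comap]
    have : mon (R := R) (a + b) (p * q) = mon (R := R) a p * mon (R := R) b q := by
      simp [Polynomial.monomial_mul_monomial]
    rw [this]
    exact Submodule.mul_mem_mul ⟨p, hp, rfl⟩ ⟨q, hq, rfl⟩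

theorem map_mon_pow (P : Submodule R A) (n : ℕ) :
    Submodule.map (mon 1) P ^ n = Submodule.map (mon n) (P ^ n) := by
  induction n with
  | zero =>
    rw [pow_zero, pow_zero, Submodule.one_eq_span, Submodule.one_eq_span, Submodule.map_span]
    congr 1
    simp
  | succ n ih =>
    rw [pow_succ, pow_succ, ih, map_mon_mul]

end Mon

section Transfer

variable {R A B : Type u} [CommRing R] [CommRing A] [Algebra R A]
  (𝒜 : ℕ → Submodule R A) [GradedAlgebra 𝒜] [CommRing B] [Algebra R B]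
  (ℬ : ℕ → Submodule R B) [GradedAlgebra ℬ]
  (φ : B →ₐ[R] Polynomial A) (hφ : Function.Injective φ)
  (hdeg : ∀ n : ℕ, Submodule.map φ.toLinearMap (ℬ n) =
    Submodule.map ((Polynomial.monomial n : A →ₗ[A] Polynomial A).restrictScalars R)
      (⨆ (m : ℕ) (_ : n ≤ m), 𝒜 m))

omit [GradedAlgebra 𝒜] [GradedAlgebra ℬ] in
include hdeg in
theorem hdeg' (n : ℕ) : Submodule.map φ.toLinearMap (ℬ n) = Submodule.map (mon n) (I 𝒜 n) :=
  hdeg n

include hφ hdeg in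
theorem eq_mul_iff (a b c : ℕ) (h : a = b + c) :
    ℬ a = ℬ b * ℬ c ↔ I 𝒜 a = I 𝒜 b * I 𝒜 c := by
  subst h
  rw [← (Submodule.map_injective_of_injective (f := φ.toLinearMap) hφ).eq_iff, Submodule.map_mul,
    hdeg' 𝒜 ℬ φ hdeg, hdeg' 𝒜 ℬ φ hdeg, hdeg' 𝒜 ℬ φ hdeg, map_mon_mul,
    (Submodule.map_injective_of_injective (mon_injective (R := R) (b + c))).eq_iff]

include hφ hdeg in
theorem eq_pow_iff (n : ℕ) : ℬ n = ℬ 1 ^ n ↔ I 𝒜 n = I 𝒜 1 ^ n := by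
  rw [← (Submodule.map_injective_of_injective (f := φ.toLinearMap) hφ).eq_iff, Submodule.map_pow,
    hdeg' 𝒜 ℬ φ hdeg, hdeg' 𝒜 ℬ φ hdeg, map_mon_pow,
    (Submodule.map_injective_of_injective (mon_injective (R := R) n)).eq_iff]

omit [GradedAlgebra 𝒜] [GradedAlgebra ℬ] in
include hdeg in
/-- (E1) -/
theorem exists_of_mem {n : ℕ} {b : B} (hb : b ∈ ℬ n) :
    ∃ s ∈ I 𝒜 n, φ b = Polynomial.monomial n s := by
  have h : φ b ∈ Submodule.map φ.toLinearMap (ℬ n) := ⟨b, hb, rfl⟩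
  rw [hdeg' 𝒜 ℬ φ hdeg] at h
  obtain ⟨s, hs, hsb⟩ := h
  exact ⟨s, hs, hsb.symm⟩

omit [GradedAlgebra 𝒜] [GradedAlgebra ℬ] in
include hdeg in
/-- (E2) -/
theorem exists_lift {n : ℕ} {s : A} (hs : s ∈ I 𝒜 n) :
    ∃ b ∈ ℬ n, φ b = Polynomial.monomial n s := by
  have h : Polynomial.monomial n s ∈ Submodule.map (mon (R := R) n) (I 𝒜 n) := ⟨s, hs, rfl⟩
  rw [← hdeg' 𝒜 ℬ φ hdeg] at h
  obtain ⟨b, hb, hbs⟩ := h
  exact ⟨b, hb, hbs⟩

include hφ hdeg in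
/-- every positive-degree homogeneous element of `B` is a sum of bihomogeneous ones: to prove
that `ℬ n ≤ P` for a submodule `P`, it suffices to treat `b` with `φ b = x Xⁿ`, `x ∈ 𝒜 m`. -/
theorem le_of_bihomogeneous (n : ℕ) (P : Submodule R B)
    (h : ∀ (m : ℕ) (b : B) (x : A), n ≤ m → b ∈ ℬ n → x ∈ 𝒜 m →
      φ b = Polynomial.monomial n x → b ∈ P) : ℬ n ≤ P := by
  classical
  intro b hb
  obtain ⟨x, hx, hbx⟩ := exists_of_mem 𝒜 ℬ φ hdeg hb
  -- lift each component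
  have hcomp : ∀ m : ℕ, ∃ c ∈ ℬ n, φ c = Polynomial.monomial n (GradedRing.proj 𝒜 m x) :=
    fun m => exists_lift 𝒜 ℬ φ hdeg (proj_mem_I 𝒜 hx m)
  choose c hc hcφ using hcomp
  have hsum : b = ∑ m ∈ (decompose 𝒜 x).support, c m := by
    apply hφ
    rw [hbx, map_sum]
    simp only [hcφ]
    rw [← map_sum]
    congr 1
    conv_lhs => rw [← DirectSum.sum_support_decompose 𝒜 x]
    rfl
  rw [hsum]
  refine Submodule.sum_mem _ fun m _ => ?_
  by_cases hnm : n ≤ m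
  · refine h m (c m) _ hnm (hc m) ?_ (hcφ m)
    rw [GradedRing.proj_apply]
    exact (decompose 𝒜 x m).2
  · have h0 : GradedRing.proj 𝒜 m x = 0 := proj_eq_zero_of_mem_I 𝒜 hx (by omega)
    have : c m = 0 := by
      apply hφ
      rw [hcφ, h0, map_zero, map_zero]
    rw [this]
    exact Submodule.zero_mem _

/-- `S♮_0 → S`, `b ↦` constant coefficient of `φ b` -/
noncomputable def gradeZeroHom : ℬ 0 →+* A :=
  (Polynomial.constantCoeff : Polynomial A →+* A).comp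
    ((φ : B →+* Polynomial A).comp (algebraMap (ℬ 0) B))

include hφ hdeg in
theorem gradeZeroHom_bijective : Function.Bijective (gradeZeroHom ℬ φ) := by
  constructor
  · rw [injective_iff_map_eq_zero]
    intro b hb
    obtain ⟨s, -, hs⟩ := exists_of_mem 𝒜 ℬ φ hdeg b.2
    have h1 : gradeZeroHom ℬ φ b = s := by
      change Polynomial.constantCoeff (φ (b : B)) = s
      rw [hs]
      simp
    rw [h1] at hb
    rw [hb, map_zero] at hs
    have : (b : B) = 0 := hφ (by rw [hs, map_zero])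
    exact Subtype.ext this
  · intro a
    have ha : a ∈ I 𝒜 0 := by rw [I_zero]; trivial
    obtain ⟨b, hb, hba⟩ := exists_lift 𝒜 ℬ φ hdeg ha
    refine ⟨⟨b, hb⟩, ?_⟩
    change Polynomial.constantCoeff (φ b) = a
    rw [hba]
    simp

end Transfer

end Groth.Agent.Helper12.SNat
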