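import Mathlib
import Groth.Agent.Lib.Helper12.SNat

/-!
# `Proj S → Proj T` for `T = S♮ ⊗_S S_0`: the kernel of `ρ : T → S` is nil
-/

set_option autoImplicit false
universe u

open DirectSum Polynomial Groth.Agent.Helper12.SNat

namespace Groth.Agent.Helper12.ProjNat

variable {R A B C : Type u} [CommRing R] [CommRing A] [Algebra R A]
  (𝒜 : ℕ → Submodule R A) [GradedAlgebra 𝒜] [CommRing B] [Algebra R B]
  (ℬ : ℕ → Submodule R B) [GradedAlgebra ℬ]
  (φ : B →ₐ[R] Polynomial A) (hφ : Function.Injective φ)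
  (hdeg : ∀ n : ℕ, Submodule.map φ.toLinearMap (ℬ n) =
    Submodule.map ((Polynomial.monomial n : A →ₗ[A] Polynomial A).restrictScalars R)
      (⨆ (m : ℕ) (_ : n ≤ m), 𝒜 m))
  [CommRing C] [Algebra R C] (𝒞 : ℕ → Submodule R C) [GradedAlgebra 𝒞]
  (π : ℬ →+*ᵍ 𝒞) (hπ : Function.Surjective π)
  (hker : RingHom.ker π.toRingHom =
    Ideal.span (⇑φ ⁻¹' (⇑(Polynomial.C : A →+* Polynomial A) ''
      ((HomogeneousIdeal.irrelevant 𝒜).toIdeal : Set A))))
  (ρ : 𝒞 →+*ᵍ 𝒜)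
  (hρ : ∀ (n : ℕ) (b : B), b ∈ ℬ n → ρ (π b) = GradedRing.proj 𝒜 n ((φ b).coeff n))

include hdeg hρ in
theorem rho_surjective : Function.Surjective ρ := by
  classical
  intro a
  have hhom : ∀ i : ℕ, ∃ c : C, ρ c = (decompose 𝒜 a i : A) := by
    intro i
    obtain ⟨b, hb, hbφ⟩ := exists_lift 𝒜 ℬ φ hdeg (le_I 𝒜 le_rfl (decompose 𝒜 a i).2)
    refine ⟨π b, ?_⟩
    rw [hρ i b hb, hbφ, Polynomial.coeff_monomial, if_pos rfl, GradedRing.proj_apply,
      DirectSum.decompose_coe, DirectSum.of_eq_same]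
  choose c hc using hhom
  refine ⟨∑ i ∈ (decompose 𝒜 a).support, c i, ?_⟩
  rw [map_sum]
  conv_rhs => rw [← DirectSum.sum_support_decompose 𝒜 a]
  exact Finset.sum_congr rfl fun i _ => hc i

include hπ in
theorem lift_homogeneous {n : ℕ} {x : C} (hx : x ∈ 𝒞 n) : ∃ b ∈ ℬ n, π b = x := by
  classical
  obtain ⟨b', rfl⟩ := hπ x
  refine ⟨decompose ℬ b' n, (decompose ℬ b' n).2, ?_⟩
  rw [GradedRingHom.map_directSumDecompose, DirectSum.decompose_of_mem_same 𝒞 hx]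

theorem pow_mem_I {m : ℕ} {a : A} (ha : a ∈ I 𝒜 m) (j : ℕ) : a ^ j ∈ I 𝒜 (m * j) := by
  induction j with
  | zero => rw [Nat.mul_zero, I_zero]; exact Submodule.mem_top
  | succ j ih =>
    rw [pow_succ, Nat.mul_succ]
    exact I_mul_le 𝒜 _ _ (Submodule.mul_mem_mul ih ha)

include hφ hdeg hπ hker hρ in
theorem pow_eq_zero_of_rho_eq_zero {n : ℕ} {x : C} (hx : x ∈ 𝒞 n) (h0 : ρ x = 0) :
    x ^ (n + 1) = 0 := by
  classical
  obtain ⟨b, hb, rfl⟩ := lift_homogeneous ℬ 𝒞 π hπ hx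
  obtain ⟨s, hs, hbs⟩ := exists_of_mem 𝒜 ℬ φ hdeg hb
  rw [hρ n b hb, hbs, Polynomial.coeff_monomial, if_pos rfl] at h0
  have hs1 : s ∈ I 𝒜 (n + 1) := by
    rw [mem_I_iff]
    intro j hj
    rcases Nat.lt_succ_iff_lt_or_eq.mp hj with h | h
    · exact proj_eq_zero_of_mem_I 𝒜 hs h
    · rw [h]; exact h0
  have hsirr : s ∈ (HomogeneousIdeal.irrelevant 𝒜).toIdeal := by
    change s ∈ HomogeneousIdeal.irrelevant 𝒜
    rw [HomogeneousIdeal.mem_irrelevant_iff]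
    exact proj_eq_zero_of_mem_I 𝒜 hs1 (Nat.succ_pos n)
  obtain ⟨c, -, hcφ⟩ := exists_lift 𝒜 ℬ φ hdeg (pow_mem_I 𝒜 hs1 n)
  obtain ⟨b₀, -, hb₀φ⟩ := exists_lift 𝒜 ℬ φ hdeg (n := 0) (s := s) (by rw [I_zero]; trivial)
  have hb₀ : b₀ ∈ RingHom.ker π.toRingHom := by
    rw [hker]
    refine Ideal.subset_span ⟨s, hsirr, ?_⟩
    rw [hb₀φ, Polynomial.monomial_zero_left]
  have heq : b ^ (n + 1) = b₀ * c := by
    apply hφ
    rw [map_pow, map_mul, hbs, hcφ, hb₀φ, Polynomial.monomial_pow, Polynomial.monomial_mul_monomial,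
      zero_add, ← pow_succ', mul_comm n (n + 1)]
  have : π (b ^ (n + 1)) = 0 := by
    rw [heq]
    exact (RingHom.ker π.toRingHom).mul_mem_right c hb₀
  rw [← map_pow]
  exact this

include hφ hdeg hπ hker hρ in
theorem ker_le_of_isPrime (q : HomogeneousIdeal 𝒞) [hq : q.toIdeal.IsPrime] :
    RingHom.ker ρ.toRingHom ≤ q.toIdeal := by
  classical
  intro x hx
  have hx0 : ρ x = 0 := hx
  rw [← DirectSum.sum_support_decompose 𝒞 x]
  refine Ideal.sum_mem _ fun i _ => ?_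
  have h0 : ρ (decompose 𝒞 x i : C) = 0 := by
    rw [GradedRingHom.map_directSumDecompose, hx0, DirectSum.decompose_zero]
    rfl
  have := pow_eq_zero_of_rho_eq_zero 𝒜 ℬ φ hφ hdeg 𝒞 π hπ hker ρ hρ (decompose 𝒞 x i).2 h0
  exact hq.mem_of_pow_mem (i + 1) (by rw [this]; exact Ideal.zero_mem _)

open AlgebraicGeometry in
include hφ hdeg hπ hker hρ in
theorem comap_bijective
    (hirr : HomogeneousIdeal.irrelevant 𝒜 ≤ (HomogeneousIdeal.irrelevant 𝒞).map ρ) :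
    Function.Bijective (ProjectiveSpectrum.comap ρ hirr) := by
  have hsurj := rho_surjective 𝒜 ℬ φ hdeg 𝒞 π ρ hρ
  constructor
  · intro p p' hpp
    have h1 : (ProjectiveSpectrum.comap ρ hirr p).asHomogeneousIdeal.toIdeal =
        (ProjectiveSpectrum.comap ρ hirr p').asHomogeneousIdeal.toIdeal := by rw [hpp]
    have h2 : p.asHomogeneousIdeal.toIdeal.comap ρ = p'.asHomogeneousIdeal.toIdeal.comap ρ := h1
    have h3 := Ideal.comap_injective_of_surjective (ρ : C →+* A) hsurj h2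
    apply ProjectiveSpectrum.ext
    exact HomogeneousIdeal.toIdeal_injective h3
  · intro q
    have hkq := ker_le_of_isPrime 𝒜 ℬ φ hφ hdeg 𝒞 π hπ hker ρ hρ q.asHomogeneousIdeal
    have hcm : (q.asHomogeneousIdeal.toIdeal.map (ρ : C →+* A)).comap (ρ : C →+* A) =
        q.asHomogeneousIdeal.toIdeal := by
      rw [Ideal.comap_map_of_surjective (ρ : C →+* A) hsurj]
      exact sup_eq_left.mpr hkq
    refine ⟨⟨q.asHomogeneousIdeal.map ρ, ?_, ?_⟩, ?_⟩
    · exact Ideal.map_isPrime_of_surjective (f := (ρ : C →+* A)) hsurj hkq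
    · intro hle
      apply q.not_irrelevant_le
      intro x hx
      have hx' : ρ x ∈ HomogeneousIdeal.irrelevant 𝒜 := by
        rw [HomogeneousIdeal.mem_irrelevant_iff, GradedRing.proj_apply,
          ← GradedRingHom.map_directSumDecompose]
        rw [HomogeneousIdeal.mem_irrelevant_iff, GradedRing.proj_apply] at hx
        rw [hx, map_zero]
      have h4 : ρ x ∈ q.asHomogeneousIdeal.toIdeal.map (ρ : C →+* A) := hle hx'
      have h5 : x ∈ (q.asHomogeneousIdeal.toIdeal.map (ρ : C →+* A)).comap (ρ : C →+* A) := h4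
      rw [hcm] at h5
      exact h5
    · apply ProjectiveSpectrum.ext
      apply HomogeneousIdeal.toIdeal_injective
      exact hcm

include hdeg hρ in
theorem exists_homogeneous_lift {n : ℕ} {a : A} (ha : a ∈ 𝒜 n) : ∃ c ∈ 𝒞 n, ρ c = a := by
  classical
  obtain ⟨b, hb, hbφ⟩ := exists_lift 𝒜 ℬ φ hdeg (le_I 𝒜 le_rfl ha)
  refine ⟨π b, π.map_mem hb, ?_⟩
  rw [hρ n b hb, hbφ, Polynomial.coeff_monomial, if_pos rfl, GradedRing.proj_apply,
    DirectSum.decompose_of_mem_same 𝒜 ha]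

include hφ hdeg hπ hker hρ in
/-- Under the generation hypothesis, kernel elements are killed by high powers of any
homogeneous element of positive degree. -/
theorem mul_pow_eq_zero_of_rho_eq_zero {n₀ : ℕ}
    (hgen : ∀ n : ℕ, n₀ ≤ n → 𝒜 (n + 1) = 𝒜 1 * 𝒜 n)
    {N j M : ℕ} (hNM : n₀ ≤ N + j * M) {x t : C} (hx : x ∈ 𝒞 N) (ht : t ∈ 𝒞 j)
    (h0 : ρ x = 0) : x * t ^ M = 0 := by
  classical
  obtain ⟨b, hb, rfl⟩ := lift_homogeneous ℬ 𝒞 π hπ hx
  obtain ⟨b', hb', rfl⟩ := lift_homogeneous ℬ 𝒞 π hπ ht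
  obtain ⟨s, hs, hbs⟩ := exists_of_mem 𝒜 ℬ φ hdeg hb
  obtain ⟨s', hs', hbs'⟩ := exists_of_mem 𝒜 ℬ φ hdeg hb'
  rw [hρ N b hb, hbs, Polynomial.coeff_monomial, if_pos rfl] at h0
  have hs1 : s ∈ I 𝒜 (N + 1) := by
    rw [mem_I_iff]
    intro i hi
    rcases Nat.lt_succ_iff_lt_or_eq.mp hi with h | h
    · exact proj_eq_zero_of_mem_I 𝒜 hs h
    · rw [h]; exact h0
  have hIgen := (I_succ_eq_iff 𝒜 n₀).mpr hgen (N + j * M) hNM
  have hmem : s * s' ^ M ∈ I 𝒜 1 * I 𝒜 (N + j * M) := by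
    rw [← hIgen]
    have h1 : s * s' ^ M ∈ I 𝒜 (N + 1 + j * M) :=
      I_mul_le 𝒜 _ _ (Submodule.mul_mem_mul hs1 (pow_mem_I 𝒜 hs' M))
    have e : N + 1 + j * M = N + j * M + 1 := by ring
    rwa [e] at h1
  -- the submodule of good coefficients
  let P : Submodule R A :=
    Submodule.comap (mon (N + j * M))
      (Submodule.map φ.toLinearMap ((RingHom.ker π.toRingHom).restrictScalars R))
  have hP : I 𝒜 1 * I 𝒜 (N + j * M) ≤ P := by
    rw [Submodule.mul_le]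
    intro s₁ hs₁ r hr
    have hsirr : s₁ ∈ (HomogeneousIdeal.irrelevant 𝒜).toIdeal := by
      change s₁ ∈ HomogeneousIdeal.irrelevant 𝒜
      rw [HomogeneousIdeal.mem_irrelevant_iff]
      exact proj_eq_zero_of_mem_I 𝒜 hs₁ Nat.one_pos
    obtain ⟨c, -, hcφ⟩ := exists_lift 𝒜 ℬ φ hdeg hr
    obtain ⟨b₀, -, hb₀φ⟩ := exists_lift 𝒜 ℬ φ hdeg (n := 0) (s := s₁) (by rw [I_zero]; trivial)
    have hb₀ : b₀ ∈ RingHom.ker π.toRingHom := by
      rw [hker]
      refine Ideal.subset_span ⟨s₁, hsirr, ?_⟩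
      rw [hb₀φ, Polynomial.monomial_zero_left]
    refine ⟨b₀ * c, (RingHom.ker π.toRingHom).mul_mem_right c hb₀, ?_⟩
    change φ (b₀ * c) = Polynomial.monomial (N + j * M) (s₁ * r)
    rw [map_mul, hb₀φ, hcφ, Polynomial.monomial_mul_monomial, zero_add]
  obtain ⟨d, hd, hdφ⟩ := hP hmem
  have heq : b * b' ^ M = d := by
    apply hφ
    change _ = φ.toLinearMap d
    rw [hdφ, map_mul, map_pow, hbs, hbs', Polynomial.monomial_pow,
      Polynomial.monomial_mul_monomial]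
    rfl
  have : π (b * b' ^ M) = 0 := by rw [heq]; exact hd
  rw [← map_pow, ← map_mul]
  exact this

open HomogeneousLocalization in
include hφ hdeg hπ hker hρ in
theorem localRingHom_bijective {n₀ : ℕ}
    (hgen : ∀ n : ℕ, n₀ ≤ n → 𝒜 (n + 1) = 𝒜 1 * 𝒜 n)
    (p : ProjectiveSpectrum 𝒜) (Q : Ideal C) [Q.IsPrime]
    (hQP : Q = p.asHomogeneousIdeal.toIdeal.comap ρ) :
    Function.Bijective
      (HomogeneousLocalization.localRingHom ρ Q p.asHomogeneousIdeal.toIdeal hQP) := by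
  classical
  have hmemQ : ∀ z : C, z ∈ Q ↔ ρ z ∈ p.asHomogeneousIdeal.toIdeal := by
    intro z; rw [hQP]; rfl
  -- a homogeneous element of positive degree outside `p`
  obtain ⟨j, hj, a₀, ha₀, ha₀p⟩ : ∃ j : ℕ, 0 < j ∧ ∃ a₀ ∈ 𝒜 j,
      a₀ ∉ p.asHomogeneousIdeal.toIdeal := by
    by_contra hcon
    push Not at hcon
    apply p.not_irrelevant_le
    intro z hz
    rw [HomogeneousIdeal.mem_irrelevant_iff, GradedRing.proj_apply] at hz
    change z ∈ p.asHomogeneousIdeal.toIdeal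
    rw [← DirectSum.sum_support_decompose 𝒜 z]
    refine Ideal.sum_mem _ fun i _ => ?_
    rcases Nat.eq_zero_or_pos i with h | h
    · rw [h, hz]; exact Ideal.zero_mem _
    · exact hcon i h _ (decompose 𝒜 z i).2
  obtain ⟨t₀, ht₀, ht₀ρ⟩ := exists_homogeneous_lift 𝒜 ℬ φ hdeg 𝒞 π ρ hρ ha₀
  have ht₀Q : t₀ ∉ Q := by rw [hmemQ, ht₀ρ]; exact ha₀p
  constructor
  · rw [injective_iff_map_eq_zero]
    intro x hx
    obtain ⟨⟨n, ⟨c, hc⟩, ⟨t, ht⟩, htQ⟩, rfl⟩ := x.mk_surjective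
    have hval := congrArg HomogeneousLocalization.val hx
    rw [val_localRingHom, val_mk, HomogeneousLocalization.val_zero,
      Localization.localRingHom_mk] at hval
    rw [Localization.mk_eq_mk', IsLocalization.mk'_eq_zero_iff] at hval
    obtain ⟨⟨u, hu⟩, hu0⟩ := hval
    change u * ρ c = 0 at hu0
    -- a homogeneous component of `u` outside `p`
    obtain ⟨i, hui⟩ : ∃ i, (decompose 𝒜 u i : A) ∉ p.asHomogeneousIdeal.toIdeal := by
      by_contra hcon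
      push Not at hcon
      apply hu
      change u ∈ p.asHomogeneousIdeal.toIdeal
      rw [← DirectSum.sum_support_decompose 𝒜 u]
      exact Ideal.sum_mem _ fun i _ => hcon i
    have hρc : ρ c ∈ 𝒜 n := ρ.map_mem hc
    have hui0 : (decompose 𝒜 u i : A) * ρ c = 0 := by
      rw [← DirectSum.coe_decompose_mul_add_of_right_mem 𝒜 hρc, hu0, DirectSum.decompose_zero]
      rfl
    obtain ⟨w, hw, hwρ⟩ := exists_homogeneous_lift 𝒜 ℬ φ hdeg 𝒞 π ρ hρ (decompose 𝒜 u i).2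
    have hwQ : w ∉ Q := by rw [hmemQ, hwρ]; exact hui
    have hwc : ρ (w * c) = 0 := by rw [map_mul, hwρ, hui0]
    have hkill := mul_pow_eq_zero_of_rho_eq_zero 𝒜 ℬ φ hφ hdeg 𝒞 π hπ hker ρ hρ hgen
      (N := i + n) (j := j) (M := n₀) (by nlinarith) (SetLike.GradedMul.mul_mem hw hc) ht₀ hwc
    apply HomogeneousLocalization.val_injective
    rw [val_mk, HomogeneousLocalization.val_zero, Localization.mk_eq_mk',
      IsLocalization.mk'_eq_zero_iff]
    refine ⟨⟨w * t₀ ^ n₀, ?_⟩, ?_⟩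
    · exact Submonoid.mul_mem _ hwQ (Submonoid.pow_mem _ ht₀Q _)
    · change w * t₀ ^ n₀ * c = 0
      rw [mul_right_comm, hkill]
  · intro y
    obtain ⟨⟨n, ⟨a, ha⟩, ⟨s, hs⟩, hsp⟩, rfl⟩ := y.mk_surjective
    obtain ⟨c, hc, hcρ⟩ := exists_homogeneous_lift 𝒜 ℬ φ hdeg 𝒞 π ρ hρ ha
    obtain ⟨t, ht, htρ⟩ := exists_homogeneous_lift 𝒜 ℬ φ hdeg 𝒞 π ρ hρ hs
    have htQ : t ∉ Q := by rw [hmemQ, htρ]; exact hsp
    refine ⟨HomogeneousLocalization.mk ⟨n, ⟨c, hc⟩, ⟨t, ht⟩, htQ⟩, ?_⟩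
    apply HomogeneousLocalization.val_injective
    rw [val_localRingHom, val_mk, val_mk, Localization.localRingHom_mk]
    simp only [GradedRingHom.toRingHom_eq_toRingHom, GradedRingHom.coe_toRingHom, hcρ, htρ]

end Groth.Agent.Helper12.ProjNat
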