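import Mathlib
import Groth.Prelude.Def_FEt
import Groth.Prelude.Def_Pi1
import Groth.Agent.Lib.Helper12.IntHeight
import Groth.Agent.Lib.Helper12.NormFinSep
import Groth.Agent.Lib.Helper12.NormNormal
import Groth.Agent.Lib.Helper16.Sch.NormalEtaleSch
import Groth.Agent.Lib.Helper7.StalkNormal2
import Groth.Agent.Lib.Lead.Hartogs3
import Groth.Agent.Lib.Lead.NormalExt

/-!
# Finite étale covers of the punctured spectrum of a normal local domain of dimension `≥ 2`

`v : X ⟶ U` finite étale over the punctured spectrum `U` of `A`; `T` the normalization of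
`Spec A` in `X`.  Then `T → Spec A` is finite, `X = T ×_{Spec A} U`, and `Γ(T) → Γ(X)` is
bijective (Hartogs + going down).
-/

set_option autoImplicit false
set_option linter.style.haveILetI false

universe u

open AlgebraicGeometry CategoryTheory CategoryTheory.Limits TopologicalSpace

namespace Groth.Agent.Helper12.PunctFEt

section General

variable {X W S : Scheme.{u}} (v : X ⟶ W) (g : W ⟶ S)

/-- the canonical map from `X` to the restriction of the normalization -/
noncomputable def c [QuasiCompact (v ≫ g)] [QuasiSeparated (v ≫ g)] :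
    X ⟶ pullback (v ≫ g).fromNormalization g :=
  pullback.lift (v ≫ g).toNormalization v
    (by rw [Scheme.Hom.toNormalization_fromNormalization])

@[reassoc (attr := simp)]
theorem c_fst [QuasiCompact (v ≫ g)] [QuasiSeparated (v ≫ g)] :
    c v g ≫ pullback.fst _ _ = (v ≫ g).toNormalization := pullback.lift_fst _ _ _

@[reassoc (attr := simp)]
theorem c_snd [QuasiCompact (v ≫ g)] [QuasiSeparated (v ≫ g)] :
    c v g ≫ pullback.snd _ _ = v := pullback.lift_snd _ _ _

theorem isIso_c [Mono g] [IsIntegralHom v] [QuasiCompact (v ≫ g)] [QuasiSeparated (v ≫ g)]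
    [IsIso ((v ≫ g).normalizationPullback g)] : IsIso (c v g) := by
  let p₁ := pullback.fst (v ≫ g) g
  let p₂ := pullback.snd (v ≫ g) g
  let i : X ⟶ pullback (v ≫ g) g :=
    pullback.lift (𝟙 _) v (by rw [Category.id_comp])
  have hi1 : i ≫ p₁ = 𝟙 _ := pullback.lift_fst _ _ _
  have hi2 : i ≫ p₂ = v := pullback.lift_snd _ _ _
  have hp₂ : p₂ = p₁ ≫ v := by
    rw [← cancel_mono g, Category.assoc]
    exact pullback.condition.symm
  have hi3 : p₁ ≫ i = 𝟙 _ := by
    apply pullback.hom_ext
    · rw [Category.assoc, hi1, Category.comp_id, Category.id_comp]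
    · rw [Category.assoc, hi2, Category.id_comp]
      exact hp₂.symm
  haveI : IsIso p₁ := ⟨i, hi3, hi1⟩
  haveI : IsIntegralHom p₂ := by rw [hp₂]; infer_instance
  haveI : IsIso p₂.toNormalization := inferInstance
  have hc : c v g = i ≫ p₂.toNormalization ≫ (v ≫ g).normalizationPullback g := by
    apply pullback.hom_ext
    · rw [c_fst]
      simp only [Category.assoc]
      rw [Scheme.Hom.toNormalization_normalizationPullback_fst, ← Category.assoc]
      show _ = (i ≫ p₁) ≫ _
      rw [hi1, Category.id_comp]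
    · rw [c_snd]
      simp only [Category.assoc]
      rw [Scheme.Hom.normalizationPullback_snd, Scheme.Hom.toNormalization_fromNormalization]
      exact hi2.symm
  have hiiso : IsIso i := ⟨p₁, hi1, hi3⟩
  rw [hc]
  infer_instance

/-- a nonzero element of a domain `A` is a nonzerodivisor on the global sections of a flat
`Spec A`-scheme. -/
theorem eq_zero_of_mul_eq_zero_of_flat {A : Type u} [CommRing A] [IsDomain A]
    (f : X ⟶ Spec (CommRingCat.of A)) [Flat f] (a : A) (ha : a ≠ 0) (x : Γ(X, ⊤))
    (h : f.appTop.hom ((Scheme.ΓSpecIso (CommRingCat.of A)).inv.hom a) * x = 0) : x = 0 := by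
  let e : Γ(Spec (CommRingCat.of A), ⊤) ≃+* A :=
    (Scheme.ΓSpecIso (CommRingCat.of A)).commRingCatIsoToRingEquiv
  haveI : IsDomain Γ(Spec (CommRingCat.of A), ⊤) := MulEquiv.isDomain A e.toMulEquiv
  let a' : Γ(Spec (CommRingCat.of A), ⊤) := (Scheme.ΓSpecIso (CommRingCat.of A)).inv.hom a
  have ha' : a' ≠ 0 := by
    intro h0
    apply ha
    have h1 : e a' = a := by
      show (Scheme.ΓSpecIso (CommRingCat.of A)).hom.hom
        ((Scheme.ΓSpecIso (CommRingCat.of A)).inv.hom a) = a
      rw [← CommRingCat.comp_apply, Iso.inv_hom_id]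
      rfl
    rw [← h1, h0, map_zero]
  refine X.IsSheaf.section_ext fun p hp ↦ ?_
  obtain ⟨_, ⟨W', hW', rfl⟩, hpW, -⟩ :=
    X.isBasis_affineOpens.exists_subset_of_mem_open (Set.mem_univ p) isOpen_univ
  refine ⟨W', le_top, hpW, ?_⟩
  have hfl : (f.appLE ⊤ W' le_top).hom.Flat :=
    HasRingHomProperty.appLE (P := @Flat) f inferInstance ⟨⊤, isAffineOpen_top _⟩ ⟨W', hW'⟩ le_top
  letI := (f.appLE ⊤ W' le_top).hom.toAlgebra
  haveI : Module.Flat Γ(Spec (CommRingCat.of A), ⊤) Γ(X, W') := hfl
  have hreg := Module.Flat.isSMulRegular_of_nonZeroDivisors (M := Γ(X, W'))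
    (mem_nonZeroDivisors_of_ne_zero ha')
  rw [map_zero]
  apply hreg
  show a' • _ = a' • (0 : Γ(X, W'))
  rw [smul_zero, Algebra.smul_def]
  show (f.appLE ⊤ W' le_top).hom a' * _ = 0
  have h2 : (f.appLE ⊤ W' le_top).hom a' =
      (X.presheaf.map (homOfLE (le_top : W' ≤ ⊤)).op).hom (f.appTop.hom a') := rfl
  rw [h2, ← map_mul, h, map_zero]

end General

section Main

variable (A : Type u) [CommRing A] [IsDomain A] [IsNoetherianRing A]
  [IsLocalRing A] [IsIntegrallyClosed A] {X : Scheme.{u}}
  (v : X ⟶ (FEt.puncturedSpec A : Scheme.{u})) [IsFinite v] [Etale v]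

/-- the structure map to `Spec A` -/
noncomputable abbrev f₀ : X ⟶ Spec (CommRingCat.of A) := v ≫ (FEt.puncturedSpec A).ι

theorem isNormalScheme_SpecA : Pi1.IsNormalScheme (Spec (CommRingCat.of A)) := by
  apply Groth.Agent.Helper7.StalkNormal.isNormalScheme_Spec
  intro p hp
  refine ⟨inferInstance, ?_⟩
  exact isIntegrallyClosed_of_isLocalization (Localization.AtPrime p) p.primeCompl
    p.primeCompl_le_nonZeroDivisors

include v in
theorem isNormalScheme_X : Pi1.IsNormalScheme X := by
  intro x
  have h := isNormalScheme_SpecA A ((f₀ A v) x)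
  haveI := h.1
  haveI := h.2
  exact Groth.Agent.Helper16.NormalEtale.stalk_normal_of_etale (f₀ A v) x

include v in
theorem noetherianSpace_X : NoetherianSpace X := by
  haveI : IsLocallyNoetherian X := LocallyOfFiniteType.isLocallyNoetherian (f₀ A v)
  haveI : CompactSpace X := QuasiCompact.compactSpace_of_compactSpace (f₀ A v)
  haveI : IsNoetherian X := {}
  infer_instance

instance isFinite_π : IsFinite (f₀ A v).fromNormalization :=
  haveI := noetherianSpace_X A v
  Groth.Agent.Helper12.NormFinSep.isFinite_fromNormalization_of_etale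
    (isNormalScheme_SpecA A) (f₀ A v)

theorem normal_T (z : (f₀ A v).normalization) :
    IsDomain ((f₀ A v).normalization.presheaf.stalk z) ∧
      IsIntegrallyClosed ((f₀ A v).normalization.presheaf.stalk z) :=
  haveI := noetherianSpace_X A v
  Groth.Agent.Helper12.NormNormal.stalk_normal_normalization (isNormalScheme_X A v) (f₀ A v) z

instance isIso_c' : IsIso (c v (FEt.puncturedSpec A).ι) := isIso_c v _

instance isOpenImmersion_ι : IsOpenImmersion (f₀ A v).toNormalization := by
  have h : (f₀ A v).toNormalization = c v (FEt.puncturedSpec A).ι ≫ pullback.fst _ _ :=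
    (c_fst v _).symm
  rw [h]
  infer_instance

theorem mem_range_ι (z : (f₀ A v).normalization)
    (hz : (f₀ A v).fromNormalization z ∈ FEt.puncturedSpec A) :
    z ∈ Set.range (f₀ A v).toNormalization := by
  obtain ⟨p, hp1, -⟩ := Scheme.Pullback.exists_preimage_pullback
    (f := (f₀ A v).fromNormalization) (g := (FEt.puncturedSpec A).ι) z ⟨_, hz⟩ rfl
  refine ⟨(inv (c v (FEt.puncturedSpec A).ι)) p, ?_⟩
  rw [← c_fst v (FEt.puncturedSpec A).ι, Scheme.Hom.comp_apply, ← Scheme.Hom.comp_apply
    (inv (c v (FEt.puncturedSpec A).ι)), IsIso.inv_hom_id]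
  exact hp1

instance isAffine_T : IsAffine (f₀ A v).normalization :=
  isAffine_of_isAffineHom (f₀ A v).fromNormalization

instance isLocallyNoetherian_T : IsLocallyNoetherian (f₀ A v).normalization :=
  LocallyOfFiniteType.isLocallyNoetherian (f₀ A v).fromNormalization

/-- the structure ring map `A → Γ(T)` -/
noncomputable abbrev ψ : CommRingCat.of A ⟶ Γ((f₀ A v).normalization, ⊤) :=
  (Scheme.ΓSpecIso (CommRingCat.of A)).inv ≫ (f₀ A v).fromNormalization.appTop

theorem finite_ψ : (ψ A v).hom.Finite := by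
  rw [CommRingCat.hom_comp]
  exact (Scheme.Hom.finite_appTop (f₀ A v).fromNormalization).comp
    (RingHom.Finite.of_surjective _
      (ConcreteCategory.bijective_of_isIso (Scheme.ΓSpecIso (CommRingCat.of A)).inv).2)

theorem ι_appTop_ψ :
    (ψ A v) ≫ (f₀ A v).toNormalization.appTop =
      (Scheme.ΓSpecIso (CommRingCat.of A)).inv ≫ (f₀ A v).appTop := by
  rw [Category.assoc, ← Scheme.Hom.comp_appTop, Scheme.Hom.toNormalization_fromNormalization]

theorem injective_ι_appTop : Function.Injective (f₀ A v).toNormalization.appTop.hom := by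
  haveI : IsSchemeTheoreticallyDominant (f₀ A v).toNormalization :=
    ⟨(f₀ A v).ker_toNormalization⟩
  exact (f₀ A v).toNormalization.app_injective ⊤

theorem ψ_mem_nonZeroDivisors (a : A) (ha : a ≠ 0) :
    (ψ A v).hom a ∈ nonZeroDivisors Γ((f₀ A v).normalization, ⊤) := by
  rw [mem_nonZeroDivisors_iff_right]
  intro x hx
  apply injective_ι_appTop A v
  rw [map_zero]
  apply eq_zero_of_mul_eq_zero_of_flat (f₀ A v) a ha
  have h1 : (f₀ A v).appTop.hom ((Scheme.ΓSpecIso (CommRingCat.of A)).inv.hom a) =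
      (f₀ A v).toNormalization.appTop.hom ((ψ A v).hom a) := by
    have := ι_appTop_ψ A v
    exact (congrArg (fun φ => φ.hom a) this).symm
  rw [h1, ← map_mul, mul_comm, hx, map_zero]

theorem two_le_dim (hdim : (2 : WithBot ℕ∞) ≤ ringKrullDim A) (z : (f₀ A v).normalization)
    (hz : (f₀ A v).fromNormalization z ∉ FEt.puncturedSpec A) :
    2 ≤ ringKrullDim ((f₀ A v).normalization.presheaf.stalk z) := by
  let T := (f₀ A v).normalization
  let π := (f₀ A v).fromNormalization
  letI : Algebra A Γ(T, ⊤) := (ψ A v).hom.toAlgebra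
  haveI : Module.Finite A Γ(T, ⊤) := finite_ψ A v
  haveI : IsNoetherianRing Γ(T, ⊤) :=
    IsLocallyNoetherian.component_noetherian ⟨⊤, isAffineOpen_top T⟩
  let q : PrimeSpectrum Γ(T, ⊤) := (isAffineOpen_top T).primeIdealOf ⟨z, trivial⟩
  let z' : (⊤ : T.Opens) := ⟨z, trivial⟩
  letI : Algebra Γ(T, ⊤) (T.presheaf.stalk z'.1) :=
    TopCat.Presheaf.algebra_section_stalk T.presheaf z'
  haveI hloc : IsLocalization.AtPrime (T.presheaf.stalk z'.1) q.asIdeal :=
    (isAffineOpen_top T).isLocalization_stalk z'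
  have h1 : ringKrullDim (T.presheaf.stalk z) = q.asIdeal.height :=
    IsLocalization.AtPrime.ringKrullDim_eq_height q.asIdeal (T.presheaf.stalk z'.1)
  have h2 := Groth.Agent.Helper12.IntHeight.height_under_le A Γ(T, ⊤)
    (ψ_mem_nonZeroDivisors A v) q.asIdeal
  -- `q ∩ A` is the maximal ideal
  have hz1 : T.isoSpec.inv q = z := by
    have := (isAffineOpen_top T).fromSpec_primeIdealOf ⟨z, trivial⟩
    rw [IsAffineOpen.fromSpec_top] at this
    exact this
  have hπz : π z = Spec.map (ψ A v) q := by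
    rw [← hz1, ← Scheme.Hom.comp_apply, ← Scheme.isoSpec_inv_naturality, Scheme.isoSpec_Spec_inv,
      ← Spec.map_comp]
  have hcl : π z = IsLocalRing.closedPoint A := by
    by_contra hne
    exact hz hne
  have h3 : q.asIdeal.under A = IsLocalRing.maximalIdeal A := by
    have := congrArg PrimeSpectrum.asIdeal (hπz.symm.trans hcl)
    exact this
  rw [h3] at h2
  rw [h1]
  have h4 : (2 : WithBot ℕ∞) ≤ ((IsLocalRing.maximalIdeal A).height : WithBot ℕ∞) := by
    rw [IsLocalRing.maximalIdeal_height_eq_ringKrullDim]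
    exact hdim
  exact h4.trans (WithBot.coe_le_coe.2 h2)

theorem bijective_ι_appTop (hdim : (2 : WithBot ℕ∞) ≤ ringKrullDim A) :
    Function.Bijective (f₀ A v).toNormalization.appTop.hom := by
  let T := (f₀ A v).normalization
  let ι := (f₀ A v).toNormalization
  have hres : Function.Bijective (T.presheaf.map (homOfLE (le_top : ι ''ᵁ ⊤ ≤ ⊤)).op) :=
    Groth.Agent.Lead.Hartogs.bijective_res_ring ⊤ (ι ''ᵁ ⊤) le_top (fun z _ hz => by
      have hz' : (f₀ A v).fromNormalization z ∉ FEt.puncturedSpec A := fun h => hz (by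
        obtain ⟨x, hx⟩ := mem_range_ι A v z h
        exact ⟨x, trivial, hx⟩)
      have hn := normal_T A v z
      haveI := hn.1
      haveI := hn.2
      exact Groth.Agent.Lead.NormalExt.two_le_depth_of_normal _ (two_le_dim A v hdim z hz'))
  have hfac : ι.appTop = T.presheaf.map (homOfLE (le_top : ι ''ᵁ ⊤ ≤ ⊤)).op ≫ (ι.appIso ⊤).hom := by
    rw [Scheme.Hom.appIso_hom', Scheme.Hom.map_appLE]
    simp [Scheme.Hom.appLE]
  show Function.Bijective ι.appTop.hom
  rw [hfac, CommRingCat.hom_comp]
  exact (ConcreteCategory.bijective_of_isIso (ι.appIso ⊤).hom).comp hres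

theorem finite_result (hdim : (2 : WithBot ℕ∞) ≤ ringKrullDim A) :
    ((f₀ A v).appTop.hom.comp (Scheme.ΓSpecIso (CommRingCat.of A)).inv.hom).Finite := by
  have h := ι_appTop_ψ A v
  have h2 : (f₀ A v).appTop.hom.comp (Scheme.ΓSpecIso (CommRingCat.of A)).inv.hom =
      (f₀ A v).toNormalization.appTop.hom.comp (ψ A v).hom := by
    rw [← CommRingCat.hom_comp, ← CommRingCat.hom_comp, h]
  rw [h2]
  exact (RingHom.Finite.of_surjective _ (bijective_ι_appTop A v hdim).2).comp (finite_ψ A v)

theorem etale_π (hdim : (2 : WithBot ℕ∞) ≤ ringKrullDim A)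
    (het : ((f₀ A v).appTop.hom.comp (Scheme.ΓSpecIso (CommRingCat.of A)).inv.hom).Etale) :
    Etale (f₀ A v).fromNormalization := by
  rw [HasRingHomProperty.iff_of_isAffine (P := @Etale)]
  have het' : ((Scheme.ΓSpecIso (CommRingCat.of A)).inv ≫ (f₀ A v).appTop).hom.Etale := het
  rw [← ι_appTop_ψ A v] at het'
  haveI : IsIso (f₀ A v).toNormalization.appTop :=
    (ConcreteCategory.isIso_iff_bijective _).2 (bijective_ι_appTop A v hdim)
  rw [CommRingCat.hom_comp, RingHom.Etale.respectsIso.cancel_right_isIso, CommRingCat.hom_comp,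
    RingHom.Etale.respectsIso.cancel_left_isIso] at het'
  exact het'

end Main

end Groth.Agent.Helper12.PunctFEt
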