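import Mathlib
import Groth.Agent.Lib.Helper16.Sch.SmoothSec

/-!
# Étale quasi-sections of smooth morphisms through prescribed points (helper12)

Sharpening of `Groth.Agent.Helper16.SmoothSec.exists_etale_section` (whose proof we follow): the
quasi-section can be chosen through any prime whose residue field extension is finite separable;
in characteristic zero every point specializes to such a point of its fibre.
-/

set_option autoImplicit false
set_option linter.style.haveILetI false
universe u

namespace Groth.Agent.Helper12.QSecThrough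

open MvPolynomial Groth.Agent.Helper16 Groth.Agent.Helper16.SmoothSec

open TensorProduct in
set_option backward.isDefEq.respectTransparency.types false in
/-- ring-level: a smooth chart (étale over a polynomial ring) has a section over an étale
neighbourhood, through any prime with finite separable residue field extension. -/
theorem exists_etale_section_through {A B : Type u} [CommRing A] [CommRing B] [Algebra A B] (n : ℕ)
    (g : MvPolynomial (Fin n) A →+* B) (hgC : g.comp MvPolynomial.C = algebraMap A B) (hg : g.Etale)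
    (p : Ideal A) [p.IsPrime] (Q : Ideal B) [Q.IsPrime] (hQ : p = Q.comap (algebraMap A B))
    (hfs : FinSep (Ideal.ResidueField.map p Q (algebraMap A B) hQ)) :
    ∃ (C : Type u) (_ : CommRing C) (ι : A →+* C) (φ : B →+* C), ι.Etale ∧
      φ.comp (algebraMap A B) = ι ∧ ∃ (P : Ideal C) (_ : P.IsPrime), P.comap φ = Q := by
  classical
  letI := (Ideal.ResidueField.map p Q (algebraMap A B) hQ).toAlgebra
  obtain ⟨h1, h2⟩ := hfs
  obtain ⟨A₁, _, _, hA₁, p₁, _, hp₁, σ, hσ⟩ := ENR.exists_etale_residue_ext A p Q.ResidueField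
  let ψ₁ : B →+* p₁.ResidueField := σ.comp (algebraMap B Q.ResidueField)
  have hψ₁ : ∀ c : A, ψ₁ (algebraMap A B c) =
      algebraMap A₁ p₁.ResidueField (algebraMap A A₁ c) := by
    intro c
    show σ (algebraMap B Q.ResidueField (algebraMap A B c)) = _
    rw [← Ideal.ResidueField.map_algebraMap p Q (algebraMap A B) hQ c]
    have := congrArg (fun f => f (algebraMap A p.ResidueField c)) hσ
    simp only [RingHom.comp_apply] at this
    rw [Ideal.ResidueField.map_algebraMap] at this
    rw [← this]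
    rfl
  have hex : ∀ i : Fin n, ∃ b s : A₁, s ∉ p₁ ∧
      ψ₁ (g (MvPolynomial.X i)) * algebraMap A₁ p₁.ResidueField s =
        algebraMap A₁ p₁.ResidueField b := fun i => ResEW.exists_frac p₁ _
  choose b s hs hbs using hex
  let s₀ : A₁ := ∏ i, s i
  have hs₀ : s₀ ∉ p₁ := by
    intro h
    obtain ⟨i, -, hi⟩ := (Ideal.IsPrime.prod_mem_iff).mp h
    exact hs i hi
  let A₂ := Localization.Away s₀
  have hunit : ∀ i, IsUnit (algebraMap A₁ A₂ (s i)) := by
    intro i
    apply isUnit_of_dvd_unit (map_dvd (algebraMap A₁ A₂) (Finset.dvd_prod_of_mem s (Finset.mem_univ i)))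
    exact IsLocalization.Away.algebraMap_isUnit s₀
  let χ : A₂ →+* p₁.ResidueField := IsLocalization.Away.lift s₀ (g := algebraMap A₁ p₁.ResidueField)
    (by
      rw [isUnit_iff_ne_zero, Ne, Ideal.algebraMap_residueField_eq_zero]
      exact hs₀)
  have hχ : ∀ c : A₁, χ (algebraMap A₁ A₂ c) = algebraMap A₁ p₁.ResidueField c := fun c =>
    IsLocalization.Away.lift_eq _ _ c
  let ã : Fin n → A₂ := fun i => algebraMap A₁ A₂ (b i) * ↑(hunit i).unit⁻¹
  have hã : ∀ i, χ (ã i) = ψ₁ (g (MvPolynomial.X i)) := by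
    intro i
    have hne : algebraMap A₁ p₁.ResidueField (s i) ≠ 0 := by
      rw [Ne, Ideal.algebraMap_residueField_eq_zero]
      exact hs i
    apply mul_right_cancel₀ hne
    rw [hbs i, ← hχ (s i), ← map_mul, ← hχ (b i)]
    congr 1
    show algebraMap A₁ A₂ (b i) * ↑(hunit i).unit⁻¹ * algebraMap A₁ A₂ (s i) = _
    rw [mul_assoc, IsUnit.val_inv_mul, mul_one]
  -- the section
  let α : MvPolynomial (Fin n) A →ₐ[A] A₂ := MvPolynomial.aeval ã
  letI : Algebra (MvPolynomial (Fin n) A) A₂ := α.toRingHom.toAlgebra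
  letI : Algebra (MvPolynomial (Fin n) A) B := g.toAlgebra
  haveI : Algebra.Etale (MvPolynomial (Fin n) A) B := RingHom.etale_algebraMap.mp hg
  let C := A₂ ⊗[MvPolynomial (Fin n) A] B
  have hC : Algebra.Etale A₂ C := inferInstance
  have hA₂ : Algebra.Etale A₁ A₂ := Algebra.Etale.of_isLocalizationAway s₀
  let ι : A →+* C := (algebraMap A₂ C).comp ((algebraMap A₁ A₂).comp (algebraMap A A₁))
  have hι : ι.Etale :=
    RingHom.Etale.stableUnderComposition _ _
      (RingHom.Etale.stableUnderComposition _ _ (RingHom.etale_algebraMap.mpr hA₁)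
        (RingHom.etale_algebraMap.mpr hA₂))
      (RingHom.etale_algebraMap.mpr hC)
  let φ : B →+* C := (Algebra.TensorProduct.includeRight
    (R := MvPolynomial (Fin n) A) (A := A₂) (B := B)).toRingHom
  have hαC : ∀ c : A, α (MvPolynomial.C c) = algebraMap A₁ A₂ (algebraMap A A₁ c) := by
    intro c
    show MvPolynomial.aeval ã (MvPolynomial.C c) = _
    rw [MvPolynomial.aeval_C, IsScalarTower.algebraMap_apply A A₁ A₂]
  have hφι : φ.comp (algebraMap A B) = ι := by
    ext c
    show (1 : A₂) ⊗ₜ[MvPolynomial (Fin n) A] (algebraMap A B c) =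
      algebraMap A₂ C (algebraMap A₁ A₂ (algebraMap A A₁ c))
    rw [← hgC]
    show (1 : A₂) ⊗ₜ[MvPolynomial (Fin n) A]
      (algebraMap (MvPolynomial (Fin n) A) B (MvPolynomial.C c)) = _
    rw [Algebra.algebraMap_eq_smul_one, ← TensorProduct.smul_tmul, Algebra.smul_def, mul_one]
    show (α (MvPolynomial.C c)) ⊗ₜ[MvPolynomial (Fin n) A] (1 : B) = _
    rw [hαC]
    rfl
  letI : Algebra (MvPolynomial (Fin n) A) p₁.ResidueField := (χ.comp α.toRingHom).toAlgebra
  let χ' : A₂ →ₐ[MvPolynomial (Fin n) A] p₁.ResidueField := { χ with commutes' := fun _ => rfl }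
  have hcomm : ψ₁.comp g = χ.comp α.toRingHom := by
    apply MvPolynomial.ringHom_ext
    · intro c
      show ψ₁ (g (MvPolynomial.C c)) = χ (α (MvPolynomial.C c))
      rw [hαC, hχ, ← hψ₁, ← hgC]
      rfl
    · intro i
      show ψ₁ (g (MvPolynomial.X i)) = χ (MvPolynomial.aeval ã (MvPolynomial.X i))
      rw [MvPolynomial.aeval_X, hã]
  let ψ₁' : B →ₐ[MvPolynomial (Fin n) A] p₁.ResidueField :=
    { ψ₁ with commutes' := fun x => congrArg (fun f => f x) hcomm }
  let Ψ : C →ₐ[MvPolynomial (Fin n) A] p₁.ResidueField :=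
    Algebra.TensorProduct.productMap χ' ψ₁'
  refine ⟨C, inferInstance, ι, φ, hι, hφι, RingHom.ker Ψ.toRingHom, RingHom.ker_isPrime _, ?_⟩
  ext c
  rw [Ideal.mem_comap, RingHom.mem_ker]
  have : Ψ.toRingHom (φ c) = σ (algebraMap B Q.ResidueField c) := by
    show Ψ ((1 : A₂) ⊗ₜ c) = _
    rw [Algebra.TensorProduct.productMap_apply_tmul, map_one, one_mul]
    rfl
  rw [this, map_eq_zero, Ideal.algebraMap_residueField_eq_zero]

open TensorProduct in
set_option backward.isDefEq.respectTransparency.types false in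
/-- In a finite type algebra, every prime specializes (inside its fibre) to a prime whose residue
field is finite over the residue field of the base point; in characteristic zero the extension is
finite separable. -/
theorem exists_ge_finSep {A B : Type u} [CommRing A] [CommRing B] [Algebra A B]
    [Algebra.FiniteType A B] (p : Ideal A) [p.IsPrime] [CharZero p.ResidueField]
    (q : Ideal B) [q.IsPrime] (hq : q.comap (algebraMap A B) = p) :
    ∃ (Q : Ideal B) (_ : Q.IsPrime) (hQ : p = Q.comap (algebraMap A B)), q ≤ Q ∧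
      FinSep (Ideal.ResidueField.map p Q (algebraMap A B) hQ) := by
  classical
  haveI hqo : q.LiesOver p := ⟨hq.symm⟩
  let e := PrimeSpectrum.primesOverOrderIsoFiber A B p
  let q₀ : p.primesOver B := ⟨q, ‹q.IsPrime›, hqo⟩
  obtain ⟨M, hM, hqM⟩ := Ideal.exists_le_maximal (e q₀).asIdeal (e q₀).isPrime.ne_top
  let M' : PrimeSpectrum (p.Fiber B) := ⟨M, hM.isPrime⟩
  have hle : q₀ ≤ e.symm M' := by
    have h1 : e q₀ ≤ M' := hqM
    have h2 := e.symm.monotone h1
    rwa [e.symm_apply_apply] at h2
  let Q : Ideal B := (e.symm M').1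
  haveI hQp : Q.IsPrime := (e.symm M').2.1
  haveI hQo : Q.LiesOver p := (e.symm M').2.2
  have hQM : Q = M.comap (Algebra.TensorProduct.includeRight :
      B →ₐ[A] p.Fiber B).toRingHom := rfl
  have hQ : p = Q.comap (algebraMap A B) := hQo.over
  refine ⟨Q, hQp, hQ, hle, ?_⟩
  -- the residue field of the maximal ideal `M`
  letI : Field (p.Fiber B ⧸ M) := Ideal.Quotient.field M
  haveI : Algebra.FiniteType p.ResidueField (p.Fiber B ⧸ M) :=
    Algebra.FiniteType.of_surjective
      (Ideal.Quotient.mkₐ p.ResidueField M) (Ideal.Quotient.mkₐ_surjective _ _)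
  haveI : Module.Finite p.ResidueField (p.Fiber B ⧸ M) :=
    finite_of_finite_type_of_isJacobsonRing _ _
  haveI : Algebra.IsSeparable p.ResidueField (p.Fiber B ⧸ M) :=
    Algebra.IsAlgebraic.isSeparable_of_perfectField
  let ψ : B →+* (p.Fiber B ⧸ M) := (Ideal.Quotient.mk M).comp
    (Algebra.TensorProduct.includeRight : B →ₐ[A] p.Fiber B).toRingHom
  have hker : ∀ b : B, ψ b = 0 ↔ b ∈ Q := by
    intro b
    show Ideal.Quotient.mk M _ = 0 ↔ _
    rw [Ideal.Quotient.eq_zero_iff_mem, hQM, Ideal.mem_comap]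
  let ι : Q.ResidueField →+* (p.Fiber B ⧸ M) := Ideal.ResidueField.lift Q ψ
    (fun b hb => (hker b).mpr hb) (by
      intro b hb
      show IsUnit (ψ b)
      rw [isUnit_iff_ne_zero, Ne, hker]
      exact hb)
  have hι : ι.comp (Ideal.ResidueField.map p Q (algebraMap A B) hQ) =
      algebraMap p.ResidueField (p.Fiber B ⧸ M) := by
    apply Ideal.ResidueField.ringHom_ext
    ext c
    show ι (Ideal.ResidueField.map p Q (algebraMap A B) hQ (algebraMap A p.ResidueField c)) =
      algebraMap p.ResidueField (p.Fiber B ⧸ M) (algebraMap A p.ResidueField c)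
    rw [Ideal.ResidueField.map_algebraMap, Ideal.ResidueField.lift_algebraMap]
    show Ideal.Quotient.mk M ((1 : p.ResidueField) ⊗ₜ[A] (algebraMap A B c)) =
      Ideal.Quotient.mk M (algebraMap p.ResidueField (p.Fiber B) (algebraMap A p.ResidueField c))
    congr 1
    rw [Algebra.TensorProduct.algebraMap_apply, Algebra.algebraMap_eq_smul_one (A := B),
      TensorProduct.tmul_smul, TensorProduct.smul_tmul', Algebra.smul_def, mul_one]
    rfl
  apply FinSep.of_comp (g := ι)
  rw [hι]
  exact FinSep.of_algebra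

/-- ring-level: in characteristic zero, a smooth chart has a section over an étale neighbourhood
through a specialization of any given prime. -/
theorem exists_etale_section_specializing {A B : Type u} [CommRing A] [CommRing B] [Algebra A B]
    [Algebra.FiniteType A B] (n : ℕ)
    (g : MvPolynomial (Fin n) A →+* B) (hgC : g.comp MvPolynomial.C = algebraMap A B) (hg : g.Etale)
    (p : Ideal A) [p.IsPrime] [CharZero p.ResidueField] (q : Ideal B) [q.IsPrime]
    (hq : q.comap (algebraMap A B) = p) :
    ∃ (C : Type u) (_ : CommRing C) (ι : A →+* C) (φ : B →+* C), ι.Etale ∧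
      φ.comp (algebraMap A B) = ι ∧ ∃ (P : Ideal C) (_ : P.IsPrime), q ≤ P.comap φ := by
  obtain ⟨Q, hQp, hQ, hqQ, hfs⟩ := exists_ge_finSep p q hq
  obtain ⟨C, hC, ι, φ, hι, hφι, P, hP, hPQ⟩ := exists_etale_section_through n g hgC hg p Q hQ hfs
  exact ⟨C, hC, ι, φ, hι, hφι, P, hP, hPQ ▸ hqQ⟩

open AlgebraicGeometry CategoryTheory in
/-- In characteristic zero, a smooth morphism has étale quasi-sections through a specialization
of any given point. -/
theorem smooth_section_specializing {k : Type u} [Field k] [CharZero k] {X S : Scheme.{u}}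
    (σ : S ⟶ Spec (CommRingCat.of k)) (f : X ⟶ S) [Smooth f] (x : X) :
    ∃ (S' : Scheme.{u}) (g : S' ⟶ S) (s' : S') (h : S' ⟶ X),
      Etale g ∧ h ≫ f = g ∧ x ⤳ h s' := by
  obtain ⟨U, hU, V, hV, hxV, e, hstd⟩ := Smooth.exists_isStandardSmooth f x
  obtain ⟨n, g, hgC, hg⟩ := hstd.exists_etale_mvPolynomial
  letI : Algebra Γ(S, U) Γ(X, V) := (f.appLE U V e).hom.toAlgebra
  haveI : Algebra.IsStandardSmooth Γ(S, U) Γ(X, V) := hstd
  have hsq := hU.SpecMap_appLE_fromSpec f hV e
  let qpt := hV.primeIdealOf ⟨x, hxV⟩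
  have hfx : f x ∈ U := e hxV
  let ppt := hU.primeIdealOf ⟨f x, hfx⟩
  have hpq : Spec.map (f.appLE U V e) qpt = ppt := by
    apply hU.fromSpec.isOpenEmbedding.injective
    rw [← Scheme.Hom.comp_apply, hsq, Scheme.Hom.comp_apply, hV.fromSpec_primeIdealOf,
      hU.fromSpec_primeIdealOf]
  have hq : qpt.asIdeal.comap (algebraMap Γ(S, U) Γ(X, V)) = ppt.asIdeal := by
    have := congrArg PrimeSpectrum.asIdeal hpq
    exact this
  let τ : k →+* Γ(S, U) :=
    ((Scheme.ΓSpecIso (CommRingCat.of k)).inv ≫ σ.appLE ⊤ U (fun _ _ => trivial)).hom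
  haveI : CharZero ppt.asIdeal.ResidueField :=
    charZero_of_injective_ringHom
      (((algebraMap Γ(S, U) ppt.asIdeal.ResidueField).comp τ).injective)
  obtain ⟨C, _, ι, φ, hι, hφι, P, hP, hqP⟩ :=
    exists_etale_section_specializing n g hgC hg ppt.asIdeal qpt.asIdeal hq
  refine ⟨Spec (CommRingCat.of C), Spec.map (CommRingCat.ofHom ι) ≫ hU.fromSpec,
    (⟨P, hP⟩ : PrimeSpectrum C), Spec.map (CommRingCat.ofHom φ) ≫ hV.fromSpec, ?_, ?_, ?_⟩
  · haveI : Etale (Spec.map (CommRingCat.ofHom ι)) :=
      (HasRingHomProperty.Spec_iff (P := @Etale)).mpr hι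
    infer_instance
  · rw [Category.assoc, ← hsq, ← Category.assoc, ← Spec.map_comp]
    congr 2
    rw [← hφι]
    rfl
  · have h1 : qpt ⤳ Spec.map (CommRingCat.ofHom φ) (⟨P, hP⟩ : PrimeSpectrum C) := by
      rw [← PrimeSpectrum.le_iff_specializes]
      exact hqP
    have h2 := h1.map hV.fromSpec.continuous
    rw [hV.fromSpec_primeIdealOf] at h2
    exact h2

end Groth.Agent.Helper12.QSecThrough
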