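import Mathlib
import Groth.Prelude.Def_W4c2gaugesfzipsQuiet
import Groth.Prelude.Def_Frob
import Groth.Agent.Lib.Helper17.QT2
import Groth.Agent.Lib.Helper22.Perf10

/-!
# Quasi-etale morphisms: ring-level tools and the class of "good" morphisms

* `rho` : the Frobenius retraction `A[x]/(x^p - a) → A`, `x ↦ a`, `c ↦ c^p`.
* `tower_comp` : root towers compose.
* `ELP s` : the etale lifting property of a morphism `s : W ⟶ Y`: every etale `E ⟶ W` is the base change of an
  etale `E' ⟶ Y`.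
* `Good s` : `ELP s` and `s` is a homeomorphism; stable under composition, holds for isomorphisms and for
  `Spec` of a root tower in characteristic `p`.
-/

set_option autoImplicit false
set_option linter.style.haveILetI false
set_option linter.unusedSectionVars false
universe u
open CategoryTheory CategoryTheory.Limits AlgebraicGeometry Polynomial FrobSch

namespace Groth.Agent.Helper12.Quiet

open _root_.Quiet (RootRing IsRootTower IsPthRoot IsQuiet)
open Groth.Agent.Helper17.QT

variable (p : ℕ) [Fact p.Prime]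

section Ring

variable {A : Type u} [CommRing A]

theorem natCast_rootRing (hA : (p : A) = 0) (a : A) : (p : RootRing p A a) = 0 := by
  rw [← map_natCast (AdjoinRoot.of (X ^ p - C a : A[X])) p, hA, map_zero]

/-- The Frobenius retraction `A[x]/(x^p - a) → A`. -/
noncomputable def rho (hA : (p : A) = 0) (a : A) : RootRing p A a →+* A :=
  AdjoinRoot.lift (powHom p A hA) a (by
    rw [eval₂_sub, eval₂_pow, eval₂_X, eval₂_C, powHom_apply, sub_self])

theorem rho_comp_of (hA : (p : A) = 0) (a : A) :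
    (rho p hA a).comp (AdjoinRoot.of (X ^ p - C a : A[X])) = powHom p A hA := by
  rw [rho, AdjoinRoot.lift_comp_of]

theorem of_comp_rho (hA : (p : A) = 0) (a : A) :
    (AdjoinRoot.of (X ^ p - C a : A[X])).comp (rho p hA a) =
      powHom p (RootRing p A a) (natCast_rootRing p hA a) := by
  apply AdjoinRoot.ringHom_ext
  · rw [RingHom.comp_assoc, rho_comp_of]
    ext c
    simp only [RingHom.comp_apply, powHom_apply, map_pow]
  · show AdjoinRoot.of (X ^ p - C a : A[X]) (rho p hA a (AdjoinRoot.root _)) = _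
    rw [rho, AdjoinRoot.lift_root, powHom_apply, root_pow]

/-- Precomposing a root tower with a bijection gives a root tower. -/
theorem tower_comp_bijective {n : ℕ} {A₁ B : Type u} [CommRing A₁] [CommRing B]
    (σ : A →+* A₁) (hσ : Function.Bijective σ) (χ : A₁ →+* B) (h : Tower p n χ) :
    Tower p n (χ.comp σ) := by
  obtain ⟨e, he⟩ : ∃ e : A ≃+* A₁, ∀ x, e x = σ x := ⟨RingEquiv.ofBijective σ hσ, fun _ => rfl⟩
  refine tower_po p n χ (e.symm : A₁ →+* A) (χ.comp σ) (RingHom.id B) ⟨?_, ?_, ?_⟩ h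
  · ext x
    show χ (σ (e.symm x)) = χ x
    rw [← he, e.apply_symm_apply]
  · intro T _ β γ hβγ
    refine ⟨γ, ?_, rfl⟩
    ext x
    have := RingHom.congr_fun hβγ (σ x)
    simp only [RingHom.comp_apply] at this ⊢
    rw [← this]
    show β (e.symm (σ x)) = β x
    rw [← he, e.symm_apply_apply]
  · intro T _ δ₁ δ₂ _ h2
    exact h2

/-- Root towers compose. -/
theorem tower_comp : ∀ (n : ℕ) {m : ℕ} {A B C : Type u} [CommRing A] [CommRing B] [CommRing C]
    (φ : A →+* B) (χ : B →+* C), Tower p n φ → Tower p m χ → Tower p (m + n) (χ.comp φ) := by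
  intro n
  induction n with
  | zero =>
    intro m A B C _ _ _ φ χ hφ hχ
    rw [tower_zero] at hφ
    exact tower_comp_bijective p φ hφ χ hχ
  | succ n ih =>
    intro m A B C _ _ _ φ χ hφ hχ
    rw [tower_succ] at hφ
    obtain ⟨a, ψ, hψ, hφ'⟩ := hφ
    show Tower p ((m + n) + 1) (χ.comp φ)
    rw [tower_succ]
    refine ⟨a, χ.comp ψ, ?_, ih ψ χ hφ' hχ⟩
    rw [RingHom.comp_assoc, hψ]

end Ring

section Scheme

/-- The etale lifting property. -/
def ELP {W Y : Scheme.{u}} (s : W ⟶ Y) : Prop :=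
  ∀ (E : Scheme.{u}) (e : E ⟶ W), Etale e →
    ∃ (E' : Scheme.{u}) (e' : E' ⟶ Y) (t : E ⟶ E'), Etale e' ∧ IsPullback t e e' s

theorem ELP.comp {W Y Y₂ : Scheme.{u}} {s₁ : W ⟶ Y} {s₂ : Y ⟶ Y₂} (h₁ : ELP s₁) (h₂ : ELP s₂) :
    ELP (s₁ ≫ s₂) := by
  intro E e he
  obtain ⟨E₁, e₁, t₁, he₁, sq₁⟩ := h₁ E e he
  obtain ⟨E₂, e₂, t₂, he₂, sq₂⟩ := h₂ E₁ e₁ he₁
  exact ⟨E₂, e₂, t₁ ≫ t₂, he₂, sq₁.paste_horiz sq₂⟩

theorem ELP.of_isIso {W Y : Scheme.{u}} (s : W ⟶ Y) [IsIso s] : ELP s := by
  intro E e he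
  haveI := he
  exact ⟨E, e ≫ s, 𝟙 E, inferInstance, IsPullback.of_horiz_isIso ⟨by simp⟩⟩

/-- A morphism with a Frobenius retraction has the etale lifting property. -/
theorem ELP.of_retr {W Y : Scheme.{u}} [IsCharP W p] (s : W ⟶ Y) (Ψ : Y ⟶ W)
    (h : s ≫ Ψ = frob W p) : ELP s := by
  intro E e he
  haveI := he
  have hcond : pullback.fst e (frob W p) ≫ e = (pullback.snd e (frob W p) ≫ s) ≫ Ψ := by
    rw [pullback.condition, Category.assoc, h]
  obtain ⟨θ, hθ⟩ : ∃ θ : pullback e (frob W p) ⟶ pullback e Ψ,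
      θ = pullback.lift (pullback.fst e (frob W p)) (pullback.snd e (frob W p) ≫ s) hcond := ⟨_, rfl⟩
  have hθ1 : θ ≫ pullback.fst e Ψ = pullback.fst e (frob W p) := by rw [hθ, pullback.lift_fst]
  have hθ2 : θ ≫ pullback.snd e Ψ = pullback.snd e (frob W p) ≫ s := by rw [hθ, pullback.lift_snd]
  have big : IsPullback (θ ≫ pullback.fst e Ψ) (pullback.snd e (frob W p)) e (s ≫ Ψ) := by
    rw [hθ1, h]
    exact IsPullback.of_hasPullback e (frob W p)
  have sq : IsPullback θ (pullback.snd e (frob W p)) (pullback.snd e Ψ) s :=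
    IsPullback.of_right big hθ2 (IsPullback.of_hasPullback e Ψ)
  haveI := Groth.Agent.Helper22.Perf.isIso_relFrob_of_etale p e
  have sq0 : IsPullback (relFrob e p) e (pullback.snd e (frob W p)) (𝟙 W) :=
    IsPullback.of_horiz_isIso ⟨by rw [relFrob_snd, Category.comp_id]⟩
  have sq1 := sq0.paste_horiz sq
  rw [Category.id_comp] at sq1
  exact ⟨pullback e Ψ, pullback.snd e Ψ, relFrob e p ≫ θ, inferInstance, sq1⟩

/-- A morphism with a two-sided Frobenius retraction is a homeomorphism. -/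
theorem isHomeomorph_of_retr {W Y : Scheme.{u}} [IsCharP W p] [IsCharP Y p] (s : W ⟶ Y) (Ψ : Y ⟶ W)
    (h₁ : s ≫ Ψ = frob W p) (h₂ : Ψ ≫ s = frob Y p) : IsHomeomorph s := by
  have l : Function.LeftInverse Ψ s := by
    intro w
    rw [← Scheme.Hom.comp_apply, h₁, frob_apply]
  have r : Function.RightInverse Ψ s := by
    intro y
    rw [← Scheme.Hom.comp_apply, h₂, frob_apply]
  exact (Homeomorph.mk ⟨s, Ψ, l, r⟩ s.continuous Ψ.continuous).isHomeomorph

/-- Good morphisms: etale lifting property and homeomorphism. -/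
def Good {W Y : Scheme.{u}} (s : W ⟶ Y) : Prop := ELP s ∧ IsHomeomorph s

theorem Good.comp {W Y Y₂ : Scheme.{u}} {s₁ : W ⟶ Y} {s₂ : Y ⟶ Y₂} (h₁ : Good s₁) (h₂ : Good s₂) :
    Good (s₁ ≫ s₂) := by
  refine ⟨h₁.1.comp h₂.1, ?_⟩
  have : (⇑(s₁ ≫ s₂) : W → Y₂) = ⇑s₂ ∘ ⇑s₁ := by
    ext w
    rw [Scheme.Hom.comp_apply]
    rfl
  rw [this]
  exact h₂.2.comp h₁.2

theorem Good.of_isIso {W Y : Scheme.{u}} (s : W ⟶ Y) [IsIso s] : Good s :=
  ⟨ELP.of_isIso s, (Scheme.homeoOfIso (asIso s)).isHomeomorph⟩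

theorem frob_Spec' (R : Type u) [CommRing R] (h : (p : R) = 0)
    [IsCharP (Spec (CommRingCat.of R)) p] :
    frob (Spec (CommRingCat.of R)) p = Spec.map (CommRingCat.ofHom (powHom p R h)) := by
  apply ext_of_isAffine
  apply (cancel_mono (Scheme.ΓSpecIso (CommRingCat.of R)).hom).mp
  rw [Scheme.ΓSpecIso_naturality]
  ext s
  show (Scheme.ΓSpecIso (CommRingCat.of R)).hom (s ^ p) =
    ((Scheme.ΓSpecIso (CommRingCat.of R)).hom s) ^ p
  rw [map_pow]

theorem isCharP_Spec_of (R : Type u) [CommRing R] (h : (p : R) = 0) :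
    IsCharP (Spec (CommRingCat.of R)) p where
  natCast_eq_zero := by
    apply (Scheme.ΓSpecIso (CommRingCat.of R)).commRingCatIsoToRingEquiv.injective
    rw [map_natCast, map_zero]
    exact h

/-- `Spec` of an elementary extraction is good. -/
theorem good_elementary {A : Type u} [CommRing A] (hA : (p : A) = 0) (a : A) :
    Good (Spec.map (CommRingCat.ofHom (AdjoinRoot.of (X ^ p - C a : A[X])))) := by
  haveI := isCharP_Spec_of p A hA
  haveI := isCharP_Spec_of p (RootRing p A a) (natCast_rootRing p hA a)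
  have h₁ : Spec.map (CommRingCat.ofHom (AdjoinRoot.of (X ^ p - C a : A[X]))) ≫
      Spec.map (CommRingCat.ofHom (rho p hA a)) =
      frob (Spec (CommRingCat.of (RootRing p A a))) p := by
    rw [frob_Spec' p _ (natCast_rootRing p hA a), ← Spec.map_comp, ← CommRingCat.ofHom_comp,
      of_comp_rho]
  have h₂ : Spec.map (CommRingCat.ofHom (rho p hA a)) ≫
      Spec.map (CommRingCat.ofHom (AdjoinRoot.of (X ^ p - C a : A[X]))) =
      frob (Spec (CommRingCat.of A)) p := by
    rw [frob_Spec' p _ hA, ← Spec.map_comp, ← CommRingCat.ofHom_comp, rho_comp_of]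
  exact ⟨ELP.of_retr p _ _ h₁, isHomeomorph_of_retr p _ _ h₁ h₂⟩

/-- `Spec` of a root tower in characteristic `p` is good. -/
theorem good_tower : ∀ (n : ℕ) {A B : Type u} [CommRing A] [CommRing B] (φ : A →+* B),
    (p : A) = 0 → Tower p n φ → Good (Spec.map (CommRingCat.ofHom φ)) := by
  intro n
  induction n with
  | zero =>
    intro A B _ _ φ _ h
    rw [tower_zero] at h
    haveI : IsIso (CommRingCat.ofHom φ) :=
      (ConcreteCategory.isIso_iff_bijective _).mpr h
    exact Good.of_isIso _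
  | succ n ih =>
    intro A B _ _ φ hA h
    rw [tower_succ] at h
    obtain ⟨a, ψ, hψ, h⟩ := h
    have e : CommRingCat.ofHom φ =
        CommRingCat.ofHom (AdjoinRoot.of (X ^ p - C a : A[X])) ≫ CommRingCat.ofHom ψ := by
      rw [← CommRingCat.ofHom_comp, hψ]
    rw [e, Spec.map_comp]
    exact (ih ψ (natCast_rootRing p hA a) h).comp (good_elementary p hA a)

/-- A morphism of affine schemes whose map on global sections is a root tower is good. -/
theorem good_of_isAffine {P Q : Scheme.{u}} [IsAffine P] [IsAffine Q] (h : P ⟶ Q) (n : ℕ)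
    (hQ : (p : Γ(Q, ⊤)) = 0) (ht : Tower p n h.appTop.hom) : Good h := by
  have e : h = P.isoSpec.hom ≫ Spec.map h.appTop ≫ Q.isoSpec.inv := by
    rw [← Category.assoc, Scheme.isoSpec_hom_naturality, Category.assoc, Iso.hom_inv_id,
      Category.comp_id]
  rw [e]
  refine (Good.of_isIso _).comp (Good.comp ?_ (Good.of_isIso _))
  exact good_tower p n h.appTop.hom hQ ht

end Scheme

end Groth.Agent.Helper12.Quiet
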