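import Mathlib
import Groth.Agent.Lib.Helper12.QuietA

/-!
# Quasi-etale morphisms: scheme-level plumbing

* `tower_baseChange_le`, `tower_le` : root towers on sections restrict to smaller affine opens / base change.
* `good_restrict` : the restriction of a morphism over an affine open where it is a root tower is `Good`.
* `isPthRoot_comp` : `p`-th root morphisms compose (characteristic `p`).
* `exists_lift` : etale morphisms lift (locally on the source) along `p`-th root morphisms.
* `isQuiet_of_openImmersion` : open-immersion form of the definition of quasi-etale.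
* `isQuiet_comp` : quasi-etale morphisms compose.
-/

set_option autoImplicit false
set_option linter.style.haveILetI false
set_option linter.unusedSectionVars false
universe u
open CategoryTheory CategoryTheory.Limits AlgebraicGeometry Polynomial FrobSch

namespace Groth.Agent.Helper12.Quiet

open _root_.Quiet (RootRing IsRootTower IsPthRoot IsQuiet)
open Groth.Agent.Helper17.QT

variable (p : ℕ) [Fact p.Prime]

/-- Root towers on sections are stable under base change and shrinking the affine open. -/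
theorem tower_baseChange_le {V W V' W' : Scheme.{u}} {a : V' ⟶ V} {r' : V' ⟶ W'}
    {r : V ⟶ W} {h : W' ⟶ W} (H : IsPullback a r' r h) (U : W.Opens) (hU : IsAffineOpen U)
    (hUaff : IsAffineOpen (r ⁻¹ᵁ U)) (n : ℕ) (t1 : Tower p n (r.app U).hom)
    (U' : W'.Opens) (hU' : IsAffineOpen U') (hUST : U' ≤ h ⁻¹ᵁ U) :
    IsAffineOpen (r' ⁻¹ᵁ U') ∧ Tower p n (r'.app U').hom := by
  have hUSX : r ⁻¹ᵁ U ≤ r ⁻¹ᵁ U := le_rfl
  have hUY : r' ⁻¹ᵁ U' = a ⁻¹ᵁ (r ⁻¹ᵁ U) ⊓ r' ⁻¹ᵁ U' := by
    apply le_antisymm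
    · apply le_inf _ le_rfl
      intro x hx
      have h1 : h (r' x) ∈ U := hUST hx
      have h2 : r (a x) = h (r' x) := by
        rw [← Scheme.Hom.comp_apply, ← Scheme.Hom.comp_apply, H.w]
      show r (a x) ∈ U
      rw [h2]
      exact h1
    · exact inf_le_right
  have hpb := Scheme.Hom.isPullback_resLE H hUST hUSX hUY
  have hUYaff : IsAffineOpen (r' ⁻¹ᵁ U') := by
    haveI : IsAffine (U : Scheme.{u}) := hU
    haveI : IsAffine (U' : Scheme.{u}) := hU'
    haveI : IsAffine ((r ⁻¹ᵁ U : V.Opens) : Scheme.{u}) := hUaff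
    exact .of_isIso hpb.isoPullback.hom
  have hiso := isIso_pushoutSection_of_isAffineOpen H hUST hUSX hUY hU hU' hUaff
  have hpo := (isIso_pushoutSection_iff H hUST hUSX hUY).mp hiso
  have e1 : r.appLE U (r ⁻¹ᵁ U) hUSX = r.app U := Scheme.Hom.appLE_eq_app r
  have hle2 : r' ⁻¹ᵁ U' ≤ r' ⁻¹ᵁ U' := le_rfl
  have e2 : r'.appLE U' (r' ⁻¹ᵁ U') hle2 = r'.app U' := Scheme.Hom.appLE_eq_app r'
  rw [e1] at hpo
  have hPO := po_of_isPushout hpo
  refine ⟨hUYaff, ?_⟩
  have t2 := tower_po p n _ _ _ _ hPO t1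
  rw [← e2]
  exact t2

/-- Root towers on sections restrict to smaller affine opens. -/
theorem tower_le {V W : Scheme.{u}} (r : V ⟶ W) (U : W.Opens) (hU : IsAffineOpen U)
    (hUaff : IsAffineOpen (r ⁻¹ᵁ U)) (n : ℕ) (t1 : Tower p n (r.app U).hom)
    (U' : W.Opens) (hU' : IsAffineOpen U') (hle : U' ≤ U) :
    IsAffineOpen (r ⁻¹ᵁ U') ∧ Tower p n (r.app U').hom := by
  have H : IsPullback (𝟙 V) r r (𝟙 W) := IsPullback.of_horiz_isIso ⟨by simp⟩
  exact tower_baseChange_le p H U hU hUaff n t1 U' hU' hle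

theorem tower_eqToHom {X Y : Scheme.{u}} (f : Y ⟶ X) (n : ℕ) (U W : X.Opens) (hW : W = U)
    (V' : Y.Opens) (e : V' = f ⁻¹ᵁ W) (t : Tower p n (f.app U).hom) :
    Tower p n (f.app W ≫ Y.presheaf.map (eqToHom e).op).hom := by
  subst hW
  subst e
  simpa using t

theorem tower_restrict {X Y : Scheme.{u}} (f : Y ⟶ X) (n : ℕ) (U : X.Opens)
    (t : Tower p n (f.app U).hom) : Tower p n (f ∣_ U).appTop.hom := by
  rw [morphismRestrict_appTop]
  exact tower_eqToHom p f n U _ (Scheme.Opens.ι_image_top U) _ _ t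

theorem good_restrict {X Y : Scheme.{u}} [IsCharP X p] (f : Y ⟶ X) (n : ℕ) (U : X.Opens)
    (hU : IsAffineOpen U) (hUaff : IsAffineOpen (f ⁻¹ᵁ U)) (t : Tower p n (f.app U).hom) :
    Good (f ∣_ U) := by
  haveI : IsAffine (U : Scheme.{u}) := hU
  haveI : IsAffine ((f ⁻¹ᵁ U : Y.Opens) : Scheme.{u}) := hUaff
  haveI : IsCharP (U : Scheme.{u}) p := IsCharP.of_hom U.ι p
  exact good_of_isAffine p (f ∣_ U) n (IsCharP.natCast_eq_zero) (tower_restrict p f n U t)

end Groth.Agent.Helper12.Quiet
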