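import Mathlib
import Groth.Agent.Lib.Helper12.QuietB

/-!
# Quasi-etale morphisms compose
-/

set_option autoImplicit false
set_option linter.style.haveILetI false
set_option linter.unusedSectionVars false
universe u
open CategoryTheory CategoryTheory.Limits AlgebraicGeometry Polynomial FrobSch

namespace Groth.Agent.Helper12.Quiet

open _root_.Quiet (RootRing IsRootTower IsPthRoot IsQuiet)
open Groth.Agent.Helper17.QT

variable (p : ℕ) [Fact p.Prime]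

/-- `p`-th root morphisms compose (in characteristic `p`). -/
theorem isPthRoot_comp {X Y Z : Scheme.{u}} [IsCharP X p] (f : Y ⟶ X) (g : Z ⟶ Y)
    (hf : IsPthRoot p f) (hg : IsPthRoot p g) : IsPthRoot p (g ≫ f) := by
  intro x
  obtain ⟨U, hxU, hUaff, n, hn⟩ := hf x
  have t1 : Tower p n (f.app U.1).hom :=
    @tower_of_isRootTower p n Γ(X, U.1) Γ(Y, f ⁻¹ᵁ U.1) _ _ (f.app U.1).hom.toAlgebra hn
  have hgood := good_restrict p f n U.1 U.2 hUaff t1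
  have hhomeo : IsHomeomorph (f ∣_ U.1) := hgood.2
  obtain ⟨y₀', hy₀'⟩ := hhomeo.surjective ⟨x, hxU⟩
  obtain ⟨U₂, hyU₂, hU₂aff, m, hm⟩ := hg y₀'.1
  have t2 : Tower p m (g.app U₂.1).hom :=
    @tower_of_isRootTower p m Γ(Y, U₂.1) Γ(Z, g ⁻¹ᵁ U₂.1) _ _ (g.app U₂.1).hom.toAlgebra hm
  -- the open neighbourhood of `x`
  let O' : (f ⁻¹ᵁ U.1 : Y.Opens).toScheme.Opens := (f ⁻¹ᵁ U.1).ι ⁻¹ᵁ U₂.1
  have hN₀ : IsOpen ((f ∣_ U.1) '' (O' : Set (f ⁻¹ᵁ U.1 : Y.Opens).toScheme)) :=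
    hhomeo.isOpenMap _ O'.2
  let N₁ : X.Opens := U.1.ι ''ᵁ ⟨_, hN₀⟩
  have hxN₁ : x ∈ N₁ := by
    refine ⟨⟨x, hxU⟩, ⟨y₀', ?_, hy₀'⟩, rfl⟩
    exact hyU₂
  obtain ⟨a, haN₁, hxa⟩ := U.2.exists_basicOpen_le (V := N₁) ⟨x, hxN₁⟩ hxU
  have hNaff : IsAffineOpen (X.basicOpen a) := U.2.basicOpen a
  have hNU : X.basicOpen a ≤ U.1 := X.basicOpen_le a
  obtain ⟨hfN, t3⟩ := tower_le p f U.1 U.2 hUaff n t1 (X.basicOpen a) hNaff hNU
  have hle : f ⁻¹ᵁ (X.basicOpen a) ≤ U₂.1 := by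
    intro y hy
    have hy1 : f y ∈ N₁ := haN₁ hy
    obtain ⟨u, ⟨o, ho, hou⟩, huy⟩ := hy1
    have hyU : y ∈ f ⁻¹ᵁ U.1 := hNU hy
    have h1 : U.1.ι ((f ∣_ U.1) ⟨y, hyU⟩) = f y := by
      rw [← Scheme.Hom.comp_apply, morphismRestrict_ι, Scheme.Hom.comp_apply]
      rfl
    have h2 : (f ∣_ U.1) ⟨y, hyU⟩ = (f ∣_ U.1) o := by
      apply U.1.ι.injective
      rw [h1, hou]
      exact huy.symm
    have h3 : (⟨y, hyU⟩ : (f ⁻¹ᵁ U.1 : Y.Opens)) = o := hhomeo.injective h2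
    have h4 : y = o.1 := congrArg Subtype.val h3
    rw [h4]
    exact ho
  obtain ⟨hgN, t4⟩ := tower_le p g U₂.1 U₂.2 hU₂aff m t2 (f ⁻¹ᵁ (X.basicOpen a)) hfN hle
  refine ⟨⟨X.basicOpen a, hNaff⟩, hxa, hgN, m + n, ?_⟩
  have t5' : Tower p (m + n) ((g.app (f ⁻¹ᵁ (X.basicOpen a))).hom.comp
      (f.app (X.basicOpen a)).hom) := tower_comp p n _ _ t3 t4
  have t5 : Tower p (m + n) ((g ≫ f).app (X.basicOpen a)).hom := by
    have e5 : (g ≫ f).app (X.basicOpen a) =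
        f.app (X.basicOpen a) ≫ g.app (f ⁻¹ᵁ (X.basicOpen a)) := Scheme.Hom.comp_app _ _ _
    rw [e5]
    exact t5'
  exact @isRootTower_of_tower p (m + n) Γ(X, X.basicOpen a) Γ(Z, (g ≫ f) ⁻¹ᵁ X.basicOpen a) _ _
    ((g ≫ f).app (X.basicOpen a)).hom.toAlgebra t5

/-- Etale morphisms lift, locally on the source, along `p`-th root morphisms. -/
theorem exists_lift {W Y' E : Scheme.{u}} [IsCharP Y' p] (s : W ⟶ Y') (hs : IsPthRoot p s)
    (e : E ⟶ W) [Etale e] (x : E) :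
    ∃ (E₀ : Scheme.{u}) (j : E₀ ⟶ E) (_ : IsOpenImmersion j) (E' : Scheme.{u}) (e' : E' ⟶ Y')
      (t : E₀ ⟶ E'), x ∈ Set.range j ∧ Etale e' ∧ IsPthRoot p t ∧ t ≫ e' = j ≫ e ≫ s := by
  obtain ⟨U, hxU, hUaff, n, hn⟩ := hs (s (e x))
  have t1 : Tower p n (s.app U.1).hom :=
    @tower_of_isRootTower p n Γ(Y', U.1) Γ(W, s ⁻¹ᵁ U.1) _ _ (s.app U.1).hom.toAlgebra hn
  have hgood := good_restrict p s n U.1 U.2 hUaff t1
  haveI : Etale (e ∣_ (s ⁻¹ᵁ U.1)) :=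
    MorphismProperty.of_isPullback (isPullback_morphismRestrict e (s ⁻¹ᵁ U.1)).flip
      (inferInstance : Etale e)
  obtain ⟨E', e'₀, t, he'₀, sq⟩ := hgood.1 _ (e ∣_ (s ⁻¹ᵁ U.1)) inferInstance
  haveI := he'₀
  have hsU : IsPthRoot p (s ∣_ U.1) :=
    isPthRoot_baseChange p (isPullback_morphismRestrict s U.1).flip hs
  have ht : IsPthRoot p t := isPthRoot_baseChange p sq.flip hsU
  refine ⟨_, (e ⁻¹ᵁ (s ⁻¹ᵁ U.1)).ι, inferInstance, E', e'₀ ≫ U.1.ι, t, ?_, inferInstance, ht, ?_⟩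
  · rw [Scheme.Opens.range_ι]
    exact hxU
  · rw [← Category.assoc, sq.w, Category.assoc, morphismRestrict_ι, ← Category.assoc,
      morphismRestrict_ι, Category.assoc]

/-- Open immersion form of the definition of a quasi-etale morphism. -/
theorem isQuiet_of_openImmersion {Y X : Scheme.{u}} (f : Y ⟶ X)
    (h : ∀ y : Y, ∃ (V₀ : Scheme.{u}) (k : V₀ ⟶ Y) (_ : IsOpenImmersion k) (Y' : Scheme.{u})
      (r : V₀ ⟶ Y') (e : Y' ⟶ X), y ∈ Set.range k ∧ IsPthRoot p r ∧ Etale e ∧ r ≫ e = k ≫ f) :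
    IsQuiet p f := by
  intro y
  obtain ⟨V₀, k, hk, Y', r, e, hy, hr, he, hre⟩ := h y
  haveI := hk
  refine ⟨k.opensRange, Y', k.isoOpensRange.inv ≫ r, e, hy, ?_, he, ?_⟩
  · have H : IsPullback (k.isoOpensRange.inv) (k.isoOpensRange.inv ≫ r) r (𝟙 Y') :=
      IsPullback.of_horiz_isIso ⟨by simp⟩
    exact isPthRoot_baseChange p H hr
  · rw [Category.assoc, hre, ← Category.assoc, Scheme.Hom.isoOpensRange_inv_comp]

/-- Quasi-etale morphisms compose (in characteristic `p`). -/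
theorem isQuiet_comp {X Y Z : Scheme.{u}} [IsCharP X p] (f : Y ⟶ X) (g : Z ⟶ Y)
    (hf : IsQuiet p f) (hg : IsQuiet p g) : IsQuiet p (g ≫ f) := by
  apply isQuiet_of_openImmersion
  intro z
  obtain ⟨V, Z', r, e, hzV, hr, he, hre⟩ := hg z
  obtain ⟨W, Y', s, e₂, hyW, hs, he₂, hse⟩ := hf (g z)
  haveI := he
  haveI := he₂
  haveI : IsCharP Y' p := IsCharP.of_hom e₂ p
  -- the etale `e ∣_ W : e⁻¹W ⟶ W`
  haveI : Etale (e ∣_ W) :=
    MorphismProperty.of_isPullback (isPullback_morphismRestrict e W).flip (inferInstance : Etale e)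
  have hrz : e (r ⟨z, hzV⟩) = g z := by
    rw [← Scheme.Hom.comp_apply, hre, Scheme.Hom.comp_apply]
    rfl
  have hxW : r ⟨z, hzV⟩ ∈ e ⁻¹ᵁ W := by
    show e (r ⟨z, hzV⟩) ∈ W
    rw [hrz]
    exact hyW
  obtain ⟨E₀, j, hj, E', e', t, hxj, he', ht, hte⟩ :=
    exists_lift p s hs (e ∣_ W) ⟨r ⟨z, hzV⟩, hxW⟩
  haveI := hj
  haveI := he'
  haveI : IsCharP E' p := IsCharP.of_hom e' p
  obtain ⟨x₀, hx₀⟩ := hxj
  -- the open immersion `k : E₀ ⟶ Z'`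
  obtain ⟨k, hk⟩ : ∃ k : E₀ ⟶ Z', k = j ≫ (e ⁻¹ᵁ W).ι := ⟨_, rfl⟩
  haveI : IsOpenImmersion k := by rw [hk]; infer_instance
  have hkx : k x₀ = r ⟨z, hzV⟩ := by
    rw [hk, Scheme.Hom.comp_apply, hx₀]
    rfl
  obtain ⟨v₀, hv₀1, hv₀2⟩ := Scheme.Pullback.exists_preimage_pullback (f := r) (g := k)
    ⟨z, hzV⟩ x₀ hkx.symm
  have hsnd : IsPthRoot p (pullback.snd r k) :=
    isPthRoot_baseChange p (IsPullback.of_hasPullback r k) hr
  refine ⟨pullback r k, pullback.fst r k ≫ V.ι, inferInstance, E', pullback.snd r k ≫ t,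
    e' ≫ e₂, ?_, ?_, inferInstance, ?_⟩
  · refine ⟨v₀, ?_⟩
    rw [Scheme.Hom.comp_apply, hv₀1]
    rfl
  · exact isPthRoot_comp p t (pullback.snd r k) ht hsnd
  · rw [Category.assoc, ← Category.assoc t, hte, Category.assoc, Category.assoc, hse,
      ← Category.assoc (e ∣_ W), morphismRestrict_ι, Category.assoc, ← Category.assoc j, ← hk,
      ← Category.assoc, ← pullback.condition, Category.assoc, ← Category.assoc r, hre,
      Category.assoc, Category.assoc]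

end Groth.Agent.Helper12.Quiet
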