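import Mathlib
import Groth.Agent.Lib.Helper12.QuietC

/-!
# Quasi-etale morphisms: lifting root towers along surjections

* `po_elem`, `po_paste`, `po_of_surjective` : pushout squares (universal-property form `PO` of helper17).
* `tower_lift` : a root tower over a quotient `Ā` of `A` lifts to a root tower over `A` (pushout square).
* `isPushout_of_po` : `PO` gives a categorical pushout in `CommRingCat`.
* `isPthRoot_Spec` : `Spec` of a root tower is a `p`-th root morphism.
* `isPullback_fromSpec` : the pullback square of `fromSpec`s over an affine open with affine preimage.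
-/

set_option autoImplicit false
set_option linter.style.haveILetI false
set_option linter.unusedSectionVars false
universe u
open CategoryTheory CategoryTheory.Limits AlgebraicGeometry Polynomial FrobSch

namespace Groth.Agent.Helper12.Quiet

open _root_.Quiet (RootRing IsRootTower IsPthRoot IsQuiet)
open Groth.Agent.Helper17.QT

variable (p : ℕ)

section Ring

/-- The canonical map `A[x]/(x^p - a) → A'[x]/(x^p - α a)`. -/
noncomputable def kap {A A' : Type u} [CommRing A] [CommRing A'] (α : A →+* A') (a : A) :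
    RootRing p A a →+* RootRing p A' (α a) :=
  AdjoinRoot.lift ((AdjoinRoot.of (X ^ p - C (α a) : A'[X])).comp α)
    (AdjoinRoot.root (X ^ p - C (α a) : A'[X])) (by
      rw [eval₂_sub, eval₂_pow, eval₂_X, eval₂_C, root_pow, sub_eq_zero]
      rfl)

theorem kap_comp_of {A A' : Type u} [CommRing A] [CommRing A'] (α : A →+* A') (a : A) :
    (kap p α a).comp (AdjoinRoot.of (X ^ p - C a : A[X])) =
      (AdjoinRoot.of (X ^ p - C (α a) : A'[X])).comp α := by
  rw [kap, AdjoinRoot.lift_comp_of]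

theorem kap_root {A A' : Type u} [CommRing A] [CommRing A'] (α : A →+* A') (a : A) :
    kap p α a (AdjoinRoot.root (X ^ p - C a : A[X])) = AdjoinRoot.root (X ^ p - C (α a) : A'[X]) := by
  rw [kap, AdjoinRoot.lift_root]

theorem kap_surjective {A A' : Type u} [CommRing A] [CommRing A'] (α : A →+* A')
    (hα : Function.Surjective α) (a : A) : Function.Surjective (kap p α a) := by
  intro z
  induction z using AdjoinRoot.induction_on with
  | ih g =>
    obtain ⟨g', rfl⟩ := Polynomial.map_surjective α hα g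
    refine ⟨AdjoinRoot.mk _ g', ?_⟩
    induction g' using Polynomial.induction_on' with
    | add f₁ f₂ h₁ h₂ => rw [map_add, map_add, h₁, h₂, Polynomial.map_add, map_add]
    | monomial n c =>
      rw [← C_mul_X_pow_eq_monomial, map_mul, map_pow, map_mul, map_pow, AdjoinRoot.mk_X,
        AdjoinRoot.mk_C, kap_root, Polynomial.map_mul, Polynomial.map_pow, Polynomial.map_C,
        Polynomial.map_X, map_mul, map_pow, AdjoinRoot.mk_X, AdjoinRoot.mk_C]
      congr 1
      exact RingHom.congr_fun (kap_comp_of p α a) c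

/-- The elementary square is a pushout. -/
theorem po_elem {A A' : Type u} [CommRing A] [CommRing A'] (α : A →+* A') (a : A) :
    PO (AdjoinRoot.of (X ^ p - C a : A[X])) α (AdjoinRoot.of (X ^ p - C (α a) : A'[X]))
      (kap p α a) := by
  refine ⟨(kap_comp_of p α a).symm, ?_, ?_⟩
  · intro T _ β γ hβγ
    have h0 : (X ^ p - C (α a) : A'[X]).eval₂ β (γ (AdjoinRoot.root (X ^ p - C a : A[X]))) = 0 := by
      rw [eval₂_sub, eval₂_pow, eval₂_X, eval₂_C, ← map_pow, root_pow, sub_eq_zero]
      exact (RingHom.congr_fun hβγ a).symm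
    refine ⟨AdjoinRoot.lift β _ h0, AdjoinRoot.lift_comp_of _, ?_⟩
    apply AdjoinRoot.ringHom_ext
    · rw [RingHom.comp_assoc, kap_comp_of, ← RingHom.comp_assoc, AdjoinRoot.lift_comp_of]
      exact hβγ
    · show AdjoinRoot.lift β _ h0 (kap p α a (AdjoinRoot.root _)) = _
      rw [kap_root, AdjoinRoot.lift_root]
  · intro T _ δ₁ δ₂ h1 h2
    apply AdjoinRoot.ringHom_ext h1
    have := RingHom.congr_fun h2 (AdjoinRoot.root (X ^ p - C a : A[X]))
    simp only [RingHom.comp_apply, kap_root] at this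
    exact this

/-- Pasting of pushout squares. -/
theorem po_paste {A B₁ B₂ A' B₁' B₂' : Type u} [CommRing A] [CommRing B₁] [CommRing B₂]
    [CommRing A'] [CommRing B₁'] [CommRing B₂']
    {φ₁ : A →+* B₁} {α : A →+* A'} {φ₁' : A' →+* B₁'} {α₁ : B₁ →+* B₁'}
    {φ₂ : B₁ →+* B₂} {φ₂' : B₁' →+* B₂'} {α₂ : B₂ →+* B₂'}
    (h₁ : PO φ₁ α φ₁' α₁) (h₂ : PO φ₂ α₁ φ₂' α₂) : PO (φ₂.comp φ₁) α (φ₂'.comp φ₁') α₂ := by
  refine ⟨?_, ?_, ?_⟩
  · rw [RingHom.comp_assoc, h₁.comm, ← RingHom.comp_assoc, h₂.comm, RingHom.comp_assoc]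
  · intro T _ β γ hβγ
    obtain ⟨δ₁, hδ₁1, hδ₁2⟩ := h₁.desc T β (γ.comp φ₂) (by rw [hβγ, RingHom.comp_assoc])
    obtain ⟨δ₂, hδ₂1, hδ₂2⟩ := h₂.desc T δ₁ γ hδ₁2
    exact ⟨δ₂, by rw [← RingHom.comp_assoc, hδ₂1, hδ₁1], hδ₂2⟩
  · intro T _ δ₁ δ₂ h1 h2
    apply h₂.uniq T δ₁ δ₂ _ h2
    apply h₁.uniq T
    · rw [RingHom.comp_assoc, RingHom.comp_assoc]; exact h1
    · rw [RingHom.comp_assoc, RingHom.comp_assoc, h₂.comm, ← RingHom.comp_assoc,
        ← RingHom.comp_assoc, h2]

/-- A square of surjections with the expected kernel is a pushout. -/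
theorem po_of_surjective {R Rb C' C : Type u} [CommRing R] [CommRing Rb] [CommRing C']
    [CommRing C] (ι' : R →+* C') (π : R →+* Rb) (eb : Rb →+* C) (πC : C' →+* C)
    (hπ : Function.Surjective π) (hπC : Function.Surjective πC)
    (hker : RingHom.ker πC = Ideal.map ι' (RingHom.ker π))
    (hcomm : πC.comp ι' = eb.comp π) : PO ι' π eb πC := by
  refine ⟨hcomm.symm, ?_, ?_⟩
  · intro T _ β γ hβγ
    have hle : RingHom.ker πC ≤ RingHom.ker γ := by
      rw [hker, Ideal.map_le_iff_le_comap]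
      intro x hx
      rw [Ideal.mem_comap, RingHom.mem_ker]
      have := RingHom.congr_fun hβγ x
      simp only [RingHom.comp_apply] at this
      rw [← this, (RingHom.mem_ker).1 hx, map_zero]
    refine ⟨πC.liftOfSurjective hπC ⟨γ, hle⟩, ?_, RingHom.liftOfSurjective_comp πC hπC ⟨γ, hle⟩⟩
    apply RingHom.cancel_right hπ |>.1
    rw [RingHom.comp_assoc, ← hcomm, ← RingHom.comp_assoc,
      RingHom.liftOfSurjective_comp πC hπC ⟨γ, hle⟩]
    exact hβγ.symm
  · intro T _ δ₁ δ₂ _ h2
    exact (RingHom.cancel_right hπC).1 h2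

/-- Root towers lift along surjections. -/
theorem tower_lift : ∀ (n : ℕ) {A Ab Bb : Type u} [CommRing A] [CommRing Ab] [CommRing Bb]
    (π : A →+* Ab) (_ : Function.Surjective π) (φb : Ab →+* Bb), Tower p n φb →
    ∃ (B : Type u) (_ : CommRing B) (φ : A →+* B) (π' : B →+* Bb),
      Tower p n φ ∧ PO φ π φb π' := by
  intro n
  induction n with
  | zero =>
    intro A Ab Bb _ _ _ π hπ φb h
    rw [tower_zero] at h
    obtain ⟨e, he⟩ : ∃ e : Ab ≃+* Bb, ∀ x, e x = φb x := ⟨RingEquiv.ofBijective φb h, fun _ => rfl⟩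
    refine ⟨A, inferInstance, RingHom.id A, φb.comp π, Function.bijective_id, rfl, ?_, ?_⟩
    · intro T _ β γ hβγ
      refine ⟨β.comp (e.symm : Bb →+* Ab), ?_, ?_⟩
      · ext x
        show β (e.symm (φb x)) = β x
        rw [← he, e.symm_apply_apply]
      · ext x
        show β (e.symm (φb (π x))) = γ x
        rw [← he, e.symm_apply_apply]
        exact RingHom.congr_fun hβγ x
    · intro T _ δ₁ δ₂ h1 _
      exact (RingHom.cancel_right h.2).1 h1
  | succ n ih =>
    intro A Ab Bb _ _ _ π hπ φb h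
    rw [tower_succ] at h
    obtain ⟨ab, ψb, hψb, h⟩ := h
    obtain ⟨a, rfl⟩ := hπ ab
    obtain ⟨B, _, ψ, π', hψ, hpo⟩ := ih (kap p π a) (kap_surjective p π hπ a) ψb h
    refine ⟨B, inferInstance, ψ.comp (AdjoinRoot.of (X ^ p - C a : A[X])), π', ?_, ?_⟩
    · rw [tower_succ]
      exact ⟨a, ψ, rfl, hψ⟩
    · rw [← hψb]
      exact po_paste (po_elem p π a) hpo

/-- `PO` gives a categorical pushout. -/
theorem isPushout_of_po {A B A' B' : Type u} [CommRing A] [CommRing B] [CommRing A'] [CommRing B']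
    {φ : A →+* B} {α : A →+* A'} {φ' : A' →+* B'} {α' : B →+* B'} (h : PO φ α φ' α') :
    IsPushout (CommRingCat.ofHom φ) (CommRingCat.ofHom α) (CommRingCat.ofHom α')
      (CommRingCat.ofHom φ') := by
  have hex : ∀ s : PushoutCocone (CommRingCat.ofHom φ) (CommRingCat.ofHom α),
      ∃ δ : B' →+* s.pt, δ.comp φ' = s.inr.hom ∧ δ.comp α' = s.inl.hom := fun s =>
    h.desc s.pt s.inr.hom s.inl.hom (by
      have := congrArg CommRingCat.Hom.hom s.condition
      simpa using this.symm)
  choose δ hδ1 hδ2 using hex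
  refine ⟨⟨?_⟩, ⟨PushoutCocone.IsColimit.mk _ (fun s => CommRingCat.ofHom (δ s)) ?_ ?_ ?_⟩⟩
  · ext x
    exact (RingHom.congr_fun h.comm x).symm
  · intro s
    ext x
    exact RingHom.congr_fun (hδ2 s) x
  · intro s
    ext x
    exact RingHom.congr_fun (hδ1 s) x
  · intro s m h1 h2
    have h1' : m.hom.comp α' = s.inl.hom := by
      have := congrArg CommRingCat.Hom.hom h1
      simpa using this
    have h2' : m.hom.comp φ' = s.inr.hom := by
      have := congrArg CommRingCat.Hom.hom h2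
      simpa using this
    ext x
    have := h.uniq s.pt m.hom (δ s) (by rw [h2', hδ1]) (by rw [h1', hδ2])
    exact RingHom.congr_fun this x

/-- Root towers transport along compatible ring isomorphisms. -/
theorem tower_of_equiv [Fact p.Prime] {n : ℕ} {A₁ B₁ A₂ B₂ : Type u} [CommRing A₁] [CommRing B₁]
    [CommRing A₂] [CommRing B₂] (φ₁ : A₁ →+* B₁) (φ₂ : A₂ →+* B₂) (eA : A₁ ≃+* A₂)
    (eB : B₁ ≃+* B₂) (h : φ₂.comp (eA : A₁ →+* A₂) = (eB : B₁ →+* B₂).comp φ₁)
    (t : Tower p n φ₁) : Tower p n φ₂ := by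
  have t1 : Tower p (0 + n) ((eB : B₁ →+* B₂).comp φ₁) :=
    tower_comp p n φ₁ (eB : B₁ →+* B₂) t ((tower_zero p _).2 eB.bijective)
  rw [Nat.zero_add] at t1
  have t2 := tower_comp_bijective p (eA.symm : A₂ →+* A₁) eA.symm.bijective _ t1
  have e : ((eB : B₁ →+* B₂).comp φ₁).comp (eA.symm : A₂ →+* A₁) = φ₂ := by
    rw [← h]
    ext x
    simp
  rw [e] at t2
  exact t2

end Ring

section Scheme

/-- `Spec` of a root tower is a `p`-th root morphism. -/
theorem isPthRoot_Spec [Fact p.Prime] {n : ℕ} {A B : Type u} [CommRing A] [CommRing B] (φ : A →+* B)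
    (t : Tower p n φ) : IsPthRoot p (Spec.map (CommRingCat.ofHom φ)) := by
  intro x
  refine ⟨⟨⊤, isAffineOpen_top _⟩, trivial, isAffineOpen_top _, n, ?_⟩
  have t' : Tower p n ((Spec.map (CommRingCat.ofHom φ)).app ⊤).hom := by
    refine tower_of_equiv p φ _ (Scheme.ΓSpecIso (CommRingCat.of A)).symm.commRingCatIsoToRingEquiv
      (Scheme.ΓSpecIso (CommRingCat.of B)).symm.commRingCatIsoToRingEquiv ?_ t
    ext a
    have := congrArg (fun k => k.hom a)
      (Scheme.ΓSpecIso_inv_naturality (CommRingCat.ofHom φ))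
    exact this.symm
  exact @isRootTower_of_tower p n _ _ _ _
    ((Spec.map (CommRingCat.ofHom φ)).app ⊤).hom.toAlgebra t'

/-- The pullback square of `fromSpec`s. -/
theorem isPullback_fromSpec {X Y : Scheme.{u}} (f : X ⟶ Y) (U : Y.Opens) (hU : IsAffineOpen U)
    (hV : IsAffineOpen (f ⁻¹ᵁ U)) :
    IsPullback hV.fromSpec (Spec.map (f.app U)) f hU.fromSpec := by
  have h := (isPullback_morphismRestrict f U).flip
  have key : Spec.map (f.app U) ≫ hU.fromSpec = hV.fromSpec ≫ f := by
    have := IsAffineOpen.SpecMap_appLE_fromSpec f hU hV le_rfl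
    rwa [Scheme.Hom.appLE_eq_app] at this
  refine h.of_iso hV.isoSpec (Iso.refl _) hU.isoSpec (Iso.refl _) ?_ ?_ ?_ ?_
  · rw [Iso.refl_hom, Category.comp_id, IsAffineOpen.isoSpec_hom_fromSpec]
  · rw [← cancel_mono hU.fromSpec, Category.assoc, IsAffineOpen.isoSpec_hom_fromSpec,
      morphismRestrict_ι, Category.assoc, key, ← Category.assoc,
      IsAffineOpen.isoSpec_hom_fromSpec]
  · simp
  · rw [Iso.refl_hom, Category.comp_id, IsAffineOpen.isoSpec_hom_fromSpec]

end Scheme

end Groth.Agent.Helper12.Quiet
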