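import Mathlib
import Groth.Agent.Lib.Helper12.QuietD
import Groth.Agent.Lib.Helper25.EtaleNil

/-!
# Quasi-etale morphisms lift along surjective closed immersions (locally on the source)
-/

set_option autoImplicit false
set_option linter.style.haveILetI false
set_option linter.unusedSectionVars false
universe u
open CategoryTheory CategoryTheory.Limits AlgebraicGeometry Polynomial FrobSch

namespace Groth.Agent.Helper12.Quiet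

open _root_.Quiet (RootRing IsRootTower IsPthRoot IsQuiet)
open Groth.Agent.Helper17.QT

variable (p : ℕ) [Fact p.Prime]

theorem main15045 {T U U' : Scheme.{u}} (i : U ⟶ T) [IsClosedImmersion i] [Surjective i]
    (f' : U' ⟶ U) (hf' : IsQuiet p f') (u : U') :
    ∃ (V : U'.Opens) (T' : Scheme.{u}) (q : T' ⟶ T) (j : (V : Scheme.{u}) ⟶ T'),
      u ∈ V ∧ IsQuiet p q ∧ IsPullback j (V.ι ≫ f') q i := by
  obtain ⟨V₀, Y', r, e, huV₀, hr, he, hre⟩ := hf' u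
  haveI := he
  obtain ⟨y', hy'⟩ : ∃ y' : Y', y' = r ⟨u, huV₀⟩ := ⟨_, rfl⟩
  obtain ⟨T₀, hT₀, htT₀⟩ : ∃ T₀ : T.Opens, IsAffineOpen T₀ ∧ i (e y') ∈ T₀ := by
    obtain ⟨_, ⟨W, hW, rfl⟩, h1, -⟩ := T.isBasis_affineOpens.exists_subset_of_mem_open
      (Set.mem_univ (i (e y'))) isOpen_univ
    exact ⟨W, hW, h1⟩
  have hU₀ : IsAffineOpen (i ⁻¹ᵁ T₀) := hT₀.preimage i
  obtain ⟨Y₁, hyY₁, hY₁aff, n, hn⟩ := hr y'
  have t1 : Tower p n (r.app Y₁.1).hom :=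
    @tower_of_isRootTower p n Γ(Y', Y₁.1) Γ(V₀, r ⁻¹ᵁ Y₁.1) _ _ (r.app Y₁.1).hom.toAlgebra hn
  obtain ⟨Y₂, hY₂, hyY₂, hY₂le⟩ : ∃ Y₂ : Y'.Opens, IsAffineOpen Y₂ ∧ y' ∈ Y₂ ∧
      Y₂ ≤ Y₁.1 ⊓ e ⁻¹ᵁ (i ⁻¹ᵁ T₀) := by
    obtain ⟨_, ⟨W, hW, rfl⟩, h1, h2⟩ := Y'.isBasis_affineOpens.exists_subset_of_mem_open
      (show y' ∈ ((Y₁.1 ⊓ e ⁻¹ᵁ (i ⁻¹ᵁ T₀) : Y'.Opens) : Set Y') from ⟨hyY₁, htT₀⟩)
      (Y₁.1 ⊓ e ⁻¹ᵁ (i ⁻¹ᵁ T₀)).2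
    exact ⟨W, hW, h1, h2⟩
  obtain ⟨hO, t2⟩ := tower_le p r Y₁.1 Y₁.2 hY₁aff n t1 Y₂ hY₂ (hY₂le.trans inf_le_left)
  have hle₂ : Y₂ ≤ e ⁻¹ᵁ (i ⁻¹ᵁ T₀) := hY₂le.trans inf_le_right
  -- the rings
  obtain ⟨π, hπdef⟩ : ∃ π : Γ(T, T₀) →+* Γ(U, i ⁻¹ᵁ T₀), π = (i.app T₀).hom := ⟨_, rfl⟩
  have hπ : Function.Surjective π := by
    rw [hπdef]
    exact i.app_surjective T₀ hT₀
  have hnil : ∀ x ∈ RingHom.ker π, IsNilpotent x := by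
    intro x hx
    rw [Scheme.isNilpotent_iff_basicOpen_eq_bot_of_isCompact hT₀.isCompact]
    rw [RingHom.mem_ker, hπdef] at hx
    ext t
    simp only [TopologicalSpace.Opens.coe_bot, Set.mem_empty_iff_false, iff_false]
    intro ht
    obtain ⟨u', rfl⟩ := i.surjective t
    have h1 : u' ∈ i ⁻¹ᵁ T.basicOpen x := ht
    rw [Scheme.preimage_basicOpen] at h1
    have h2 : (i.app T₀) x = 0 := hx
    rw [h2, Scheme.basicOpen_zero] at h1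
    exact h1
  obtain ⟨eb, hebdef⟩ : ∃ eb : Γ(U, i ⁻¹ᵁ T₀) →+* Γ(Y', Y₂),
      eb = (e.appLE (i ⁻¹ᵁ T₀) Y₂ hle₂).hom := ⟨_, rfl⟩
  have heb : eb.Etale := by
    rw [hebdef]
    exact Etale.etale_appLE e hU₀ hY₂ hle₂
  letI : Algebra Γ(U, i ⁻¹ᵁ T₀) Γ(Y', Y₂) := eb.toAlgebra
  haveI : Algebra.Etale Γ(U, i ⁻¹ᵁ T₀) Γ(Y', Y₂) := heb
  obtain ⟨C', _, _, hC'et, πC, hπC, hkerC, hcommC⟩ :=
    Groth.Agent.Helper25.EtaleNil.exists_etale_lift_nil π hπ hnil Γ(Y', Y₂)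
  obtain ⟨B', _, φ', πB, tφ', hpoA⟩ := tower_lift p n πC hπC (r.app Y₂).hom t2
  have hpoB : PO (algebraMap Γ(T, T₀) C') π eb πC :=
    po_of_surjective _ _ _ _ hπ hπC hkerC (by ext b; exact hcommC b)
  -- the three squares
  have sqA := isPullback_SpecMap_of_isPushout _ _ _ _ (isPushout_of_po hpoA)
  have sqB := isPullback_SpecMap_of_isPushout _ _ _ _ (isPushout_of_po hpoB)
  have sqC : IsPullback hU₀.fromSpec (Spec.map (CommRingCat.ofHom π)) i hT₀.fromSpec := by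
    rw [hπdef]
    exact isPullback_fromSpec i T₀ hT₀ hU₀
  have sqAB := sqA.paste_vert sqB
  have sqABC := (sqAB.flip.paste_horiz sqC).flip
  -- the left composite
  have k1 : Spec.map (CommRingCat.ofHom eb) ≫ hU₀.fromSpec = hY₂.fromSpec ≫ e := by
    rw [hebdef]
    exact IsAffineOpen.SpecMap_appLE_fromSpec e hU₀ hY₂ hle₂
  have k2 : Spec.map (CommRingCat.ofHom (r.app Y₂).hom) ≫ hY₂.fromSpec = hO.fromSpec ≫ r := by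
    have := IsAffineOpen.SpecMap_appLE_fromSpec r hY₂ hO le_rfl
    rwa [Scheme.Hom.appLE_eq_app] at this
  have k3 : (Spec.map (CommRingCat.ofHom (r.app Y₂).hom) ≫ Spec.map (CommRingCat.ofHom eb)) ≫
      hU₀.fromSpec = hO.fromSpec ≫ V₀.ι ≫ f' := by
    rw [Category.assoc, k1, ← Category.assoc, k2, Category.assoc, hre]
  -- the iso
  obtain ⟨ι₀, hι₀⟩ : ∃ ι₀ : ((V₀.ι ''ᵁ (r ⁻¹ᵁ Y₂) : U'.Opens) : Scheme.{u}) ≅
      Spec Γ(V₀, r ⁻¹ᵁ Y₂), ι₀ = (V₀.ι.isoImage (r ⁻¹ᵁ Y₂)).symm ≪≫ hO.isoSpec := ⟨_, rfl⟩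
  have k4 : ι₀.hom ≫ hO.fromSpec ≫ V₀.ι = (V₀.ι ''ᵁ (r ⁻¹ᵁ Y₂)).ι := by
    rw [hι₀, Iso.trans_hom, Iso.symm_hom, Category.assoc, ← Category.assoc hO.isoSpec.hom,
      IsAffineOpen.isoSpec_hom_fromSpec, Scheme.Hom.isoImage_inv_ι]
  have sq0 : IsPullback ι₀.hom ((V₀.ι ''ᵁ (r ⁻¹ᵁ Y₂)).ι ≫ f')
      ((Spec.map (CommRingCat.ofHom (r.app Y₂).hom) ≫ Spec.map (CommRingCat.ofHom eb)) ≫
        hU₀.fromSpec) (𝟙 U) :=
    IsPullback.of_horiz_isIso ⟨by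
      refine (congrArg (fun m => ι₀.hom ≫ m) k3).trans ?_
      show ι₀.hom ≫ hO.fromSpec ≫ V₀.ι ≫ f' = _
      rw [Category.comp_id, ← k4, Category.assoc, Category.assoc]⟩
  have sqF := sq0.paste_horiz sqABC
  rw [Category.id_comp] at sqF
  refine ⟨V₀.ι ''ᵁ (r ⁻¹ᵁ Y₂), Spec (CommRingCat.of B'), _, _, ?_, ?_, sqF⟩
  · refine ⟨⟨u, huV₀⟩, ?_, rfl⟩
    show r ⟨u, huV₀⟩ ∈ Y₂
    rw [← hy']
    exact hyY₂
  · apply isQuiet_of_openImmersion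
    intro y
    haveI : Etale (Spec.map (CommRingCat.ofHom (algebraMap Γ(T, T₀) C'))) :=
      HasRingHomProperty.Spec_iff.mpr (RingHom.etale_algebraMap.mpr hC'et)
    refine ⟨_, 𝟙 _, inferInstance, Spec (CommRingCat.of C'), Spec.map (CommRingCat.ofHom φ'),
      Spec.map (CommRingCat.ofHom (algebraMap Γ(T, T₀) C')) ≫ hT₀.fromSpec, ⟨y, rfl⟩,
      isPthRoot_Spec p φ' tφ', inferInstance, ?_⟩
    rw [Category.id_comp, Category.assoc]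

end Groth.Agent.Helper12.Quiet
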