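import Mathlib
import Groth.Agent.Lib.Helper12.MilnorA

/-!
# The ring `E = P ×_Q Q[Z]` as a sequential colimit of copies of `P[Z]` (helper12)

For `Q = P[1/s]`, the fibre product `E = P ×_Q Q[Z]` (along `Z ↦ 0`) is a Milnor square, and it is
the colimit of `P[Z] → P[Z] → ⋯` with transition maps `Z ↦ sZ`, via `ι_N : P[Z] → E`,
`p ↦ (p(0), p(Z/s^N))`.
-/

set_option autoImplicit false
set_option linter.style.haveILetI false
universe u

open Polynomial

namespace Groth.Agent.Helper12.Quillen

open Groth.Agent.Helper12.Milnor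

variable (P Q : Type u) [CommRing P] [CommRing Q] [Algebra P Q]

/-- The fibre product ring `P ×_Q Q[Z]`. -/
noncomputable def EE : Subring (P × Q[X]) :=
  RingHom.eqLocus ((algebraMap P Q).comp (RingHom.fst P Q[X]))
    ((Polynomial.evalRingHom (0 : Q)).comp (RingHom.snd P Q[X]))

variable {P Q}

theorem mem_EE (x : P × Q[X]) : x ∈ EE P Q ↔ algebraMap P Q x.1 = x.2.eval 0 := Iff.rfl

variable (P Q)

/-- first projection -/
noncomputable def pr₁ : EE P Q →+* P := (RingHom.fst P Q[X]).comp (EE P Q).subtype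

/-- second projection -/
noncomputable def pr₂ : EE P Q →+* Q[X] := (RingHom.snd P Q[X]).comp (EE P Q).subtype

theorem isMilnor : IsMilnor (pr₁ P Q) (pr₂ P Q) (algebraMap P Q) (Polynomial.evalRingHom (0 : Q)) where
  comm x := x.2
  inj x h1 h2 := Subtype.ext (Prod.ext h1 h2)
  exists_of_eq p₁ p₂ h := ⟨⟨(p₁, p₂), h⟩, rfl, rfl⟩
  surj q := ⟨C q, by simp⟩

variable {P Q}

/-- scaling the variable -/
noncomputable def scale {A : Type u} [CommRing A] (c : A) : A[X] →+* A[X] :=
  Polynomial.compRingHom (C c * X)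

@[simp] theorem scale_apply {A : Type u} [CommRing A] (c : A) (p : A[X]) :
    scale c p = p.comp (C c * X) := rfl

theorem scale_one {A : Type u} [CommRing A] : scale (1 : A) = RingHom.id _ := by
  refine RingHom.ext fun p => ?_
  rw [scale_apply, C_1, one_mul, comp_X, RingHom.id_apply]

theorem scale_scale {A : Type u} [CommRing A] (c d : A) (p : A[X]) :
    scale c (scale d p) = scale (c * d) p := by
  simp only [scale_apply]
  rw [Polynomial.comp_assoc]
  congr 1
  rw [Polynomial.mul_comp, Polynomial.C_comp, Polynomial.X_comp, ← mul_assoc, ← C_mul, mul_comm d c]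

theorem scale_comp_scale {A : Type u} [CommRing A] (c d : A) :
    (scale c).comp (scale d) = scale (c * d) :=
  RingHom.ext fun p => scale_scale c d p

theorem eval_zero_scale {A : Type u} [CommRing A] (c : A) (p : A[X]) :
    (scale c p).eval 0 = p.eval 0 := by
  simp [scale, Polynomial.eval_comp]

theorem coeff_scale {A : Type u} [CommRing A] (c : A) (p : A[X]) (n : ℕ) :
    (scale c p).coeff n = p.coeff n * c ^ n := by
  simp [scale]

theorem map_scale (c : P) (p : P[X]) :
    (scale c p).map (algebraMap P Q) = scale (algebraMap P Q c) (p.map (algebraMap P Q)) := by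
  simp [scale, Polynomial.map_comp]

variable (s : P) [IsLocalization.Away s Q]

/-- the inverse of `s` in `Q` -/
noncomputable def uu : Q := IsLocalization.Away.invSelf (S := Q) s

theorem s_mul_uu : algebraMap P Q s * uu (Q := Q) s = 1 := IsLocalization.Away.mul_invSelf s

theorem s_pow_mul_uu_pow (n : ℕ) : algebraMap P Q s ^ n * uu (Q := Q) s ^ n = 1 := by
  rw [← mul_pow, s_mul_uu, one_pow]

/-- `ι_N : P[Z] → E`, `p ↦ (p(0), p(Z/s^N))`. -/
noncomputable def iota (N : ℕ) : P[X] →+* EE P Q :=
  RingHom.codRestrict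
    (RingHom.prod (Polynomial.evalRingHom (0 : P))
      ((scale (uu (Q := Q) s ^ N)).comp (Polynomial.mapRingHom (algebraMap P Q))))
    (EE P Q) (fun p => by
      rw [mem_EE]
      simp [scale, Polynomial.eval_comp, Polynomial.eval_map, Polynomial.eval₂_at_zero,
        Polynomial.coeff_zero_eq_eval_zero])

theorem pr₁_iota (N : ℕ) (p : P[X]) : pr₁ P Q (iota (Q := Q) s N p) = p.eval 0 := rfl

theorem pr₂_iota (N : ℕ) (p : P[X]) :
    pr₂ P Q (iota (Q := Q) s N p) = scale (uu (Q := Q) s ^ N) (p.map (algebraMap P Q)) := rfl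

theorem iota_scale (N d : ℕ) (p : P[X]) :
    iota (Q := Q) s (N + d) (scale (s ^ d) p) = iota (Q := Q) s N p := by
  apply (isMilnor P Q).ext
  · rw [pr₁_iota, pr₁_iota, eval_zero_scale]
  · rw [pr₂_iota, pr₂_iota, map_scale, scale_scale]
    have : uu (Q := Q) s ^ (N + d) * algebraMap P Q (s ^ d) = uu (Q := Q) s ^ N := by
      rw [pow_add, map_pow, mul_assoc, mul_comm (uu s ^ d), s_pow_mul_uu_pow, mul_one]
    rw [this]

/-- joint surjectivity of the `ι_N` -/
theorem exists_iota_eq (x : EE P Q) : ∃ (N : ℕ) (p : P[X]), iota (Q := Q) s N p = x := by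
  -- polynomials divisible by `X`
  have key : ∀ g : Q[X], ∃ (N : ℕ) (p : P[X]), p.eval 0 = 0 ∧
      scale (uu (Q := Q) s ^ N) (p.map (algebraMap P Q)) = X * g := by
    intro g
    induction g using Polynomial.induction_on' with
    | add g₁ g₂ h₁ h₂ =>
      obtain ⟨N₁, p₁, e₁, h₁⟩ := h₁
      obtain ⟨N₂, p₂, e₂, h₂⟩ := h₂
      refine ⟨N₁ + N₂, scale (s ^ N₂) p₁ + scale (s ^ N₁) p₂, ?_, ?_⟩
      · rw [Polynomial.eval_add, eval_zero_scale, eval_zero_scale, e₁, e₂, add_zero]
      · have a1 := congrArg (pr₂ P Q) (iota_scale (Q := Q) s N₁ N₂ p₁)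
        have a2 := congrArg (pr₂ P Q) (iota_scale (Q := Q) s N₂ N₁ p₂)
        rw [pr₂_iota, pr₂_iota] at a1 a2
        rw [Polynomial.map_add, map_add, a1, h₁, add_comm N₁ N₂, a2, h₂, mul_add]
    | monomial k q =>
      obtain ⟨n, a, ha⟩ := IsLocalization.Away.surj (S := Q) s q
      refine ⟨n, monomial (k + 1) (a * s ^ (n * k)), ?_, ?_⟩
      · simp
      · have hone : algebraMap P Q s ^ n * algebraMap P Q s ^ (n * k) *
            uu (Q := Q) s ^ (n * (k + 1)) = 1 := by
          rw [← pow_add, show n + n * k = n * (k + 1) by ring, s_pow_mul_uu_pow]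
        ext m
        rw [coeff_scale, Polynomial.map_monomial, Polynomial.coeff_monomial]
        cases m with
        | zero =>
          rw [if_neg (by omega), zero_mul, Polynomial.coeff_X_mul_zero]
        | succ m =>
          rw [Polynomial.coeff_X_mul, Polynomial.coeff_monomial]
          by_cases hm : k = m
          · subst hm
            rw [if_pos rfl, if_pos rfl, map_mul, ← ha, map_pow, ← pow_mul]
            calc q * algebraMap P Q s ^ n * algebraMap P Q s ^ (n * k) *
                  uu (Q := Q) s ^ (n * (k + 1))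
                = q * (algebraMap P Q s ^ n * algebraMap P Q s ^ (n * k) *
                  uu (Q := Q) s ^ (n * (k + 1))) := by ring
              _ = q := by rw [hone, mul_one]
          · rw [if_neg (by omega), if_neg hm, zero_mul]
  obtain ⟨⟨c, f⟩, hx⟩ := x
  rw [mem_EE] at hx
  obtain ⟨N, p, hp0, hp⟩ := key f.divX
  refine ⟨N, C c + p, ?_⟩
  apply (isMilnor P Q).ext
  · rw [pr₁_iota]
    change _ = c
    rw [Polynomial.eval_add, hp0, Polynomial.eval_C, add_zero]
  · rw [pr₂_iota]
    change _ = f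
    rw [Polynomial.map_add, map_add, hp, Polynomial.map_C]
    have : scale (uu (Q := Q) s ^ N) (C (algebraMap P Q c)) = C (algebraMap P Q c) := by
      simp [scale]
    rw [this]
    change algebraMap P Q c = f.eval 0 at hx
    rw [hx, ← Polynomial.coeff_zero_eq_eval_zero, add_comm, mul_comm]
    exact Polynomial.divX_mul_X_add f

attribute [local instance] Polynomial.algebra in
/-- joint injectivity up to scaling -/
theorem exists_scale_eq (N : ℕ) (p p' : P[X]) (h : iota (Q := Q) s N p = iota (Q := Q) s N p') :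
    ∃ M : ℕ, scale (s ^ M) p = scale (s ^ M) p' := by
  have h1 := congrArg (pr₁ P Q) h
  have h2 := congrArg (pr₂ P Q) h
  rw [pr₁_iota, pr₁_iota] at h1
  rw [pr₂_iota, pr₂_iota] at h2
  -- `p.map = p'.map`
  have h3 : p.map (algebraMap P Q) = p'.map (algebraMap P Q) := by
    have := congrArg (scale (algebraMap P Q s ^ N)) h2
    rwa [scale_scale, scale_scale, s_pow_mul_uu_pow, scale_one] at this
  haveI : IsLocalization ((Submonoid.powers s).map (C : P →+* P[X])) Q[X] :=
    Polynomial.isLocalization (Submonoid.powers s) Q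
  have h4 : algebraMap P[X] Q[X] p = algebraMap P[X] Q[X] p' := h3
  obtain ⟨⟨_, ⟨_, ⟨M, rfl⟩, rfl⟩⟩, hM⟩ :=
    IsLocalization.exists_of_eq (M := (Submonoid.powers s).map (C : P →+* P[X])) (S := Q[X]) h4
  refine ⟨M, ?_⟩
  ext k
  rw [coeff_scale, coeff_scale]
  rcases Nat.eq_zero_or_pos k with rfl | hk
  · rw [pow_zero, mul_one, mul_one, Polynomial.coeff_zero_eq_eval_zero,
      Polynomial.coeff_zero_eq_eval_zero, h1]
  · have hMk := congrArg (fun t => t.coeff k) hM
    simp only [← C_pow, Polynomial.coeff_C_mul] at hMk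
    have : (s ^ M) ^ k = s ^ M * s ^ (M * (k - 1)) := by
      rw [← pow_mul, ← pow_add]; congr 1
      obtain ⟨k', rfl⟩ : ∃ k', k = k' + 1 := ⟨k - 1, by omega⟩
      simp [mul_add]; ring
    rw [this, mul_comm (p.coeff k), mul_comm (p'.coeff k), mul_assoc, mul_assoc,
      mul_comm _ (p.coeff k), mul_comm _ (p'.coeff k), ← mul_assoc, ← mul_assoc, hMk]

end Groth.Agent.Helper12.Quillen
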