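import Mathlib
import Groth.Agent.Lib.Helper12.MilnorF
import Groth.Agent.Lib.Helper12.QuillenA

/-!
# Quillen's scaling lemma for schemes locally of finite presentation (helper12)

`key`: `Q = P[1/s]`, `G → Spec R` locally of finite presentation, `e₀ ∈ G(P)`, `h ∈ G(Q[Z])` with
`h(0) = e₀|_Q`.  Then for some `N` the point `h(s^N Z)` extends to a point of `G(P[Z])`.
-/

set_option autoImplicit false
set_option linter.style.haveILetI false
universe u

open AlgebraicGeometry CategoryTheory CategoryTheory.Limits Polynomial Opposite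

namespace Groth.Agent.Helper12.Quillen

open Groth.Agent.Helper12.Milnor

instance : IsDirected (ULift.{u} ℕ) (· ≤ ·) :=
  ⟨fun a b => ⟨⟨max a.down b.down⟩, le_max_left _ _, le_max_right _ _⟩⟩

variable {P Q : Type u} [CommRing P] [CommRing Q] [Algebra P Q] (s : P) [IsLocalization.Away s Q]

variable (P) in
/-- the sequential diagram `P[Z] → P[Z] → ⋯`, `Z ↦ sZ`. -/
noncomputable def FF : ULift.{u} ℕ ⥤ CommRingCat.{u} where
  obj _ := CommRingCat.of P[X]
  map {n m} f := CommRingCat.ofHom (scale (s ^ (m.down - n.down)))
  map_id n := by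
    rw [Nat.sub_self, pow_zero, scale_one]; rfl
  map_comp {n m k} f g := by
    have h1 : n.down ≤ m.down := (leOfHom f : n ≤ m)
    have h2 : m.down ≤ k.down := (leOfHom g : m ≤ k)
    rw [← CommRingCat.ofHom_comp, scale_comp_scale, ← pow_add]
    congr 3
    omega

/-- the cocone with point `E`. -/
noncomputable def coconeE : Cocone (FF P s) where
  pt := CommRingCat.of (EE P Q)
  ι :=
    { app := fun n => CommRingCat.ofHom (iota (Q := Q) s n.down)
      naturality := fun n m f => by
        have h1 : n.down ≤ m.down := (leOfHom f : n ≤ m)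
        ext p
        change iota (Q := Q) s m.down (scale (s ^ (m.down - n.down)) p) = iota (Q := Q) s n.down p
        have := iota_scale (Q := Q) s n.down (m.down - n.down) p
        rwa [Nat.add_sub_cancel' h1] at this }

theorem nonempty_isColimit_coconeE : Nonempty (IsColimit (coconeE (Q := Q) s)) := by
  have : ReflectsFilteredColimits (forget CommRingCat.{u}) :=
    ⟨fun _ ↦ reflectsColimitsOfShape_of_reflectsIsomorphisms⟩
  refine ReflectsColimit.reflects (F := forget _) (Types.FilteredColimit.isColimitOf' _ _ ?_ ?_)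
  · intro x
    obtain ⟨N, p, hp⟩ := exists_iota_eq (Q := Q) s x
    exact ⟨⟨N⟩, p, hp.symm⟩
  · intro i x y e
    obtain ⟨M, hM⟩ := exists_scale_eq (Q := Q) s i.down x y e
    refine ⟨⟨i.down + M⟩, homOfLE (by change i.down ≤ i.down + M; omega), ?_⟩
    change scale (s ^ (i.down + M - i.down)) x = scale (s ^ (i.down + M - i.down)) y
    rwa [Nat.add_sub_cancel_left]

end Groth.Agent.Helper12.Quillen
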