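import Mathlib
import Groth.Agent.Lib.Helper12.QuillenB

/-!
# Quillen's scaling lemma for schemes locally of finite presentation: the key lemma (helper12)
-/

set_option autoImplicit false
set_option linter.style.haveILetI false
universe u

open AlgebraicGeometry CategoryTheory CategoryTheory.Limits Polynomial Opposite

namespace Groth.Agent.Helper12.Quillen

open Groth.Agent.Helper12.Milnor

variable {R P Q : Type u} [CommRing R] [CommRing P] [CommRing Q] [Algebra R P] [Algebra R Q]
  [Algebra P Q] [IsScalarTower R P Q] (s : P) [IsLocalization.Away s Q]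

theorem scale_comp_algebraMap {A : Type u} [CommRing A] [Algebra R A] (c : A) :
    (scale c).comp (algebraMap R A[X]) = algebraMap R A[X] := by
  ext r
  simp [scale, Polynomial.algebraMap_apply]

theorem iota_comp_algebraMap (N : ℕ) :
    (iota (Q := Q) s N).comp (algebraMap R P[X]) = (iota (Q := Q) s 0).comp (algebraMap R P[X]) := by
  refine RingHom.ext fun r => ?_
  apply (isMilnor P Q).ext
  · simp [pr₁_iota, Polynomial.algebraMap_apply]
  · simp [pr₂_iota, Polynomial.algebraMap_apply, scale]

theorem key {X : Scheme.{u}} (f : X ⟶ Spec (CommRingCat.of R)) [LocallyOfFinitePresentation f]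
    (e₀ : Spec (CommRingCat.of P) ⟶ X) (he₀ : e₀ ≫ f = sp (algebraMap R P))
    (h : Spec (CommRingCat.of Q[X]) ⟶ X) (hh : h ≫ f = sp (algebraMap R Q[X]))
    (hcomp : sp (Polynomial.evalRingHom (0 : Q)) ≫ h = sp (algebraMap P Q) ≫ e₀) :
    ∃ (N : ℕ) (hN : Spec (CommRingCat.of P[X]) ⟶ X), hN ≫ f = sp (algebraMap R P[X]) ∧
      sp (Polynomial.mapRingHom (algebraMap P Q)) ≫ hN = sp (scale (algebraMap P Q s ^ N)) ≫ h := by
  obtain ⟨a, ha₁, ha₂⟩ := (isMilnor P Q).exists_glue e₀ h hcomp.symm
  let φE : R →+* EE P Q := (iota (Q := Q) s 0).comp (algebraMap R P[X])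
  have hφ₁ : (pr₁ P Q).comp φE = algebraMap R P := by
    ext r
    simp [φE, pr₁_iota, Polynomial.algebraMap_apply]
  have hφ₂ : (pr₂ P Q).comp φE = algebraMap R Q[X] := by
    ext r
    simp [φE, pr₂_iota, Polynomial.algebraMap_apply, scale,
      ← IsScalarTower.algebraMap_apply R P Q]
  have haf : a ≫ f = sp φE := by
    apply (isMilnor P Q).hom_ext_scheme
    · rw [← Category.assoc, ha₁, he₀, ← sp_comp, hφ₁]
    · rw [← Category.assoc, ha₂, hh, ← sp_comp, hφ₂]
  -- the limit cone
  let D : (ULift.{u} ℕ)ᵒᵖ ⥤ Scheme.{u} := (FF P s).op ⋙ Scheme.Spec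
  obtain ⟨hcol⟩ := nonempty_isColimit_coconeE (Q := Q) s
  let c : Cone D := Scheme.Spec.mapCone (coconeE (Q := Q) s).op
  have hc : IsLimit c := isLimitOfPreserves Scheme.Spec hcol.op
  let t : D ⟶ (Functor.const _).obj (Spec (CommRingCat.of R)) :=
    { app := fun n => sp (algebraMap R P[X])
      naturality := fun n m g => by
        refine Eq.trans ?_ (Category.comp_id _).symm
        change sp (scale _) ≫ sp (algebraMap R P[X]) = sp (algebraMap R P[X])
        rw [← sp_comp, scale_comp_algebraMap] }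
  haveI : ∀ {i j : (ULift.{u} ℕ)ᵒᵖ} (g : i ⟶ j), IsAffineHom (D.map g) := fun g => by
    change IsAffineHom (Spec.map _)
    infer_instance
  haveI : ∀ i, CompactSpace (D.obj i) := fun i => by
    change CompactSpace (Spec _)
    infer_instance
  haveI : ∀ i, QuasiSeparatedSpace (D.obj i) := fun i => by
    change QuasiSeparatedSpace (Spec _)
    infer_instance
  have hat : c.π ≫ t = (Functor.const _).map (a ≫ f) := by
    ext n : 2
    change sp (iota (Q := Q) s n.unop.down) ≫ sp (algebraMap R P[X]) = a ≫ f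
    rw [← sp_comp, iota_comp_algebraMap, haf]
  obtain ⟨i, g, hg1, hg2⟩ :=
    Scheme.exists_π_app_comp_eq_of_locallyOfFinitePresentation D t f c hc a hat
  refine ⟨i.unop.down, g, hg2, ?_⟩
  have hg1' : sp (iota (Q := Q) s i.unop.down) ≫ g = a := hg1
  rw [← ha₂, ← hg1', ← Category.assoc, ← Category.assoc, ← sp_comp, ← sp_comp]
  congr 2
  refine RingHom.ext fun p => ?_
  change Polynomial.map (algebraMap P Q) p =
    scale (algebraMap P Q s ^ i.unop.down) (pr₂ P Q (iota (Q := Q) s i.unop.down p))
  rw [pr₂_iota, scale_scale, s_pow_mul_uu_pow, scale_one, RingHom.id_apply]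

end Groth.Agent.Helper12.Quillen
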