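import Mathlib
import Groth.Agent.Lib.Helper12.QuillenC

/-!
# Quillen patching: polynomial version of the key lemma and the `Over` calculus (helper12)
-/

set_option autoImplicit false
set_option linter.style.haveILetI false
universe u

open AlgebraicGeometry CategoryTheory CategoryTheory.Limits Polynomial Opposite

namespace Groth.Agent.Helper12.Quillen

open Groth.Agent.Helper12.Milnor

/-- If `A = R[1/r]` and `B = R[1/(r r')]` then `B = A[1/r']`. -/
theorem away_of_mul (R A B : Type u) [CommRing R] [CommRing A] [CommRing B] [Algebra R A]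
    [Algebra R B] [Algebra A B] [IsScalarTower R A B] (r r' : R) [IsLocalization.Away r A]
    [IsLocalization.Away (r * r') B] : IsLocalization.Away (algebraMap R A r') B := by
  let B' := Localization.Away (algebraMap R A r')
  haveI : IsLocalization.Away (r * r') B' := inferInstance
  let e : B' ≃ₐ[R] B := IsLocalization.algEquiv (Submonoid.powers (r * r')) B' B
  have he : (e.toAlgHom.toRingHom.comp (algebraMap A B')) = algebraMap A B := by
    apply IsLocalization.ringHom_ext (Submonoid.powers r)
    ext x
    simp [← IsScalarTower.algebraMap_apply]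
  have he' : ∀ a : A, e (algebraMap A B' a) = algebraMap A B a := fun a =>
    congrArg (fun t => t a) he
  exact IsLocalization.isLocalization_of_algEquiv _
    (AlgEquiv.ofRingEquiv (f := e.toRingEquiv) he')

variable {R A B : Type u} [CommRing R] [CommRing A] [CommRing B] [Algebra R A] [Algebra R B]
  [Algebra A B] [IsScalarTower R A B] (s : A) [IsLocalization.Away s B]

theorem key2 {X : Scheme.{u}} (f : X ⟶ Spec (CommRingCat.of R)) [LocallyOfFinitePresentation f]
    (e₀ : Spec (CommRingCat.of A[X]) ⟶ X) (he₀ : e₀ ≫ f = sp (algebraMap R A[X]))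
    (h : Spec (CommRingCat.of B[X][X]) ⟶ X) (hh : h ≫ f = sp (algebraMap R B[X][X]))
    (hcomp : sp (Polynomial.evalRingHom (0 : B[X])) ≫ h =
      sp (Polynomial.mapRingHom (algebraMap A B)) ≫ e₀) :
    ∃ (N : ℕ) (hN : Spec (CommRingCat.of A[X][X]) ⟶ X), hN ≫ f = sp (algebraMap R A[X][X]) ∧
      sp (Polynomial.mapRingHom (Polynomial.mapRingHom (algebraMap A B))) ≫ hN =
        sp (scale (C (algebraMap A B s) ^ N)) ≫ h := by
  letI : Algebra A[X] B[X] := Polynomial.algebra A B
  haveI : IsScalarTower R A[X] B[X] := IsScalarTower.of_algebraMap_eq fun x => by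
    simp [Polynomial.algebraMap_apply, Polynomial.algebraMap_def,
      ← IsScalarTower.algebraMap_apply R A B]
  haveI : IsLocalization.Away (C s) B[X] := by
    have := Polynomial.isLocalization (Submonoid.powers s) B
    rw [Submonoid.map_powers] at this
    exact this
  obtain ⟨N, hN, h1, h2⟩ := key (C s) f e₀ he₀ h hh hcomp
  refine ⟨N, hN, h1, ?_⟩
  rw [h2]
  simp [Polynomial.algebraMap_def]

end Groth.Agent.Helper12.Quillen
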