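import Mathlib
import Groth.Agent.Lib.Helper12.QuillenD

/-!
# Quillen patching: the `Over (Spec R)` calculus of points of a group scheme (helper12)
-/

set_option autoImplicit false
set_option linter.style.haveILetI false
universe u

open AlgebraicGeometry CategoryTheory CategoryTheory.Limits Polynomial Opposite MonObj

namespace Groth.Agent.Helper12.Quillen

open Groth.Agent.Helper12.Milnor

/-- A ring map between `R`-algebras compatible with the structure maps. -/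
class IsRHom (R : Type u) {S₁ S₂ : Type u} [CommRing R] [CommRing S₁] [CommRing S₂] [Algebra R S₁]
    [Algebra R S₂] (φ : S₁ →+* S₂) : Prop where
  comp_algebraMap : φ.comp (algebraMap R S₁) = algebraMap R S₂

section inst

variable (R : Type u) [CommRing R] {S₁ S₂ S₃ : Type u} [CommRing S₁] [CommRing S₂] [CommRing S₃]
  [Algebra R S₁] [Algebra R S₂] [Algebra R S₃]

instance isRHom_id : IsRHom R (RingHom.id S₁) := ⟨RingHom.id_comp _⟩

instance isRHom_comp (φ : S₁ →+* S₂) (φ' : S₂ →+* S₃) [IsRHom R φ] [IsRHom R φ'] :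
    IsRHom R (φ'.comp φ) :=
  ⟨by rw [RingHom.comp_assoc, IsRHom.comp_algebraMap, IsRHom.comp_algebraMap]⟩

instance isRHom_algebraMap [Algebra S₁ S₂] [IsScalarTower R S₁ S₂] : IsRHom R (algebraMap S₁ S₂) :=
  ⟨(IsScalarTower.algebraMap_eq R S₁ S₂).symm⟩

instance isRHom_C : IsRHom R (Polynomial.C : S₁ →+* S₁[X]) :=
  ⟨RingHom.ext fun x => by simp [Polynomial.algebraMap_apply]⟩

instance isRHom_eval₂ (φ : S₁ →+* S₂) [IsRHom R φ] (x : S₂) : IsRHom R (eval₂RingHom φ x) :=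
  ⟨RingHom.ext fun r => by
    have := congrArg (fun t => t r) (IsRHom.comp_algebraMap (R := R) (φ := φ))
    simpa [Polynomial.algebraMap_apply] using this⟩

instance isRHom_eval (x : S₁) : IsRHom R (evalRingHom x) :=
  ⟨RingHom.ext fun r => by simp [Polynomial.algebraMap_apply]⟩

instance isRHom_map (φ : S₁ →+* S₂) [IsRHom R φ] : IsRHom R (mapRingHom φ) :=
  ⟨RingHom.ext fun r => by
    have := congrArg (fun t => t r) (IsRHom.comp_algebraMap (R := R) (φ := φ))
    simpa [Polynomial.algebraMap_apply] using this⟩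

instance isRHom_scale (c : S₁) : IsRHom R (scale c) := ⟨scale_comp_algebraMap c⟩

end inst

variable {R : Type u} [CommRing R]

/-- `Spec S₁` as an object over `Spec R`. -/
noncomputable abbrev OO (R : Type u) [CommRing R] (S₁ : Type u) [CommRing S₁] [Algebra R S₁] :
    Over (Spec (CommRingCat.of R)) :=
  Over.mk (Spec.map (CommRingCat.ofHom (algebraMap R S₁)))

variable {S₁ S₂ S₃ : Type u} [CommRing S₁] [CommRing S₂] [CommRing S₃]
  [Algebra R S₁] [Algebra R S₂] [Algebra R S₃]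

/-- the morphism over `Spec R` induced by an `R`-compatible ring map. -/
noncomputable def ovR (R : Type u) [CommRing R] {S₁ S₂ : Type u} [CommRing S₁] [CommRing S₂]
    [Algebra R S₁] [Algebra R S₂] (φ : S₁ →+* S₂) [IsRHom R φ] : OO R S₂ ⟶ OO R S₁ :=
  Over.homMk (sp φ) (by
    change sp φ ≫ sp (algebraMap R S₁) = sp (algebraMap R S₂)
    rw [← sp_comp, IsRHom.comp_algebraMap])

@[simp] theorem ovR_left (φ : S₁ →+* S₂) [IsRHom R φ] : (ovR R φ).left = sp φ := rfl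

theorem ovR_comp (φ : S₁ →+* S₂) (φ' : S₂ →+* S₃) [IsRHom R φ] [IsRHom R φ'] :
    ovR R (φ'.comp φ) = ovR R φ' ≫ ovR R φ := by
  apply Over.OverMorphism.ext
  simp [sp_comp]

theorem ovR_id : ovR R (RingHom.id S₁) = 𝟙 (OO R S₁) := by
  apply Over.OverMorphism.ext
  simp [sp]

theorem ovR_congr {φ φ' : S₁ →+* S₂} (h : φ = φ') [IsRHom R φ] [IsRHom R φ'] :
    ovR R φ = ovR R φ' := by
  subst h
  rfl

theorem eq_ovR (φ : S₁ →+* S₂) [IsRHom R φ] (t : OO R S₂ ⟶ OO R S₁)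
    (ht : t.left = Spec.map (CommRingCat.ofHom φ)) : t = ovR R φ :=
  Over.OverMorphism.ext ht

variable (G : Over (Spec (CommRingCat.of R))) [GrpObj G]

/-- pullback of points -/
noncomputable def pull (φ : S₁ →+* S₂) [IsRHom R φ] (x : OO R S₁ ⟶ G) : OO R S₂ ⟶ G :=
  ovR R φ ≫ x

variable {G}

theorem pull_def (φ : S₁ →+* S₂) [IsRHom R φ] (x : OO R S₁ ⟶ G) : pull G φ x = ovR R φ ≫ x := rfl

@[simp] theorem pull_one (φ : S₁ →+* S₂) [IsRHom R φ] : pull G φ (1 : OO R S₁ ⟶ G) = 1 :=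
  MonObj.comp_one _

@[simp] theorem pull_mul (φ : S₁ →+* S₂) [IsRHom R φ] (x y : OO R S₁ ⟶ G) :
    pull G φ (x * y) = pull G φ x * pull G φ y :=
  MonObj.comp_mul _ _ _

@[simp] theorem pull_inv (φ : S₁ →+* S₂) [IsRHom R φ] (x : OO R S₁ ⟶ G) :
    pull G φ x⁻¹ = (pull G φ x)⁻¹ :=
  GrpObj.comp_inv _ _

theorem pull_pull (φ : S₁ →+* S₂) (φ' : S₂ →+* S₃) [IsRHom R φ] [IsRHom R φ']
    (x : OO R S₁ ⟶ G) : pull G φ' (pull G φ x) = pull G (φ'.comp φ) x := by
  unfold pull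
  rw [ovR_comp, Category.assoc]

theorem pull_congr {φ φ' : S₁ →+* S₂} (h : φ = φ') [IsRHom R φ] [IsRHom R φ'] (x : OO R S₁ ⟶ G) :
    pull G φ x = pull G φ' x := by
  subst h
  rfl

theorem pull_id (x : OO R S₁ ⟶ G) : pull G (RingHom.id S₁) x = x := by
  unfold pull
  rw [ovR_id, Category.id_comp]

theorem pull_pull_of_eq (φ : S₁ →+* S₂) (φ' : S₂ →+* S₃) (χ : S₁ →+* S₃) [IsRHom R φ]
    [IsRHom R φ'] [IsRHom R χ] (h : φ'.comp φ = χ) (x : OO R S₁ ⟶ G) :
    pull G φ' (pull G φ x) = pull G χ x := by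
  rw [pull_pull]
  exact pull_congr h x

theorem pull_pull_of_eq_id (φ : S₁ →+* S₂) (φ' : S₂ →+* S₁) [IsRHom R φ]
    [IsRHom R φ'] (h : φ'.comp φ = RingHom.id S₁) (x : OO R S₁ ⟶ G) :
    pull G φ' (pull G φ x) = x := by
  rw [pull_pull_of_eq φ φ' _ h, pull_id]

end Groth.Agent.Helper12.Quillen
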