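import Mathlib
import Groth.Agent.Lib.Helper12.QuillenE

/-!
# Quillen patching: one half of the patching argument (helper12)
-/

set_option autoImplicit false
set_option linter.style.haveILetI false
universe u

open AlgebraicGeometry CategoryTheory CategoryTheory.Limits Polynomial Opposite MonObj

namespace Groth.Agent.Helper12.Quillen

open Groth.Agent.Helper12.Milnor

variable {R A B : Type u} [CommRing R] [CommRing A] [CommRing B] [Algebra R A] [Algebra R B]
  [Algebra A B] [IsScalarTower R A B] (s : A) [IsLocalization.Away s B]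
  (G : Over (Spec (CommRingCat.of R))) [GrpObj G] [LocallyOfFinitePresentation G.hom]

theorem key_over (hh : OO R B[X][X] ⟶ G) (h0 : pull G (evalRingHom (0 : B[X])) hh = 1) :
    ∃ (N : ℕ) (HN : OO R A[X][X] ⟶ G),
      pull G (mapRingHom (mapRingHom (algebraMap A B))) HN =
        pull G (scale (C (algebraMap A B s) ^ N)) hh := by
  have hcomp : sp (evalRingHom (0 : B[X])) ≫ hh.left =
      sp (mapRingHom (algebraMap A B)) ≫ (1 : OO R A[X] ⟶ G).left := by
    have := congrArg (fun t => t.left)
      (h0.trans (pull_one (G := G) (mapRingHom (algebraMap A B))).symm)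
    exact this
  obtain ⟨N, hN, h1, h2⟩ :=
    key2 s G.hom (1 : OO R A[X] ⟶ G).left (Over.w _) hh.left (Over.w _) hcomp
  refine ⟨N, Over.homMk hN h1, ?_⟩
  apply Over.OverMorphism.ext
  simpa [pull] using h2

theorem half (hh : OO R B[X][X] ⟶ G) (h0 : pull G (evalRingHom (0 : B[X])) hh = 1) :
    ∃ N : ℕ, ∀ c : R, ∃ g₁ : OO R A[X] ⟶ G,
      pull G (evalRingHom (0 : A)) g₁ = 1 ∧
      pull G (mapRingHom (algebraMap A B)) g₁ =
        pull G (evalRingHom (C (algebraMap A B s ^ N * algebraMap R B c))) hh *
          (pull G (C.comp (evalRingHom (0 : B)))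
            (pull G (evalRingHom (C (algebraMap A B s ^ N * algebraMap R B c))) hh))⁻¹ := by
  obtain ⟨N, HN, hHN⟩ := key_over s G hh h0
  refine ⟨N, fun c => ?_⟩
  obtain ⟨k, hk⟩ : ∃ k : OO R A[X] ⟶ G, k = pull G (evalRingHom (C (algebraMap R A c))) HN :=
    ⟨_, rfl⟩
  refine ⟨k * (pull G (C.comp (evalRingHom (0 : A))) k)⁻¹, ?_, ?_⟩
  · rw [pull_mul, pull_inv, pull_pull_of_eq _ _ (evalRingHom (0 : A)) ?_, mul_inv_cancel]
    ext <;> simp
  · have e1 : pull G (mapRingHom (algebraMap A B)) k =
        pull G (evalRingHom (C (algebraMap A B s ^ N * algebraMap R B c))) hh := by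
      rw [hk, pull_pull]
      have : (mapRingHom (algebraMap A B)).comp (evalRingHom (C (algebraMap R A c))) =
          (evalRingHom (C (algebraMap R B c))).comp
            (mapRingHom (mapRingHom (algebraMap A B))) := by
        ext <;> simp [← IsScalarTower.algebraMap_apply]
      rw [pull_congr this, ← pull_pull, hHN, pull_pull]
      apply pull_congr
      ext <;> simp [scale]
    have e2 : pull G (mapRingHom (algebraMap A B)) (pull G (C.comp (evalRingHom (0 : A))) k) =
        pull G (C.comp (evalRingHom (0 : B))) (pull G (mapRingHom (algebraMap A B)) k) := by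
      rw [pull_pull, pull_pull]
      apply pull_congr
      ext <;> simp
    rw [pull_mul, pull_inv, e2, e1]

end Groth.Agent.Helper12.Quillen
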