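import Mathlib

/-!
# Finite modules over reduced rings with locally constant fibre dimension are projective
-/

namespace Groth.Agent.Helper12.RedConst

open TensorProduct

universe u v w

/-- A surjection `S^c → C` over a reduced ring is injective as soon as, at every prime `q`,
there is a field-valued point `S → K` with kernel inside `q` at which the fibre of `C` has
dimension `c`. -/
theorem injective_of_fibres {S : Type u} [CommRing S] [IsReduced S] {C : Type v}
    [AddCommGroup C] [Module S C] {c : ℕ} (π : (Fin c → S) →ₗ[S] C)
    (hπ : Function.Surjective π)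
    (H : ∀ q : PrimeSpectrum S, ∃ (K : Type w) (_ : Field K) (_ : Algebra S K),
      RingHom.ker (algebraMap S K) ≤ q.asIdeal ∧ Module.finrank K (K ⊗[S] C) = c) :
    Function.Injective π := by
  have hfin : Module.Finite S C := Module.Finite.of_surjective π hπ
  rw [injective_iff_map_eq_zero]
  intro v hv
  funext j
  have hmem : v j ∈ nilradical S := by
    rw [nilradical_eq_sInf, Ideal.mem_sInf]
    intro I hI
    obtain ⟨K, _, _, hker, hrank⟩ := H ⟨I, hI⟩
    apply hker
    rw [RingHom.mem_ker]
    have hsurj : Function.Surjective (π.baseChange K) :=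
      LinearMap.lTensor_surjective K hπ
    have hnt : Nontrivial S := ⟨⟨0, 1, fun h => hI.ne_top ((Ideal.eq_top_iff_one I).mpr
      (h ▸ I.zero_mem))⟩⟩
    have hrk : Module.finrank K (K ⊗[S] (Fin c → S)) = Module.finrank K (K ⊗[S] C) := by
      rw [hrank, Module.finrank_baseChange, Module.finrank_pi, Fintype.card_fin]
    have hinj : Function.Injective (π.baseChange K) :=
      (LinearMap.injective_iff_surjective_of_finrank_eq_finrank hrk).mpr hsurj
    have h0 : (1 : K) ⊗ₜ[S] v = 0 := by
      apply hinj
      rw [LinearMap.baseChange_tmul, hv, tmul_zero, map_zero]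
    have h1 := congrArg
      (fun z => (AlgebraTensorModule.rid S K K) (((LinearMap.proj j : (Fin c → S) →ₗ[S] S).baseChange K) z)) h0
    simpa [Algebra.algebraMap_eq_smul_one] using h1
  rw [nilradical_eq_zero] at hmem
  exact hmem

/-- A finite module over a reduced local ring all of whose fibres (at suitable field-valued
points through every prime) have the dimension of the closed fibre is free. -/
theorem free_of_fibres {S : Type u} [CommRing S] [IsLocalRing S] [IsReduced S] {C : Type v}
    [AddCommGroup C] [Module S C] [Module.Finite S C]
    (H : ∀ q : PrimeSpectrum S, ∃ (K : Type w) (_ : Field K) (_ : Algebra S K),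
      RingHom.ker (algebraMap S K) ≤ q.asIdeal ∧
        Module.finrank K (K ⊗[S] C) =
          Module.finrank (IsLocalRing.ResidueField S) (IsLocalRing.ResidueField S ⊗[S] C)) :
    Module.Free S C := by
  let b := Module.finBasis (IsLocalRing.ResidueField S) (IsLocalRing.ResidueField S ⊗[S] C)
  have ⟨x, hx⟩ := (TensorProduct.mk_surjective S C (IsLocalRing.ResidueField S)
    Ideal.Quotient.mk_surjective).comp_left b
  have hspan : Submodule.span S (Set.range x) = ⊤ :=
    IsLocalRing.span_eq_top_of_tmul_eq_basis x b (congr_fun hx)
  have hsurj : Function.Surjective (Fintype.linearCombination S x) := by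
    rw [← LinearMap.range_eq_top, Fintype.range_linearCombination, hspan]
  have hinj := injective_of_fibres (Fintype.linearCombination S x) hsurj H
  exact Module.Free.of_equiv (LinearEquiv.ofBijective _ ⟨hinj, hsurj⟩)

/-- Over a reduced ring, a finitely presented module with locally constant fibre dimension is
projective. -/
theorem projective_of_isLocallyConstant {R : Type u} [CommRing R] [IsReduced R] {C : Type v}
    [AddCommGroup C] [Module R C] [Module.FinitePresentation R C]
    (h : IsLocallyConstant fun p : PrimeSpectrum R =>
      Module.finrank p.asIdeal.ResidueField (p.asIdeal.ResidueField ⊗[R] C)) :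
    Module.Projective R C := by
  rw [← Module.freeLocus_eq_univ_iff, Set.eq_univ_iff_forall]
  intro p
  rw [Module.mem_freeLocus_iff_tensor p (Localization.AtPrime p.asIdeal)]
  apply free_of_fibres.{u, max u v, u}
  intro q'
  have hqp : q'.comap (algebraMap R (Localization.AtPrime p.asIdeal)) ≤ p := by
    have hmem : q'.comap (algebraMap R (Localization.AtPrime p.asIdeal)) ∈
        Set.range (PrimeSpectrum.comap (algebraMap R (Localization.AtPrime p.asIdeal))) :=
      ⟨q', rfl⟩
    rw [PrimeSpectrum.localization_comap_range (Localization.AtPrime p.asIdeal)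
      p.asIdeal.primeCompl] at hmem
    exact disjoint_compl_left_iff.mp hmem
  have hunits : ∀ y : p.asIdeal.primeCompl, IsUnit (algebraMap R
      (q'.comap (algebraMap R (Localization.AtPrime p.asIdeal))).asIdeal.ResidueField y) := by
    intro y
    rw [isUnit_iff_ne_zero, Ne, Ideal.algebraMap_residueField_eq_zero]
    exact fun hy => y.2 (hqp hy)
  letI : Algebra (Localization.AtPrime p.asIdeal)
      (q'.comap (algebraMap R (Localization.AtPrime p.asIdeal))).asIdeal.ResidueField :=
    (IsLocalization.lift hunits).toAlgebra
  haveI : IsScalarTower R (Localization.AtPrime p.asIdeal)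
      (q'.comap (algebraMap R (Localization.AtPrime p.asIdeal))).asIdeal.ResidueField :=
    IsScalarTower.of_algebraMap_eq' (IsLocalization.lift_comp hunits).symm
  refine ⟨(q'.comap (algebraMap R (Localization.AtPrime p.asIdeal))).asIdeal.ResidueField,
    inferInstance, inferInstance, ?_, ?_⟩
  · intro z hz
    obtain ⟨a, s, rfl⟩ := IsLocalization.exists_mk'_eq p.asIdeal.primeCompl z
    rw [RingHom.mem_ker] at hz
    change IsLocalization.lift hunits (IsLocalization.mk' _ a s) = 0 at hz
    rw [IsLocalization.lift_mk'_spec, mul_zero, Ideal.algebraMap_residueField_eq_zero] at hz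
    rw [IsLocalization.mk'_eq_mul_mk'_one]
    exact Ideal.mul_mem_right _ _ hz
  · rw [(AlgebraTensorModule.cancelBaseChange R (Localization.AtPrime p.asIdeal)
      (q'.comap (algebraMap R (Localization.AtPrime p.asIdeal))).asIdeal.ResidueField
      (q'.comap (algebraMap R (Localization.AtPrime p.asIdeal))).asIdeal.ResidueField C).finrank_eq,
      (AlgebraTensorModule.cancelBaseChange R (Localization.AtPrime p.asIdeal)
      (IsLocalRing.ResidueField (Localization.AtPrime p.asIdeal))
      (IsLocalRing.ResidueField (Localization.AtPrime p.asIdeal)) C).finrank_eq]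
    have hspec := (PrimeSpectrum.le_iff_specializes _ _).mp hqp
    exact hspec.mem_open (h.isOpen_fiber _) rfl

end Groth.Agent.Helper12.RedConst
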