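import Mathlib
import Groth.Agent.Lib.Helper3.NakFT

/-!
# (RED) locally of finite type over an Artinian local ring can be checked on the closed fibre

Sub-lemma for helper14's S5340; uses helper3's `NAK`.
-/

set_option autoImplicit false
set_option linter.style.haveILetI false
universe u
open CategoryTheory CategoryTheory.Limits AlgebraicGeometry TensorProduct

namespace Groth.Agent.Helper12.RedLFT

/-- algebraic core: `B/mB` of finite type over `A/m` (in tensor form) implies `B` of finite type
over the Artinian local ring `A`. -/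
theorem finiteType_of_tensor_residue {A B : Type u} [CommRing A] [CommRing B] [Algebra A B]
    [IsArtinianRing A] [IsLocalRing A]
    (f : (A ⧸ IsLocalRing.maximalIdeal A) →+* B ⊗[A] (A ⧸ IsLocalRing.maximalIdeal A))
    (hf : ∀ x, f x = (1 : B) ⊗ₜ[A] x) (h : f.FiniteType) :
    Algebra.FiniteType A B := by
  have hnil : IsNilpotent (IsLocalRing.maximalIdeal A) := by
    rw [← IsLocalRing.jacobson_eq_maximalIdeal (⊥ : Ideal A) bot_ne_top]
    exact IsArtinianRing.isNilpotent_jacobson_bot
  apply Groth.Agent.Lib.Helper3.NakFT.NAK (IsLocalRing.maximalIdeal A) hnil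
  let e := Algebra.TensorProduct.quotIdealMapEquivTensorQuot B (IsLocalRing.maximalIdeal A)
  have h2 : ((e.symm : B ⊗[A] (A ⧸ IsLocalRing.maximalIdeal A) →+*
      B ⧸ (IsLocalRing.maximalIdeal A).map (algebraMap A B)).comp f).FiniteType :=
    RingHom.FiniteType.comp (RingHom.FiniteType.of_surjective _ e.symm.surjective) h
  have h3 : ((e.symm : B ⊗[A] (A ⧸ IsLocalRing.maximalIdeal A) →+*
      B ⧸ (IsLocalRing.maximalIdeal A).map (algebraMap A B)).comp f) =
      algebraMap (A ⧸ IsLocalRing.maximalIdeal A)
        (B ⧸ (IsLocalRing.maximalIdeal A).map (algebraMap A B)) := by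
    apply Ideal.Quotient.ringHom_ext
    ext a
    simp only [RingHom.coe_comp, Function.comp_apply]
    rw [hf]
    change e.symm ((1 : B) ⊗ₜ[A] (Ideal.Quotient.mk _ a)) = _
    apply e.injective
    rw [AlgEquiv.apply_symm_apply]
    have h4 : algebraMap (A ⧸ IsLocalRing.maximalIdeal A)
        (B ⧸ (IsLocalRing.maximalIdeal A).map (algebraMap A B)) (Ideal.Quotient.mk _ a) =
        Ideal.Quotient.mk _ (algebraMap A B a) := rfl
    rw [h4, Algebra.TensorProduct.quotIdealMapEquivTensorQuot_mk, Algebra.algebraMap_eq_smul_one,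
      TensorProduct.smul_tmul]
    congr 1
    rw [Algebra.smul_def, mul_one]
    rfl
  rw [h3] at h2
  exact RingHom.finiteType_algebraMap.1 h2

theorem RED_affine {A : Type u} [CommRing A] [IsArtinianRing A] [IsLocalRing A]
    {R : CommRingCat.{u}} (φ : CommRingCat.of A ⟶ R)
    (h : LocallyOfFiniteType (pullback.snd (Spec.map φ)
      (Spec.map (CommRingCat.ofHom (IsLocalRing.residue A))))) :
    LocallyOfFiniteType (Spec.map φ) := by
  letI : Algebra A R := φ.hom.toAlgebra
  have hφ : φ = CommRingCat.ofHom (algebraMap A R) := rfl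
  have hres : (CommRingCat.ofHom (IsLocalRing.residue A)) =
      CommRingCat.ofHom (algebraMap A (IsLocalRing.ResidueField A)) := rfl
  rw [hφ, hres] at h
  have h1 : LocallyOfFiniteType ((pullbackSpecIso A R (IsLocalRing.ResidueField A)).inv ≫
      pullback.snd _ _) := inferInstance
  rw [pullbackSpecIso_inv_snd, HasRingHomProperty.Spec_iff (P := @LocallyOfFiniteType)] at h1
  have h2 : Algebra.FiniteType A R := finiteType_of_tensor_residue _ (fun x => rfl) h1
  rw [hφ, HasRingHomProperty.Spec_iff (P := @LocallyOfFiniteType)]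
  exact h2

theorem RED {A : Type u} [CommRing A] [IsArtinianRing A] [IsLocalRing A] {X : Scheme.{u}}
    (g : X ⟶ Spec (CommRingCat.of A))
    (h : LocallyOfFiniteType (pullback.snd g
      (Spec.map (CommRingCat.ofHom (IsLocalRing.residue A))))) : LocallyOfFiniteType g := by
  apply (IsZariskiLocalAtSource.iff_of_openCover (P := @LocallyOfFiniteType) X.affineCover).2
  intro i
  let q := Spec.map (CommRingCat.ofHom (IsLocalRing.residue A))
  let fi := X.affineCover.f i
  have hi : LocallyOfFiniteType (pullback.snd (fi ≫ g) q) := by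
    have e : pullback.snd (fi ≫ g) q =
        (pullbackRightPullbackFstIso g q fi).inv ≫ pullback.snd fi (pullback.fst g q) ≫
          pullback.snd g q := by
      rw [pullbackRightPullbackFstIso_inv_snd_snd]
    rw [e]
    infer_instance
  have hfi : fi ≫ g = Spec.map (Spec.preimage (fi ≫ g)) := (Spec.map_preimage _).symm
  rw [hfi] at hi ⊢
  exact RED_affine _ hi

end Groth.Agent.Helper12.RedLFT
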