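import Mathlib
import Groth.Prelude.Def_RelProj

set_option autoImplicit false
universe u
open CategoryTheory CategoryTheory.Limits AlgebraicGeometry Opposite TopologicalSpace
open scoped HomogeneousIdeal
open HomogeneousLocalization

namespace Groth.Agent.Helper12.RelProjBasic

section Ring

variable {A σ : Type*} [CommRing A] [SetLike σ A] [AddSubgroupClass σ A] (𝒜 : ℕ → σ) [GradedRing 𝒜]

/-- If no nonzero nilpotent lies in the irrelevant ideal, the degree-zero localizations at
homogeneous elements of positive degree are reduced. -/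
theorem isReduced_away (hred : ∀ x : A, x ∈ 𝒜₊ → IsNilpotent x → x = 0)
    {f : A} {d : ℕ} (hf : f ∈ 𝒜 d) (hd : 0 < d) : IsReduced (Away 𝒜 f) := by
  constructor
  rintro x ⟨k, hk⟩
  obtain ⟨n, a, ha, rfl⟩ := Away.mk_surjective 𝒜 hf x
  have h1 := congrArg HomogeneousLocalization.val hk
  rw [val_pow, Away.val_mk, val_zero, Localization.mk_pow, Localization.mk_eq_mk', 
    IsLocalization.mk'_eq_zero_iff] at h1
  obtain ⟨⟨_, m, rfl⟩, hm⟩ := h1
  have hm : f ^ m * a ^ k = 0 := hm
  have hfa : f * a = 0 := by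
    apply hred
    · exact Ideal.mul_mem_right _ _ (HomogeneousIdeal.mem_irrelevant_of_mem _ hd hf)
    · refine ⟨m + k, ?_⟩
      have : (f * a) ^ (m + k) = (f ^ m * a ^ k) * (f ^ k * a ^ m) := by ring
      rw [this, hm, zero_mul]
  apply val_injective
  rw [Away.val_mk, val_zero, Localization.mk_eq_mk', IsLocalization.mk'_eq_zero_iff]
  exact ⟨⟨f, 1, by simp⟩, hfa⟩

/-- `(a / f^n) * f^n = a` in the localization. -/
theorem val_mk_mul {f : A} {d : ℕ} (hf : f ∈ 𝒜 d) (n : ℕ) (a : A) (ha : a ∈ 𝒜 (n • d)) :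
    (Away.mk 𝒜 hf n a ha).val * algebraMap A (Localization.Away f) f ^ n =
      algebraMap A (Localization.Away f) a := by
  rw [Away.val_mk, Localization.mk_eq_mk', ← map_pow]
  exact IsLocalization.mk'_spec _ a (⟨f ^ n, n, rfl⟩ : Submonoid.powers f)

theorem val_fromZero (f : A) (s : 𝒜 0) :
    (fromZeroRingHom 𝒜 (Submonoid.powers f) s).val = algebraMap A (Localization.Away f) s := by
  change Localization.mk (s : A) 1 = _
  rw [Localization.mk_one_eq_algebraMap]

section GenOne

variable {R : Type*} [CommRing R] (str0 : R →+* 𝒜 0)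
  (hgen : Subring.closure ((𝒜 0 : Set A) ∪ (𝒜 1 : Set A)) = ⊤)
  (T : Finset A) (hT : (↑T : Set A) ⊆ (𝒜 1 : Set A))
  (hspan : ∀ x ∈ 𝒜 1, ∃ c : A → R, x = ∑ t ∈ T, (str0 (c t) : A) * t)

include hgen hspan in
theorem adjoin_eq_top_of_genOne :
    Algebra.adjoin (𝒜 0) (Set.range (Subtype.val : T → A)) = ⊤ := by
  rw [eq_top_iff]
  intro x _
  have hx : x ∈ Subring.closure ((𝒜 0 : Set A) ∪ (𝒜 1 : Set A)) := hgen ▸ Subring.mem_top x
  have : Subring.closure ((𝒜 0 : Set A) ∪ (𝒜 1 : Set A)) ≤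
      (Algebra.adjoin (𝒜 0) (Set.range (Subtype.val : T → A))).toSubring := by
    rw [Subring.closure_le]
    rintro y (hy | hy)
    · exact Subalgebra.algebraMap_mem _ (⟨y, hy⟩ : 𝒜 0)
    · obtain ⟨c, rfl⟩ := hspan y hy
      refine Subalgebra.sum_mem _ fun t ht => Subalgebra.mul_mem _ ?_ ?_
      · exact Subalgebra.algebraMap_mem _ (str0 (c t))
      · exact Algebra.subset_adjoin ⟨⟨t, ht⟩, rfl⟩
  exact this hx

include hgen hT hspan in
theorem finiteType_away_of_genOne (t : A) (ht : t ∈ T) :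
    ((fromZeroRingHom 𝒜 (Submonoid.powers t)).comp str0).FiniteType := by
  classical
  have ht1 : t ∈ 𝒜 1 := hT ht
  letI := ((fromZeroRingHom 𝒜 (Submonoid.powers t)).comp str0).toAlgebra
  change Algebra.FiniteType R (Away 𝒜 t)
  let g : A → Away 𝒜 t := fun s =>
    if hs : s ∈ 𝒜 1 then Away.mk 𝒜 ht1 1 s (by simpa using hs) else 0
  have hg : ∀ s ∈ T, (g s).val * algebraMap A (Localization.Away t) t =
      algebraMap A (Localization.Away t) s := by
    intro s hs
    have hs1 : s ∈ 𝒜 1 := hT hs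
    simp only [g, dif_pos hs1]
    have := val_mk_mul 𝒜 ht1 1 s (by simpa using hs1)
    simpa using this
  have hunit : IsUnit (algebraMap A (Localization.Away t) t) :=
    IsLocalization.map_units _ (⟨t, 1, by simp⟩ : Submonoid.powers t)
  have hsmul : ∀ (r : R) (z : Away 𝒜 t), (r • z).val =
      algebraMap A (Localization.Away t) (str0 r) * z.val := by
    intro r z
    rw [Algebra.smul_def, val_mul]
    exact congrArg (· * z.val) (val_fromZero 𝒜 t (str0 r))
  refine ⟨⟨T.image g, ?_⟩⟩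
  set B : Subalgebra R (Away 𝒜 t) := Algebra.adjoin R ((T.image g : Finset _) : Set (Away 𝒜 t))
  have hgB : ∀ s ∈ T, g s ∈ B := fun s hs =>
    Algebra.subset_adjoin (by simpa using Finset.mem_image_of_mem g hs)
  -- (i) the image of `𝒜 0` lies in `B`
  have h0 : ∀ s : 𝒜 0, algebraMap (𝒜 0) (Away 𝒜 t) s ∈ B := by
    intro s
    have hst : (s : A) * t ∈ 𝒜 1 := by
      have := SetLike.mul_mem_graded s.2 ht1
      simpa using this
    obtain ⟨c, hc⟩ := hspan _ hst
    have : algebraMap (𝒜 0) (Away 𝒜 t) s = ∑ t' ∈ T, c t' • g t' := by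
      apply val_injective
      apply hunit.mul_left_injective
      simp only []
      rw [algebraMap_eq, val_fromZero, ← map_mul, hc, map_sum]
      have : (∑ t' ∈ T, c t' • g t').val = ∑ t' ∈ T, (c t' • g t').val :=
        map_sum (algebraMap (Away 𝒜 t) (Localization.Away t)) _ _
      rw [this, Finset.sum_mul]
      refine Finset.sum_congr rfl fun t' ht' => ?_
      rw [hsmul, mul_assoc, hg t' ht', map_mul]
    rw [this]
    exact Subalgebra.sum_mem _ fun t' ht' => Subalgebra.smul_mem _ (hgB t' ht') _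
  let B' : Subalgebra (𝒜 0) (Away 𝒜 t) :=
    { B.toSubsemiring with algebraMap_mem' := h0 }
  have hB' : (⊤ : Subalgebra (𝒜 0) (Away 𝒜 t)) ≤ B' := by
    rw [← Away.adjoin_mk_prod_pow_eq_top ht1 T Subtype.val
      (adjoin_eq_top_of_genOne 𝒜 str0 hgen T hspan) (fun _ => 1) (fun i => hT i.2),
      Algebra.adjoin_le_iff]
    rintro _ ⟨a, ai, hai, -, rfl⟩
    change _ ∈ B
    have : Away.mk 𝒜 ht1 a (∏ i : T, (i : A) ^ ai i)
        (hai ▸ SetLike.prod_pow_mem_graded _ _ _ _ fun i _ ↦ hT i.2) = ∏ i : T, g i ^ ai i := by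
      apply val_injective
      apply (hunit.pow a).mul_left_injective
      simp only []
      rw [val_mk_mul]
      have h1 : (∏ i : T, g i ^ ai i).val = ∏ i : T, (g i).val ^ ai i := by
        rw [← HomogeneousLocalization.algebraMap_apply, map_prod]
        simp
      have h2 : a = ∑ i : T, ai i := by simpa using hai.symm
      rw [h1, h2, ← Finset.prod_pow_eq_pow_sum, ← Finset.prod_mul_distrib, map_prod]
      refine Finset.prod_congr rfl fun i _ => ?_
      rw [← mul_pow, hg i i.2, map_pow]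
    rw [this]
    exact Subalgebra.prod_mem _ fun i _ => Subalgebra.pow_mem _ (hgB i i.2) _
  rw [eq_top_iff]
  intro z _
  exact hB' (Algebra.mem_top (R := 𝒜 0) (x := z))

end GenOne

end Ring

section Proj

variable {A : Type u} {σ : Type*} [CommRing A] [SetLike σ A] [AddSubgroupClass σ A] (𝒜 : ℕ → σ)
  [GradedRing 𝒜]

/-- `Proj` of an essentially reduced graded ring is reduced. -/
theorem isReduced_proj (hred : ∀ x : A, x ∈ 𝒜₊ → IsNilpotent x → x = 0) : IsReduced (Proj 𝒜) := by
  have : ∀ i, IsReduced ((Proj.affineOpenCover 𝒜).openCover.X i) := by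
    intro i
    have := isReduced_away 𝒜 hred i.2.2 i.1.2
    change IsReduced (Spec (.of (Away 𝒜 (i.2 : A))))
    infer_instance
  exact IsReduced.of_openCover _ (Proj.affineOpenCover 𝒜).openCover

/-- If the `f a` generate an ideal containing all high-degree pieces, the `D₊(f a)` cover `Proj`. -/
theorem exists_mem_basicOpen_of_eventually_le (x : Proj 𝒜) {ι : Type*} (f : ι → A) (n₀ : ℕ)
    (h : ∀ n, n₀ ≤ n → (𝒜 n : Set A) ⊆ (Ideal.span (Set.range f) : Set A)) :
    ∃ a, x ∈ Proj.basicOpen 𝒜 (f a) := by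
  by_contra hcon
  push Not at hcon
  have h1 : ∀ a, f a ∈ x.asHomogeneousIdeal := by
    intro a
    by_contra h2
    exact hcon a ((Proj.mem_basicOpen 𝒜 (f a) x).mpr h2)
  have h2 : Ideal.span (Set.range f) ≤ x.asHomogeneousIdeal.toIdeal := by
    rw [Ideal.span_le]
    rintro _ ⟨a, rfl⟩
    exact h1 a
  apply x.not_irrelevant_le
  rw [HomogeneousIdeal.irrelevant_le]
  intro i hi b hb
  have h3 : b ^ (n₀ + 1) ∈ 𝒜 ((n₀ + 1) • i) := SetLike.pow_mem_graded _ hb
  have h4 : n₀ ≤ (n₀ + 1) • i := by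
    simp only [smul_eq_mul]
    nlinarith
  have h5 := h2 (h _ h4 h3)
  exact x.isPrime.mem_of_pow_mem _ h5

section GenOneProj

variable {R : CommRingCat.{u}} (str0 : R ⟶ CommRingCat.of (𝒜 0))
  (hgen : Subring.closure ((𝒜 0 : Set A) ∪ (𝒜 1 : Set A)) = ⊤)
  (T : Finset A) (hT : (↑T : Set A) ⊆ (𝒜 1 : Set A))
  (hspan : ∀ x ∈ 𝒜 1, ∃ c : A → R, x = ∑ t ∈ T, (str0.hom (c t) : A) * t)

include hgen hT hspan in
theorem locallyOfFiniteType_of_genOne :
    LocallyOfFiniteType (Proj.toSpecZero 𝒜 ≫ Spec.map str0) := by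
  have hadj := adjoin_eq_top_of_genOne 𝒜 str0.hom hgen T hspan
  rw [IsZariskiLocalAtSource.iff_of_iSup_eq_top (P := @LocallyOfFiniteType) _
    (Proj.iSup_basicOpen_eq_top' 𝒜 (ι := T) (↑) (fun i ↦ ⟨1, hT i.2⟩) hadj)]
  intro i
  rw [← MorphismProperty.cancel_left_of_respectsIso (P := @LocallyOfFiniteType)
    (Proj.basicOpenIsoSpec 𝒜 (i : A) (hT i.2) one_pos).inv, ← Category.assoc,
    ← Proj.awayι, Proj.awayι_toSpecZero_assoc, ← Spec.map_comp,
    HasRingHomProperty.Spec_iff (P := @LocallyOfFiniteType)]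
  exact finiteType_away_of_genOne 𝒜 str0.hom hgen T hT hspan i i.2

include hgen hspan hT in
theorem compactSpace_of_genOne : CompactSpace (Proj 𝒜) := by
  have hadj := adjoin_eq_top_of_genOne 𝒜 str0.hom hgen T hspan
  have H (i : T) : IsCompact (Proj.basicOpen 𝒜 (i : A)).1 := by
    rw [← Proj.opensRange_awayι _ _ (hT i.2) one_pos]
    exact isCompact_range (Proj.awayι _ _ (hT i.2) one_pos).continuous
  have hcov : (⋃ i : T, ((Proj.basicOpen 𝒜 (i : A) : (Proj 𝒜).Opens) : Set (Proj 𝒜))) = Set.univ := by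
    have := congrArg (fun U : (Proj 𝒜).Opens => (U : Set (Proj 𝒜)))
      (Proj.iSup_basicOpen_eq_top' 𝒜 (ι := T) (↑) (fun i ↦ ⟨1, hT i.2⟩) hadj)
    simpa using this
  constructor
  rw [← hcov]
  exact isCompact_iUnion H

include hgen hspan hT in
theorem quasiCompact_of_genOne :
    QuasiCompact (Proj.toSpecZero 𝒜 ≫ Spec.map str0) := by
  rw [HasAffineProperty.iff_of_isAffine (P := @QuasiCompact)]
  exact compactSpace_of_genOne 𝒜 str0 hgen T hT hspan

end GenOneProj

end Proj

section Rel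

variable {Y P : Scheme.{u}}

/-- The preimages of the affine opens of `Y` cover `P`. -/
theorem isOpenCover_preimage_affineOpens (p : P ⟶ Y) :
    IsOpenCover (fun U : Y.affineOpens => p ⁻¹ᵁ U.1) := by
  have h := iSup_affineOpens_eq_top Y
  have : (⨆ U : Y.affineOpens, p ⁻¹ᵁ U.1) = p ⁻¹ᵁ (⨆ U : Y.affineOpens, U.1) := by
    ext x
    simp
  rw [IsOpenCover, this, h]
  rfl

/-- The open cover of `P` by the preimages of the affine opens of `Y`. -/
noncomputable def preimageCover (p : P ⟶ Y) : P.OpenCover :=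
  P.openCoverOfIsOpenCover _ (isOpenCover_preimage_affineOpens p)

end Rel

end Groth.Agent.Helper12.RelProjBasic
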