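import Mathlib
import Groth.Agent.Lib.Helper12.RelProjBasic

set_option autoImplicit false
universe u
open CategoryTheory CategoryTheory.Limits AlgebraicGeometry Opposite TopologicalSpace

namespace Groth.Agent.Helper12.RelProjGlue

open Groth.Agent.Helper12.RelProjBasic

variable {Y P Q : Scheme.{u}}

/-- Two morphisms out of an open subscheme agree if they agree on smaller opens covering it. -/
theorem hom_ext_of_forall_le {U : P.Opens} (a b : (U : Scheme.{u}) ⟶ Q)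
    (H : ∀ x : P, x ∈ U → ∃ (U' : P.Opens) (hU' : U' ≤ U), x ∈ U' ∧
      P.homOfLE hU' ≫ a = P.homOfLE hU' ≫ b) : a = b := by
  apply Scheme.hom_ext_of_forall
  intro x
  obtain ⟨U', hU', hxU', hab⟩ := H x.1 x.2
  refine ⟨U.ι ⁻¹ᵁ U', hxU', ?_⟩
  let φ : ((U.ι ⁻¹ᵁ U' : U.toScheme.Opens) : Scheme.{u}) ⟶ (U' : Scheme.{u}) :=
    IsOpenImmersion.lift U'.ι ((U.ι ⁻¹ᵁ U').ι ≫ U.ι) (by
      rintro _ ⟨y, rfl⟩
      simp only [Scheme.Opens.range_ι]
      exact y.2)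
  have hφ : φ ≫ P.homOfLE hU' = (U.ι ⁻¹ᵁ U').ι := by
    rw [← cancel_mono U.ι, Category.assoc, Scheme.homOfLE_ι]
    exact IsOpenImmersion.lift_fac _ _ _
  rw [← hφ, Category.assoc, Category.assoc, hab]

/-- Compatibility with restriction to basic opens implies compatibility with restriction to all
affine opens. -/
theorem compat_of_basic (p : P ⟶ Y)
    (e : ∀ (U : Y.Opens) (_ : IsAffineOpen U), ((p ⁻¹ᵁ U : P.Opens) : Scheme.{u}) ⟶ Q)
    (he : ∀ (U : Y.Opens) (hU : IsAffineOpen U) (r : Γ(Y, U)),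
      P.homOfLE (p.preimage_mono (Y.basicOpen_le r)) ≫ e U hU =
        e (Y.basicOpen r) (hU.basicOpen r))
    {U V : Y.Opens} (hU : IsAffineOpen U) (hV : IsAffineOpen V) (hVU : V ≤ U) :
    P.homOfLE (p.preimage_mono hVU) ≫ e U hU = e V hV := by
  apply hom_ext_of_forall_le
  intro x hx
  obtain ⟨f, g, hfg, hxf⟩ := exists_basicOpen_le_affine_inter hU hV (p.base x) ⟨hVU hx, hx⟩
  have hle : Y.basicOpen g ≤ V := Y.basicOpen_le g
  refine ⟨p ⁻¹ᵁ (Y.basicOpen g), p.preimage_mono hle, hfg ▸ hxf, ?_⟩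
  rw [he V hV g]
  have key : ∀ (W : Y.Opens) (hW : W = Y.basicOpen f) (hWV : W ≤ V) (hW' : IsAffineOpen W),
      P.homOfLE (p.preimage_mono hWV) ≫ P.homOfLE (p.preimage_mono hVU) ≫ e U hU = e W hW' := by
    intro W hW hWV hW'
    subst hW
    rw [Scheme.homOfLE_homOfLE_assoc]
    exact he U hU f
  exact key _ hfg.symm hle _

theorem glue_of_basic (p : P ⟶ Y)
    (e : ∀ (U : Y.Opens) (_ : IsAffineOpen U), ((p ⁻¹ᵁ U : P.Opens) : Scheme.{u}) ⟶ Q)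
    (he : ∀ (U : Y.Opens) (hU : IsAffineOpen U) (r : Γ(Y, U)),
      P.homOfLE (p.preimage_mono (Y.basicOpen_le r)) ≫ e U hU =
        e (Y.basicOpen r) (hU.basicOpen r)) :
    ∃! h : P ⟶ Q, ∀ (U : Y.Opens) (hU : IsAffineOpen U), (p ⁻¹ᵁ U).ι ≫ h = e U hU := by
  have he' := fun {U V : Y.Opens} (hU : IsAffineOpen U) (hV : IsAffineOpen V) (hVU : V ≤ U) =>
    compat_of_basic p e he hU hV hVU
  have hcompat : ∀ U V : Y.affineOpens,
      pullback.fst (p ⁻¹ᵁ U.1).ι (p ⁻¹ᵁ V.1).ι ≫ e U.1 U.2 =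
        pullback.snd (p ⁻¹ᵁ U.1).ι (p ⁻¹ᵁ V.1).ι ≫ e V.1 V.2 := by
    intro U V
    apply Scheme.hom_ext_of_forall
    intro z
    set x : P := ((pullback.fst (p ⁻¹ᵁ U.1).ι (p ⁻¹ᵁ V.1).ι ≫ (p ⁻¹ᵁ U.1).ι)).base z with hx
    have hxU : p.base x ∈ U.1 := ((pullback.fst (p ⁻¹ᵁ U.1).ι (p ⁻¹ᵁ V.1).ι).base z).2
    have hxV : p.base x ∈ V.1 := by
      have : x = ((pullback.snd (p ⁻¹ᵁ U.1).ι (p ⁻¹ᵁ V.1).ι ≫ (p ⁻¹ᵁ V.1).ι)).base z := by
        rw [hx, pullback.condition]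
      rw [this]
      exact ((pullback.snd (p ⁻¹ᵁ U.1).ι (p ⁻¹ᵁ V.1).ι).base z).2
    obtain ⟨W, hW, hxW, hWUV⟩ := Opens.isBasis_iff_nbhd.mp (Y.isBasis_affineOpens)
      (show p.base x ∈ U.1 ⊓ V.1 from ⟨hxU, hxV⟩)
    have hWU : W ≤ U.1 := hWUV.trans inf_le_left
    have hWV : W ≤ V.1 := hWUV.trans inf_le_right
    let Z' := (pullback.fst (p ⁻¹ᵁ U.1).ι (p ⁻¹ᵁ V.1).ι ≫ (p ⁻¹ᵁ U.1).ι) ⁻¹ᵁ (p ⁻¹ᵁ W)
    refine ⟨Z', hxW, ?_⟩
    let ψ : (Z' : Scheme.{u}) ⟶ ((p ⁻¹ᵁ W : P.Opens) : Scheme.{u}) :=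
      IsOpenImmersion.lift (p ⁻¹ᵁ W).ι
        (Z'.ι ≫ pullback.fst (p ⁻¹ᵁ U.1).ι (p ⁻¹ᵁ V.1).ι ≫ (p ⁻¹ᵁ U.1).ι) (by
          rintro _ ⟨y, rfl⟩
          simp only [Scheme.Opens.range_ι]
          exact y.2)
    have hψ : ψ ≫ (p ⁻¹ᵁ W).ι =
        Z'.ι ≫ pullback.fst (p ⁻¹ᵁ U.1).ι (p ⁻¹ᵁ V.1).ι ≫ (p ⁻¹ᵁ U.1).ι :=
      IsOpenImmersion.lift_fac _ _ _
    have h1 : ψ ≫ P.homOfLE (p.preimage_mono hWU) =
        Z'.ι ≫ pullback.fst (p ⁻¹ᵁ U.1).ι (p ⁻¹ᵁ V.1).ι := by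
      rw [← cancel_mono (p ⁻¹ᵁ U.1).ι, Category.assoc, Scheme.homOfLE_ι, hψ, Category.assoc]
    have h2 : ψ ≫ P.homOfLE (p.preimage_mono hWV) =
        Z'.ι ≫ pullback.snd (p ⁻¹ᵁ U.1).ι (p ⁻¹ᵁ V.1).ι := by
      rw [← cancel_mono (p ⁻¹ᵁ V.1).ι, Category.assoc, Scheme.homOfLE_ι, hψ, Category.assoc,
        pullback.condition]
    rw [← Category.assoc, ← h1, ← Category.assoc Z'.ι, ← h2, Category.assoc, Category.assoc,
      he' U.2 hW hWU, he' V.2 hW hWV]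
  refine ⟨(preimageCover p).glueMorphisms (fun U => e U.1 U.2) hcompat, ?_, ?_⟩
  · intro U hU
    exact (preimageCover p).ι_glueMorphisms (fun U => e U.1 U.2) hcompat ⟨U, hU⟩
  · intro h' hh'
    apply (preimageCover p).hom_ext
    intro U
    rw [(preimageCover p).ι_glueMorphisms (fun U => e U.1 U.2) hcompat U]
    exact hh' U.1 U.2

open scoped HomogeneousIdeal in
theorem projMap_congr {A B σ τ : Type u} [CommRing A] [SetLike σ A] [AddSubgroupClass σ A]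
    [CommRing B] [SetLike τ B] [AddSubgroupClass τ B] {𝒜 : ℕ → σ} {ℬ : ℕ → τ}
    [GradedRing 𝒜] [GradedRing ℬ] {f g : 𝒜 →+*ᵍ ℬ} (h : f = g)
    (hf : ℬ₊ ≤ 𝒜₊.map f) (hg : ℬ₊ ≤ 𝒜₊.map g) : Proj.map f hf = Proj.map g hg := by
  subst h
  rfl

open scoped HomogeneousIdeal in
open HomogeneousLocalization in
/-- `Proj.map` is compatible with the structure morphisms to `Spec` of the degree-zero parts. -/
theorem projMap_toSpecZero {A B σ τ : Type u} [CommRing A] [SetLike σ A] [AddSubgroupClass σ A]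
    [CommRing B] [SetLike τ B] [AddSubgroupClass τ B] {𝒜 : ℕ → σ} {ℬ : ℕ → τ}
    [GradedRing 𝒜] [GradedRing ℬ] (f : 𝒜 →+*ᵍ ℬ) (hf : ℬ₊ ≤ 𝒜₊.map f) :
    Proj.map f hf ≫ Proj.toSpecZero 𝒜 =
      Proj.toSpecZero ℬ ≫ Spec.map (CommRingCat.ofHom f.gradedZeroRingHom) := by
  refine (Proj.mapAffineOpenCover f hf).openCover.hom_ext _ _ fun (s : Σ i : ℕ+, 𝒜 i) ↦ ?_
  change Proj.awayι ℬ (f s.2) (f.2 s.2.2) s.1.pos ≫ _ = Proj.awayι ℬ (f s.2) (f.2 s.2.2) s.1.pos ≫ _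
  rw [Proj.awayι_comp_map_assoc f hf s.1.pos _ s.2.2, Proj.awayι_toSpecZero, 
    Proj.awayι_toSpecZero_assoc, ← Spec.map_comp, ← Spec.map_comp]
  congr 1
  ext a
  simp only [CommRingCat.hom_comp, CommRingCat.hom_ofHom, RingHom.comp_apply]
  change (HomogeneousLocalization.map f _ (HomogeneousLocalization.mk ⟨0, a, 1, one_mem _⟩)).val =
    (HomogeneousLocalization.mk ⟨0, f.gradedZeroRingHom a, 1, one_mem _⟩).val
  rw [HomogeneousLocalization.map_mk]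
  simp

open scoped HomogeneousIdeal in
/-- Naturality of the chartwise `Proj.map`s with respect to restriction to basic opens. -/
theorem relProjMap_compat {𝒜 ℬ : RelProj.QCGrAlg Y}
    (φ : 𝒜.toQCAlg ⟶ ℬ.toQCAlg) (hφ : RelProj.IsGradedHom φ)
    (hirr : ∀ (U : Y.Opens) (hU : IsAffineOpen U),
      (ℬ.deg U hU)₊ ≤ ((𝒜.deg U hU)₊).map (RelProj.gradedHomAt φ hφ U hU))
    (U : Y.Opens) (hU : IsAffineOpen U) (r : Γ(Y, U)) :
    Proj.map (ℬ.res hU (hU.basicOpen r) (Y.basicOpen_le r)) (ℬ.irrelevant_le_map U hU r) ≫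
        Proj.map (RelProj.gradedHomAt φ hφ U hU) (hirr U hU) =
      Proj.map (RelProj.gradedHomAt φ hφ (Y.basicOpen r) (hU.basicOpen r))
          (hirr (Y.basicOpen r) (hU.basicOpen r)) ≫
        Proj.map (𝒜.res hU (hU.basicOpen r) (Y.basicOpen_le r)) (𝒜.irrelevant_le_map U hU r) := by
  rw [← Proj.map_comp, ← Proj.map_comp]
  apply projMap_congr
  apply GradedRingHom.ext
  intro x
  have := φ.hom.naturality (homOfLE (Y.basicOpen_le r)).op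
  exact (congrArg (fun f => f.hom x) this).symm

/-- A property local at the target can be checked on squares over an open cover whose source
sides are open immersions onto the preimages. -/
theorem of_local_squares {P : MorphismProperty Scheme.{u}} [IsZariskiLocalAtTarget P]
    {X Y : Scheme.{u}} (f : X ⟶ Y) {ι : Type*} (V : ι → Y.Opens) (hV : iSup V = ⊤)
    (W : ι → Scheme.{u}) (k : ∀ i, W i ⟶ X) [∀ i, IsOpenImmersion (k i)]
    (g : ∀ i, W i ⟶ ((V i : Y.Opens) : Scheme.{u})) (H : ∀ i, k i ≫ f = g i ≫ (V i).ι)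
    (H' : ∀ i, f ⁻¹ᵁ (V i) = (k i).opensRange) (hg : ∀ i, P (g i)) : P f := by
  apply IsZariskiLocalAtTarget.of_iSup_eq_top V hV
  intro i
  have hpb := IsOpenImmersion.isPullback (g i) (k i) (V i).ι f (H i)
    (by rw [Scheme.Opens.opensRange_ι]; exact H' i)
  have hpb' := isPullback_morphismRestrict f (V i)
  have h1 : (hpb'.isoIsPullback _ _ hpb).hom ≫ g i = f ∣_ V i :=
    IsPullback.isoIsPullback_hom_fst _ _ hpb' hpb
  rw [← h1, P.cancel_left_of_respectsIso]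
  exact hg i

open scoped HomogeneousIdeal in
open HomogeneousLocalization in
/-- A property local at the target holds for `Proj.map f` if it holds for all `Spec (Away.map f s)`. -/
theorem projMap_of_away {P : MorphismProperty Scheme.{u}} [IsZariskiLocalAtTarget P]
    {A B σ τ : Type u} [CommRing A] [SetLike σ A] [AddSubgroupClass σ A]
    [CommRing B] [SetLike τ B] [AddSubgroupClass τ B] {𝒜 : ℕ → σ} {ℬ : ℕ → τ}
    [GradedRing 𝒜] [GradedRing ℬ] (f : 𝒜 →+*ᵍ ℬ) (hf : ℬ₊ ≤ 𝒜₊.map f)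
    (H : ∀ (i : ℕ) (_ : 0 < i) (s : A) (_ : s ∈ 𝒜 i),
      P (Spec.map (CommRingCat.ofHom (Away.map f s)))) : P (Proj.map f hf) := by
  have hcov : (⨆ s : (Σ i : ℕ+, 𝒜 i), Proj.basicOpen 𝒜 (s.2 : A)) = ⊤ := by
    have := (Proj.affineOpenCover 𝒜).openCover.iSup_opensRange
    rw [← this]
    refine iSup_congr fun s => ?_
    exact (Proj.opensRange_awayι 𝒜 _ s.2.2 s.1.pos).symm
  refine of_local_squares (Proj.map f hf) (fun s : (Σ i : ℕ+, 𝒜 i) => Proj.basicOpen 𝒜 (s.2 : A)) hcov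
    (fun s => Spec (.of (Away ℬ (f s.2)))) (fun s => Proj.awayι ℬ (f s.2) (f.2 s.2.2) s.1.pos)
    (fun s => Spec.map (CommRingCat.ofHom (Away.map f s.2)) ≫
      (Proj.basicOpenIsoSpec 𝒜 (s.2 : A) s.2.2 s.1.pos).inv) ?_ ?_ ?_
  · intro s
    rw [Category.assoc, Proj.basicOpenIsoSpec_inv_ι]
    exact Proj.awayι_comp_map f hf s.1.pos _ s.2.2
  · intro s
    rw [Proj.opensRange_awayι, Proj.map_preimage_basicOpen]
  · intro s
    rw [P.cancel_right_of_respectsIso]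
    exact H s.1 s.1.pos s.2 s.2.2

open scoped HomogeneousIdeal in
/-- A property local at the target holds for a morphism of relative `Proj`s if it holds chartwise. -/
theorem relProjMap_of_chartwise {P : MorphismProperty Scheme.{u}} [IsZariskiLocalAtTarget P]
    {PA PB : Scheme.{u}} {𝒜 ℬ : RelProj.QCGrAlg Y}
    (φ : 𝒜.toQCAlg ⟶ ℬ.toQCAlg) (hφ : RelProj.IsGradedHom φ)
    (hirr : ∀ (U : Y.Opens) (hU : IsAffineOpen U),
      (ℬ.deg U hU)₊ ≤ ((𝒜.deg U hU)₊).map (RelProj.gradedHomAt φ hφ U hU))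
    (pA : PA ⟶ Y) (pB : PB ⟶ Y)
    (chartA : ∀ (U : Y.Opens) (hU : IsAffineOpen U),
      (((pA ⁻¹ᵁ U : PA.Opens) : Scheme.{u}) ≅ Proj (𝒜.deg U hU)))
    (chartB : ∀ (U : Y.Opens) (hU : IsAffineOpen U),
      (((pB ⁻¹ᵁ U : PB.Opens) : Scheme.{u}) ≅ Proj (ℬ.deg U hU)))
    (h : PB ⟶ PA) (hh : RelProj.IsRelProjMap φ hφ hirr chartA chartB h) (hcomp : h ≫ pA = pB)
    (H : ∀ (U : Y.Opens) (hU : IsAffineOpen U),
      P (Proj.map (RelProj.gradedHomAt φ hφ U hU) (hirr U hU))) : P h := by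
  refine of_local_squares h (fun U : Y.affineOpens => pA ⁻¹ᵁ U.1)
    (isOpenCover_preimage_affineOpens pA)
    (fun U => ((pB ⁻¹ᵁ U.1 : PB.Opens) : Scheme.{u}))
    (fun U => (pB ⁻¹ᵁ U.1).ι)
    (fun U => (chartB U.1 U.2).hom ≫ Proj.map (RelProj.gradedHomAt φ hφ U.1 U.2) (hirr U.1 U.2) ≫
      (chartA U.1 U.2).inv) ?_ ?_ ?_
  · intro U
    rw [hh U.1 U.2]
    simp only [Category.assoc]
  · intro U
    rw [Scheme.Opens.opensRange_ι, ← hcomp]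
    rfl
  · intro U
    rw [P.cancel_left_of_respectsIso, P.cancel_right_of_respectsIso]
    exact H U.1 U.2

end Groth.Agent.Helper12.RelProjGlue
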