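import Mathlib
import Groth.Prelude.Def_RelSpec2
import Groth.Agent.Lib.Helper12.RelProjGlue

set_option autoImplicit false
universe u
open CategoryTheory CategoryTheory.Limits AlgebraicGeometry Opposite TopologicalSpace
open scoped HomogeneousIdeal

namespace Groth.Agent.Helper12.RelConeBasic

open Groth.Agent.Helper12.RelProjGlue

variable {Y : Scheme.{u}}

/-- The relative spectrum of the structure sheaf is the base. -/
theorem isIso_unit_π (Y : Scheme.{u}) : IsIso (RelSpec.QCAlg.unit Y).π := by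
  refine of_local_squares (P := MorphismProperty.isomorphisms Scheme.{u}) (RelSpec.QCAlg.unit Y).π
    (fun U : Y.affineOpens => U.1) (iSup_affineOpens_eq_top Y)
    (fun U => Spec ((RelSpec.QCAlg.unit Y).presheaf.obj (op U.1)))
    (fun U => (RelSpec.QCAlg.unit Y).ι U.1 U.2)
    (fun U => U.2.isoSpec.inv) ?_ ?_ ?_
  · intro U
    rw [(RelSpec.QCAlg.unit Y).ι_π U.1 U.2]
    have h1 : (IsAffineOpen.isoSpec U.2).inv ≫ U.1.ι = (U.2 : IsAffineOpen U.1).fromSpec :=
      IsAffineOpen.isoSpec_inv_ι _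
    refine Eq.trans ?_ h1.symm
    change Spec.map (𝟙 _) ≫ _ = _
    rw [Spec.map_id, Category.id_comp]
  · intro U
    exact (RelSpec.QCAlg.unit Y).π_preimage U.1 U.2
  · intro U
    change IsIso _
    infer_instance

/-- The charts of a relative spectrum cover it. -/
theorem iSup_opensRange_ι (A : RelSpec.QCAlg Y) :
    (⨆ U : Y.affineOpens, (A.ι U.1 U.2).opensRange) = ⊤ := by
  have h : (⨆ U : Y.affineOpens, A.π ⁻¹ᵁ U.1) = ⊤ :=
    Groth.Agent.Helper12.RelProjBasic.isOpenCover_preimage_affineOpens A.π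
  rw [← h]
  exact iSup_congr fun U => (A.π_preimage U.1 U.2).symm

/-- Two morphisms out of a relative spectrum agree if they agree on all charts. -/
theorem spec_hom_ext (A : RelSpec.QCAlg Y) {Q : Scheme.{u}} (a b : A.spec ⟶ Q)
    (h : ∀ (U : Y.Opens) (hU : IsAffineOpen U), A.ι U hU ≫ a = A.ι U hU ≫ b) : a = b := by
  apply Scheme.hom_ext_of_forall
  intro x
  have hx : x ∈ (⨆ U : Y.affineOpens, (A.ι U.1 U.2).opensRange) := by
    rw [iSup_opensRange_ι]; trivial
  obtain ⟨U, hU⟩ := Opens.mem_iSup.mp hx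
  refine ⟨(A.ι U.1 U.2).opensRange, hU, ?_⟩
  rw [← cancel_epi (A.ι U.1 U.2).isoOpensRange.hom]
  simp only [← Category.assoc, Scheme.Hom.isoOpensRange_hom_ι]
  exact h U.1 U.2

/-- Two morphisms out of `Y` agree if they agree on all affine opens. -/
theorem hom_ext_fromSpec {Q : Scheme.{u}} (a b : Y ⟶ Q)
    (h : ∀ (U : Y.Opens) (hU : IsAffineOpen U), hU.fromSpec ≫ a = hU.fromSpec ≫ b) : a = b := by
  apply Scheme.hom_ext_of_forall
  intro x
  obtain ⟨W, hW, hxW, -⟩ := Opens.isBasis_iff_nbhd.mp (Y.isBasis_affineOpens)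
    (show x ∈ (⊤ : Y.Opens) from trivial)
  refine ⟨W, hxW, ?_⟩
  have := h W hW
  rw [← IsAffineOpen.isoSpec_inv_ι, Category.assoc, Category.assoc] at this
  exact (cancel_epi _).mp this

section Vertex

variable (𝒮 : RelProj.QCGrAlg Y) (h0 : RelCone.StrZeroBij 𝒮)
  (aug : 𝒮.toQCAlg ⟶ RelSpec.QCAlg.unit Y) (haug : RelCone.IsAugmentation 𝒮 aug)

theorem aug_str (U : Y.Opens) (r : Γ(Y, U)) :
    (aug.hom.app (op U)).hom ((𝒮.str.app (op U)).hom r) = r := by
  have := NatTrans.congr_app aug.comm (op U)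
  exact congrArg (fun f => f.hom r) this

theorem aug_surjective (U : Y.Opens) : Function.Surjective (aug.hom.app (op U)).hom :=
  fun r => ⟨(𝒮.str.app (op U)).hom r, aug_str 𝒮 aug U r⟩

include haug in
theorem aug_eq_aug_zero (U : Y.Opens) (hU : IsAffineOpen U) (x : 𝒮.presheaf.obj (op U)) :
    (aug.hom.app (op U)).hom x =
      (aug.hom.app (op U)).hom (DirectSum.decompose (𝒮.deg U hU) x 0 : 𝒮.presheaf.obj (op U)) := by
  classical
  conv_lhs => rw [← DirectSum.sum_support_decompose (𝒮.deg U hU) x]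
  rw [map_sum]
  by_cases h : 0 ∈ (DirectSum.decompose (𝒮.deg U hU) x).support
  · rw [Finset.sum_eq_single_of_mem 0 h]
    intro i _ hi
    obtain ⟨d, rfl⟩ := Nat.exists_eq_succ_of_ne_zero hi
    exact haug U hU d _ (SetLike.coe_mem _)
  · have h0' : (DirectSum.decompose (𝒮.deg U hU) x 0 : 𝒮.presheaf.obj (op U)) = 0 := by
      rw [DFinsupp.mem_support_iff, not_not] at h
      rw [h]
      rfl
    rw [h0', map_zero]
    apply Finset.sum_eq_zero
    intro i hi
    have hi0 : i ≠ 0 := fun h' => h (h' ▸ hi)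
    obtain ⟨d, rfl⟩ := Nat.exists_eq_succ_of_ne_zero hi0
    exact haug U hU d _ (SetLike.coe_mem _)

include h0 haug in
theorem ker_aug (U : Y.Opens) (hU : IsAffineOpen U) :
    RingHom.ker (aug.hom.app (op U)).hom = ((𝒮.deg U hU)₊).toIdeal := by
  ext x
  rw [RingHom.mem_ker, aug_eq_aug_zero 𝒮 aug haug U hU x]
  change _ ↔ x ∈ (𝒮.deg U hU)₊
  rw [HomogeneousIdeal.mem_irrelevant_iff, GradedRing.proj_apply]
  constructor
  · intro h
    obtain ⟨r, hr⟩ := (h0 U hU).2 (DirectSum.decompose (𝒮.deg U hU) x 0)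
    have hr' : (𝒮.str.app (op U)).hom r =
        (DirectSum.decompose (𝒮.deg U hU) x 0 : 𝒮.presheaf.obj (op U)) := congrArg Subtype.val hr
    rw [← hr', aug_str] at h
    rw [← hr']
    have h' : r = 0 := h
    rw [h']
    exact map_zero (𝒮.str.app (op U)).hom
  · intro h
    rw [h, map_zero]

include h0 haug in
/-- A point of a chart lies on the vertex section iff it lies in `V(𝒮(U)₊)`. -/
theorem mem_range_vertex_iff (ε : Y ⟶ 𝒮.toQCAlg.spec) (hε : RelCone.IsVertex 𝒮 aug ε)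
    (U : Y.Opens) (hU : IsAffineOpen U) (w : Spec (𝒮.presheaf.obj (op U))) :
    (𝒮.toQCAlg.ι U hU).base w ∈ Set.range ε.base ↔
      w ∈ PrimeSpectrum.zeroLocus (((𝒮.deg U hU)₊).toIdeal : Set (𝒮.presheaf.obj (op U))) := by
  rw [← ker_aug 𝒮 h0 aug haug U hU,
    ← range_comap_of_surjective _ _ (aug_surjective 𝒮 aug U)]
  constructor
  · rintro ⟨y, hy⟩
    have h1 : y = (𝒮.toQCAlg.π).base ((𝒮.toQCAlg.ι U hU).base w) := by
      rw [← hy, ← Scheme.Hom.comp_apply, hε.comp_π]
      rfl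
    have h2 : (𝒮.toQCAlg.π).base ((𝒮.toQCAlg.ι U hU).base w) =
        hU.fromSpec.base ((Spec.map (𝒮.str.app (op U))).base w) := by
      rw [← Scheme.Hom.comp_apply, 𝒮.toQCAlg.ι_π U hU]
      rfl
    have h3 : ε.base y = (𝒮.toQCAlg.ι U hU).base
        ((Spec.map (aug.hom.app (op U))).base ((Spec.map (𝒮.str.app (op U))).base w)) := by
      rw [h1, h2, ← Scheme.Hom.comp_apply, hε.chart U hU]
      rfl
    rw [hy] at h3
    have h4 := (𝒮.toQCAlg.ι U hU).isOpenEmbedding.injective h3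
    exact ⟨(Spec.map (𝒮.str.app (op U))).base w, h4.symm⟩
  · rintro ⟨y', rfl⟩
    refine ⟨hU.fromSpec.base y', ?_⟩
    rw [← Scheme.Hom.comp_apply, hε.chart U hU]
    rfl

end Vertex

end Groth.Agent.Helper12.RelConeBasic
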