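import Mathlib
import Groth.Prelude.Def_RelSpec2
import Groth.Agent.Lib.Helper12.RelConeBasic

set_option autoImplicit false
universe u
open CategoryTheory CategoryTheory.Limits AlgebraicGeometry Opposite TopologicalSpace
open scoped HomogeneousIdeal

namespace Groth.Agent.Helper12.RelSpecMap

open Groth.Agent.Helper12.RelConeBasic

variable {S S' : Scheme.{u}} (q : S' ⟶ S) (B : RelSpec.QCAlg S) (B' : RelSpec.QCAlg S')
  (u : B.presheaf ⟶ q.base _* B'.presheaf)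
  (hu : B.str ≫ u = q.c ≫ (TopCat.Presheaf.pushforward CommRingCat.{u} q.base).map B'.str)

/-- the ring map `B(U) → B'(U')` attached to a chart pair -/
noncomputable def uMap (U : S.Opens) (U' : S'.Opens) (hle : U' ≤ q ⁻¹ᵁ U) :
    B.presheaf.obj (op U) ⟶ B'.presheaf.obj (op U') :=
  (u.app (op U) : B.presheaf.obj (op U) ⟶ B'.presheaf.obj (op (q ⁻¹ᵁ U))) ≫
    B'.presheaf.map (homOfLE hle).op

include hu in
theorem str_uMap (U : S.Opens) (U' : S'.Opens) (hle : U' ≤ q ⁻¹ᵁ U) :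
    B.str.app (op U) ≫ uMap q B B' u U U' hle = q.appLE U U' hle ≫ B'.str.app (op U') := by
  have h1 : B.str.app (op U) ≫ u.app (op U) = q.c.app (op U) ≫ B'.str.app (op (q ⁻¹ᵁ U)) :=
    NatTrans.congr_app hu (op U)
  unfold uMap
  rw [← Category.assoc, h1, Scheme.Hom.appLE, Category.assoc, Category.assoc]
  congr 1
  exact (B'.str.naturality (homOfLE hle).op).symm

include hu in
theorem chart_over_q (U : S.Opens) (hU : IsAffineOpen U) (U' : S'.Opens) (hU' : IsAffineOpen U')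
    (hle : U' ≤ q ⁻¹ᵁ U) :
    B'.ι U' hU' ≫ B'.π ≫ q = Spec.map (uMap q B B' u U U' hle) ≫ B.ι U hU ≫ B.π := by
  rw [← Category.assoc, B'.ι_π U' hU', B.ι_π U hU, Category.assoc,
    ← IsAffineOpen.SpecMap_appLE_fromSpec q hU hU' hle, ← Spec.map_comp_assoc,
    ← Spec.map_comp_assoc, str_uMap q B B' u hu U U' hle]

theorem exists_chart (x' : B'.spec) :
    ∃ (U : S.Opens) (hU : IsAffineOpen U) (U' : S'.Opens) (hU' : IsAffineOpen U')
      (_ : U' ≤ q ⁻¹ᵁ U), x' ∈ (B'.ι U' hU').opensRange := by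
  obtain ⟨U, hU, hxU, -⟩ := Opens.isBasis_iff_nbhd.mp (S.isBasis_affineOpens)
    (show q.base (B'.π.base x') ∈ (⊤ : S.Opens) from trivial)
  obtain ⟨U', hU', hxU', hle⟩ := Opens.isBasis_iff_nbhd.mp (S'.isBasis_affineOpens)
    (show B'.π.base x' ∈ q ⁻¹ᵁ U from hxU)
  refine ⟨U, hU, U', hU', hle, ?_⟩
  rw [← B'.π_preimage U' hU']
  exact hxU'

include hu in
theorem over_q (Φ : B'.spec ⟶ B.spec)
    (hΦ : ∀ (U : S.Opens) (hU : IsAffineOpen U) (U' : S'.Opens) (hU' : IsAffineOpen U')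
      (hle : U' ≤ q ⁻¹ᵁ U), B'.ι U' hU' ≫ Φ = Spec.map (uMap q B B' u U U' hle) ≫ B.ι U hU) :
    Φ ≫ B.π = B'.π ≫ q := by
  apply Scheme.hom_ext_of_forall
  intro x'
  obtain ⟨U, hU, U', hU', hle, hx'⟩ := exists_chart q B' x'
  refine ⟨_, hx', ?_⟩
  rw [← cancel_epi (B'.ι U' hU').isoOpensRange.hom]
  simp only [← Category.assoc, Scheme.Hom.isoOpensRange_hom_ι]
  rw [hΦ U hU U' hU' hle, Category.assoc, Category.assoc, chart_over_q q B B' u hu U hU U' hU' hle]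

section res

variable (A : RelSpec.QCAlg S)

theorem ι_res_basic (U : S.Opens) (hU : IsAffineOpen U) (a : Γ(S, U)) (W : S.Opens)
    (hW : W = S.basicOpen a) (hW' : IsAffineOpen W) (hWU : W ≤ U) :
    Spec.map (A.presheaf.map (homOfLE hWU).op) ≫ A.ι U hU = A.ι W hW' := by
  subst hW
  exact A.ι_res (U := ⟨U, hU⟩) (V := ⟨S.basicOpen a, hU.basicOpen a⟩) (homOfLE ⟨a, rfl⟩)

/-- The charts of a relative spectrum are compatible with all inclusions of affine opens. -/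
theorem ι_res_general {U V : S.Opens} (hU : IsAffineOpen U) (hV : IsAffineOpen V) (hVU : V ≤ U) :
    Spec.map (A.presheaf.map (homOfLE hVU).op) ≫ A.ι U hU = A.ι V hV := by
  apply Scheme.hom_ext_of_forall
  intro w
  have hy : A.π.base ((A.ι V hV).base w) ∈ V := by
    change _ ∈ A.π ⁻¹ᵁ V
    rw [A.π_preimage V hV]
    exact ⟨w, rfl⟩
  obtain ⟨a, b, hab, hya⟩ := exists_basicOpen_le_affine_inter hU hV _ ⟨hVU hy, hy⟩
  have hWV : S.basicOpen b ≤ V := S.basicOpen_le b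
  have hWU : S.basicOpen b ≤ U := hWV.trans hVU
  have hW' : IsAffineOpen (S.basicOpen b) := hV.basicOpen b
  let N := (A.ι V hV) ⁻¹ᵁ (A.ι (S.basicOpen b) hW').opensRange
  have hwN : w ∈ N := by
    change (A.ι V hV).base w ∈ (A.ι (S.basicOpen b) hW').opensRange
    rw [← A.π_preimage _ hW']
    exact hab ▸ hya
  refine ⟨N, hwN, ?_⟩
  let ψ : (N : Scheme.{u}) ⟶ Spec (A.presheaf.obj (op (S.basicOpen b))) :=
    IsOpenImmersion.lift (A.ι (S.basicOpen b) hW') (N.ι ≫ A.ι V hV) (by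
      rintro _ ⟨z, rfl⟩
      exact z.2)
  have hψ : ψ ≫ A.ι (S.basicOpen b) hW' = N.ι ≫ A.ι V hV := IsOpenImmersion.lift_fac _ _ _
  have h1 : Spec.map (A.presheaf.map (homOfLE hWV).op) ≫ A.ι V hV = A.ι (S.basicOpen b) hW' :=
    ι_res_basic A V hV b _ rfl hW' hWV
  have h2 : Spec.map (A.presheaf.map (homOfLE hWU).op) ≫ A.ι U hU = A.ι (S.basicOpen b) hW' :=
    ι_res_basic A U hU a _ hab.symm hW' hWU
  have h3 : ψ ≫ Spec.map (A.presheaf.map (homOfLE hWV).op) = N.ι := by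
    rw [← cancel_mono (A.ι V hV), Category.assoc, h1, hψ]
  have h4 : A.presheaf.map (homOfLE hVU).op ≫ A.presheaf.map (homOfLE hWV).op =
      A.presheaf.map (homOfLE hWU).op := by
    rw [← Functor.map_comp]
    rfl
  rw [← h3, Category.assoc, ← Spec.map_comp_assoc, h4, h2, Category.assoc, h1]

end res

section glue

theorem uMap_res {U W : S.Opens} {U' W' : S'.Opens} (hle : U' ≤ q ⁻¹ᵁ U) (hle' : W' ≤ q ⁻¹ᵁ W)
    (hWU : W ≤ U) (hWU' : W' ≤ U') :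
    uMap q B B' u U U' hle ≫ B'.presheaf.map (homOfLE hWU').op =
      B.presheaf.map (homOfLE hWU).op ≫ uMap q B B' u W W' hle' := by
  unfold uMap
  have h1 := u.naturality (homOfLE hWU).op
  rw [← Category.assoc, h1, Category.assoc, Category.assoc, ← Functor.map_comp]
  congr 1
  change _ = B'.presheaf.map _ ≫ B'.presheaf.map _
  rw [← Functor.map_comp]
  rfl

/-- the chartwise morphisms -/
noncomputable def vChart (U : S.Opens) (hU : IsAffineOpen U) (U' : S'.Opens) (hle : U' ≤ q ⁻¹ᵁ U) :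
    Spec (B'.presheaf.obj (op U')) ⟶ B.spec :=
  Spec.map (uMap q B B' u U U' hle) ≫ B.ι U hU

theorem vChart_res {U W : S.Opens} {U' W' : S'.Opens} (hU : IsAffineOpen U) (hW : IsAffineOpen W)
    (hle : U' ≤ q ⁻¹ᵁ U) (hle' : W' ≤ q ⁻¹ᵁ W) (hWU : W ≤ U) (hWU' : W' ≤ U') :
    Spec.map (B'.presheaf.map (homOfLE hWU').op) ≫ vChart q B B' u U hU U' hle =
      vChart q B B' u W hW W' hle' := by
  unfold vChart
  rw [← Spec.map_comp_assoc, uMap_res q B B' u hle hle' hWU hWU', Spec.map_comp_assoc,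
    ι_res_general B hU hW hWU]

/-- index type of chart pairs -/
structure Idx where
  U : S.Opens
  hU : IsAffineOpen U
  U' : S'.Opens
  hU' : IsAffineOpen U'
  hle : U' ≤ q ⁻¹ᵁ U

/-- The cover of `Spec(B')` by the charts over affine opens of `S'` mapping into affine opens. -/
noncomputable def chartCover : B'.spec.OpenCover where
  I₀ := Idx q
  X j := Spec (B'.presheaf.obj (op j.U'))
  f j := B'.ι j.U' j.hU'
  mem₀ := by
    rw [Scheme.presieve₀_mem_precoverage_iff]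
    refine ⟨fun x => ?_, fun j => inferInstance⟩
    obtain ⟨U, hU, U', hU', hle, hx⟩ := exists_chart q B' x
    exact ⟨⟨U, hU, U', hU', hle⟩, hx⟩

theorem vChart_compat (j₁ j₂ : Idx q) :
    pullback.fst (B'.ι j₁.U' j₁.hU') (B'.ι j₂.U' j₂.hU') ≫ vChart q B B' u j₁.U j₁.hU j₁.U' j₁.hle =
      pullback.snd (B'.ι j₁.U' j₁.hU') (B'.ι j₂.U' j₂.hU') ≫
        vChart q B B' u j₂.U j₂.hU j₂.U' j₂.hle := by
  apply Scheme.hom_ext_of_forall
  intro z
  set x' : B'.spec := (pullback.fst (B'.ι j₁.U' j₁.hU') (B'.ι j₂.U' j₂.hU') ≫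
    B'.ι j₁.U' j₁.hU').base z with hx'
  have hx1 : B'.π.base x' ∈ j₁.U' := by
    change x' ∈ B'.π ⁻¹ᵁ j₁.U'
    rw [B'.π_preimage j₁.U' j₁.hU']
    exact ⟨_, rfl⟩
  have hx2 : B'.π.base x' ∈ j₂.U' := by
    change x' ∈ B'.π ⁻¹ᵁ j₂.U'
    rw [B'.π_preimage j₂.U' j₂.hU', hx', pullback.condition]
    exact ⟨_, rfl⟩
  obtain ⟨W, hW, hyW, hWUU⟩ := Opens.isBasis_iff_nbhd.mp (S.isBasis_affineOpens)
    (show q.base (B'.π.base x') ∈ j₁.U ⊓ j₂.U from ⟨j₁.hle hx1, j₂.hle hx2⟩)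
  obtain ⟨W', hW', hyW', hWUU'⟩ := Opens.isBasis_iff_nbhd.mp (S'.isBasis_affineOpens)
    (show B'.π.base x' ∈ (j₁.U' ⊓ j₂.U') ⊓ q ⁻¹ᵁ W from ⟨⟨hx1, hx2⟩, hyW⟩)
  have hW1 : W ≤ j₁.U := hWUU.trans inf_le_left
  have hW2 : W ≤ j₂.U := hWUU.trans inf_le_right
  have hW1' : W' ≤ j₁.U' := hWUU'.trans (inf_le_left.trans inf_le_left)
  have hW2' : W' ≤ j₂.U' := hWUU'.trans (inf_le_left.trans inf_le_right)
  have hle' : W' ≤ q ⁻¹ᵁ W := hWUU'.trans inf_le_right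
  let Z' := (pullback.fst (B'.ι j₁.U' j₁.hU') (B'.ι j₂.U' j₂.hU') ≫ B'.ι j₁.U' j₁.hU') ⁻¹ᵁ
    (B'.ι W' hW').opensRange
  have hzZ' : z ∈ Z' := by
    change x' ∈ (B'.ι W' hW').opensRange
    rw [← B'.π_preimage W' hW']
    exact hyW'
  refine ⟨Z', hzZ', ?_⟩
  let ψ : (Z' : Scheme.{u}) ⟶ Spec (B'.presheaf.obj (op W')) :=
    IsOpenImmersion.lift (B'.ι W' hW')
      (Z'.ι ≫ pullback.fst (B'.ι j₁.U' j₁.hU') (B'.ι j₂.U' j₂.hU') ≫ B'.ι j₁.U' j₁.hU') (by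
        rintro _ ⟨y, rfl⟩
        exact y.2)
  have hψ : ψ ≫ B'.ι W' hW' =
      Z'.ι ≫ pullback.fst (B'.ι j₁.U' j₁.hU') (B'.ι j₂.U' j₂.hU') ≫ B'.ι j₁.U' j₁.hU' :=
    IsOpenImmersion.lift_fac _ _ _
  have h1 : ψ ≫ Spec.map (B'.presheaf.map (homOfLE hW1').op) =
      Z'.ι ≫ pullback.fst (B'.ι j₁.U' j₁.hU') (B'.ι j₂.U' j₂.hU') := by
    rw [← cancel_mono (B'.ι j₁.U' j₁.hU'), Category.assoc, ι_res_general B' j₁.hU' hW' hW1', hψ,
      Category.assoc]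
  have h2 : ψ ≫ Spec.map (B'.presheaf.map (homOfLE hW2').op) =
      Z'.ι ≫ pullback.snd (B'.ι j₁.U' j₁.hU') (B'.ι j₂.U' j₂.hU') := by
    rw [← cancel_mono (B'.ι j₂.U' j₂.hU'), Category.assoc, ι_res_general B' j₂.hU' hW' hW2', hψ,
      Category.assoc, pullback.condition]
  rw [← Category.assoc, ← h1, ← Category.assoc Z'.ι, ← h2, Category.assoc, Category.assoc,
    vChart_res q B B' u j₁.hU hW j₁.hle hle' hW1 hW1',
    vChart_res q B B' u j₂.hU hW j₂.hle hle' hW2 hW2']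

/-- The glued morphism `Spec(B') ⟶ Spec(B)`. -/
noncomputable def glued : B'.spec ⟶ B.spec :=
  (chartCover q B').glueMorphisms (fun j => vChart q B B' u j.U j.hU j.U' j.hle)
    (fun j₁ j₂ => vChart_compat q B B' u j₁ j₂)

theorem ι_glued (U : S.Opens) (hU : IsAffineOpen U) (U' : S'.Opens) (hU' : IsAffineOpen U')
    (hle : U' ≤ q ⁻¹ᵁ U) :
    B'.ι U' hU' ≫ glued q B B' u = Spec.map (uMap q B B' u U U' hle) ≫ B.ι U hU :=
  (chartCover q B').ι_glueMorphisms (fun j => vChart q B B' u j.U j.hU j.U' j.hle)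
    (fun j₁ j₂ => vChart_compat q B B' u j₁ j₂) ⟨U, hU, U', hU', hle⟩

theorem glued_unique (v : B'.spec ⟶ B.spec)
    (hv : ∀ (U : S.Opens) (hU : IsAffineOpen U) (U' : S'.Opens) (hU' : IsAffineOpen U')
      (hle : U' ≤ q ⁻¹ᵁ U), B'.ι U' hU' ≫ v = Spec.map (uMap q B B' u U U' hle) ≫ B.ι U hU) :
    v = glued q B B' u := by
  apply (chartCover q B').hom_ext
  intro j
  change B'.ι j.U' j.hU' ≫ v = B'.ι j.U' j.hU' ≫ glued q B B' u
  rw [hv j.U j.hU j.U' j.hU' j.hle, ι_glued q B B' u j.U j.hU j.U' j.hU' j.hle]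

end glue

end Groth.Agent.Helper12.RelSpecMap
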