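import Mathlib
import Groth.Prelude.Def_RelSpec2
import Groth.Agent.Lib.Helper12.RelSpecMap

set_option autoImplicit false
universe u
open CategoryTheory CategoryTheory.Limits AlgebraicGeometry Opposite TopologicalSpace
open scoped HomogeneousIdeal

namespace Groth.Agent.Helper12.RelConeCI

open Groth.Agent.Helper12.RelConeBasic Groth.Agent.Helper12.RelSpecMap

theorem map_mem_irrelevant {A B σ τ : Type*} [CommRing A] [SetLike σ A] [AddSubgroupClass σ A]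
    [CommRing B] [SetLike τ B] [AddSubgroupClass τ B] {𝒜 : ℕ → σ} {ℬ : ℕ → τ}
    [GradedRing 𝒜] [GradedRing ℬ] (ψ : 𝒜 →+*ᵍ ℬ) {f : A} (hf : f ∈ 𝒜₊) : ψ f ∈ ℬ₊ := by
  rw [HomogeneousIdeal.mem_irrelevant_iff, GradedRing.proj_apply] at hf ⊢
  rw [← GradedRingHom.map_directSumDecompose, hf, map_zero]

/-- If the morphism induced by `ψ` is defined on all of `Proj ℬ`, every prime of `B` not containing
the irrelevant ideal misses the image of some element of the irrelevant ideal of `A`. -/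
theorem exists_notMem_of_domOpen_eq_top {A B σ τ : Type u} [CommRing A] [SetLike σ A]
    [AddSubgroupClass σ A] [CommRing B] [SetLike τ B] [AddSubgroupClass τ B] {𝒜 : ℕ → σ} {ℬ : ℕ → τ}
    [GradedRing 𝒜] [GradedRing ℬ] (ψ : 𝒜 →+*ᵍ ℬ) (hdom : RelCone.domOpen ψ = ⊤)
    (w : Ideal B) [hw : w.IsPrime] (hirr : ¬ (ℬ₊).toIdeal ≤ w) :
    ∃ f ∈ (𝒜₊).toIdeal, ψ f ∉ w := by
  classical
  let 𝔭 : HomogeneousIdeal ℬ := w.homogeneousCore ℬ
  have h𝔭le : 𝔭.toIdeal ≤ w := Ideal.toIdeal_homogeneousCore_le ℬ w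
  let P : Proj ℬ := ⟨𝔭, hw.homogeneousCore, fun h => hirr (le_trans h h𝔭le)⟩
  have hP : P ∈ RelCone.domOpen ψ := by rw [hdom]; trivial
  obtain ⟨f, hf, hfP⟩ := (RelCone.mem_domOpen ψ P).mp hP
  have hfP' : ψ f ∉ 𝔭.toIdeal := hfP
  -- some homogeneous component works
  have h1 : ∃ i, ψ (DirectSum.decompose 𝒜 f i : A) ∉ 𝔭.toIdeal := by
    by_contra hcon
    push Not at hcon
    apply hfP'
    rw [← DirectSum.sum_support_decompose 𝒜 f, map_sum]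
    exact Ideal.sum_mem _ fun i _ => hcon i
  obtain ⟨i, hi⟩ := h1
  have hi0 : i ≠ 0 := by
    rintro rfl
    apply hi
    have : (DirectSum.decompose 𝒜 f 0 : A) = 0 := by
      have := (HomogeneousIdeal.mem_irrelevant_iff 𝒜 f).mp hf
      rwa [GradedRing.proj_apply] at this
    rw [this, map_zero]
    exact zero_mem _
  refine ⟨(DirectSum.decompose 𝒜 f i : A), ?_, ?_⟩
  · exact HomogeneousIdeal.mem_irrelevant_of_mem 𝒜 (Nat.pos_of_ne_zero hi0) (SetLike.coe_mem _)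
  · intro hmem
    apply hi
    exact Ideal.mem_homogeneousCore_of_homogeneous_of_mem
      ⟨i, Graded.map_mem ψ (SetLike.coe_mem _)⟩ hmem

variable {Y : Scheme.{u}} (𝒮 : RelProj.QCGrAlg Y)

/-- `w ∈ V(𝒮(U)₊)` -/
def InV (U : Y.Opens) (hU : IsAffineOpen U) (w : Spec (𝒮.presheaf.obj (op U))) : Prop :=
  w ∈ PrimeSpectrum.zeroLocus (((𝒮.deg U hU)₊).toIdeal : Set (𝒮.presheaf.obj (op U)))

/-- restriction of points between charts -/
noncomputable def resPt {U W : Y.Opens} (hWU : W ≤ U) (w : Spec (𝒮.presheaf.obj (op W))) :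
    Spec (𝒮.presheaf.obj (op U)) :=
  (Spec.map (𝒮.presheaf.map (homOfLE hWU).op)).base w

theorem ι_resPt {U W : Y.Opens} (hU : IsAffineOpen U) (hW : IsAffineOpen W) (hWU : W ≤ U)
    (w : Spec (𝒮.presheaf.obj (op W))) :
    (𝒮.toQCAlg.ι U hU).base (resPt 𝒮 hWU w) = (𝒮.toQCAlg.ι W hW).base w := by
  unfold resPt
  rw [← Scheme.Hom.comp_apply, ι_res_general 𝒮.toQCAlg hU hW hWU]

theorem inV_resPt_of_inV {U W : Y.Opens} (hU : IsAffineOpen U) (hW : IsAffineOpen W) (hWU : W ≤ U)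
    (w : Spec (𝒮.presheaf.obj (op W))) (h : InV 𝒮 W hW w) : InV 𝒮 U hU (resPt 𝒮 hWU w) := by
  intro f hf
  change (𝒮.presheaf.map (homOfLE hWU).op).hom f ∈ w.asIdeal
  apply h
  exact map_mem_irrelevant (𝒮.res hU hW hWU) hf

theorem inV_of_inV_resPt_basic (U : Y.Opens) (hU : IsAffineOpen U) (r : Γ(Y, U))
    (w : Spec (𝒮.presheaf.obj (op (Y.basicOpen r))))
    (h : InV 𝒮 U hU (resPt 𝒮 (Y.basicOpen_le r) w)) : InV 𝒮 _ (hU.basicOpen r) w := by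
  have h1 := 𝒮.irrelevant_le_map U hU r
  intro f hf
  have h2 : f ∈ ((𝒮.deg U hU)₊).toIdeal.map (𝒮.res hU (hU.basicOpen r) (Y.basicOpen_le r)) :=
    h1 hf
  have h3 : ((𝒮.deg U hU)₊).toIdeal.map (𝒮.res hU (hU.basicOpen r) (Y.basicOpen_le r)) ≤
      w.asIdeal := by
    rw [Ideal.map_le_iff_le_comap]
    intro g hg
    exact h hg
  exact h3 h2

theorem inV_of_inV_resPt_basic' (U : Y.Opens) (hU : IsAffineOpen U) (r : Γ(Y, U)) (W : Y.Opens)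
    (hW : W = Y.basicOpen r) (hW' : IsAffineOpen W) (hWU : W ≤ U)
    (w : Spec (𝒮.presheaf.obj (op W)))
    (h : InV 𝒮 U hU (resPt 𝒮 hWU w)) : InV 𝒮 W hW' w := by
  subst hW
  exact inV_of_inV_resPt_basic 𝒮 U hU r w h

theorem resPt_resPt {U V W : Y.Opens} (hVU : V ≤ U) (hWV : W ≤ V)
    (w : Spec (𝒮.presheaf.obj (op W))) :
    resPt 𝒮 hVU (resPt 𝒮 hWV w) = resPt 𝒮 (hWV.trans hVU) w := by
  unfold resPt
  rw [← Scheme.Hom.comp_apply, ← Spec.map_comp, ← Functor.map_comp]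
  rfl

/-- every point of a chart comes from a smaller chart around it -/
theorem exists_resPt {V W : Y.Opens} (hV : IsAffineOpen V) (hW : IsAffineOpen W) (hWV : W ≤ V)
    (w : Spec (𝒮.presheaf.obj (op V)))
    (hw : 𝒮.toQCAlg.π.base ((𝒮.toQCAlg.ι V hV).base w) ∈ W) :
    ∃ w' : Spec (𝒮.presheaf.obj (op W)), resPt 𝒮 hWV w' = w := by
  have h1 : (𝒮.toQCAlg.ι V hV).base w ∈ (𝒮.toQCAlg.ι W hW).opensRange := by
    rw [← 𝒮.toQCAlg.π_preimage W hW]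
    exact hw
  obtain ⟨w', hw'⟩ := h1
  refine ⟨w', ?_⟩
  apply (𝒮.toQCAlg.ι V hV).isOpenEmbedding.injective
  rw [ι_resPt 𝒮 hV hW hWV]
  exact hw'

theorem inV_iff_resPt {U W : Y.Opens} (hU : IsAffineOpen U) (hW : IsAffineOpen W) (hWU : W ≤ U)
    (w : Spec (𝒮.presheaf.obj (op W))) : InV 𝒮 U hU (resPt 𝒮 hWU w) ↔ InV 𝒮 W hW w := by
  refine ⟨fun h => ?_, inV_resPt_of_inV 𝒮 hU hW hWU w⟩
  have hy : 𝒮.toQCAlg.π.base ((𝒮.toQCAlg.ι W hW).base w) ∈ W := by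
    change _ ∈ 𝒮.toQCAlg.π ⁻¹ᵁ W
    rw [𝒮.toQCAlg.π_preimage W hW]
    exact ⟨w, rfl⟩
  obtain ⟨a, b, hab, hya⟩ := exists_basicOpen_le_affine_inter hU hW _ ⟨hWU hy, hy⟩
  have hW2W : Y.basicOpen b ≤ W := Y.basicOpen_le b
  have hW2 : IsAffineOpen (Y.basicOpen b) := hW.basicOpen b
  obtain ⟨w₄, rfl⟩ := exists_resPt 𝒮 hW hW2 hW2W w (hab ▸ hya)
  rw [resPt_resPt] at h
  have h5 := inV_of_inV_resPt_basic' 𝒮 U hU a _ hab.symm hW2 (hW2W.trans hWU) w₄ h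
  exact inV_resPt_of_inV 𝒮 hW hW2 hW2W w₄ h5

/-- Chart independence of membership in the pointed cone. -/
theorem mem_pointedCone_iff (U : Y.Opens) (hU : IsAffineOpen U)
    (w : Spec (𝒮.presheaf.obj (op U))) :
    (𝒮.toQCAlg.ι U hU).base w ∈ RelCone.pointedCone 𝒮 ↔ ¬ InV 𝒮 U hU w := by
  constructor
  · intro h
    obtain ⟨V, w₂, hw₂, hww0⟩ := Opens.mem_iSup.mp h
    have hww : (𝒮.toQCAlg.ι V.1 V.2).base w₂ = (𝒮.toQCAlg.ι U hU).base w := hww0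
    have hy1 : 𝒮.toQCAlg.π.base ((𝒮.toQCAlg.ι U hU).base w) ∈ U := by
      change _ ∈ 𝒮.toQCAlg.π ⁻¹ᵁ U
      rw [𝒮.toQCAlg.π_preimage U hU]
      exact ⟨w, rfl⟩
    have hy2 : 𝒮.toQCAlg.π.base ((𝒮.toQCAlg.ι U hU).base w) ∈ V.1 := by
      rw [← hww]
      change _ ∈ 𝒮.toQCAlg.π ⁻¹ᵁ V.1
      rw [𝒮.toQCAlg.π_preimage V.1 V.2]
      exact ⟨w₂, rfl⟩
    obtain ⟨W, hW, hyW, hWUV⟩ := Opens.isBasis_iff_nbhd.mp (Y.isBasis_affineOpens)
      (show _ ∈ U ⊓ V.1 from ⟨hy1, hy2⟩)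
    have hWU : W ≤ U := hWUV.trans inf_le_left
    have hWV : W ≤ V.1 := hWUV.trans inf_le_right
    obtain ⟨w₃, rfl⟩ := exists_resPt 𝒮 hU hW hWU w hyW
    have hww2 : (𝒮.toQCAlg.ι V.1 V.2).base w₂ = (𝒮.toQCAlg.ι U hU).base (resPt 𝒮 hWU w₃) := hww
    obtain ⟨w₃', hw₃'⟩ := exists_resPt 𝒮 V.2 hW hWV w₂ (hww2 ▸ hyW)
    have h6 : w₃' = w₃ := by
      apply (𝒮.toQCAlg.ι W hW).isOpenEmbedding.injective
      rw [← ι_resPt 𝒮 V.2 hW hWV, ← ι_resPt 𝒮 hU hW hWU, hw₃']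
      exact hww2
    subst h6
    rw [inV_iff_resPt 𝒮 hU hW hWU]
    rw [← hw₃'] at hw₂
    intro h7
    exact hw₂ ((inV_iff_resPt 𝒮 V.2 hW hWV w₃').mpr h7)
  · intro h
    exact Opens.mem_iSup.mpr ⟨⟨U, hU⟩, w, h, rfl⟩

end Groth.Agent.Helper12.RelConeCI
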