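import Mathlib
import Groth.Agent.Lib.Helper12.RelProjGlue
import Groth.Agent.Lib.Helper12.RelConeBasic
import Groth.Prelude.Def_RelSpec2

set_option autoImplicit false
universe u
open CategoryTheory CategoryTheory.Limits AlgebraicGeometry Opposite TopologicalSpace
open scoped HomogeneousIdeal
open HomogeneousLocalization

namespace Groth.Agent.Helper12.RelConeImm

section Ring

variable {S A σ τ : Type*} [CommRing S] [SetLike σ S] [AddSubgroupClass σ S]
  [CommRing A] [SetLike τ A] [AddSubgroupClass τ A]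
  {𝒮 : ℕ → σ} {𝒜 : ℕ → τ} [GradedRing 𝒮] [GradedRing 𝒜] (ι : 𝒮 →+*ᵍ 𝒜) {z : A} (hz : z ∈ 𝒜 1)
  (hpoly : Function.Bijective (Polynomial.eval₂RingHom (ι : S →+* A) z))

include hz hpoly in
/-- In `A = S[z]`, an element of degree `k` is `∑_{j ≤ k} ι(a_j) z^(k-j)` with `a_j` of degree `j`. -/
theorem exists_decomp {k : ℕ} {b : A} (hb : b ∈ 𝒜 k) :
    ∃ a : ∀ j, 𝒮 j, b = ∑ j ∈ Finset.range (k + 1), ι (a j : S) * z ^ (k - j) := by
  classical
  obtain ⟨P, rfl⟩ := hpoly.2 b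
  refine ⟨fun j => DirectSum.decompose 𝒮 (P.coeff (k - j)) j, ?_⟩
  set N := max (P.natDegree + 1) (k + 1) with hN
  have hzm : ∀ m, z ^ m ∈ 𝒜 m := fun m => by simpa using SetLike.pow_mem_graded m hz
  have h1 : Polynomial.eval₂RingHom (ι : S →+* A) z P =
      ∑ m ∈ Finset.range N, ι (P.coeff m) * z ^ m :=
    Polynomial.eval₂_eq_sum_range' _ (by omega) z
  have h2 := DirectSum.decompose_of_mem_same 𝒜 hb
  rw [← h2]
  conv_lhs => rw [h1]
  rw [DirectSum.decompose_sum, DFinsupp.finset_sum_apply, AddSubmonoidClass.coe_finset_sum]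
  have h3 : ∀ m ∈ Finset.range N, (DirectSum.decompose 𝒜 (ι (P.coeff m) * z ^ m) k : A) =
      if m ≤ k then ι (DirectSum.decompose 𝒮 (P.coeff m) (k - m) : S) * z ^ m else 0 := by
    intro m _
    rw [DirectSum.coe_decompose_mul_of_right_mem 𝒜 k (hzm m),
      GradedRingHom.map_directSumDecompose]
  rw [Finset.sum_congr rfl h3]
  have h4 : Finset.range (k + 1) ⊆ Finset.range N := Finset.range_subset_range.mpr (by omega)
  rw [← Finset.sum_subset h4 (fun m _ hm => by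
    rw [if_neg]; simpa using hm)]
  rw [← Finset.sum_range_reflect]
  refine Finset.sum_congr rfl fun j hj => ?_
  have hj' : j < k + 1 := Finset.mem_range.mp hj
  have e1 : k + 1 - 1 - j = k - j := by omega
  have e2 : k - (k - j) = j := by omega
  rw [e1, if_pos (by omega), e2]

/-- The fraction `ι(x) / z^j` for `x` of degree `j`. -/
noncomputable def frac (j : ℕ) (x : 𝒮 j) : Away 𝒜 z :=
  Away.mk 𝒜 hz j (ι (x : S)) (by simpa using ι.2 x.2)

theorem val_frac (j : ℕ) (x : 𝒮 j) :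
    (frac ι hz j x).val =
      Localization.mk (ι (x : S)) ⟨z ^ j, pow_mem (Submonoid.mem_powers z) j⟩ := rfl

include hpoly in
theorem exists_sum_frac (q : Away 𝒜 z) :
    ∃ (k : ℕ) (a : ∀ j, 𝒮 j), q = ∑ j ∈ Finset.range (k + 1), frac ι hz j (a j) := by
  obtain ⟨k, b, hb, rfl⟩ := Away.mk_surjective 𝒜 hz q
  have hb' : b ∈ 𝒜 k := by simpa using hb
  obtain ⟨a, ha⟩ := exists_decomp ι hz hpoly hb'
  refine ⟨k, a, ?_⟩
  apply val_injective
  have h1 : (∑ j ∈ Finset.range (k + 1), frac ι hz j (a j)).val =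
      ∑ j ∈ Finset.range (k + 1), (frac ι hz j (a j)).val :=
    map_sum (algebraMap (Away 𝒜 z) (Localization.Away z)) _ _
  rw [h1, Away.val_mk]
  conv_lhs => rw [ha]
  rw [Localization.mk_sum]
  refine Finset.sum_congr rfl fun j hj => ?_
  have hj' : j < k + 1 := Finset.mem_range.mp hj
  rw [val_frac, Localization.mk_eq_mk_iff, Localization.r_iff_exists]
  refine ⟨1, ?_⟩
  simp only [OneMemClass.coe_one, one_mul]
  have : z ^ k = z ^ j * z ^ (k - j) := by rw [← pow_add]; congr 1; omega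
  rw [this]
  ring

omit [AddSubgroupClass σ S] [AddSubgroupClass τ A] [GradedRing 𝒮] [GradedRing 𝒜] in
include hpoly in
theorem z_mul_eq_zero {b : A} (h : z * b = 0) : b = 0 := by
  obtain ⟨P, rfl⟩ := hpoly.2 b
  have h1 : Polynomial.eval₂RingHom (ι : S →+* A) z (Polynomial.X * P) = 0 := by
    rw [map_mul]
    simpa using h
  have h2 : Polynomial.X * P = 0 := hpoly.1 (by rw [h1, map_zero])
  have h3 : P = 0 := by
    ext n
    have := congrArg (fun Q => Polynomial.coeff Q (n + 1)) h2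
    simpa [Polynomial.coeff_X_mul] using this
  rw [h3, map_zero]

section Theta

variable (θ : Away 𝒜 z →+* S)
  (hθ : ∀ (q : Away 𝒜 z) (k : ℕ) (x : S), x ∈ 𝒮 k →
    q.val = Localization.mk (ι x) ⟨z ^ k, pow_mem (Submonoid.mem_powers z) k⟩ → θ q = x)

include hθ in
theorem θ_frac (j : ℕ) (x : 𝒮 j) : θ (frac ι hz j x) = x :=
  hθ _ j x x.2 (val_frac ι hz j x)

include hz hθ hpoly in
theorem θ_bijective : Function.Bijective θ := by
  classical
  constructor
  · rw [injective_iff_map_eq_zero]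
    intro q hq
    obtain ⟨k, a, rfl⟩ := exists_sum_frac ι hz hpoly q
    rw [map_sum] at hq
    simp only [θ_frac ι hz θ hθ] at hq
    have ha : ∀ j ∈ Finset.range (k + 1), a j = 0 := by
      intro j hj
      have h1 := congrArg (fun x => DirectSum.decompose 𝒮 x j) hq
      simp only [DirectSum.decompose_sum, DirectSum.decompose_coe, DirectSum.decompose_zero] at h1
      have h2 : (∑ i ∈ Finset.range (k + 1), DirectSum.of (fun i => 𝒮 i) i (a i)) j = a j := by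
        rw [DFinsupp.finset_sum_apply, Finset.sum_eq_single j]
        · exact DirectSum.of_eq_same (β := fun i => 𝒮 i) j (a j)
        · intro i _ hij
          exact DirectSum.of_eq_of_ne (β := fun i => 𝒮 i) i j (a i) hij.symm
        · intro hj'
          exact absurd hj hj'
      rw [← h2, h1]
      rfl
    refine Finset.sum_eq_zero fun j hj => ?_
    rw [ha j hj]
    apply val_injective
    rw [val_frac, val_zero]
    simp [Localization.mk_zero]
  · intro x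
    refine ⟨∑ i ∈ (DirectSum.decompose 𝒮 x).support, frac ι hz i (DirectSum.decompose 𝒮 x i), ?_⟩
    rw [map_sum]
    simp only [θ_frac ι hz θ hθ]
    exact DirectSum.sum_support_decompose 𝒮 x

end Theta

section Natural

variable {S' A' σ' τ' : Type*} [CommRing S'] [SetLike σ' S'] [AddSubgroupClass σ' S']
  [CommRing A'] [SetLike τ' A'] [AddSubgroupClass τ' A']
  {𝒮' : ℕ → σ'} {𝒜' : ℕ → τ'} [GradedRing 𝒮'] [GradedRing 𝒜'] (ι' : 𝒮' →+*ᵍ 𝒜')
  (ρS : 𝒮 →+*ᵍ 𝒮') (ρA : 𝒜 →+*ᵍ 𝒜') (hρ : ∀ x, ρA (ι x) = ι' (ρS x))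
  (θ : Away 𝒜 z →+* S)
  (hθ : ∀ (q : Away 𝒜 z) (k : ℕ) (x : S), x ∈ 𝒮 k →
    q.val = Localization.mk (ι x) ⟨z ^ k, pow_mem (Submonoid.mem_powers z) k⟩ → θ q = x)
  (θ' : Away 𝒜' (ρA z) →+* S')
  (hθ' : ∀ (q : Away 𝒜' (ρA z)) (k : ℕ) (x : S'), x ∈ 𝒮' k →
    q.val = Localization.mk (ι' x) ⟨ρA z ^ k, pow_mem (Submonoid.mem_powers (ρA z)) k⟩ → θ' q = x)

include hz hpoly hρ hθ hθ' in
theorem θ_natural : θ'.comp (Away.map ρA z) = (ρS : S →+* S').comp θ := by
  ext q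
  obtain ⟨k, a, rfl⟩ := exists_sum_frac ι hz hpoly q
  simp only [RingHom.comp_apply, map_sum]
  refine Finset.sum_congr rfl fun j _ => ?_
  rw [θ_frac ι hz θ hθ, frac, Away.map_mk]
  refine hθ' _ j (ρS (a j : S)) (ρS.2 (a j).2) ?_
  rw [Away.val_mk]
  congr 1
  exact hρ _

end Natural

end Ring

section Compat

variable {S A S' A' : Type u} {σ τ σ' τ' : Type u} [CommRing S] [SetLike σ S] [AddSubgroupClass σ S]
  [CommRing A] [SetLike τ A] [AddSubgroupClass τ A]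
  {𝒮 : ℕ → σ} {𝒜 : ℕ → τ} [GradedRing 𝒮] [GradedRing 𝒜] (ι : 𝒮 →+*ᵍ 𝒜) {z : A} (hz : z ∈ 𝒜 1)
  (hpoly : Function.Bijective (Polynomial.eval₂RingHom (ι : S →+* A) z))
  [CommRing S'] [SetLike σ' S'] [AddSubgroupClass σ' S']
  [CommRing A'] [SetLike τ' A'] [AddSubgroupClass τ' A']
  {𝒮' : ℕ → σ'} {𝒜' : ℕ → τ'} [GradedRing 𝒮'] [GradedRing 𝒜'] (ι' : 𝒮' →+*ᵍ 𝒜')
  (ρS : 𝒮 →+*ᵍ 𝒮') (ρA : 𝒜 →+*ᵍ 𝒜') (hρ : ∀ x, ρA (ι x) = ι' (ρS x))
  (hirr : 𝒜'₊ ≤ 𝒜₊.map ρA)
  (θ : Away 𝒜 z →+* S)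
  (hθ : ∀ (q : Away 𝒜 z) (k : ℕ) (x : S), x ∈ 𝒮 k →
    q.val = Localization.mk (ι x) ⟨z ^ k, pow_mem (Submonoid.mem_powers z) k⟩ → θ q = x)

include hpoly hρ hθ in
/-- Compatibility of the chart morphisms `Spec S ⟶ D₊(z) ⊆ Proj S[z]` with a change of rings. -/
theorem chart_compat {z' : A'} (hzz' : ρA z = z') (hz' : z' ∈ 𝒜' 1) (θ' : Away 𝒜' z' →+* S')
    (hθ' : ∀ (q : Away 𝒜' z') (k : ℕ) (x : S'), x ∈ 𝒮' k →
      q.val = Localization.mk (ι' x) ⟨z' ^ k, pow_mem (Submonoid.mem_powers z') k⟩ → θ' q = x) :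
    Spec.map (CommRingCat.ofHom (ρS : S →+* S')) ≫ Spec.map (CommRingCat.ofHom θ) ≫
        Proj.awayι 𝒜 z hz one_pos =
      Spec.map (CommRingCat.ofHom θ') ≫ Proj.awayι 𝒜' z' hz' one_pos ≫ Proj.map ρA hirr := by
  subst hzz'
  rw [Proj.awayι_comp_map ρA hirr one_pos z hz, ← Spec.map_comp_assoc, ← Spec.map_comp_assoc,
    ← CommRingCat.ofHom_comp, ← CommRingCat.ofHom_comp,
    θ_natural ι hz hpoly ι' ρS ρA hρ θ hθ θ' hθ']

end Compat

section Ker

theorem ker_specMap_eq_bot {R S : CommRingCat.{u}} (φ : R ⟶ S) (hφ : Function.Injective φ.hom) :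
    (Spec.map φ).ker = ⊥ := by
  apply Scheme.IdealSheafData.ext_of_isAffine
  rw [Scheme.Hom.ker_apply]
  simp only [Scheme.IdealSheafData.ideal_bot, Pi.bot_apply]
  rw [← RingHom.injective_iff_ker_eq_bot]
  have h1 : (Spec.map φ).appTop = (Scheme.ΓSpecIso R).hom ≫ φ ≫ (Scheme.ΓSpecIso S).inv := by
    rw [Scheme.ΓSpecIso_inv_naturality, Iso.hom_inv_id_assoc]
  change Function.Injective (Spec.map φ).appTop.hom
  rw [h1]
  simp only [CommRingCat.hom_comp, RingHom.coe_comp]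
  exact ((ConcreteCategory.bijective_of_isIso (Scheme.ΓSpecIso S).inv).1.comp hφ).comp
    (ConcreteCategory.bijective_of_isIso (Scheme.ΓSpecIso R).hom).1

theorem ker_eq_bot_of_range_eq_basicOpen {X : Scheme.{u}} {R : CommRingCat.{u}} (j : X ⟶ Spec R)
    [IsOpenImmersion j] (g : R) (hg : ∀ b : R, g * b = 0 → b = 0)
    (hr : Set.range j.base = (PrimeSpectrum.basicOpen g : Set (PrimeSpectrum R))) : j.ker = ⊥ := by
  let φ : R ⟶ CommRingCat.of (Localization.Away g) :=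
    CommRingCat.ofHom (algebraMap R (Localization.Away g))
  have hφ : Function.Injective φ.hom := by
    apply IsLocalization.injective (Localization.Away g) (M := Submonoid.powers g)
    have key : ∀ (n : ℕ) (b : R), b * g ^ n = 0 → b = 0 := by
      intro n
      induction n with
      | zero => intro b hb; simpa using hb
      | succ n ih =>
        intro b hb
        apply ih
        apply hg
        rw [← hb, pow_succ]
        ring
    intro x hx
    obtain ⟨n, rfl⟩ := hx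
    rw [mem_nonZeroDivisors_iff_right]
    intro b hb
    exact key n b hb
  have h1 := ker_specMap_eq_bot φ hφ
  have hrange : Set.range j.base = Set.range (Spec.map φ).base := by
    rw [hr]
    exact (PrimeSpectrum.localization_away_comap_range (Localization.Away g) g).symm
  rw [← IsOpenImmersion.isoOfRangeEq_hom_fac j (Spec.map φ) hrange, Scheme.Hom.ker_comp_of_isIso, h1]

theorem pow_mul_eq_zero_of_reg {A : Type*} [CommRing A] {z : A} (hreg : ∀ b : A, z * b = 0 → b = 0)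
    (n : ℕ) (b : A) (h : z ^ n * b = 0) : b = 0 := by
  induction n with
  | zero => simpa using h
  | succ n ih =>
    apply ih
    apply hreg
    rw [← h, pow_succ]
    ring

theorem isLocalizationElem_mul_eq_zero {A τ : Type*} [CommRing A] [SetLike τ A] [AddSubgroupClass τ A]
    {𝒜 : ℕ → τ} [GradedRing 𝒜] {f z : A} {d : ℕ} (hf : f ∈ 𝒜 d) (hz : z ∈ 𝒜 1)
    (hreg : ∀ b : A, z * b = 0 → b = 0) (q : Away 𝒜 f)
    (h : Away.isLocalizationElem hf hz * q = 0) : q = 0 := by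
  obtain ⟨k, b, hb, rfl⟩ := Away.mk_surjective 𝒜 hf q
  have h1 := congrArg HomogeneousLocalization.val h
  rw [val_mul, Away.val_mk, Away.val_mk, val_zero, Localization.mk_mul, Localization.mk_eq_mk',
    IsLocalization.mk'_eq_zero_iff] at h1
  obtain ⟨⟨_, N, rfl⟩, hN⟩ := h1
  have hN' : z ^ d * (f ^ N * b) = 0 := by
    rw [← hN]
    ring
  have h2 := pow_mul_eq_zero_of_reg hreg d _ hN'
  apply val_injective
  rw [Away.val_mk, val_zero, Localization.mk_eq_mk', IsLocalization.mk'_eq_zero_iff]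
  exact ⟨⟨f ^ N, N, rfl⟩, h2⟩

theorem ideal_eq_bot_of_pullback {X Y V : Scheme.{u}} (i : X ⟶ Y) [QuasiCompact i] (a : V ⟶ Y)
    [IsOpenImmersion a] [IsAffine V] (hj : (pullback.fst a i).ker = ⊥) :
    i.ker.ideal ⟨a ''ᵁ ⊤, (isAffineOpen_top V).image_of_isOpenImmersion a⟩ = ⊥ := by
  have hpb : IsPullback (pullback.fst a i) (pullback.snd a i) a i := IsPullback.of_hasPullback _ _
  have key := Scheme.ker_ideal_of_isPullback_of_isOpenImmersion i
    (pullback.fst a i) (pullback.snd a i) a hpb ⟨⊤, isAffineOpen_top _⟩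
  rw [hj] at key
  simp only [Scheme.IdealSheafData.ideal_bot, Pi.bot_apply] at key
  rw [eq_bot_iff]
  intro x hx
  have hsurj : Function.Surjective (a.appIso ⊤).inv.hom :=
    (ConcreteCategory.bijective_of_isIso (a.appIso ⊤).inv).2
  obtain ⟨y, rfl⟩ := hsurj x
  have hy : y ∈ (⊥ : Ideal _) := by
    rw [key]
    exact hx
  rw [Ideal.mem_bot] at hy
  rw [hy, map_zero]
  exact zero_mem _

end Ker

section Rel

variable {Y PC : Scheme.{u}} (𝒮 Sh : RelProj.QCGrAlg Y)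
    (ι : 𝒮.toQCAlg ⟶ Sh.toQCAlg) (hι : RelProj.IsGradedHom ι) (z : Sh.presheaf.obj (op ⊤))
    (hz : ∀ (U : Y.Opens) (hU : IsAffineOpen U), RelCone.restrictTop Sh z U ∈ Sh.deg U hU 1)
    (hpoly : ∀ (U : Y.Opens) (_ : IsAffineOpen U),
      Function.Bijective (Polynomial.eval₂RingHom (ι.hom.app (op U)).hom (RelCone.restrictTop Sh z U)))
    (pC : PC ⟶ Y)
    (chartC : ∀ (U : Y.Opens) (hU : IsAffineOpen U),
      (((pC ⁻¹ᵁ U : PC.Opens) : Scheme.{u}) ≅ Proj (Sh.deg U hU)))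
    (hPC : RelProj.IsRelProj Sh pC chartC)
    (θ : ∀ (U : Y.Opens) (hU : IsAffineOpen U),
      CommRingCat.of (Away (Sh.deg U hU) (RelCone.restrictTop Sh z U)) ⟶ 𝒮.presheaf.obj (op U))
    (hθ : ∀ (U : Y.Opens) (hU : IsAffineOpen U)
      (q : Away (Sh.deg U hU) (RelCone.restrictTop Sh z U))
      (k : ℕ) (x : 𝒮.presheaf.obj (op U)), x ∈ 𝒮.deg U hU k →
        q.val = Localization.mk ((ι.hom.app (op U)).hom x)
          ⟨RelCone.restrictTop Sh z U ^ k,
            pow_mem (Submonoid.mem_powers (RelCone.restrictTop Sh z U)) k⟩ →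
        (θ U hU).hom q = x)

/-- The chart morphism `Spec 𝒮(U) ⟶ D₊(z) ⊆ Proj 𝒮[z](U) ⟶ Ĉ`. -/
noncomputable def t (U : Y.Opens) (hU : IsAffineOpen U) : Spec (𝒮.presheaf.obj (op U)) ⟶ PC :=
  Spec.map (θ U hU) ≫ Proj.awayι (Sh.deg U hU) (RelCone.restrictTop Sh z U) (hz U hU) one_pos ≫
    RelProj.emb pC chartC U hU

omit hPC in
theorem restrictTop_res {U V : Y.Opens} (hVU : V ≤ U) :
    (Sh.presheaf.map (homOfLE hVU).op).hom (RelCone.restrictTop Sh z U) =
      RelCone.restrictTop Sh z V := by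
  change ((Sh.presheaf.map (homOfLE le_top).op) ≫ (Sh.presheaf.map (homOfLE hVU).op)).hom z = _
  rw [← Functor.map_comp]
  rfl

include hι hpoly hPC hθ in
theorem t_res (U : Y.Opens) (hU : IsAffineOpen U) (r : Γ(Y, U)) :
    Spec.map (𝒮.presheaf.map (homOfLE (Y.basicOpen_le r)).op) ≫ t 𝒮 Sh z hz pC chartC θ U hU =
      t 𝒮 Sh z hz pC chartC θ (Y.basicOpen r) (hU.basicOpen r) := by
  unfold t
  rw [← RelProj.map_res_emb hPC U hU r]
  have key := chart_compat (RelProj.gradedHomAt ι hι U hU) (hz U hU) (hpoly U hU)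
    (RelProj.gradedHomAt ι hι (Y.basicOpen r) (hU.basicOpen r))
    (𝒮.res hU (hU.basicOpen r) (Y.basicOpen_le r)) (Sh.res hU (hU.basicOpen r) (Y.basicOpen_le r))
    (fun x => by
      have := ι.hom.naturality (homOfLE (Y.basicOpen_le r)).op
      exact (congrArg (fun f => f.hom x) this).symm)
    (Sh.irrelevant_le_map U hU r) (θ U hU).hom (hθ U hU)
    (restrictTop_res Sh z (Y.basicOpen_le r)) (hz _ (hU.basicOpen r))
    (θ _ (hU.basicOpen r)).hom (hθ _ (hU.basicOpen r))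
  have key' := congrArg (fun f => f ≫ RelProj.emb pC chartC U hU) key
  simp only [Category.assoc] at key'
  exact key'

include hι hpoly hPC hθ in
theorem exists_glue : ∃ i : 𝒮.toQCAlg.spec ⟶ PC, ∀ (U : Y.Opens) (hU : IsAffineOpen U),
    𝒮.toQCAlg.ι U hU ≫ i = t 𝒮 Sh z hz pC chartC θ U hU := by
  let c : Cocone 𝒮.toQCAlg.glueData.functor :=
    { pt := PC
      ι :=
        { app := fun U => t 𝒮 Sh z hz pC chartC θ U.1 U.2
          naturality := by
            intro V U i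
            obtain ⟨V, hV⟩ := V
            obtain ⟨U, hU⟩ := U
            obtain ⟨r, hr⟩ := i.le
            change Y.basicOpen r = V at hr
            subst hr
            simp only [Functor.const_obj_obj, Functor.const_obj_map, Category.comp_id]
            exact t_res 𝒮 Sh ι hι z hz hpoly pC chartC hPC θ hθ U hU r } }
  refine ⟨colimit.desc _ c, fun U hU => ?_⟩
  exact colimit.ι_desc c ⟨U, hU⟩

section Props

variable (i : 𝒮.toQCAlg.spec ⟶ PC)
  (hi : ∀ (U : Y.Opens) (hU : IsAffineOpen U),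
    𝒮.toQCAlg.ι U hU ≫ i = t 𝒮 Sh z hz pC chartC θ U hU)

omit hPC in
include hz hι hpoly hθ in
theorem θ_bij (U : Y.Opens) (hU : IsAffineOpen U) : Function.Bijective (θ U hU).hom :=
  θ_bijective (RelProj.gradedHomAt ι hι U hU) (hz U hU) (hpoly U hU) (θ U hU).hom (hθ U hU)

omit hPC in
include hz hι hpoly hθ in
theorem isIso_θ (U : Y.Opens) (hU : IsAffineOpen U) : IsIso (θ U hU) := by
  rw [ConcreteCategory.isIso_iff_bijective]
  exact θ_bij 𝒮 Sh ι hι z hz hpoly θ hθ U hU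

omit hPC hpoly in
include hθ in
theorem θ_str (U : Y.Opens) (hU : IsAffineOpen U) (r : Γ(Y, U)) :
    (θ U hU).hom (fromZeroRingHom (Sh.deg U hU) _ ((Sh.strZero U hU).hom r)) =
      (𝒮.str.app (op U)).hom r := by
  refine hθ U hU _ 0 _ (𝒮.str_mem U hU r) ?_
  have h1 : (ι.hom.app (op U)).hom ((𝒮.str.app (op U)).hom r) = (Sh.str.app (op U)).hom r := by
    have := NatTrans.congr_app ι.comm (op U)
    exact congrArg (fun f => f.hom r) this
  rw [h1]
  change (HomogeneousLocalization.fromZeroRingHom _ _ _).val = _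
  rw [Groth.Agent.Helper12.RelProjBasic.val_fromZero]
  rw [Localization.mk_eq_mk']
  simp only [pow_zero]
  rw [← IsLocalization.mk'_one (M := Submonoid.powers (RelCone.restrictTop Sh z U))
    (Localization.Away (RelCone.restrictTop Sh z U))]
  rfl

include hι hPC hθ hi in
theorem comp_pC : i ≫ pC = 𝒮.toQCAlg.π := by
  apply Groth.Agent.Helper12.RelConeBasic.spec_hom_ext
  intro U hU
  rw [← Category.assoc, hi U hU, 𝒮.toQCAlg.ι_π U hU]
  unfold t RelProj.emb
  have h1 := hPC.chart_over U hU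
  rw [← Iso.eq_inv_comp] at h1
  simp only [Category.assoc]
  rw [← h1, Proj.awayι_toSpecZero_assoc, ← Spec.map_comp_assoc, ← Spec.map_comp_assoc]
  congr 2
  ext r
  exact θ_str 𝒮 Sh ι z θ hθ U hU r

/-- the chart morphism landing in `pC⁻¹(U)` -/
noncomputable def g (U : Y.Opens) (hU : IsAffineOpen U) :
    Spec (𝒮.presheaf.obj (op U)) ⟶ ((pC ⁻¹ᵁ U : PC.Opens) : Scheme.{u}) :=
  Spec.map (θ U hU) ≫ Proj.awayι (Sh.deg U hU) (RelCone.restrictTop Sh z U) (hz U hU) one_pos ≫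
    (chartC U hU).inv

omit hPC in
theorem g_ι (U : Y.Opens) (hU : IsAffineOpen U) :
    g 𝒮 Sh z hz pC chartC θ U hU ≫ (pC ⁻¹ᵁ U).ι = t 𝒮 Sh z hz pC chartC θ U hU := by
  unfold g t RelProj.emb
  simp only [Category.assoc]

include hι hpoly hPC hθ hi in
theorem of_chartwise {P : MorphismProperty Scheme.{u}} [IsZariskiLocalAtTarget P]
    (H : ∀ (U : Y.Opens) (hU : IsAffineOpen U), P (g 𝒮 Sh z hz pC chartC θ U hU)) : P i := by
  refine Groth.Agent.Helper12.RelProjGlue.of_local_squares i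
    (fun U : Y.affineOpens => pC ⁻¹ᵁ U.1)
    (Groth.Agent.Helper12.RelProjBasic.isOpenCover_preimage_affineOpens pC)
    (fun U => Spec (𝒮.presheaf.obj (op U.1))) (fun U => 𝒮.toQCAlg.ι U.1 U.2)
    (fun U => g 𝒮 Sh z hz pC chartC θ U.1 U.2) ?_ ?_ (fun U => H U.1 U.2)
  · intro U
    rw [hi U.1 U.2, g_ι]
  · intro U
    rw [← Scheme.Hom.comp_preimage, comp_pC 𝒮 Sh ι hι z hz pC chartC hPC θ hθ i hi]
    exact 𝒮.toQCAlg.π_preimage U.1 U.2

include hι hpoly hPC hθ hi in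
theorem isOpenImmersion : IsOpenImmersion i := by
  apply of_chartwise 𝒮 Sh ι hι z hz hpoly pC chartC hPC θ hθ i hi (P := @IsOpenImmersion)
  intro U hU
  have := isIso_θ 𝒮 Sh ι hι z hz hpoly θ hθ U hU
  unfold g
  infer_instance

include hι hpoly hPC hθ hi in
theorem isAffineHom : IsAffineHom i := by
  apply of_chartwise 𝒮 Sh ι hι z hz hpoly pC chartC hPC θ hθ i hi (P := @IsAffineHom)
  intro U hU
  have := isIso_θ 𝒮 Sh ι hι z hz hpoly θ hθ U hU
  have h1 : IsAffineHom (Proj.awayι (Sh.deg U hU) (RelCone.restrictTop Sh z U) (hz U hU) one_pos) := by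
    have : IsAffineHom (Proj.awayι (Sh.deg U hU) (RelCone.restrictTop Sh z U) (hz U hU) one_pos ≫
        Proj.toSpecZero (Sh.deg U hU)) := by
      rw [Proj.awayι_toSpecZero]
      infer_instance
    exact IsAffineHom.of_comp _ (Proj.toSpecZero (Sh.deg U hU))
  unfold g
  infer_instance

omit hPC in
include hι hpoly hθ in
theorem range_t (U : Y.Opens) (hU : IsAffineOpen U) :
    Set.range (t 𝒮 Sh z hz pC chartC θ U hU).base =
      (((pC ⁻¹ᵁ U).ι ''ᵁ ((chartC U hU).hom ⁻¹ᵁ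
        Proj.basicOpen (Sh.deg U hU) (RelCone.restrictTop Sh z U)) : PC.Opens) : Set PC) := by
  have hiso := isIso_θ 𝒮 Sh ι hι z hz hpoly θ hθ U hU
  ext x
  constructor
  · rintro ⟨s, rfl⟩
    refine ⟨(g 𝒮 Sh z hz pC chartC θ U hU).base s, ?_, ?_⟩
    · change (chartC U hU).hom.base ((g 𝒮 Sh z hz pC chartC θ U hU).base s) ∈
        Proj.basicOpen (Sh.deg U hU) (RelCone.restrictTop Sh z U)
      rw [← Proj.opensRange_awayι _ _ (hz U hU) one_pos]
      refine ⟨(Spec.map (θ U hU)).base s, ?_⟩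
      change _ = ((g 𝒮 Sh z hz pC chartC θ U hU) ≫ (chartC U hU).hom).base s
      unfold g
      simp only [Category.assoc, Iso.inv_hom_id, Category.comp_id]
      rfl
    · rw [← g_ι]
      rfl
  · rintro ⟨y, hy, rfl⟩
    have hy' : (chartC U hU).hom.base y ∈
        Proj.basicOpen (Sh.deg U hU) (RelCone.restrictTop Sh z U) := hy
    rw [← Proj.opensRange_awayι _ _ (hz U hU) one_pos] at hy'
    obtain ⟨w, hw⟩ := hy'
    have hsurj : Function.Surjective (Spec.map (θ U hU)).base :=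
      (Spec.map (θ U hU)).homeomorph.surjective
    obtain ⟨s, rfl⟩ := hsurj w
    refine ⟨s, ?_⟩
    rw [← g_ι]
    change (pC ⁻¹ᵁ U).ι.base ((g 𝒮 Sh z hz pC chartC θ U hU).base s) = _
    congr 1
    apply (chartC U hU).hom.homeomorph.injective
    change ((g 𝒮 Sh z hz pC chartC θ U hU) ≫ (chartC U hU).hom).base s = _
    unfold g
    simp only [Category.assoc, Iso.inv_hom_id, Category.comp_id]
    exact hw

include hι hPC hθ hi in
theorem range_inter (U : Y.Opens) (hU : IsAffineOpen U) :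
    Set.range i.base ∩ ((pC ⁻¹ᵁ U : PC.Opens) : Set PC) =
      Set.range (t 𝒮 Sh z hz pC chartC θ U hU).base := by
  have hc := comp_pC 𝒮 Sh ι hι z hz pC chartC hPC θ hθ i hi
  ext x
  constructor
  · rintro ⟨⟨c, rfl⟩, hx⟩
    have hx' : pC.base (i.base c) ∈ U := hx
    have h1 : 𝒮.toQCAlg.π.base c ∈ U := by
      rw [← hc]
      exact hx'
    have h2 : c ∈ 𝒮.toQCAlg.π ⁻¹ᵁ U := h1
    rw [𝒮.toQCAlg.π_preimage U hU] at h2
    obtain ⟨s, rfl⟩ := h2
    refine ⟨s, ?_⟩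
    rw [← hi U hU]
    rfl
  · rintro ⟨s, rfl⟩
    rw [← hi U hU]
    refine ⟨⟨(𝒮.toQCAlg.ι U hU).base s, rfl⟩, ?_⟩
    change pC.base (i.base ((𝒮.toQCAlg.ι U hU).base s)) ∈ U
    have h3 : (𝒮.toQCAlg.ι U hU).base s ∈ 𝒮.toQCAlg.π ⁻¹ᵁ U := by
      rw [𝒮.toQCAlg.π_preimage U hU]
      exact ⟨s, rfl⟩
    have h4 : 𝒮.toQCAlg.π.base ((𝒮.toQCAlg.ι U hU).base s) ∈ U := h3
    rw [← hc] at h4
    exact h4

include hι hpoly hPC hθ hi in
theorem mem_range_iff (U : Y.Opens) (hU : IsAffineOpen U)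
    (x' : ((pC ⁻¹ᵁ U : PC.Opens) : Scheme.{u})) :
    (pC ⁻¹ᵁ U).ι.base x' ∈ Set.range i.base ↔
      (chartC U hU).hom.base x' ∈
        Proj.basicOpen (Sh.deg U hU) (RelCone.restrictTop Sh z U) := by
  have h1 := range_inter 𝒮 Sh ι hι z hz pC chartC hPC θ hθ i hi U hU
  rw [range_t 𝒮 Sh ι hι z hz hpoly pC chartC θ hθ U hU] at h1
  have h2 := Set.ext_iff.mp h1 ((pC ⁻¹ᵁ U).ι.base x')
  constructor
  · intro hx
    obtain ⟨y, hy, hyx⟩ := h2.mp ⟨hx, x'.2⟩
    have := (pC ⁻¹ᵁ U).ι.isOpenEmbedding.injective hyx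
    rw [← this]
    exact hy
  · intro hx
    exact (h2.mpr ⟨x', hx, rfl⟩).1

include hι hpoly hPC hθ hi in
theorem range_eq (Xz : PC.Opens)
    (hXz : ∀ (U : Y.Opens) (hU : IsAffineOpen U),
      Xz ⊓ pC ⁻¹ᵁ U = (pC ⁻¹ᵁ U).ι ''ᵁ ((chartC U hU).hom ⁻¹ᵁ
        Proj.basicOpen (Sh.deg U hU) (RelCone.restrictTop Sh z U))) :
    Set.range i.base = (Xz : Set PC) := by
  ext x
  have hx : x ∈ (⨆ U : Y.affineOpens, pC ⁻¹ᵁ U.1) := by
    rw [Groth.Agent.Helper12.RelProjBasic.isOpenCover_preimage_affineOpens pC]; trivial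
  obtain ⟨U, hxU⟩ := Opens.mem_iSup.mp hx
  have h1 := range_inter 𝒮 Sh ι hι z hz pC chartC hPC θ hθ i hi U.1 U.2
  rw [range_t 𝒮 Sh ι hι z hz hpoly pC chartC θ hθ U.1 U.2, ← hXz U.1 U.2] at h1
  have h2 := Set.ext_iff.mp h1 x
  constructor
  · intro hxi
    exact (h2.mp ⟨hxi, hxU⟩).1
  · intro hxz
    exact (h2.mpr ⟨hxz, hxU⟩).1

include hι hpoly hPC hθ hi in
theorem preimage_range (U : Y.Opens) (hU : IsAffineOpen U) {d : ℕ} (hd : 0 < d)
    {f : Sh.presheaf.obj (op U)} (hf : f ∈ Sh.deg U hU d) :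
    (Proj.awayι (Sh.deg U hU) f hf hd ≫ RelProj.emb pC chartC U hU).base ⁻¹' Set.range i.base =
      (PrimeSpectrum.basicOpen (Away.isLocalizationElem hf (hz U hU)) :
        Set (PrimeSpectrum (Away (Sh.deg U hU) f))) := by
  have h1 := range_inter 𝒮 Sh ι hι z hz pC chartC hPC θ hθ i hi U hU
  rw [range_t 𝒮 Sh ι hι z hz hpoly pC chartC θ hθ U hU] at h1
  have h2 := Proj.awayι_preimage_basicOpen (Sh.deg U hU) hf hd (hz U hU) one_pos
  ext w
  have hmem : (Proj.awayι (Sh.deg U hU) f hf hd ≫ RelProj.emb pC chartC U hU).base w ∈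
      ((pC ⁻¹ᵁ U : PC.Opens) : Set PC) := by
    change (pC ⁻¹ᵁ U).ι.base ((chartC U hU).inv.base ((Proj.awayι (Sh.deg U hU) f hf hd).base w)) ∈ _
    exact ((chartC U hU).inv.base ((Proj.awayι (Sh.deg U hU) f hf hd).base w)).2
  have h3 := Set.ext_iff.mp h1 ((Proj.awayι (Sh.deg U hU) f hf hd ≫ RelProj.emb pC chartC U hU).base w)
  have h4 : w ∈ (PrimeSpectrum.basicOpen (Away.isLocalizationElem hf (hz U hU)) :
        Set (PrimeSpectrum (Away (Sh.deg U hU) f))) ↔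
      (Proj.awayι (Sh.deg U hU) f hf hd).base w ∈
        Proj.basicOpen (Sh.deg U hU) (RelCone.restrictTop Sh z U) := by
    rw [← SetLike.mem_coe, ← h2]
    rfl
  refine Iff.trans ?_ h4.symm
  rw [Set.mem_preimage]
  constructor
  · intro hw
    obtain ⟨y, hy, hyw⟩ := (h3.mp ⟨hw, hmem⟩)
    have hyw' : (pC ⁻¹ᵁ U).ι.base y = (pC ⁻¹ᵁ U).ι.base
        ((chartC U hU).inv.base ((Proj.awayι (Sh.deg U hU) f hf hd).base w)) := hyw
    have hy2 := (pC ⁻¹ᵁ U).ι.isOpenEmbedding.injective hyw'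
    have hy' : (chartC U hU).hom.base y ∈
        Proj.basicOpen (Sh.deg U hU) (RelCone.restrictTop Sh z U) := hy
    rw [hy2] at hy'
    change ((chartC U hU).inv ≫ (chartC U hU).hom).base _ ∈ _ at hy'
    rw [Iso.inv_hom_id] at hy'
    exact hy'
  · intro hw
    refine (h3.mpr ⟨(chartC U hU).inv.base ((Proj.awayι (Sh.deg U hU) f hf hd).base w), ?_, rfl⟩).1
    change ((chartC U hU).inv ≫ (chartC U hU).hom).base ((Proj.awayι (Sh.deg U hU) f hf hd).base w) ∈
      Proj.basicOpen (Sh.deg U hU) (RelCone.restrictTop Sh z U)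
    rw [Iso.inv_hom_id]
    exact hw

include hι hpoly hPC hθ hi in
theorem ker_eq_bot : i.ker = ⊥ := by
  have haff := isAffineHom 𝒮 Sh ι hι z hz hpoly pC chartC hPC θ hθ i hi
  have hopen := isOpenImmersion 𝒮 Sh ι hι z hz hpoly pC chartC hPC θ hθ i hi
  let I := Σ (U : Y.affineOpens), Σ (d : ℕ+), Sh.deg U.1 U.2 d
  let a : ∀ s : I, Spec (.of (Away (Sh.deg s.1.1 s.1.2) (s.2.2 : Sh.presheaf.obj (op s.1.1)))) ⟶ PC :=
    fun s => Proj.awayι (Sh.deg s.1.1 s.1.2) s.2.2.1 s.2.2.2 s.2.1.pos ≫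
      RelProj.emb pC chartC s.1.1 s.1.2
  let W : I → PC.affineOpens := fun s =>
    ⟨a s ''ᵁ ⊤, (isAffineOpen_top _).image_of_isOpenImmersion _⟩
  apply Scheme.IdealSheafData.ext_of_iSup_eq_top W
  · rw [eq_top_iff]
    intro x _
    have hx : x ∈ (⨆ U : Y.affineOpens, pC ⁻¹ᵁ U.1) := by
      rw [Groth.Agent.Helper12.RelProjBasic.isOpenCover_preimage_affineOpens pC]; trivial
    obtain ⟨U, hxU⟩ := Opens.mem_iSup.mp hx
    let x' : ((pC ⁻¹ᵁ U.1 : PC.Opens) : Scheme.{u}) := ⟨x, hxU⟩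
    have hy : (chartC U.1 U.2).hom.base x' ∈
        (⨆ s, ((Proj.affineOpenCover (Sh.deg U.1 U.2)).openCover.f s).opensRange) := by
      rw [(Proj.affineOpenCover (Sh.deg U.1 U.2)).openCover.iSup_opensRange]; trivial
    obtain ⟨s, w, hw⟩ := Opens.mem_iSup.mp hy
    refine Opens.mem_iSup.mpr ⟨⟨U, s⟩, w, trivial, ?_⟩
    change (pC ⁻¹ᵁ U.1).ι.base ((chartC U.1 U.2).inv.base
      ((Proj.awayι (Sh.deg U.1 U.2) s.2.1 s.2.2 s.1.pos).base w)) = x
    have hw' : (Proj.awayι (Sh.deg U.1 U.2) s.2.1 s.2.2 s.1.pos).base w =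
      (chartC U.1 U.2).hom.base x' := hw
    rw [hw']
    change (pC ⁻¹ᵁ U.1).ι.base (((chartC U.1 U.2).hom ≫ (chartC U.1 U.2).inv).base x') = x
    rw [Iso.hom_inv_id]
    rfl
  · rintro ⟨U, d, f⟩
    have hQC : QuasiCompact i := inferInstance
    have hj : (pullback.fst (a ⟨U, d, f⟩) i).ker = ⊥ := by
      refine ker_eq_bot_of_range_eq_basicOpen _ (Away.isLocalizationElem f.2 (hz U.1 U.2)) ?_ ?_
      · intro b hb
        exact isLocalizationElem_mul_eq_zero f.2 (hz U.1 U.2)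
          (fun c hc => z_mul_eq_zero (RelProj.gradedHomAt ι hι U.1 U.2) (hpoly U.1 U.2) hc) b hb
      · have h1 := Scheme.Pullback.range_fst (a ⟨U, d, f⟩) i
        refine Eq.trans h1 ?_
        exact preimage_range 𝒮 Sh ι hι z hz hpoly pC chartC hPC θ hθ i hi U.1 U.2 d.pos f.2
    exact ideal_eq_bot_of_pullback i (a ⟨U, d, f⟩) hj

end Props

end Rel

end Groth.Agent.Helper12.RelConeImm
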