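import Mathlib
import Groth.Agent.Lib.Helper12.RelConeImm

set_option autoImplicit false
universe u
open CategoryTheory CategoryTheory.Limits AlgebraicGeometry Opposite TopologicalSpace
open scoped HomogeneousIdeal
open HomogeneousLocalization

namespace Groth.Agent.Helper12.RelConeInfty

section Ring

variable {S A σ τ : Type u} [CommRing S] [SetLike σ S] [AddSubgroupClass σ S]
  [CommRing A] [SetLike τ A] [AddSubgroupClass τ A]
  {𝒮 : ℕ → σ} {𝒜 : ℕ → τ} [GradedRing 𝒮] [GradedRing 𝒜] (ι : 𝒮 →+*ᵍ 𝒜) (z : A)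
  (hpoly : Function.Bijective (Polynomial.eval₂RingHom (ι : S →+* A) z))
  (ψ : 𝒜 →+*ᵍ 𝒮) (hψι : ∀ a : S, ψ (ι a) = a) (hψz : ψ z = 0)

include hψι hψz in
theorem ψ_eval₂ (P : Polynomial S) :
    ψ (Polynomial.eval₂ (ι : S →+* A) z P) = P.coeff 0 := by
  have h1 : (ψ : A →+* S).comp (ι : S →+* A) = RingHom.id S := by
    ext a; exact hψι a
  have h2 := Polynomial.hom_eval₂ P (ι : S →+* A) (ψ : A →+* S) z
  change (ψ : A →+* S) _ = _
  rw [h2, h1]
  change Polynomial.eval₂ (RingHom.id S) (ψ z) P = _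
  rw [hψz, Polynomial.coeff_zero_eq_eval_zero]
  rfl

include hpoly hψι hψz in
theorem sub_mem_span (b : A) : b - ι (ψ b) ∈ Ideal.span {z} := by
  obtain ⟨P, rfl⟩ := hpoly.2 b
  change Polynomial.eval₂ (ι : S →+* A) z P - ι (ψ (Polynomial.eval₂ (ι : S →+* A) z P)) ∈ _
  rw [ψ_eval₂ ι z ψ hψι hψz]
  have h1 : Polynomial.eval₂ (ι : S →+* A) z P - ι (P.coeff 0) =
      z * Polynomial.eval₂ (ι : S →+* A) z P.divX := by
    have h0 := congrArg (Polynomial.eval₂ (ι : S →+* A) z) (Polynomial.X_mul_divX_add P)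
    simp only [Polynomial.eval₂_add, Polynomial.eval₂_mul, Polynomial.eval₂_X,
      Polynomial.eval₂_C] at h0
    have h0' : z * Polynomial.eval₂ (ι : S →+* A) z P.divX + ι (P.coeff 0) =
      Polynomial.eval₂ (ι : S →+* A) z P := h0
    rw [← h0']
    ring
  rw [h1]
  exact Ideal.mul_mem_right _ _ (Ideal.subset_span rfl)

include hpoly hψι hψz in
theorem range_map_eq (hψ : 𝒮₊ ≤ 𝒜₊.map ψ) :
    Set.range (Proj.map ψ hψ).base = ((Proj.basicOpen 𝒜 z : Set (Proj 𝒜)))ᶜ := by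
  ext y
  constructor
  · rintro ⟨x, rfl⟩
    intro h
    apply h
    change ψ z ∈ x.asHomogeneousIdeal
    rw [hψz]; exact zero_mem _
  · intro hy
    have hz : z ∈ y.asHomogeneousIdeal.toIdeal := not_not.mp hy
    have hsub : ∀ b : A, b - ι (ψ b) ∈ y.asHomogeneousIdeal.toIdeal := fun b =>
      (Ideal.span_le.mpr (Set.singleton_subset_iff.mpr hz)) (sub_mem_span ι z hpoly ψ hψι hψz b)
    have hiff : ∀ b : A, ι (ψ b) ∈ y.asHomogeneousIdeal.toIdeal ↔
        b ∈ y.asHomogeneousIdeal.toIdeal := by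
      intro b
      constructor
      · intro h
        have := add_mem (hsub b) h
        rwa [sub_add_cancel] at this
      · intro h
        have := sub_mem h (hsub b)
        rwa [sub_sub_cancel] at this
    have hirr : ¬ HomogeneousIdeal.irrelevant 𝒮 ≤ y.asHomogeneousIdeal.comap ι := by
      intro hle
      apply y.not_irrelevant_le
      intro b hb
      change b ∈ y.asHomogeneousIdeal.toIdeal
      rw [← hiff]
      apply hle
      rw [HomogeneousIdeal.mem_irrelevant_iff, GradedRing.proj_apply,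
        ← GradedRingHom.map_directSumDecompose]
      have : (DirectSum.decompose 𝒜 b 0 : A) = 0 :=
        (HomogeneousIdeal.mem_irrelevant_iff _ _).mp hb
      rw [this, map_zero]
    refine ⟨⟨y.asHomogeneousIdeal.comap ι, y.isPrime.comap ι, hirr⟩, ?_⟩
    apply ProjectiveSpectrum.ext
    apply HomogeneousIdeal.toIdeal_injective
    ext b
    exact hiff b

end Ring

section Vertex

variable {S A σ τ : Type u} [CommRing S] [SetLike σ S] [AddSubgroupClass σ S]
  [CommRing A] [SetLike τ A] [AddSubgroupClass τ A]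
  {𝒮 : ℕ → σ} {𝒜 : ℕ → τ} [GradedRing 𝒮] [GradedRing 𝒜] (ι : 𝒮 →+*ᵍ 𝒜) {z : A} (hz : z ∈ 𝒜 1)
  (hpoly : Function.Bijective (Polynomial.eval₂RingHom (ι : S →+* A) z))
  (θ : Away 𝒜 z →+* S)
  (hθ : ∀ (q : Away 𝒜 z) (k : ℕ) (x : S), x ∈ 𝒮 k →
    q.val = Localization.mk (ι x) ⟨z ^ k, pow_mem (Submonoid.mem_powers z) k⟩ → θ q = x)

include hθ in
/-- Membership of `ι f` in the point of `D₊(z)` attached to a prime `w` of `S`. -/
theorem ι_mem_awayι_iff (w : Spec (CommRingCat.of S)) {k : ℕ} (hk : 0 < k) {f : S} (hf : f ∈ 𝒮 k) :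
    ι f ∈ ((Proj.awayι 𝒜 z hz one_pos).base
      ((Spec.map (CommRingCat.ofHom θ)).base w)).asHomogeneousIdeal ↔ f ∈ w.asIdeal := by
  have h1 := Proj.awayι_preimage_basicOpen 𝒜 hz one_pos (ι.2 hf) hk
  have h2 : (Spec.map (CommRingCat.ofHom θ)).base w ∈
      Proj.awayι 𝒜 z hz one_pos ⁻¹ᵁ Proj.basicOpen 𝒜 (ι f) ↔
      (Spec.map (CommRingCat.ofHom θ)).base w ∈
        (PrimeSpectrum.basicOpen (Away.isLocalizationElem hz (ι.2 hf)) :
          (Spec (CommRingCat.of (Away 𝒜 z))).Opens) :=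
    Iff.of_eq (congrArg (fun O : (Spec (CommRingCat.of (Away 𝒜 z))).Opens =>
      (Spec.map (CommRingCat.ofHom θ)).base w ∈ O) h1)
  have h3 : θ (Away.isLocalizationElem hz (ι.2 hf)) = f := by
    refine hθ _ k f hf ?_
    rw [Away.val_mk]
    congr 1
    exact pow_one _
  rw [← not_iff_not]
  refine Iff.trans ?_ (Iff.trans h2 ?_)
  · rfl
  · change Away.isLocalizationElem hz (ι.2 hf) ∉
      ((Spec.map (CommRingCat.ofHom θ)).base w).asIdeal ↔ _
    have : ((Spec.map (CommRingCat.ofHom θ)).base w).asIdeal = w.asIdeal.comap θ := rfl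
    rw [this, Ideal.mem_comap, h3]

include hz hpoly hθ in
/-- A point of `Proj S[z]` lies outside the domain of definition of the projection to `Proj S` iff it
is the image of a point of `V(S₊) ⊆ Spec S` under `Spec S ≅ D₊(z)`. -/
theorem notMem_domOpen_iff (y : Proj 𝒜) :
    y ∉ RelCone.domOpen ι ↔ ∃ w : Spec (CommRingCat.of S),
      w ∈ PrimeSpectrum.zeroLocus ((𝒮₊).toIdeal : Set S) ∧
        (Proj.awayι 𝒜 z hz one_pos).base ((Spec.map (CommRingCat.ofHom θ)).base w) = y := by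
  classical
  rw [RelCone.mem_domOpen]
  push Not
  constructor
  · intro hy
    -- `z ∉ y`
    have hzy : z ∉ y.asHomogeneousIdeal := by
      intro hzy
      apply y.not_irrelevant_le
      rw [HomogeneousIdeal.irrelevant_le]
      intro k hk b hb
      obtain ⟨a, rfl⟩ := Groth.Agent.Helper12.RelConeImm.exists_decomp ι hz hpoly hb
      refine Ideal.sum_mem _ fun j hj => ?_
      rcases Nat.eq_zero_or_pos j with rfl | hj0
      · apply Ideal.mul_mem_left
        rw [Nat.sub_zero]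
        exact Ideal.pow_mem_of_mem _ hzy k hk
      · apply Ideal.mul_mem_right
        exact hy _ (HomogeneousIdeal.mem_irrelevant_of_mem 𝒮 hj0 (a j).2)
    have hyD : y ∈ Proj.basicOpen 𝒜 z := hzy
    rw [← Proj.opensRange_awayι 𝒜 z hz one_pos] at hyD
    obtain ⟨Q, rfl⟩ := hyD
    have hbij := Groth.Agent.Helper12.RelConeImm.θ_bijective ι hz hpoly θ hθ
    have hiso : IsIso (CommRingCat.ofHom θ) := by
      rw [ConcreteCategory.isIso_iff_bijective]
      exact hbij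
    obtain ⟨w, rfl⟩ := (Spec.map (CommRingCat.ofHom θ)).homeomorph.surjective Q
    refine ⟨w, ?_, rfl⟩
    intro f hf
    have hf' : f ∈ 𝒮₊ := hf
    rw [← DirectSum.sum_support_decompose 𝒮 f]
    refine Ideal.sum_mem _ fun k _ => ?_
    rcases Nat.eq_zero_or_pos k with rfl | hk
    · have : (DirectSum.decompose 𝒮 f 0 : S) = 0 := by
        have := (HomogeneousIdeal.mem_irrelevant_iff 𝒮 f).mp hf'
        rwa [GradedRing.proj_apply] at this
      rw [this]
      exact zero_mem _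
    · refine (ι_mem_awayι_iff ι hz θ hθ w hk (SetLike.coe_mem _)).mp ?_
      exact hy _ (HomogeneousIdeal.mem_irrelevant_of_mem 𝒮 hk (SetLike.coe_mem _))
  · rintro ⟨w, hw, rfl⟩ f hf
    rw [← DirectSum.sum_support_decompose 𝒮 f, map_sum]
    refine Ideal.sum_mem _ fun k _ => ?_
    rcases Nat.eq_zero_or_pos k with rfl | hk
    · have : (DirectSum.decompose 𝒮 f 0 : S) = 0 := by
        have := (HomogeneousIdeal.mem_irrelevant_iff 𝒮 f).mp hf
        rwa [GradedRing.proj_apply] at this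
      rw [this, map_zero]
      exact zero_mem _
    · refine (ι_mem_awayι_iff ι hz θ hθ w hk (SetLike.coe_mem _)).mpr ?_
      exact hw (HomogeneousIdeal.mem_irrelevant_of_mem 𝒮 hk (SetLike.coe_mem _))

end Vertex

section Adapter

variable {Y PC : Scheme.{u}} (𝒮 Sh : RelProj.QCGrAlg Y)
    {ι : 𝒮.toQCAlg ⟶ Sh.toQCAlg} {z : Sh.presheaf.obj (op ⊤)} (h : RelCone.IsPolyOver 𝒮 Sh ι z)

/-- The canonical `θ` attached to a polynomial presentation. -/
noncomputable def θ₀ (U : Y.Opens) (hU : IsAffineOpen U) :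
    CommRingCat.of (Away (Sh.deg U hU) (RelCone.restrictTop Sh z U)) ⟶ 𝒮.presheaf.obj (op U) :=
  CommRingCat.ofHom (h.awayZToBase U hU)

theorem hθ₀ (U : Y.Opens) (hU : IsAffineOpen U)
    (q : Away (Sh.deg U hU) (RelCone.restrictTop Sh z U))
    (k : ℕ) (x : 𝒮.presheaf.obj (op U)) (_ : x ∈ 𝒮.deg U hU k)
    (hq : q.val = Localization.mk ((ι.hom.app (op U)).hom x)
      ⟨RelCone.restrictTop Sh z U ^ k,
        pow_mem (Submonoid.mem_powers (RelCone.restrictTop Sh z U)) k⟩) :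
    (θ₀ 𝒮 Sh h U hU).hom q = x := by
  change h.awayZToBase U hU q = x
  rw [h.awayZToBase_of_val U hU q _ k hq, h.evalOne_ι]

variable {pC : PC ⟶ Y}
    {chartC : ∀ (U : Y.Opens) (hU : IsAffineOpen U),
      (((pC ⁻¹ᵁ U : PC.Opens) : Scheme.{u}) ≅ Proj (Sh.deg U hU))}
    {i : 𝒮.toQCAlg.spec ⟶ PC}

theorem hi_of_isConeImm (hi : RelCone.IsConeImm 𝒮 h pC chartC i) (U : Y.Opens) (hU : IsAffineOpen U) :
    𝒮.toQCAlg.ι U hU ≫ i =
      Groth.Agent.Helper12.RelConeImm.t 𝒮 Sh z h.deg_z pC chartC (θ₀ 𝒮 Sh h) U hU :=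
  hi U hU

end Adapter

section RelMapRange

variable {Y PA PB : Scheme.{u}} {𝒜 ℬ : RelProj.QCGrAlg Y}
    (φ : 𝒜.toQCAlg ⟶ ℬ.toQCAlg) (hφ : RelProj.IsGradedHom φ)
    (hirr : ∀ (U : Y.Opens) (hU : IsAffineOpen U),
      (ℬ.deg U hU)₊ ≤ ((𝒜.deg U hU)₊).map (RelProj.gradedHomAt φ hφ U hU))
    (pA : PA ⟶ Y) (pB : PB ⟶ Y)
    (chartA : ∀ (U : Y.Opens) (hU : IsAffineOpen U),
      (((pA ⁻¹ᵁ U : PA.Opens) : Scheme.{u}) ≅ Proj (𝒜.deg U hU)))
    (chartB : ∀ (U : Y.Opens) (hU : IsAffineOpen U),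
      (((pB ⁻¹ᵁ U : PB.Opens) : Scheme.{u}) ≅ Proj (ℬ.deg U hU)))
    (h : PB ⟶ PA) (hh : RelProj.IsRelProjMap φ hφ hirr chartA chartB h) (hcomp : h ≫ pA = pB)

include hh hcomp in
/-- Chartwise description of the range of a morphism of relative homogeneous spectra. -/
theorem mem_range_iff (U : Y.Opens) (hU : IsAffineOpen U)
    (x' : ((pA ⁻¹ᵁ U : PA.Opens) : Scheme.{u})) :
    (pA ⁻¹ᵁ U).ι.base x' ∈ Set.range h.base ↔
      (chartA U hU).hom.base x' ∈
        Set.range (Proj.map (RelProj.gradedHomAt φ hφ U hU) (hirr U hU)).base := by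
  have hU' := hh U hU
  constructor
  · rintro ⟨p', hp'⟩
    have h1 : pB.base p' ∈ U := by
      rw [← hcomp]
      change pA.base (h.base p') ∈ U
      rw [hp']
      exact x'.2
    let y' : ((pB ⁻¹ᵁ U : PB.Opens) : Scheme.{u}) := ⟨p', h1⟩
    refine ⟨(chartB U hU).hom.base y', ?_⟩
    have h2 : ((pB ⁻¹ᵁ U).ι ≫ h).base y' = (pA ⁻¹ᵁ U).ι.base x' := hp'
    rw [hU'] at h2
    have h3 : (pA ⁻¹ᵁ U).ι.base ((chartA U hU).inv.base
        ((Proj.map (RelProj.gradedHomAt φ hφ U hU) (hirr U hU)).base ((chartB U hU).hom.base y'))) =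
        (pA ⁻¹ᵁ U).ι.base x' := h2
    have h4 := (pA ⁻¹ᵁ U).ι.isOpenEmbedding.injective h3
    rw [← h4]
    change _ = ((chartA U hU).inv ≫ (chartA U hU).hom).base _
    rw [Iso.inv_hom_id]
    rfl
  · rintro ⟨w, hw⟩
    refine ⟨(pB ⁻¹ᵁ U).ι.base ((chartB U hU).inv.base w), ?_⟩
    change ((pB ⁻¹ᵁ U).ι ≫ h).base ((chartB U hU).inv.base w) = _
    rw [hU']
    change (pA ⁻¹ᵁ U).ι.base ((chartA U hU).inv.base
      ((Proj.map (RelProj.gradedHomAt φ hφ U hU) (hirr U hU)).base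
        (((chartB U hU).inv ≫ (chartB U hU).hom).base w))) = _
    rw [Iso.inv_hom_id]
    change (pA ⁻¹ᵁ U).ι.base ((chartA U hU).inv.base
      ((Proj.map (RelProj.gradedHomAt φ hφ U hU) (hirr U hU)).base w)) = _
    rw [hw]
    change (pA ⁻¹ᵁ U).ι.base (((chartA U hU).hom ≫ (chartA U hU).inv).base x') = _
    rw [Iso.hom_inv_id]
    rfl

end RelMapRange

end Groth.Agent.Helper12.RelConeInfty
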