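import Mathlib
import Groth.Agent.Lib.Helper12.RelProjGlue

set_option autoImplicit false
universe u
open CategoryTheory CategoryTheory.Limits AlgebraicGeometry Opposite TopologicalSpace
open scoped HomogeneousIdeal
open HomogeneousLocalization

namespace Groth.Agent.Helper12.RelProjAway

open Groth.Agent.Helper12.RelProjBasic Groth.Agent.Helper12.RelProjGlue

section Ring

variable {A B σ τ : Type*} [CommRing A] [SetLike σ A] [AddSubgroupClass σ A]
    [CommRing B] [SetLike τ B] [AddSubgroupClass τ B] {𝒜 : ℕ → σ} {ℬ : ℕ → τ}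
    [GradedRing 𝒜] [GradedRing ℬ] (f : 𝒜 →+*ᵍ ℬ)

/-- A surjective graded homomorphism is surjective on each graded piece. -/
theorem exists_mem_of_surjective (hf : Function.Surjective f) {n : ℕ} (b : B) (hb : b ∈ ℬ n) :
    ∃ a ∈ 𝒜 n, f a = b := by
  obtain ⟨a, rfl⟩ := hf b
  refine ⟨(DirectSum.decompose 𝒜 a n : A), SetLike.coe_mem _, ?_⟩
  rw [GradedRingHom.map_directSumDecompose, DirectSum.decompose_of_mem_same _ hb]

theorem awayMap_surjective (hf : Function.Surjective f) {i : ℕ} (s : A) (hs : s ∈ 𝒜 i) :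
    Function.Surjective (Away.map f s) := by
  intro x
  obtain ⟨n, b, hb, rfl⟩ := Away.mk_surjective ℬ (Graded.map_mem f hs) x
  obtain ⟨a, ha, rfl⟩ := exists_mem_of_surjective f hf b hb
  exact ⟨Away.mk 𝒜 hs n a ha, Away.map_mk f s hs n a ha⟩

/-- A graded homomorphism bijective in positive degrees induces bijections on the degree-zero
localizations at homogeneous elements of positive degree. -/
theorem awayMap_bijective (hf : ∀ n, 0 < n → Set.BijOn f (𝒜 n) (ℬ n)) {i : ℕ} (hi : 0 < i)
    (s : A) (hs : s ∈ 𝒜 i) : Function.Bijective (Away.map f s) := by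
  constructor
  · rw [injective_iff_map_eq_zero]
    intro x hx
    obtain ⟨n, a, ha, rfl⟩ := Away.mk_surjective 𝒜 hs x
    rw [Away.map_mk f s hs n a ha] at hx
    have h1 := congrArg HomogeneousLocalization.val hx
    rw [Away.val_mk, val_zero, Localization.mk_eq_mk', IsLocalization.mk'_eq_zero_iff] at h1
    obtain ⟨⟨_, m, rfl⟩, hm⟩ := h1
    have hm : f s ^ m * f a = 0 := hm
    have h2 : f (s ^ (m + 1) * a) = 0 := by
      rw [map_mul, map_pow, pow_succ', mul_assoc, hm, mul_zero]
    have h3 : s ^ (m + 1) * a ∈ 𝒜 ((m + 1) • i + n • i) :=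
      SetLike.mul_mem_graded (SetLike.pow_mem_graded _ hs) ha
    have hpos : 0 < (m + 1) • i + n • i := by
      simp only [smul_eq_mul]
      positivity
    have h4 : s ^ (m + 1) * a = 0 :=
      (hf _ hpos).injOn h3 (zero_mem _) (by rw [h2, map_zero])
    apply val_injective
    rw [Away.val_mk, val_zero, Localization.mk_eq_mk', IsLocalization.mk'_eq_zero_iff]
    exact ⟨⟨s ^ (m + 1), m + 1, rfl⟩, h4⟩
  · intro x
    obtain ⟨n, b, hb, rfl⟩ := Away.mk_surjective ℬ (Graded.map_mem f hs) x
    have hb' : b * f s ∈ ℬ ((n + 1) • i) := by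
      have := SetLike.mul_mem_graded hb (Graded.map_mem f hs)
      rwa [show n • i + i = (n + 1) • i by simp [add_mul]] at this
    have hpos : 0 < (n + 1) • i := by
      simp only [smul_eq_mul]
      positivity
    obtain ⟨a, ha, hab⟩ := (hf _ hpos).surjOn hb'
    refine ⟨Away.mk 𝒜 hs (n + 1) a ha, ?_⟩
    rw [Away.map_mk f s hs (n + 1) a ha]
    apply val_injective
    rw [Away.val_mk, Away.val_mk, Localization.mk_eq_mk_iff, Localization.r_iff_exists]
    refine ⟨1, ?_⟩
    simp only [OneMemClass.coe_one, one_mul]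
    rw [hab, pow_succ]
    ring

end Ring

section Proj

variable {A B σ τ : Type u} [CommRing A] [SetLike σ A] [AddSubgroupClass σ A]
    [CommRing B] [SetLike τ B] [AddSubgroupClass τ B] {𝒜 : ℕ → σ} {ℬ : ℕ → τ}
    [GradedRing 𝒜] [GradedRing ℬ] (f : 𝒜 →+*ᵍ ℬ) (hirr : ℬ₊ ≤ 𝒜₊.map f)

theorem isClosedImmersion_projMap (hf : Function.Surjective f) :
    IsClosedImmersion (Proj.map f hirr) := by
  apply projMap_of_away (P := @IsClosedImmersion)
  intro i _ s hs
  exact IsClosedImmersion.spec_of_surjective _ (awayMap_surjective f hf s hs)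

theorem isIso_projMap (hf : ∀ n, 0 < n → Set.BijOn f (𝒜 n) (ℬ n)) :
    IsIso (Proj.map f hirr) := by
  apply projMap_of_away (P := MorphismProperty.isomorphisms Scheme.{u})
  intro i hi s hs
  have : IsIso (CommRingCat.ofHom (Away.map f s)) := by
    rw [ConcreteCategory.isIso_iff_bijective]
    exact awayMap_bijective f hf hi s hs
  change IsIso _
  infer_instance

end Proj

end Groth.Agent.Helper12.RelProjAway
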