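import Mathlib
import Groth.Agent.Lib.Helper12.RelProjAway

set_option autoImplicit false
universe u
open CategoryTheory CategoryTheory.Limits AlgebraicGeometry Opposite TopologicalSpace
open scoped HomogeneousIdeal
open HomogeneousLocalization

namespace Groth.Agent.Helper12.RelProjGenOne

open Groth.Agent.Helper12.RelProjBasic Groth.Agent.Helper12.RelProjGlue
  Groth.Agent.Helper12.RelProjAway

section Ring

variable {B τ : Type*} [CommRing B] [SetLike τ B] [AddSubgroupClass τ B] (ℬ : ℕ → τ) [GradedRing ℬ]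

/-- The `ℤ`-submodule underlying a graded piece. -/
def piece (n : ℕ) : Submodule ℤ B := AddSubgroup.toIntSubmodule (AddSubgroup.ofClass (ℬ n))

theorem mem_piece {n : ℕ} {x : B} : x ∈ piece ℬ n ↔ x ∈ ℬ n := Iff.rfl

theorem piece_mul_le (i j : ℕ) : piece ℬ i * piece ℬ j ≤ piece ℬ (i + j) := by
  rw [Submodule.mul_le]
  intro a ha b hb
  exact SetLike.mul_mem_graded (A := ℬ) ha hb

theorem piece_zero_mul_pow_le (n : ℕ) (hn : 0 < n) :
    piece ℬ 0 * piece ℬ 1 ^ n ≤ piece ℬ 1 ^ n := by
  obtain ⟨k, rfl⟩ : ∃ k, n = k + 1 := ⟨n - 1, by omega⟩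
  rw [pow_succ', ← mul_assoc]
  refine mul_le_mul' ?_ le_rfl
  simpa using piece_mul_le ℬ 0 1

/-- If `B` is generated by `ℬ 0` and `ℬ 1`, then for `n > 0` every element of `ℬ n` is a sum of `n`-fold products of
elements of `ℬ 1`. -/
theorem mem_pow_of_genOne (hgen : Subring.closure ((ℬ 0 : Set B) ∪ (ℬ 1 : Set B)) = ⊤)
    {n : ℕ} (hn : 0 < n) {x : B} (hx : x ∈ ℬ n) : x ∈ piece ℬ 1 ^ n := by
  classical
  let H : Subring B :=
    { carrier := {y | ∀ m, 0 < m → (DirectSum.decompose ℬ y m : B) ∈ piece ℬ 1 ^ m}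
      mul_mem' := by
        intro a b ha hb m hm
        rw [DirectSum.decompose_mul, DirectSum.coe_mul_apply_eq_sum_antidiagonal]
        refine Submodule.sum_mem _ ?_
        rintro ⟨i, j⟩ hij
        have hij : i + j = m := Finset.HasAntidiagonal.mem_antidiagonal.mp hij
        subst hij
        by_cases hi : i = 0
        · subst hi
          have hj : 0 < j := by omega
          rw [zero_add]
          refine piece_zero_mul_pow_le ℬ j hj (Submodule.mul_mem_mul ?_ (hb j hj))
          exact SetLike.coe_mem _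
        · by_cases hj : j = 0
          · subst hj
            have hi' : 0 < i := by omega
            rw [add_zero, mul_comm]
            refine piece_zero_mul_pow_le ℬ i hi' (Submodule.mul_mem_mul ?_ (ha i hi'))
            exact SetLike.coe_mem _
          · rw [pow_add]
            exact Submodule.mul_mem_mul (ha i (by omega)) (hb j (by omega))
      one_mem' := by
        intro m hm
        rw [DirectSum.decompose_of_mem_ne ℬ (SetLike.GradedOne.one_mem) hm.ne]
        exact zero_mem _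
      add_mem' := by
        intro a b ha hb m hm
        rw [DirectSum.decompose_add, DirectSum.add_apply, AddMemClass.coe_add]
        exact add_mem (ha m hm) (hb m hm)
      zero_mem' := by
        intro m hm
        rw [DirectSum.decompose_zero, DirectSum.zero_apply, ZeroMemClass.coe_zero]
        exact zero_mem _
      neg_mem' := by
        intro a ha m hm
        have : (DirectSum.decompose ℬ (-a) m : B) = -(DirectSum.decompose ℬ a m : B) := by
          rw [DirectSum.decompose_neg]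
          rfl
        rw [this]
        exact neg_mem (ha m hm) }
  have hH : Subring.closure ((ℬ 0 : Set B) ∪ (ℬ 1 : Set B)) ≤ H := by
    rw [Subring.closure_le]
    rintro y (hy | hy) m hm
    · rw [DirectSum.decompose_of_mem_ne ℬ hy hm.ne]
      exact zero_mem _
    · by_cases h1 : m = 1
      · subst h1
        rw [DirectSum.decompose_of_mem_same ℬ hy, pow_one]
        exact hy
      · rw [DirectSum.decompose_of_mem_ne ℬ hy (Ne.symm h1)]
        exact zero_mem _
  have hxH : x ∈ H := hH (hgen ▸ Subring.mem_top x)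
  have := hxH n hn
  rwa [DirectSum.decompose_of_mem_same ℬ hx] at this

variable {A σ : Type*} [CommRing A] [SetLike σ A] [AddSubgroupClass σ A] {𝒜 : ℕ → σ} [GradedRing 𝒜]
  {ℬ} (f : 𝒜 →+*ᵍ ℬ)

omit [GradedRing ℬ] in
theorem exists_of_mem_pow (h1 : ∀ b ∈ ℬ 1, ∃ a ∈ 𝒜 1, f a = b) {n : ℕ} {x : B}
    (hx : x ∈ piece ℬ 1 ^ n) : ∃ a ∈ 𝒜 n, f a = x := by
  induction hx using Submodule.pow_induction_on_left' with
  | algebraMap r =>
    refine ⟨(r : A), ?_, by simp⟩
    exact SetLike.intCast_mem_graded 𝒜 r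
  | add x y i hx hy hx' hy' =>
    obtain ⟨a, ha, rfl⟩ := hx'
    obtain ⟨b, hb, rfl⟩ := hy'
    exact ⟨a + b, add_mem ha hb, map_add f a b⟩
  | mem_mul m hm i x hx hx' =>
    obtain ⟨a, ha, rfl⟩ := hx'
    obtain ⟨b, hb, rfl⟩ := h1 m hm
    refine ⟨b * a, ?_, map_mul f b a⟩
    rw [Nat.succ_eq_add_one, add_comm]
    exact SetLike.mul_mem_graded hb ha

/-- If the target is generated in degrees `0` and `1` and `f` is onto in degree one, then it is onto in every positive
degree. -/
theorem surjOn_of_genOne (hgen : Subring.closure ((ℬ 0 : Set B) ∪ (ℬ 1 : Set B)) = ⊤)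
    (h1 : ∀ b ∈ ℬ 1, ∃ a ∈ 𝒜 1, f a = b) (n : ℕ) (hn : 0 < n) :
    Set.SurjOn f (𝒜 n) (ℬ n) := by
  intro x hx
  obtain ⟨a, ha, rfl⟩ := exists_of_mem_pow f h1 (mem_pow_of_genOne ℬ hgen hn hx)
  exact ⟨a, ha, rfl⟩

theorem awayMap_surjective_of_pos (hf : ∀ n, 0 < n → Set.SurjOn f (𝒜 n) (ℬ n)) {i : ℕ} (hi : 0 < i)
    (s : A) (hs : s ∈ 𝒜 i) : Function.Surjective (Away.map f s) := by
  intro x
  obtain ⟨n, b, hb, rfl⟩ := Away.mk_surjective ℬ (Graded.map_mem f hs) x
  have hb' : b * f s ∈ ℬ ((n + 1) • i) := by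
    have := SetLike.mul_mem_graded hb (Graded.map_mem f hs)
    rwa [show n • i + i = (n + 1) • i by simp [add_mul]] at this
  have hpos : 0 < (n + 1) • i := by
    simp only [smul_eq_mul]
    positivity
  obtain ⟨a, ha, hab⟩ := hf _ hpos hb'
  refine ⟨Away.mk 𝒜 hs (n + 1) a ha, ?_⟩
  rw [Away.map_mk f s hs (n + 1) a ha]
  apply val_injective
  rw [Away.val_mk, Away.val_mk, Localization.mk_eq_mk_iff, Localization.r_iff_exists]
  refine ⟨1, ?_⟩
  simp only [OneMemClass.coe_one, one_mul]
  rw [hab, pow_succ]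
  ring

end Ring

section Proj

variable {A B σ τ : Type u} [CommRing A] [SetLike σ A] [AddSubgroupClass σ A]
    [CommRing B] [SetLike τ B] [AddSubgroupClass τ B] {𝒜 : ℕ → σ} {ℬ : ℕ → τ}
    [GradedRing 𝒜] [GradedRing ℬ] (f : 𝒜 →+*ᵍ ℬ) (hirr : ℬ₊ ≤ 𝒜₊.map f)

theorem isClosedImmersion_projMap_of_pos (hf : ∀ n, 0 < n → Set.SurjOn f (𝒜 n) (ℬ n)) :
    IsClosedImmersion (Proj.map f hirr) := by
  apply projMap_of_away (P := @IsClosedImmersion)
  intro i hi s hs
  exact IsClosedImmersion.spec_of_surjective _ (awayMap_surjective_of_pos f hf hi s hs)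

end Proj

end Groth.Agent.Helper12.RelProjGenOne
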