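import Mathlib
import Groth.Agent.Lib.Helper12.RelProjGlue

set_option autoImplicit false
universe u
open CategoryTheory CategoryTheory.Limits AlgebraicGeometry Opposite TopologicalSpace
open scoped HomogeneousIdeal
open HomogeneousLocalization

namespace Groth.Agent.Helper12.RelProjIntegral

open Groth.Agent.Helper12.RelProjBasic Groth.Agent.Helper12.RelProjGlue

section Top

/-- A space covered by irreducible open subsets that pairwise intersect is irreducible. -/
theorem irreducibleSpace_of_cover {X : Type*} [TopologicalSpace X] {ι : Type*} [Nonempty ι]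
    (V : ι → Set X) (hV : ∀ i, IsOpen (V i)) (hcov : ⋃ i, V i = Set.univ)
    (hirr : ∀ i, IsIrreducible (V i)) (hmeet : ∀ i j, (V i ∩ V j).Nonempty) :
    IrreducibleSpace X := by
  have hne : Nonempty X := by
    obtain ⟨i⟩ := ‹Nonempty ι›
    exact (hirr i).1.to_subtype.map Subtype.val
  have : PreirreducibleSpace X := by
    apply PreirreducibleSpace.of_forall_nonempty_inter
    intro A B hA hB hAne hBne
    obtain ⟨a, ha⟩ := hAne
    obtain ⟨b, hb⟩ := hBne
    obtain ⟨i, hai⟩ := Set.mem_iUnion.mp (hcov ▸ Set.mem_univ a)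
    obtain ⟨j, hbj⟩ := Set.mem_iUnion.mp (hcov ▸ Set.mem_univ b)
    -- `A ∩ V i ∩ V j` is nonempty
    have h1 : (V i ∩ (A ∩ V j)).Nonempty :=
      (hirr i).2 A (V j) hA (hV j) ⟨a, hai, ha⟩ (hmeet i j)
    obtain ⟨c, hci, hcA, hcj⟩ := h1
    have h2 : (V j ∩ (A ∩ B)).Nonempty :=
      (hirr j).2 A B hA hB ⟨c, hcj, hcA⟩ ⟨b, hbj, hb⟩
    obtain ⟨d, -, hd⟩ := h2
    exact ⟨d, hd⟩
  exact ⟨hne⟩

end Top

section Proj

variable {A : Type u} {σ : Type*} [CommRing A] [SetLike σ A] [AddSubgroupClass σ A] (𝒜 : ℕ → σ)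
  [GradedRing 𝒜]

/-- The generic point of `Proj` of a graded domain with nonzero irrelevant ideal. -/
noncomputable def genericPt [IsDomain A] (h : (𝒜₊).toIdeal ≠ ⊥) : ProjectiveSpectrum 𝒜 where
  asHomogeneousIdeal := ⊥
  isPrime := by
    rw [HomogeneousIdeal.toIdeal_bot]
    exact Ideal.isPrime_bot
  not_irrelevant_le := by
    intro hle
    apply h
    rw [eq_bot_iff]
    have : (𝒜₊).toIdeal ≤ (⊥ : HomogeneousIdeal 𝒜).toIdeal := hle
    rwa [HomogeneousIdeal.toIdeal_bot] at this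

theorem irreducibleSpace_proj [IsDomain A] (h : (𝒜₊).toIdeal ≠ ⊥) :
    IrreducibleSpace (Proj 𝒜) := by
  change IrreducibleSpace (ProjectiveSpectrum 𝒜)
  rw [irreducibleSpace_def]
  have hcl : closure ({genericPt 𝒜 h} : Set (ProjectiveSpectrum 𝒜)) = ⊤ := by
    rw [eq_top_iff]
    intro y _
    rw [← ProjectiveSpectrum.le_iff_mem_closure, ← ProjectiveSpectrum.as_ideal_le_as_ideal]
    exact bot_le
  rw [← hcl]
  exact isIrreducible_singleton.closure

theorem isIntegral_proj [IsDomain A] (h : (𝒜₊).toIdeal ≠ ⊥) : IsIntegral (Proj 𝒜) := by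
  have := irreducibleSpace_proj 𝒜 h
  have : IsReduced (Proj 𝒜) := isReduced_proj 𝒜 (fun x _ hx => hx.eq_zero)
  exact isIntegral_of_irreducibleSpace_of_isReduced _

theorem away_nontrivial {y : A} (hy : ¬ IsNilpotent y) : Nontrivial (Away 𝒜 y) := by
  rw [nontrivial_iff]
  refine ⟨1, 0, fun h => hy ?_⟩
  have h1 := congrArg HomogeneousLocalization.val h
  rw [val_one, val_zero] at h1
  have h2 : Subsingleton (Localization.Away y) := subsingleton_of_zero_eq_one h1.symm
  rw [IsLocalization.subsingleton_iff (M := Submonoid.powers y)] at h2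
  obtain ⟨n, hn⟩ := h2
  exact ⟨n, hn⟩

theorem basicOpen_nonempty {y : A} {e : ℕ} (hy : y ∈ 𝒜 e) (he : 0 < e) (hnil : ¬ IsNilpotent y) :
    ∃ x : Proj 𝒜, x ∈ Proj.basicOpen 𝒜 y := by
  have := away_nontrivial 𝒜 hnil
  obtain ⟨w⟩ : Nonempty (Spec (.of (Away 𝒜 y))) :=
    inferInstanceAs (Nonempty (PrimeSpectrum (Away 𝒜 y)))
  refine ⟨(Proj.awayι 𝒜 y hy he).base w, ?_⟩
  rw [← Proj.opensRange_awayι 𝒜 y hy he]
  exact ⟨w, rfl⟩

/-- In `Away 𝒜 y`, the image of a degree-zero element killed by `y` vanishes. -/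
theorem fromZero_eq_zero {y : A} (x : 𝒜 0) (hxy : (x : A) * y = 0) :
    fromZeroRingHom 𝒜 (Submonoid.powers y) x = 0 := by
  apply val_injective
  rw [val_fromZero, val_zero]
  have := IsLocalization.mk'_eq_zero_iff (M := Submonoid.powers y) (S := Localization.Away y)
    (x : A) 1
  rw [IsLocalization.mk'_one] at this
  rw [this]
  exact ⟨⟨y, 1, by simp⟩, by rw [mul_comm]; exact hxy⟩

end Proj

end Groth.Agent.Helper12.RelProjIntegral
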