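import Mathlib
import Groth.Agent.Lib.Helper7.NormAsc
import Groth.Agent.Lib.Helper14.SmoothReg

/-!
# Ascent of `(R_k)` along flat maps with `(R_k)` fibres (helper12)
-/

set_option autoImplicit false
set_option linter.unusedSectionVars false
set_option linter.style.haveILetI false
universe u

namespace Groth.Agent.Helper12.RkAscent

open TensorProduct IsLocalRing Function Groth.Agent.Lead.Fib Groth.Agent.Helper7.NormAsc

variable (R S : Type u) [CommRing R] [CommRing S] [Algebra R S]
  [IsNoetherianRing R] [IsNoetherianRing S] [Module.Flat R S]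

/-- `(R_k)` ascends along a flat map with `(R_k)` fibres. -/
theorem hasRk_of_flat_of_fibres (k : ℕ) (hR : LocCoh.HasRk k R)
    (hfib : ∀ (p : Ideal R) [p.IsPrime], LocCoh.HasRk k (p.Fiber S)) : LocCoh.HasRk k S := by
  intro r _ hr
  let p : Ideal R := r.under R
  have hover : r.LiesOver p := ⟨rfl⟩
  obtain ⟨-, hh⟩ := depth_dim_eq p r
  rw [maximalIdeal_height_localization, maximalIdeal_height_localization] at hh
  have hp1 : p.height ≤ k := le_trans (by rw [hh]; exact le_self_add) hr
  have hf1 : (maximalIdeal (FL p r)).height ≤ k := le_trans (by rw [hh]; exact le_add_self) hr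
  have hRp : IsRegularLocalRing (Localization.AtPrime p) := hR p hp1
  obtain ⟨q, hq⟩ := exists_fiber_prime p r
  have hqprime : q.asIdeal.IsPrime := q.isPrime
  have hqh : q.asIdeal.height ≤ k := by
    have e := fiberLocEquiv p q.asIdeal
    have h1 : ringKrullDim (Localization.AtPrime q.asIdeal) =
        ringKrullDim (FL p (q.asIdeal.comap
          (Algebra.TensorProduct.includeRight : S →ₐ[R] p.Fiber S))) :=
      ringKrullDim_eq_of_ringEquiv e
    have key2 : ∀ (r' : Ideal S) [r'.IsPrime] [r'.LiesOver p], r' = r →
        ringKrullDim (FL p r') ≤ k := by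
      intro r' _ _ h
      subst h
      rw [← IsLocalRing.maximalIdeal_height_eq_ringKrullDim]
      exact_mod_cast hf1
    have h2 := key2 _ hq
    rw [← h1] at h2
    rw [IsLocalization.AtPrime.ringKrullDim_eq_height q.asIdeal
      (Localization.AtPrime q.asIdeal)] at h2
    exact_mod_cast h2
  have hFq : IsRegularLocalRing (Localization.AtPrime q.asIdeal) := hfib p q.asIdeal hqh
  have key : ∀ (r' : Ideal S) [r'.IsPrime], r' = r →
      IsRegularLocalRing (Localization.AtPrime r') → IsRegularLocalRing (Localization.AtPrime r) := by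
    intro r' _ h
    subst h
    exact id
  exact key _ hq (Groth.Agent.Helper14.RegFiber.isRegularLocalRing_of_fiber p q.asIdeal hFq)

/-- a regular ring satisfies `(R_k)` for all `k`. -/
theorem hasRk_of_isRegularRing (A : Type u) [CommRing A] [IsRegularRing A] (k : ℕ) :
    LocCoh.HasRk k A := fun p _ _ => inferInstance

/-- `(R_k)` ascends along a smooth map of Noetherian rings. -/
theorem hasRk_of_smooth [Algebra.Smooth R S] (k : ℕ) (hR : LocCoh.HasRk k R) :
    LocCoh.HasRk k S := by
  apply hasRk_of_flat_of_fibres R S k hR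
  intro p _
  haveI : Algebra.Smooth p.ResidueField (p.Fiber S) := inferInstance
  haveI : IsRegularRing (p.Fiber S) :=
    Groth.Agent.Helper14.SmoothReg.isRegularRing_of_smooth p.ResidueField (p.Fiber S)
  exact hasRk_of_isRegularRing _ k

end Groth.Agent.Helper12.RkAscent
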