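import Mathlib
import Groth.Agent.Lib.Helper5.HS6
import Groth.Agent.Lib.Helper12.HK2
import Groth.Agent.Lib.Helper12.KoszEuler23

/-!
# The Samuel function of the maximal ideal of a Noetherian local ring
-/

set_option autoImplicit false
universe u

open Filter Topology Polynomial IsLocalRing Groth.Agent.Helper5 Groth.Agent.Helper5.HS

namespace Groth.Agent.Helper12.SamuelMax

variable (O : Type u) [CommRing O] [IsNoetherianRing O] [IsLocalRing O]

theorem length_quot_pow_eq (n : ℕ) :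
    (Module.length O (O ⧸ maximalIdeal O ^ n)).toNat = sam O O n := by
  unfold sam colN col
  rw [IsLocalRing.ringJacobson_eq_maximalIdeal]
  congr 1
  have h : (maximalIdeal O ^ n • (⊤ : Submodule O O) : Submodule O O) = maximalIdeal O ^ n := by
    rw [Ideal.smul_top_eq_map]
    simp
  exact (Submodule.quotEquivOfEq _ _ h.symm).length_eq

theorem sam_pos (n : ℕ) (hn : 0 < n) : 0 < sam O O n := by
  rw [← length_quot_pow_eq]
  have hne : maximalIdeal O ^ n ≠ ⊤ := by
    intro h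
    have h1 : maximalIdeal O ^ n ≤ maximalIdeal O := Ideal.pow_le_self hn.ne'
    rw [h] at h1
    exact (IsLocalRing.maximalIdeal.isMaximal O).ne_top (top_le_iff.mp h1)
  have : Nontrivial (O ⧸ maximalIdeal O ^ n) := Ideal.Quotient.nontrivial_iff.mpr hne
  have hfl : IsFiniteLength O (O ⧸ maximalIdeal O ^ n) := by
    have h := isFiniteLength_quot_jacobson_pow_smul O O n
    rw [IsLocalRing.ringJacobson_eq_maximalIdeal] at h
    have h' : (maximalIdeal O ^ n • (⊤ : Submodule O O) : Submodule O O) = maximalIdeal O ^ n := by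
      rw [Ideal.smul_top_eq_map]
      simp
    exact (Submodule.quotEquivOfEq _ _ h').isFiniteLength h
  have h1 : Module.length O (O ⧸ maximalIdeal O ^ n) ≠ 0 := by
    rw [Ne, Module.length_eq_zero_iff]
    exact not_subsingleton _
  have h2 : Module.length O (O ⧸ maximalIdeal O ^ n) ≠ ⊤ := Module.length_ne_top_iff.mpr hfl
  exact Nat.pos_of_ne_zero fun h0 => h1 ((ENat.toNat_eq_zero.mp h0).resolve_right h2)

variable {O}

/-- The Hilbert–Samuel polynomial of `O`: degree `dim O`, positive leading coefficient. -/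
theorem exists_poly (r : ℕ) (hr : ringKrullDim O = r) :
    ∃ P : ℚ[X], IsEP (sam O O) P ∧ P.natDegree = r ∧ 0 < P.coeff r := by
  obtain ⟨P, hP, hdeg⟩ := exists_hilbertSamuel O O
  rw [Module.supportDim_self_eq_ringKrullDim, hr] at hdeg
  have hdeg' : P.natDegree = r := by exact_mod_cast hdeg
  refine ⟨P, hP, hdeg', ?_⟩
  have hP0 : P ≠ 0 := by
    rintro rfl
    obtain ⟨N, hN⟩ := hP
    have h1 := hN (N + 1) (by omega)
    have h2 := sam_pos O (N + 1) (by omega)
    simp only [eval_zero, Nat.cast_eq_zero] at h1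
    omega
  obtain ⟨N₀, hN₀⟩ := hP
  have h1 := leadingCoeff_nonneg_of_eventually_nonneg P N₀ (fun n hn => by
    rw [← hN₀ n hn]; positivity)
  have h2 : 0 < P.leadingCoeff := lt_of_le_of_ne h1 (Ne.symm (leadingCoeff_ne_zero.mpr hP0))
  rwa [leadingCoeff, hdeg'] at h2

theorem tendsto_sam (r : ℕ) (P : ℚ[X]) (hP : IsEP (sam O O) P) (hdeg : P.natDegree = r) :
    Tendsto (fun n : ℕ => (sam O O n : ℝ) / (n : ℝ) ^ r) atTop (𝓝 ((P.coeff r : ℚ) : ℝ)) := by
  have h1 := KoszEuler.tendsto_eval_div_pow P r hdeg.le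
  refine h1.congr' ?_
  obtain ⟨N, hN⟩ := hP
  refine eventually_atTop.mpr ⟨N, fun n hn => ?_⟩
  show ((P.eval (n : ℚ) : ℚ) : ℝ) / (n : ℝ) ^ r = (sam O O n : ℝ) / (n : ℝ) ^ r
  rw [← hN n hn]
  simp

/-- `e(𝔪^k) = k^r e(𝔪)` -/
theorem tendsto_pow (r : ℕ) (P : ℚ[X]) (hP : IsEP (sam O O) P) (hdeg : P.natDegree = r)
    (k : ℕ) (hk : 0 < k) :
    Tendsto (fun n : ℕ => (r.factorial : ℝ) *
      ((Module.length O (O ⧸ (maximalIdeal O ^ k) ^ n)).toNat : ℝ) / (n : ℝ) ^ r) atTop
      (𝓝 ((r.factorial : ℝ) * (k : ℝ) ^ r * ((P.coeff r : ℚ) : ℝ))) := by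
  have h1 := tendsto_sam r P hP hdeg
  have h2 : Tendsto (fun n : ℕ => k * n) atTop atTop :=
    tendsto_id.const_mul_atTop' hk
  have h3 := (h1.comp h2).const_mul ((r.factorial : ℝ) * (k : ℝ) ^ r)
  refine h3.congr' ?_
  refine eventually_atTop.mpr ⟨1, fun n hn => ?_⟩
  have hn0 : (n : ℝ) ≠ 0 := by
    have : 0 < n := hn
    positivity
  have hk0 : (k : ℝ) ≠ 0 := by positivity
  simp only [Function.comp]
  rw [← pow_mul, length_quot_pow_eq]
  push_cast
  field_simp
  ring

end Groth.Agent.Helper12.SamuelMax
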