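import Mathlib
import Groth.Agent.Lib.Helper12.ClosureOpen
import Groth.Agent.Lib.Helper14.NerA
import Groth.Agent.Lib.Helper18.KerToImage

/-!
# Sections with étale schematic closure are closed immersions under a Néron-type injectivity
(helper12)
-/

set_option autoImplicit false
set_option linter.style.haveILetI false
universe u
open CategoryTheory CategoryTheory.Limits AlgebraicGeometry TopologicalSpace

namespace Groth.Agent.Helper12.SecClosed

/-- a factorisation `e = t ≫ ιE` of a section through a scheme-theoretically dominant `t`: over an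
open `S₀` over which the ambient scheme is separated, `ιE` agrees with `pE ≫ e`. -/
theorem agree_over_open {S Hl E : Scheme.{u}} (S₀ : S.Opens) (e : S ⟶ Hl) (hH : Hl ⟶ S)
    (he : e ≫ hH = 𝟙 S) (ιE : E ⟶ Hl) (pE : E ⟶ S) (hpE : ιE ≫ hH = pE) (t : S ⟶ E)
    (hte : t ≫ ιE = e) [IsSchemeTheoreticallyDominant t] [QuasiCompact t]
    (h0 : IsSeparated (pullback.snd hH S₀.ι)) :
    pullback.fst pE S₀.ι ≫ ιE = pullback.fst pE S₀.ι ≫ pE ≫ e := by
  have htp : t ≫ pE = 𝟙 S := by rw [← hpE, ← Category.assoc, hte, he]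
  have hd : (S₀.ι ≫ t) ≫ pE = 𝟙 _ ≫ S₀.ι := by
    rw [Category.assoc, htp, Category.comp_id, Category.id_comp]
  have hdf : pullback.lift (S₀.ι ≫ t) (𝟙 _) hd ≫ pullback.fst pE S₀.ι = S₀.ι ≫ t :=
    pullback.lift_fst _ _ _
  have hds : pullback.lift (S₀.ι ≫ t) (𝟙 _) hd ≫ pullback.snd pE S₀.ι = 𝟙 _ :=
    pullback.lift_snd _ _ _
  have hpb : IsPullback (pullback.lift (S₀.ι ≫ t) (𝟙 _) hd) S₀.ι (pullback.fst pE S₀.ι) t := by
    refine IsPullback.of_right ?_ hdf (IsPullback.of_hasPullback pE S₀.ι).flip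
    rw [hds, htp]
    exact IsPullback.of_horiz_isIso ⟨by rw [Category.id_comp, Category.comp_id]⟩
  haveI : IsSchemeTheoreticallyDominant (pullback.lift (S₀.ι ≫ t) (𝟙 _) hd) :=
    IsSchemeTheoreticallyDominant.of_isPullback hpb.flip
  have hc1 : (pullback.fst pE S₀.ι ≫ ιE) ≫ hH = pullback.snd pE S₀.ι ≫ S₀.ι := by
    rw [Category.assoc, hpE, pullback.condition]
  have hc2 : (pullback.fst pE S₀.ι ≫ pE ≫ e) ≫ hH = pullback.snd pE S₀.ι ≫ S₀.ι := by
    rw [Category.assoc, Category.assoc, he, Category.comp_id, pullback.condition]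
  have h1f : pullback.lift _ _ hc1 ≫ pullback.fst hH S₀.ι = pullback.fst pE S₀.ι ≫ ιE :=
    pullback.lift_fst _ _ _
  have h1s : pullback.lift _ _ hc1 ≫ pullback.snd hH S₀.ι = pullback.snd pE S₀.ι :=
    pullback.lift_snd _ _ _
  have h2f : pullback.lift _ _ hc2 ≫ pullback.fst hH S₀.ι = pullback.fst pE S₀.ι ≫ pE ≫ e :=
    pullback.lift_fst _ _ _
  have h2s : pullback.lift _ _ hc2 ≫ pullback.snd hH S₀.ι = pullback.snd pE S₀.ι :=
    pullback.lift_snd _ _ _
  have key : pullback.lift _ _ hc1 = pullback.lift _ _ hc2 := by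
    refine Groth.Agent.Helper14.Ner.ext_of_isSchemeTheoreticallyDominant
      (pullback.snd hH S₀.ι) (h1s.trans h2s.symm) (pullback.lift (S₀.ι ≫ t) (𝟙 _) hd) ?_
    apply pullback.hom_ext
    · calc (pullback.lift (S₀.ι ≫ t) (𝟙 _) hd ≫ pullback.lift _ _ hc1) ≫ pullback.fst hH S₀.ι
          = pullback.lift (S₀.ι ≫ t) (𝟙 _) hd ≫ pullback.fst pE S₀.ι ≫ ιE := by
            rw [Category.assoc, h1f]
        _ = S₀.ι ≫ e := by rw [← Category.assoc, hdf, Category.assoc, hte]
        _ = pullback.lift (S₀.ι ≫ t) (𝟙 _) hd ≫ pullback.fst pE S₀.ι ≫ pE ≫ e := by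
            rw [← Category.assoc, hdf, Category.assoc, reassoc_of% htp]
        _ = _ := by rw [Category.assoc, h2f]
    · rw [Category.assoc, Category.assoc, h1s, h2s]
  rw [← h1f, ← h2f, key]

/-- the Néron-type injectivity turns agreement over `S₀` into agreement. -/
theorem eq_of_agree {S : Scheme.{u}} (S₀ : S.Opens) (G H : Over S) (j : H ⟶ G) [Mono j.left]
    (hG : ∀ U : Over S, Etale U.hom →
      Function.Injective (fun g : U ⟶ G => (Over.pullback S₀.ι).map g))
    (e : S ⟶ H.left) (he : e ≫ H.hom = 𝟙 S) {E : Scheme.{u}} (ιE : E ⟶ H.left) (pE : E ⟶ S)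
    (hpE : ιE ≫ H.hom = pE) (hE : Etale pE)
    (hstar : pullback.fst pE S₀.ι ≫ ιE = pullback.fst pE S₀.ι ≫ pE ≫ e) : ιE = pE ≫ e := by
  have hw1 : (ιE ≫ j.left) ≫ G.hom = pE := by
    rw [Category.assoc, Over.w j, hpE]
  have hw2 : (pE ≫ e ≫ j.left) ≫ G.hom = pE := by
    simp only [Category.assoc, Over.w j, he, Category.comp_id]
  have hfst : ∀ (a : Over.mk pE ⟶ G), ((Over.pullback S₀.ι).map a).left ≫
      pullback.fst G.hom S₀.ι = pullback.fst pE S₀.ι ≫ a.left := by
    intro a
    simp only [Over.pullback_map_left]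
    exact pullback.lift_fst _ _ _
  have hsnd : ∀ (a : Over.mk pE ⟶ G), ((Over.pullback S₀.ι).map a).left ≫
      pullback.snd G.hom S₀.ι = pullback.snd pE S₀.ι := by
    intro a
    simp only [Over.pullback_map_left]
    exact pullback.lift_snd _ _ _
  have h3 : (Over.homMk (ιE ≫ j.left) hw1 : Over.mk pE ⟶ G) =
      Over.homMk (pE ≫ e ≫ j.left) hw2 := by
    apply hG (Over.mk pE) hE
    apply Over.OverMorphism.ext
    refine pullback.hom_ext (f := G.hom) (g := S₀.ι) ?_ ?_
    · rw [hfst, hfst]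
      show pullback.fst pE S₀.ι ≫ ιE ≫ j.left = pullback.fst pE S₀.ι ≫ pE ≫ e ≫ j.left
      rw [← Category.assoc, hstar]
      simp only [Category.assoc]
    · rw [hsnd, hsnd]
  have h4 : ιE ≫ j.left = pE ≫ e ≫ j.left := congrArg (fun φ => φ.left) h3
  rw [← cancel_mono j.left, Category.assoc]
  exact h4

/-- Let `H → S` be locally of finite type over a locally Noetherian base with a section `e` whose
scheme-theoretic image is étale over `S`, `H|S₀` separated over `S₀`, and `j : H → G` a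
monomorphism to an `S`-scheme `G` for which restriction to `S₀` is injective on morphisms from étale
`S`-schemes. Then `e` is a closed immersion. -/
theorem isClosedImmersion_section {S : Scheme.{u}} [IsLocallyNoetherian S] (S₀ : S.Opens)
    (G : Over S)
    (hG : ∀ U : Over S, Etale U.hom →
      Function.Injective (fun g : U ⟶ G => (Over.pullback S₀.ι).map g))
    (H : Over S) [LocallyOfFiniteType H.hom] (j : H ⟶ G) [Mono j.left]
    (e : S ⟶ H.left) (he : e ≫ H.hom = 𝟙 S)
    (hal : Etale (e.ker.subschemeι ≫ H.hom))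
    (h0 : IsSeparated (pullback.snd H.hom S₀.ι)) : IsClosedImmersion e := by
  haveI : IsLocallyNoetherian H.left := LocallyOfFiniteType.isLocallyNoetherian H.hom
  haveI : QuasiCompact e := Groth.Agent.Helper12.ClosureOpen.quasiCompact_of_section e H.hom he
  haveI : QuasiCompact e.toImage := inferInstance
  haveI : IsSchemeTheoreticallyDominant e.toImage :=
    ⟨Groth.Agent.Helper18.KerToImage.ker_toImage e⟩
  have hte : e.toImage ≫ e.ker.subschemeι = e := e.toImage_imageι
  have htp : e.toImage ≫ (e.ker.subschemeι ≫ H.hom) = 𝟙 S := by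
    rw [← Category.assoc, hte, he]
  have hstar := agree_over_open S₀ e H.hom he e.ker.subschemeι (e.ker.subschemeι ≫ H.hom) rfl
    e.toImage hte h0
  have hclaim := eq_of_agree S₀ G H j hG e he e.ker.subschemeι (e.ker.subschemeι ≫ H.hom) rfl hal
    hstar
  have hinv : (e.ker.subschemeι ≫ H.hom) ≫ e.toImage = 𝟙 _ := by
    rw [← cancel_mono e.ker.subschemeι, Category.assoc, hte, Category.id_comp]
    exact hclaim.symm
  haveI : IsIso e.toImage := ⟨⟨e.ker.subschemeι ≫ H.hom, htp, hinv⟩⟩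
  rw [← hte]
  infer_instance

end Groth.Agent.Helper12.SecClosed
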