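import Mathlib

/-!
# Gluing semi-local one-dimensional subrings of a field, part 1

Basic notions for subrings of a field `K`: `OneDim`, the Jacobson radical `Jac A` as a subset of
`K`, the relation `IsLoc R f A` (`A = R[1/f]` inside `K`) and its translation into `IsLocalization`,
open immersions of spectra and push-outs.
-/

set_option autoImplicit false
universe u
open AlgebraicGeometry CategoryTheory

namespace Groth.Agent.Helper12.SemiGlue

/-- every nonzero prime is maximal. -/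
def OneDim (A : Type*) [CommRing A] : Prop := ∀ I : Ideal A, I ≠ ⊥ → I.IsPrime → I.IsMaximal

theorem oneDim_of_ringKrullDim_le {A : Type*} [CommRing A] [IsDomain A]
    (h : ringKrullDim A ≤ 1) : OneDim A :=
  Ring.krullDimLE_one_iff_of_noZeroDivisors.mp (Ring.krullDimLE_iff.mpr h)

theorem exists_pow_mem_span_of_mem_jacobson {A : Type*} [CommRing A] [IsDomain A]
    (hA : OneDim A) {s g : A} (hs : s ≠ 0) (hg : g ∈ (⊥ : Ideal A).jacobson) :
    ∃ n : ℕ, g ^ n ∈ Ideal.span {s} := by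
  have h : g ∈ (Ideal.span {s}).radical := by
    rw [Ideal.radical_eq_sInf, Ideal.mem_sInf]
    rintro J ⟨hJ, hJp⟩
    have hJ0 : J ≠ ⊥ := by
      intro h
      rw [h, Ideal.span_le] at hJ
      exact hs (by simpa using hJ (Set.mem_singleton s))
    have hJm := hA J hJ0 hJp
    have hle : (⊥ : Ideal A).jacobson ≤ J := sInf_le ⟨bot_le, hJm⟩
    exact hle hg
  exact h

variable {K : Type u} [Field K]

theorem isUnit_subring_iff {A : Subring K} (x : A) :
    IsUnit x ↔ (x : K) ≠ 0 ∧ (x : K)⁻¹ ∈ A := by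
  constructor
  · rintro ⟨u, rfl⟩
    have h1 : ((u : A) : K) * (((u⁻¹ : Aˣ) : A) : K) = 1 := by
      have := congrArg (Subtype.val) u.mul_inv
      rw [Subring.coe_mul, Subring.coe_one] at this
      exact this
    have h0 : ((u : A) : K) ≠ 0 := left_ne_zero_of_mul_eq_one h1
    refine ⟨h0, ?_⟩
    have h2 : ((u : A) : K)⁻¹ = (((u⁻¹ : Aˣ) : A) : K) := inv_eq_of_mul_eq_one_right h1
    rw [h2]
    exact Subtype.property _
  · rintro ⟨h0, hinv⟩
    exact IsUnit.of_mul_eq_one ⟨(x : K)⁻¹, hinv⟩ (Subtype.ext (by simp [h0]))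

/-- the Jacobson radical of a subring of `K`, as a subset of `K`. -/
def Jac (A : Subring K) : Set K := {g | ∃ h : g ∈ A, (⟨g, h⟩ : A) ∈ (⊥ : Ideal A).jacobson}

theorem mem_Jac_iff {A : Subring K} {g : K} :
    g ∈ Jac A ↔ g ∈ A ∧ ∀ a ∈ A, 1 + g * a ≠ 0 ∧ (1 + g * a)⁻¹ ∈ A := by
  constructor
  · rintro ⟨h, hj⟩
    refine ⟨h, fun a ha => ?_⟩
    have h1 := Ideal.mem_jacobson_bot.mp hj ⟨a, ha⟩
    have h2 := (isUnit_subring_iff _).mp h1
    have h3 : (((⟨g, h⟩ : A) * ⟨a, ha⟩ + 1 : A) : K) = 1 + g * a := by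
      simp [add_comm]
    rw [h3] at h2
    exact h2
  · rintro ⟨h, hj⟩
    refine ⟨h, Ideal.mem_jacobson_bot.mpr fun y => ?_⟩
    rw [isUnit_subring_iff]
    have h3 : (((⟨g, h⟩ : A) * y + 1 : A) : K) = 1 + g * (y : K) := by
      simp [add_comm]
    rw [h3]
    exact hj y y.2

namespace Jac

variable {A : Subring K} {g g' a : K}

theorem mem (hg : g ∈ Jac A) : g ∈ A := hg.1

theorem mul_mem (hg : g ∈ Jac A) (ha : a ∈ A) : g * a ∈ Jac A :=
  ⟨A.mul_mem hg.1 ha, Ideal.mul_mem_right (⟨a, ha⟩ : A) _ hg.2⟩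

theorem mul_mem' (ha : a ∈ A) (hg : g ∈ Jac A) : a * g ∈ Jac A := by
  rw [mul_comm]; exact mul_mem hg ha

theorem add_mem (hg : g ∈ Jac A) (hg' : g' ∈ Jac A) : g + g' ∈ Jac A :=
  ⟨A.add_mem hg.1 hg'.1, Ideal.add_mem _ hg.2 hg'.2⟩

theorem zero_mem : (0 : K) ∈ Jac A := ⟨A.zero_mem, Ideal.zero_mem _⟩

theorem pow_mem (hg : g ∈ Jac A) {n : ℕ} (hn : n ≠ 0) : g ^ n ∈ Jac A := by
  obtain ⟨m, rfl⟩ := Nat.exists_eq_succ_of_ne_zero hn
  rw [pow_succ]
  exact mul_mem' (A.pow_mem hg.1 m) hg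

theorem one_add_ne_zero (hg : g ∈ Jac A) : 1 + g ≠ 0 := by
  have := (mem_Jac_iff.mp hg).2 1 A.one_mem
  rw [mul_one] at this
  exact this.1

theorem inv_one_add_mem (hg : g ∈ Jac A) : (1 + g)⁻¹ ∈ A := by
  have := (mem_Jac_iff.mp hg).2 1 A.one_mem
  rw [mul_one] at this
  exact this.2

theorem one_not_mem : (1 : K) ∉ Jac A := by
  intro h
  have := (mem_Jac_iff.mp h).2 (-1) (A.neg_mem A.one_mem)
  simp at this

end Jac

/-- in a one-dimensional subring with fraction field `K`, inverting a nonzero element of the Jacobson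
radical gives all of `K`. -/
theorem exists_pow_mul_mem {A : Subring K} [IsFractionRing A K] (hA : OneDim A) {g : K}
    (hg : g ∈ Jac A) (z : K) : ∃ n : ℕ, g ^ n * z ∈ A := by
  obtain ⟨a, s, hs, rfl⟩ := IsFractionRing.div_surjective (A := A) z
  have hs0 : s ≠ 0 := nonZeroDivisors.ne_zero hs
  obtain ⟨h, hj⟩ := hg
  obtain ⟨n, hn⟩ := exists_pow_mem_span_of_mem_jacobson hA hs0 hj
  obtain ⟨c, hc⟩ := Ideal.mem_span_singleton'.mp hn
  refine ⟨n, ?_⟩
  have hc' : (c : K) * (s : K) = g ^ n := by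
    have := congrArg (Subtype.val) hc
    simpa using this
  have hsK : (s : K) ≠ 0 := fun h0 => hs0 (Subtype.ext h0)
  have : g ^ n * (algebraMap A K a / algebraMap A K s) = (c : K) * (a : K) := by
    show g ^ n * ((a : K) / (s : K)) = _
    rw [← hc']
    field_simp
  rw [this]
  exact A.mul_mem c.2 a.2

/-- `A = R[1/f]` inside `K`. -/
structure IsLoc (R : Subring K) (f : K) (A : Subring K) : Prop where
  le : R ≤ A
  mem : f ∈ R
  ne_zero : f ≠ 0
  inv_mem : f⁻¹ ∈ A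
  exists_pow : ∀ a ∈ A, ∃ n : ℕ, f ^ n * a ∈ R

theorem isLocalization_away_of_le {R A : Subring K} (hle : R ≤ A) {f : K} (hf : f ∈ R)
    (hf0 : f ≠ 0) (hinv : f⁻¹ ∈ A) (hpow : ∀ a ∈ A, ∃ n : ℕ, f ^ n * a ∈ R) :
    letI := (Subring.inclusion hle).toAlgebra
    IsLocalization.Away (⟨f, hf⟩ : R) A := by
  letI := (Subring.inclusion hle).toAlgebra
  have hinj : Function.Injective (algebraMap R A) := Subring.inclusion_injective hle
  rw [IsLocalization.Away, isLocalization_iff]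
  refine ⟨?_, ?_, ?_⟩
  · rintro ⟨y, n, rfl⟩
    rw [isUnit_subring_iff]
    have h1 : ((algebraMap R A ((⟨f, hf⟩ : R) ^ n) : A) : K) = f ^ n := by
      show (((⟨f, hf⟩ : R) ^ n : R) : K) = f ^ n
      simp
    show ((algebraMap R A ((⟨f, hf⟩ : R) ^ n) : A) : K) ≠ 0 ∧
      ((algebraMap R A ((⟨f, hf⟩ : R) ^ n) : A) : K)⁻¹ ∈ A
    rw [h1]
    refine ⟨pow_ne_zero _ hf0, ?_⟩
    rw [← inv_pow]
    exact A.pow_mem hinv n
  · intro z
    obtain ⟨n, hn⟩ := hpow z z.2
    refine ⟨(⟨f ^ n * z, hn⟩, ⟨(⟨f, hf⟩ : R) ^ n, n, rfl⟩), ?_⟩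
    apply Subtype.ext
    show (z : K) * (((⟨f, hf⟩ : R) ^ n : R) : K) = f ^ n * z
    simp [mul_comm]
  · intro x y hxy
    exact ⟨1, by rw [hinj hxy]⟩

theorem IsLoc.isLocalization {R A : Subring K} {f : K} (h : IsLoc R f A) :
    letI := (Subring.inclusion h.le).toAlgebra
    IsLocalization.Away (⟨f, h.mem⟩ : R) A :=
  isLocalization_away_of_le h.le h.mem h.ne_zero h.inv_mem h.exists_pow

theorem IsLoc.isOpenImmersion {R A : Subring K} {f : K} (h : IsLoc R f A) :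
    IsOpenImmersion (Spec.map (CommRingCat.ofHom (Subring.inclusion h.le))) := by
  letI := (Subring.inclusion h.le).toAlgebra
  haveI := h.isLocalization
  exact IsOpenImmersion.of_isLocalization (R := R) (S := A) (⟨f, h.mem⟩ : R)

theorem IsLoc.range_eq {R A : Subring K} {f : K} (h : IsLoc R f A) :
    Set.range (Spec.map (CommRingCat.ofHom (Subring.inclusion h.le))).base =
      {p : PrimeSpectrum R | (⟨f, h.mem⟩ : R) ∉ p.asIdeal} := by
  letI := (Subring.inclusion h.le).toAlgebra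
  haveI := h.isLocalization
  have := PrimeSpectrum.localization_away_comap_range (R := R) A (⟨f, h.mem⟩ : R)
  show Set.range (PrimeSpectrum.comap (algebraMap R A)) = _
  rw [this]
  rfl

/-- `K = B[1/f]`. -/
theorem isLocalization_away_field {B : Subring K} {f : K} (hf : f ∈ B) (hf0 : f ≠ 0)
    (hpow : ∀ z : K, ∃ n : ℕ, f ^ n * z ∈ B) : IsLocalization.Away (⟨f, hf⟩ : B) K := by
  rw [IsLocalization.Away, isLocalization_iff]
  refine ⟨?_, ?_, ?_⟩
  · rintro ⟨y, n, rfl⟩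
    show IsUnit ((((⟨f, hf⟩ : B) ^ n : B) : K))
    rw [Subring.coe_pow]
    exact (pow_ne_zero _ hf0).isUnit
  · intro z
    obtain ⟨n, hn⟩ := hpow z
    refine ⟨(⟨f ^ n * z, hn⟩, ⟨(⟨f, hf⟩ : B) ^ n, n, rfl⟩), ?_⟩
    show z * (((⟨f, hf⟩ : B) ^ n : B) : K) = f ^ n * z
    simp [mul_comm]
  · intro x y hxy
    exact ⟨1, by rw [Subtype.ext hxy]⟩

theorem isPushout_of_isLoc {A B : Subring K} {f : K} (hA : IsLoc (A ⊓ B) f A) (hfB : f ∈ B)
    (hB : ∀ z : K, ∃ n : ℕ, f ^ n * z ∈ B) :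
    IsPushout (CommRingCat.ofHom (Subring.inclusion (inf_le_left : A ⊓ B ≤ A)))
      (CommRingCat.ofHom (Subring.inclusion (inf_le_right : A ⊓ B ≤ B)))
      (CommRingCat.ofHom A.subtype) (CommRingCat.ofHom B.subtype) := by
  letI := (Subring.inclusion (inf_le_left : A ⊓ B ≤ A)).toAlgebra
  haveI : IsLocalization (Submonoid.powers (⟨f, hA.mem⟩ : (A ⊓ B : Subring K))) A := hA.isLocalization
  haveI : IsLocalization ((Submonoid.powers (⟨f, hA.mem⟩ : (A ⊓ B : Subring K))).map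
      (Subring.inclusion (inf_le_right : A ⊓ B ≤ B))) K := by
    rw [Submonoid.map_powers]
    exact isLocalization_away_field hfB hA.ne_zero hB
  have := CommRingCat.isPushout_of_isLocalization
    (R := (A ⊓ B : Subring K)) (S := B) (Rₘ := A) (Sₘ := K)
    (Subring.inclusion (inf_le_right : A ⊓ B ≤ B)) A.subtype rfl
    (Submonoid.powers (⟨f, hA.mem⟩ : (A ⊓ B : Subring K)))
  exact this.flip

end Groth.Agent.Helper12.SemiGlue
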