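import Groth.Agent.Lib.Helper12.SemiGlue1

/-!
# Gluing semi-local one-dimensional subrings of a field, part 2

The gluing principle: an element `g` with `g ∈ Jac A` and `1 - g ∈ Jac B` exhibits `Spec (A ⊓ B)` as
the union of the opens `Spec A` and `Spec B`.  The case where `B` is a valuation ring.
-/

set_option autoImplicit false
universe u
open AlgebraicGeometry CategoryTheory

namespace Groth.Agent.Helper12.SemiGlue

variable {K : Type u} [Field K]

/-- a semi-local domain which is not a field has a nonzero element in its Jacobson radical. -/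
theorem exists_ne_zero_mem_jacobson (A : Type*) [CommRing A] [IsDomain A]
    (hfin : Finite (MaximalSpectrum A)) (hnf : ¬ IsField A) :
    ∃ y : A, y ≠ 0 ∧ y ∈ (⊥ : Ideal A).jacobson := by
  classical
  haveI := Fintype.ofFinite (MaximalSpectrum A)
  have h1 : ∀ m : MaximalSpectrum A, ∃ x : A, x ≠ 0 ∧ x ∈ m.asIdeal := by
    intro m
    have hm : m.asIdeal ≠ ⊥ := Ring.ne_bot_of_isMaximal_of_not_isField m.isMaximal hnf
    obtain ⟨x, hx, hx0⟩ := Submodule.exists_mem_ne_zero_of_ne_bot hm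
    exact ⟨x, hx0, hx⟩
  choose x hx0 hx using h1
  refine ⟨∏ m, x m, Finset.prod_ne_zero_iff.mpr fun m _ => hx0 m, ?_⟩
  rw [Ideal.jacobson, Ideal.mem_sInf]
  rintro J ⟨-, hJ⟩
  exact Ideal.mem_of_dvd J (Finset.dvd_prod_of_mem x (Finset.mem_univ (⟨J, hJ⟩ : MaximalSpectrum A)))
    (hx ⟨J, hJ⟩)

theorem exists_ne_zero_mem_Jac (A : Subring K) (hfin : Finite (MaximalSpectrum A))
    (hnf : ¬ IsField A) : ∃ y : K, y ≠ 0 ∧ y ∈ Jac A := by
  obtain ⟨y, hy0, hy⟩ := exists_ne_zero_mem_jacobson A hfin hnf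
  exact ⟨y, fun h => hy0 (Subtype.ext h), y.2, hy⟩

/-- the basic principle: `p` in the radical of `A` with `1/p` in the radical of `B`. -/
theorem exists_glue_of_inv {A B : Subring K} {p : K} (hp : p ∈ Jac A) (hp0 : p ≠ 0)
    (hpB : p⁻¹ ∈ Jac B) :
    ∃ g : K, g ∈ Jac A ∧ 1 - g ∈ Jac B ∧ g ≠ 0 ∧ 1 - g ≠ 0 := by
  have h1 : 1 + p ≠ 0 := Jac.one_add_ne_zero hp
  have h2 : 1 + p⁻¹ ≠ 0 := Jac.one_add_ne_zero hpB
  have h3 : 1 - p * (1 + p)⁻¹ = p⁻¹ * (1 + p⁻¹)⁻¹ := by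
    have h4 : 1 + p⁻¹ = (1 + p) * p⁻¹ := by
      rw [add_mul, one_mul, mul_inv_cancel₀ hp0, add_comm]
    rw [h4, mul_inv, inv_inv, mul_comm (1 + p)⁻¹ p, ← mul_assoc, inv_mul_cancel₀ hp0, one_mul]
    have h5 : (1 + p) * (1 + p)⁻¹ = 1 := mul_inv_cancel₀ h1
    linear_combination (-1 : K) * h5
  refine ⟨p * (1 + p)⁻¹, Jac.mul_mem hp (Jac.inv_one_add_mem hp), ?_, ?_, ?_⟩
  · rw [h3]
    exact Jac.mul_mem hpB (Jac.inv_one_add_mem hpB)
  · exact mul_ne_zero hp0 (inv_ne_zero h1)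
  · rw [h3]
    exact mul_ne_zero (inv_ne_zero hp0) (inv_ne_zero h2)

/-- a unit of `A` lying in the radical of `B` gives a glueing element. -/
theorem exists_glue_of_unit {A B : Subring K} [IsFractionRing B K] (hB : OneDim B)
    {y : K} (hy : y ∈ Jac A) (hy0 : y ≠ 0) {π : K} (hπ0 : π ≠ 0) (hπinv : π⁻¹ ∈ A)
    (hπB : π ∈ Jac B) :
    ∃ g : K, g ∈ Jac A ∧ 1 - g ∈ Jac B ∧ g ≠ 0 ∧ 1 - g ≠ 0 := by
  obtain ⟨n, hn⟩ := exists_pow_mul_mem hB hπB y⁻¹
  have hq : π * (π ^ n * y⁻¹) ∈ Jac B := Jac.mul_mem hπB hn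
  have hp : y * (π⁻¹) ^ (n + 1) ∈ Jac A := Jac.mul_mem hy (A.pow_mem hπinv _)
  have hpq : (y * (π⁻¹) ^ (n + 1))⁻¹ = π * (π ^ n * y⁻¹) := by
    rw [mul_inv, ← inv_pow, inv_inv, pow_succ]
    ring
  refine exists_glue_of_inv hp (mul_ne_zero hy0 (pow_ne_zero _ (inv_ne_zero hπ0))) ?_
  rw [hpq]
  exact hq

/-- the glueing principle. -/
theorem isLoc_of_glue {A B : Subring K} [IsFractionRing A K] [IsFractionRing B K]
    (hA : OneDim A) (hB : OneDim B) {g : K} (hgA : g ∈ Jac A) (hgB : 1 - g ∈ Jac B)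
    (hg0 : g ≠ 0) (hg1 : 1 - g ≠ 0) :
    IsLoc (A ⊓ B) (1 - g) A ∧ IsLoc (A ⊓ B) g B := by
  have hfA : 1 - g ∈ A := A.sub_mem A.one_mem (Jac.mem hgA)
  have hgBm : g ∈ B := by
    have := B.sub_mem B.one_mem (Jac.mem hgB)
    rwa [sub_sub_cancel] at this
  constructor
  · refine ⟨inf_le_left, ⟨hfA, (Jac.mem hgB)⟩, hg1, ?_, ?_⟩
    · have := ((mem_Jac_iff.mp hgA).2 (-1) (A.neg_mem A.one_mem)).2
      rwa [mul_neg, mul_one, ← sub_eq_add_neg] at this
    · intro a ha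
      obtain ⟨n, hn⟩ := exists_pow_mul_mem hB hgB a
      exact ⟨n, A.mul_mem (A.pow_mem hfA n) ha, hn⟩
  · refine ⟨inf_le_right, ⟨(Jac.mem hgA), hgBm⟩, hg0, ?_, ?_⟩
    · have := ((mem_Jac_iff.mp hgB).2 (-1) (B.neg_mem B.one_mem)).2
      rwa [mul_neg, mul_one, ← sub_eq_add_neg, sub_sub_cancel] at this
    · intro b hb
      obtain ⟨n, hn⟩ := exists_pow_mul_mem hA hgA b
      exact ⟨n, hn, B.mul_mem (B.pow_mem hgBm n) hb⟩

/-- the conclusion of the two-ring glueing statements. -/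
theorem glue_conclusion {A B : Subring K} {f g : K} (hA : IsLoc (A ⊓ B) f A)
    (hB : IsLoc (A ⊓ B) g B) (hfg : f + g = 1) (hBf : ∀ z : K, ∃ n : ℕ, f ^ n * z ∈ B) :
    IsOpenImmersion (Spec.map (CommRingCat.ofHom
        (Subring.inclusion (inf_le_left : A ⊓ B ≤ A)))) ∧
      IsOpenImmersion (Spec.map (CommRingCat.ofHom
        (Subring.inclusion (inf_le_right : A ⊓ B ≤ B)))) ∧
      Set.range (Spec.map (CommRingCat.ofHom
          (Subring.inclusion (inf_le_left : A ⊓ B ≤ A)))).base ∪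
        Set.range (Spec.map (CommRingCat.ofHom
          (Subring.inclusion (inf_le_right : A ⊓ B ≤ B)))).base = Set.univ ∧
      IsPushout (CommRingCat.ofHom (Subring.inclusion (inf_le_left : A ⊓ B ≤ A)))
        (CommRingCat.ofHom (Subring.inclusion (inf_le_right : A ⊓ B ≤ B)))
        (CommRingCat.ofHom A.subtype) (CommRingCat.ofHom B.subtype) := by
  refine ⟨hA.isOpenImmersion, hB.isOpenImmersion, ?_, ?_⟩
  · rw [Set.eq_univ_iff_forall]
    intro x
    have h1 := hA.range_eq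
    have h2 := hB.range_eq
    by_cases hx : (⟨f, hA.mem⟩ : (A ⊓ B : Subring K)) ∈ (x : PrimeSpectrum _).asIdeal
    · right
      rw [h2]
      intro hgx
      have h3 := Ideal.add_mem _ hx hgx
      have h4 : (⟨f, hA.mem⟩ : (A ⊓ B : Subring K)) + ⟨g, hB.mem⟩ = 1 := Subtype.ext hfg
      rw [h4] at h3
      exact (x : PrimeSpectrum _).isPrime.ne_top ((Ideal.eq_top_iff_one _).mpr h3)
    · left
      rw [h1]
      exact hx
  · exact isPushout_of_isLoc hA hA.mem.2 hBf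

section Valuation

variable (B : ValuationSubring K)

theorem mem_Jac_valuationSubring {x : K} (hx : x⁻¹ ∉ B) : x ∈ Jac B.toSubring := by
  have hxB : x ∈ B := (B.mem_or_inv_mem x).resolve_right hx
  have hv : B.valuation x < 1 := by
    have h1 : ¬ B.valuation x⁻¹ ≤ 1 := fun h => hx ((B.valuation_le_one_iff _).mp h)
    rw [not_le, map_inv₀] at h1
    by_cases hx0 : x = 0
    · rw [hx0, map_zero]; exact zero_lt_one
    · have hv0 : B.valuation x ≠ 0 := (Valuation.ne_zero_iff _).mpr hx0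
      exact (one_lt_inv₀ (zero_lt_iff.mpr hv0)).mp h1
  rw [mem_Jac_iff]
  refine ⟨hxB, fun a ha => ?_⟩
  have hva : B.valuation a ≤ 1 := (B.valuation_le_one_iff _).mpr ha
  have hxa : B.valuation (x * a) < 1 := by
    rw [map_mul]
    exact mul_lt_one_of_lt_of_le hv hva
  have h1 : B.valuation (1 + x * a) = 1 := Valuation.map_one_add_of_lt _ hxa
  have h0 : 1 + x * a ≠ 0 := by
    intro h
    rw [h, map_zero] at h1
    exact zero_ne_one h1
  refine ⟨h0, ?_⟩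
  show (1 + x * a)⁻¹ ∈ B
  rw [← B.valuation_le_one_iff, map_inv₀, h1, inv_one]

theorem exists_inv_not_mem_of_isDiscreteValuationRing [IsDiscreteValuationRing B] :
    ∃ x : K, x ∈ B ∧ x ≠ 0 ∧ x⁻¹ ∉ B := by
  obtain ⟨ϖ, hϖ⟩ := IsDiscreteValuationRing.exists_irreducible B
  refine ⟨ϖ, ϖ.2, fun h => hϖ.ne_zero (Subtype.ext h), fun hinv => hϖ.not_isUnit ?_⟩
  have h0 : (ϖ : K) ≠ 0 := fun h => hϖ.ne_zero (Subtype.ext h)
  exact IsUnit.of_mul_eq_one ⟨(ϖ : K)⁻¹, hinv⟩ (Subtype.ext (by simp [h0]))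

end Valuation

end Groth.Agent.Helper12.SemiGlue
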