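import Groth.Agent.Lib.Helper12.SemiGlue2

/-!
# Gluing semi-local one-dimensional subrings of a field, part 3

Approximation for finitely many discrete valuations, and descent of radical elements from a finite
extension.
-/

set_option autoImplicit false
universe u
open IsDedekindDomain

namespace Groth.Agent.Helper12.SemiGlue

open WithZero in
theorem exists_forall_lt_pow {x : ℤᵐ⁰} (y : ℤᵐ⁰) (hx : 1 < x) :
    ∃ m : ℕ, ∀ a : ℕ, m ≤ a → y < x ^ a := by
  have hx0 : x ≠ 0 := (zero_lt_one.trans hx).ne'
  by_cases hy : y = 0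
  · exact ⟨0, fun a _ => by rw [hy]; exact pow_pos (zero_lt_one.trans hx) a⟩
  · have h1 : 0 < log x := by
      have := (log_lt_log one_ne_zero hx0).mpr hx
      rwa [log_one] at this
    refine ⟨(log y).toNat + 1, fun a ha => ?_⟩
    rw [← log_lt_log hy (pow_ne_zero _ hx0), log_pow, nsmul_eq_mul]
    have h2 : (a : ℤ) ≤ (a : ℤ) * log x := by nlinarith
    have h3 : log y ≤ ((log y).toNat : ℤ) := Int.self_le_toNat _
    have h4 : (((log y).toNat + 1 : ℕ) : ℤ) ≤ (a : ℤ) := by exact_mod_cast ha
    push_cast at h4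
    omega

variable {K : Type u} [Field K]

section Approx

variable {D : Type*} [CommRing D] [IsDedekindDomain D] [Algebra D K] [IsFractionRing D K]

/-- if all elements of the radical of `A` are `P`-integral then so is `A`. -/
theorem valuation_le_one_of_forall_Jac (P : HeightOneSpectrum D) {A : Subring K} {y : K}
    (hy : y ∈ Jac A) (hy0 : y ≠ 0) (h : ∀ p ∈ Jac A, P.valuation K p ≤ 1) {a : K} (ha : a ∈ A) :
    P.valuation K a ≤ 1 := by
  by_contra hcon
  rw [not_le] at hcon
  have hvy : P.valuation K y ≠ 0 := (Valuation.ne_zero_iff _).mpr hy0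
  obtain ⟨m, hm⟩ := exists_forall_lt_pow (P.valuation K y)⁻¹ hcon
  have h1 := hm m le_rfl
  have h2 := h (y * a ^ m) (Jac.mul_mem hy (A.pow_mem ha m))
  rw [map_mul, map_pow] at h2
  have h3 : 1 < P.valuation K y * P.valuation K a ^ m := by
    have := mul_lt_mul_of_pos_left h1 (zero_lt_iff.mpr hvy)
    rwa [mul_inv_cancel₀ hvy] at this
  exact absurd h2 (not_le.mpr h3)

/-- simultaneous poles at finitely many places. -/
theorem exists_forall_one_lt_valuation [Finite (HeightOneSpectrum D)] {A : Subring K}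
    (h : ∀ P : HeightOneSpectrum D, ∃ p ∈ Jac A, 1 < P.valuation K p) :
    ∃ p ∈ Jac A, ∀ P : HeightOneSpectrum D, 1 < P.valuation K p := by
  classical
  haveI := Fintype.ofFinite (HeightOneSpectrum D)
  suffices hS : ∀ S : Finset (HeightOneSpectrum D),
      ∃ p ∈ Jac A, ∀ P ∈ S, 1 < P.valuation K p by
    obtain ⟨p, hp, hpS⟩ := hS Finset.univ
    exact ⟨p, hp, fun P => hpS P (Finset.mem_univ P)⟩
  intro S
  induction S using Finset.induction_on with
  | empty => exact ⟨0, Jac.zero_mem, fun P hP => absurd hP (Finset.notMem_empty P)⟩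
  | insert P₀ S hP₀ ih =>
    obtain ⟨p, hp, hpS⟩ := ih
    obtain ⟨p₀, hp₀, hp₀P⟩ := h P₀
    have hm : ∀ P : HeightOneSpectrum D, ∃ m : ℕ, ∀ a : ℕ, m ≤ a →
        1 < P.valuation K p → P.valuation K p₀ < P.valuation K p ^ a := by
      intro P
      by_cases hP : 1 < P.valuation K p
      · obtain ⟨m, hm⟩ := exists_forall_lt_pow (P.valuation K p₀) hP
        exact ⟨m, fun a ha _ => hm a ha⟩
      · exact ⟨0, fun a _ h => absurd h hP⟩
    choose m hm using hm
    set a : ℕ := 1 + ∑ P ∈ insert P₀ S, m P with ha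
    have ha0 : a ≠ 0 := by omega
    refine ⟨p ^ a + p₀, Jac.add_mem (Jac.pow_mem hp ha0) hp₀, ?_⟩
    intro P hP
    have hmP : m P ≤ a := by
      have := Finset.single_le_sum (f := m) (fun i _ => Nat.zero_le _) hP
      omega
    by_cases hcase : 1 < P.valuation K p
    · have h1 := hm P a hmP hcase
      rw [← map_pow] at h1
      rw [Valuation.map_add_eq_of_lt_left _ h1, map_pow]
      exact one_lt_pow₀ hcase ha0
    · have hPP₀ : P = P₀ := by
        rcases Finset.mem_insert.mp hP with h | h
        · exact h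
        · exact absurd (hpS P h) hcase
      subst hPP₀
      rw [not_lt] at hcase
      have h1 : P.valuation K (p ^ a) < P.valuation K p₀ := by
        rw [map_pow]
        exact (pow_le_one₀ zero_le hcase).trans_lt hp₀P
      rw [Valuation.map_add_eq_of_lt_right _ h1]
      exact hp₀P

end Approx

section Descent

/-- descent of radical elements along `B ⊆ B[t]`. -/
theorem exists_pow_mem_Jac_of_adjoin {B : Subring K} [IsFractionRing B K] (hB : OneDim B)
    {y : K} (hy : y ∈ Jac B) (hy0 : y ≠ 0) {t : K} (ht : IsIntegral B t)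
    (hJ : ∀ M : Ideal (Algebra.adjoin B {t}), M.IsMaximal →
      (⟨t, Algebra.self_mem_adjoin_singleton B t⟩ : Algebra.adjoin B {t}) ∈ M) :
    ∃ N : ℕ, t ^ N ∈ Jac B := by
  classical
  haveI : Ring.DimensionLEOne B := ⟨fun hp hpp => hB _ hp hpp⟩
  haveI : Algebra.IsIntegral B (Algebra.adjoin B {t}) :=
    Algebra.IsIntegral.adjoin (by
      intro x hx
      rw [Set.mem_singleton_iff] at hx
      rw [hx]
      exact ht)
  have hC : OneDim (Algebra.adjoin B {t}) := by
    haveI := Ring.DimensionLEOne.of_isIntegral B (Algebra.adjoin B {t})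
    exact fun I hI hp => Ring.DimensionLEOne.maximalOfPrime hI hp
  -- `t` lies in the radical of `B[t]`
  have htJ : (⟨t, Algebra.self_mem_adjoin_singleton B t⟩ : Algebra.adjoin B {t}) ∈
      (⊥ : Ideal (Algebra.adjoin B {t})).jacobson := by
    rw [Ideal.jacobson, Ideal.mem_sInf]
    rintro M ⟨-, hM⟩
    exact hJ M hM
  -- a common denominator
  obtain ⟨F, hF⟩ := ht.fg_adjoin_singleton
  obtain ⟨⟨s, hs⟩, hsF⟩ := IsLocalization.exist_integer_multiples_of_finset (nonZeroDivisors B) F
  have hs0 : s ≠ 0 := nonZeroDivisors.ne_zero hs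
  have hsK : (s : K) ≠ 0 := fun h => hs0 (Subtype.ext h)
  have hsC : ∀ c ∈ Algebra.adjoin B {t}, (s : K) * c ∈ B := by
    intro c hc
    have hc' : c ∈ Subalgebra.toSubmodule (Algebra.adjoin B {t}) := hc
    rw [← hF] at hc'
    refine Submodule.span_induction ?_ ?_ ?_ ?_ hc'
    · intro x hx
      obtain ⟨b, hb⟩ := hsF x hx
      have : (s : K) * x = (b : K) := by
        have h1 : (algebraMap B K) b = (b : K) := rfl
        rw [← h1, hb]
        rfl
      rw [this]
      exact b.2
    · rw [mul_zero]; exact B.zero_mem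
    · intro x z _ _ hx hz
      rw [mul_add]
      exact B.add_mem hx hz
    · intro r x _ hx
      have : (s : K) * (r • x) = (r : K) * ((s : K) * x) := by
        rw [Algebra.smul_def]
        show (s : K) * ((r : K) * x) = _
        ring
      rw [this]
      exact B.mul_mem r.2 hx
  -- the element `s * y` of `B[t]`
  have hσ0 : algebraMap B (Algebra.adjoin B {t}) (s * ⟨y, Jac.mem hy⟩) ≠ 0 := by
    intro h
    have h1 := congrArg (Subtype.val) h
    have h2 : (s : K) * y = 0 := h1
    rcases mul_eq_zero.mp h2 with h3 | h3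
    · exact hsK h3
    · exact hy0 h3
  obtain ⟨n, hn⟩ := exists_pow_mem_span_of_mem_jacobson hC hσ0 htJ
  obtain ⟨c, hc⟩ := Ideal.mem_span_singleton'.mp hn
  refine ⟨n, ?_⟩
  have hc' : (c : K) * ((s : K) * y) = t ^ n := by
    have := congrArg (Subtype.val) hc
    exact this
  have : t ^ n = y * ((s : K) * (c : K)) := by
    rw [← hc']
    ring
  rw [this]
  exact Jac.mul_mem hy (hsC c c.2)

end Descent

end Groth.Agent.Helper12.SemiGlue
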