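import Groth.Agent.Lib.Helper12.SemiGlue3
import Groth.Agent.Lib.Helper1.KA3

/-!
# Gluing semi-local one-dimensional subrings of a field, part 4

Existence of the glueing element for two Noetherian semi-local one-dimensional subrings of `K`
generating `K`.
-/

set_option autoImplicit false
universe u
open IsDedekindDomain

namespace Groth.Agent.Helper12.SemiGlue

variable {K : Type u} [Field K]

theorem not_isField_of_ringKrullDim_eq_one {A : Type*} [CommRing A] (h : ringKrullDim A = 1) :
    ¬ IsField A := by
  intro hf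
  have := ringKrullDim_eq_zero_of_isField hf
  rw [h] at this
  exact one_ne_zero this

theorem exists_glue (A B : Subring K) [IsFractionRing A K] [IsFractionRing B K]
    [IsNoetherianRing B] (hdimA : ringKrullDim A = 1) (hdimB : ringKrullDim B = 1)
    (hfinA : Finite (MaximalSpectrum A)) (hfinB : Finite (MaximalSpectrum B))
    (hAB : A ⊔ B = ⊤) :
    ∃ g : K, g ∈ Jac A ∧ 1 - g ∈ Jac B ∧ g ≠ 0 ∧ 1 - g ≠ 0 := by
  classical
  have hA1 : OneDim A := oneDim_of_ringKrullDim_le hdimA.le
  have hB1 : OneDim B := oneDim_of_ringKrullDim_le hdimB.le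
  have hnfA := not_isField_of_ringKrullDim_eq_one hdimA
  have hnfB := not_isField_of_ringKrullDim_eq_one hdimB
  obtain ⟨yA, hyA0, hyA⟩ := exists_ne_zero_mem_Jac A hfinA hnfA
  obtain ⟨yB, hyB0, hyB⟩ := exists_ne_zero_mem_Jac B hfinB hnfB
  -- the integral closure of `B`
  obtain ⟨hded, -, hfib, -⟩ := Groth.Agent.Helper1.KA.integralClosure_dedekind
    (A := B) (K := K) (L := K) (B := integralClosure B K) hdimB
  haveI := hded
  haveI : IsFractionRing (integralClosure B K) K :=
    IsIntegralClosure.isFractionRing_of_finite_extension B K K (integralClosure B K)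
  haveI : Algebra.IsIntegral B (integralClosure B K) := IsIntegralClosure.isIntegral_algebra B K
  have hinjBD : Function.Injective (algebraMap B (integralClosure B K)) := by
    intro x z hxz
    have := congrArg (algebraMap (integralClosure B K) K) hxz
    rw [← IsScalarTower.algebraMap_apply, ← IsScalarTower.algebraMap_apply] at this
    exact Subtype.ext this
  have hDnf : ¬ IsField (integralClosure B K) := fun h =>
    hnfB (isField_of_isIntegral_of_isField hinjBD h)
  -- contraction of maximal ideals
  have hcontr : ∀ P : HeightOneSpectrum (integralClosure B K),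
      (P.asIdeal.comap (algebraMap B (integralClosure B K))).IsMaximal := by
    intro P
    haveI : P.asIdeal.IsMaximal := P.isMaximal
    exact Ideal.isMaximal_comap_of_isIntegral_of_isMaximal P.asIdeal
  -- finitely many places
  haveI : Finite (HeightOneSpectrum (integralClosure B K)) := by
    rw [← Set.finite_univ_iff]
    refine Set.Finite.of_finite_fibers
      (fun P => (⟨_, hcontr P⟩ : MaximalSpectrum B)) (Set.toFinite _) ?_
    rintro m -
    have h1 := hfib ⟨m.asIdeal, m.isMaximal.isPrime⟩
    have hinj : Set.InjOn (fun P : HeightOneSpectrum (integralClosure B K) =>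
        (⟨P.asIdeal, P.isPrime⟩ : PrimeSpectrum (integralClosure B K)))
        ((fun P : HeightOneSpectrum (integralClosure B K) =>
        (⟨P.asIdeal, P.isPrime⟩ : PrimeSpectrum (integralClosure B K))) ⁻¹'
          (PrimeSpectrum.comap (algebraMap B (integralClosure B K)) ⁻¹'
            {⟨m.asIdeal, m.isMaximal.isPrime⟩})) := by
      intro P _ P' _ hPP'
      have : P.asIdeal = P'.asIdeal := congrArg PrimeSpectrum.asIdeal hPP'
      exact HeightOneSpectrum.ext this
    refine (Set.Finite.preimage hinj h1).subset ?_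
    rintro P ⟨-, hP⟩
    have hP' : (⟨_, hcontr P⟩ : MaximalSpectrum B) = m := hP
    show PrimeSpectrum.comap (algebraMap B (integralClosure B K)) ⟨P.asIdeal, P.isPrime⟩ =
      ⟨m.asIdeal, m.isMaximal.isPrime⟩
    apply PrimeSpectrum.ext
    show P.asIdeal.comap (algebraMap B (integralClosure B K)) = m.asIdeal
    rw [← hP']
  -- radical elements of `B` have positive valuation
  have hF2 : ∀ (P : HeightOneSpectrum (integralClosure B K)) (q : K), q ∈ Jac B →
      P.valuation K q < 1 := by
    rintro P q ⟨hq, hqJ⟩
    have h1 : (⟨q, hq⟩ : B) ∈ P.asIdeal.comap (algebraMap B (integralClosure B K)) := by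
      have hle : (⊥ : Ideal B).jacobson ≤ P.asIdeal.comap (algebraMap B (integralClosure B K)) :=
        sInf_le ⟨bot_le, hcontr P⟩
      exact hle hqJ
    have h2 := (P.valuation_lt_one_iff_mem (K := K)
      (algebraMap B (integralClosure B K) ⟨q, hq⟩)).mpr h1
    exact h2
  -- elements of `B` are integral at every place
  have hF1 : ∀ (P : HeightOneSpectrum (integralClosure B K)) (b : K), b ∈ B →
      P.valuation K b ≤ 1 := by
    intro P b hb
    exact P.valuation_le_one (K := K) (algebraMap B (integralClosure B K) ⟨b, hb⟩)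
  -- poles at each place
  have hpole : ∀ P : HeightOneSpectrum (integralClosure B K), ∃ p ∈ Jac A,
      1 < P.valuation K p := by
    intro P
    by_contra hcon
    push Not at hcon
    have hAle : A ≤ (P.valuation K).integer := fun a ha =>
      (Valuation.mem_integer_iff _ _).mpr (valuation_le_one_of_forall_Jac P hyA hyA0 hcon ha)
    have hBle : B ≤ (P.valuation K).integer := fun b hb =>
      (Valuation.mem_integer_iff _ _).mpr (hF1 P b hb)
    have htop : (⊤ : Subring K) ≤ (P.valuation K).integer := by
      rw [← hAB]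
      exact sup_le hAle hBle
    have h1 : P.valuation K yB⁻¹ ≤ 1 :=
      (Valuation.mem_integer_iff _ _).mp (htop (Subring.mem_top _))
    have h2 := hF2 P yB hyB
    have h3 : P.valuation K yB ≠ 0 := (Valuation.ne_zero_iff _).mpr hyB0
    rw [map_inv₀] at h1
    have h4 : 1 < (P.valuation K yB)⁻¹ := (one_lt_inv₀ (zero_lt_iff.mpr h3)).mpr h2
    exact absurd h1 (not_le.mpr h4)
  obtain ⟨p, hpA, hp⟩ := exists_forall_one_lt_valuation hpole
  -- `p` is nonzero
  obtain ⟨Q₀, hQ₀⟩ := Ideal.exists_maximal (integralClosure B K)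
  have hp0 : p ≠ 0 := by
    rintro rfl
    have := hp ⟨Q₀, hQ₀.isPrime, Ring.ne_bot_of_isMaximal_of_not_isField hQ₀ hDnf⟩
    rw [map_zero] at this
    exact not_lt_zero this
  -- the inverse of `p`
  have hvt : ∀ P : HeightOneSpectrum (integralClosure B K), P.valuation K p⁻¹ < 1 := by
    intro P
    rw [map_inv₀]
    exact inv_lt_one_of_one_lt₀ (hp P)
  have htmem : p⁻¹ ∈ (algebraMap (integralClosure B K) K).range :=
    HeightOneSpectrum.mem_integers_of_valuation_le_one K p⁻¹ fun P => (hvt P).le
  have htint : IsIntegral B p⁻¹ := by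
    obtain ⟨d, hd⟩ := htmem
    rw [← hd]
    exact d.2
  have hJ : ∀ M : Ideal (Algebra.adjoin B {p⁻¹}), M.IsMaximal →
      (⟨p⁻¹, Algebra.self_mem_adjoin_singleton B p⁻¹⟩ : Algebra.adjoin B {p⁻¹}) ∈ M := by
    have hCD : Algebra.adjoin B {p⁻¹} ≤ integralClosure B K :=
      Algebra.adjoin_le (by
        intro x hx
        rw [Set.mem_singleton_iff] at hx
        rw [hx]
        exact htint)
    letI : Algebra (Algebra.adjoin B {p⁻¹}) (integralClosure B K) :=
      (Subalgebra.inclusion hCD).toRingHom.toAlgebra
    haveI : IsScalarTower B (Algebra.adjoin B {p⁻¹}) (integralClosure B K) :=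
      IsScalarTower.of_algebraMap_eq (fun x => rfl)
    haveI : Algebra.IsIntegral (Algebra.adjoin B {p⁻¹}) (integralClosure B K) :=
      Algebra.IsIntegral.tower_top (R := B)
    intro M hM
    obtain ⟨Q, hQmax, hQM⟩ := Ideal.exists_ideal_over_maximal_of_isIntegral
      (S := integralClosure B K) M (by
        have : RingHom.ker (algebraMap (Algebra.adjoin B {p⁻¹}) (integralClosure B K)) = ⊥ :=
          (RingHom.injective_iff_ker_eq_bot _).mp (Subalgebra.inclusion_injective hCD)
        rw [this]
        exact bot_le)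
    have hQ0 : Q ≠ ⊥ := Ring.ne_bot_of_isMaximal_of_not_isField hQmax hDnf
    have h1 := hvt ⟨Q, hQmax.isPrime, hQ0⟩
    have h2 : (⟨p⁻¹, htint⟩ : integralClosure B K) ∈ Q :=
      (HeightOneSpectrum.valuation_lt_one_iff_mem (K := K) ⟨Q, hQmax.isPrime, hQ0⟩
        (⟨p⁻¹, htint⟩ : integralClosure B K)).mp h1
    rw [← hQM]
    exact h2
  obtain ⟨N, hN⟩ := exists_pow_mem_Jac_of_adjoin hB1 hyB hyB0 htint hJ
  have hN0 : N ≠ 0 := by
    rintro rfl
    rw [pow_zero] at hN
    exact Jac.one_not_mem hN
  refine exists_glue_of_inv (p := p ^ N) (Jac.pow_mem hpA hN0) (pow_ne_zero _ hp0) ?_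
  rw [← inv_pow]
  exact hN

end Groth.Agent.Helper12.SemiGlue
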