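import Groth.Agent.Lib.Helper12.SemiGlue4

/-!
# Gluing semi-local one-dimensional subrings of a field, part 5

`Nice A`: `A` is a Noetherian semi-local one-dimensional subring of `K` with fraction field `K`.
The intersection of two nice subrings generating `K` is nice.
-/

set_option autoImplicit false
universe u
open AlgebraicGeometry

namespace Groth.Agent.Helper12.SemiGlue

variable {K : Type u} [Field K]

/-- a Noetherian semi-local one-dimensional subring of `K` with fraction field `K`. -/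
structure Nice (A : Subring K) : Prop where
  noeth : IsNoetherianRing A
  frac : IsFractionRing A K
  dim : ringKrullDim A = 1
  fin : Finite (MaximalSpectrum A)

theorem Nice.oneDim {A : Subring K} (h : Nice A) : OneDim A := oneDim_of_ringKrullDim_le h.dim.le

theorem Nice.not_isField {A : Subring K} (h : Nice A) : ¬ IsField A :=
  not_isField_of_ringKrullDim_eq_one h.dim

theorem ringKrullDim_eq_one_of_oneDim {A : Type*} [CommRing A] [IsDomain A] (h1 : OneDim A)
    (hnf : ¬ IsField A) : ringKrullDim A = 1 := by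
  have hle : ringKrullDim A ≤ 1 := by
    have : Ring.KrullDimLE 1 A := Ring.krullDimLE_one_iff_of_noZeroDivisors.mpr h1
    exact_mod_cast Ring.krullDimLE_iff.mp this
  refine le_antisymm hle ?_
  by_contra h
  rw [not_le] at h
  have h0 : ringKrullDim A ≤ 0 := Order.le_of_lt_succ h
  haveI : Ring.KrullDimLE 0 A := Ring.krullDimLE_iff.mpr (by exact_mod_cast h0)
  exact hnf Ring.KrullDimLE.isField_of_isDomain

section IsLoc

variable {R A : Subring K} {f : K}

/-- primes of `R` not containing `f` extend to `A = R[1/f]`. -/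
theorem IsLoc.map_prime (h : IsLoc R f A) (p : Ideal R) (hp : p.IsPrime)
    (hf : (⟨f, h.mem⟩ : R) ∉ p) :
    (p.map (Subring.inclusion h.le)).IsPrime ∧
      (p.map (Subring.inclusion h.le)).comap (Subring.inclusion h.le) = p := by
  letI := (Subring.inclusion h.le).toAlgebra
  haveI := h.isLocalization
  have hdisj : Disjoint (Submonoid.powers (⟨f, h.mem⟩ : R) : Set R) (p : Set R) :=
    (Ideal.disjoint_powers_iff_notMem _ hp.isRadical).mpr hf
  exact ⟨IsLocalization.isPrime_of_isPrime_disjoint (Submonoid.powers (⟨f, h.mem⟩ : R)) A p hp hdisj,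
    IsLocalization.under_map_of_isPrime_disjoint (Submonoid.powers (⟨f, h.mem⟩ : R)) A hp hdisj⟩

theorem IsLoc.comap_ne_bot (h : IsLoc R f A) (q : Ideal A) (hq : q ≠ ⊥) :
    q.comap (Subring.inclusion h.le) ≠ ⊥ := by
  obtain ⟨x, hx, hx0⟩ := Submodule.exists_mem_ne_zero_of_ne_bot hq
  obtain ⟨n, hn⟩ := h.exists_pow x x.2
  intro hbot
  have h1 : (⟨f ^ n * x, hn⟩ : R) ∈ q.comap (Subring.inclusion h.le) := by
    rw [Ideal.mem_comap]
    have : Subring.inclusion h.le ⟨f ^ n * x, hn⟩ =
        (⟨f ^ n, A.pow_mem (h.le h.mem) n⟩ : A) * x := Subtype.ext rfl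
    rw [this]
    exact Ideal.mul_mem_left _ _ hx
  rw [hbot, Ideal.mem_bot] at h1
  have h2 : f ^ n * (x : K) = 0 := congrArg Subtype.val h1
  rcases mul_eq_zero.mp h2 with h3 | h3
  · exact pow_ne_zero n h.ne_zero h3
  · exact hx0 (Subtype.ext h3)

theorem IsLoc.not_isField (h : IsLoc R f A) (hA : ¬ IsField A) : ¬ IsField R := by
  obtain ⟨q, hq0, hq⟩ := Ring.not_isField_iff_exists_prime.mp hA
  exact Ring.not_isField_iff_exists_prime.mpr
    ⟨q.comap (Subring.inclusion h.le), h.comap_ne_bot q hq0, Ideal.comap_isPrime _ _⟩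

/-- a nonzero prime of `R` not containing `f` extends to a maximal ideal of `A`. -/
theorem IsLoc.map_maximal (h : IsLoc R f A) (hA : OneDim A) (p : Ideal R) (hp : p.IsPrime)
    (hp0 : p ≠ ⊥) (hf : (⟨f, h.mem⟩ : R) ∉ p) :
    (p.map (Subring.inclusion h.le)).IsMaximal := by
  obtain ⟨h1, h2⟩ := h.map_prime p hp hf
  refine hA _ ?_ h1
  intro hbot
  rw [hbot] at h2
  apply hp0
  rw [← h2]
  exact (RingHom.injective_iff_ker_eq_bot _).mp (Subring.inclusion_injective h.le)

theorem IsLoc.unit_notMem (h : IsLoc R f A) (q : Ideal A) (hq : q ≠ ⊤) :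
    (⟨f, h.mem⟩ : R) ∉ q.comap (Subring.inclusion h.le) := by
  intro hmem
  apply hq
  rw [Ideal.eq_top_iff_one]
  have h1 : (⟨f⁻¹, h.inv_mem⟩ : A) * Subring.inclusion h.le ⟨f, h.mem⟩ = 1 :=
    Subtype.ext (inv_mul_cancel₀ h.ne_zero)
  rw [← h1]
  exact Ideal.mul_mem_left _ _ hmem

end IsLoc

/-- the intersection of two nice subrings glued along `f + g = 1` is nice. -/
theorem nice_inf {A B : Subring K} (hA : Nice A) (hB : Nice B) {f g : K}
    (hLA : IsLoc (A ⊓ B) f A) (hLB : IsLoc (A ⊓ B) g B) (hfg : f + g = 1) : Nice (A ⊓ B) := by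
  classical
  have hfgR : (⟨f, hLA.mem⟩ : (A ⊓ B : Subring K)) + ⟨g, hLB.mem⟩ = 1 := Subtype.ext hfg
  have hnf : ¬ IsField (A ⊓ B : Subring K) := hLA.not_isField hA.not_isField
  -- every prime misses `f` or `g`
  have hcases : ∀ p : Ideal (A ⊓ B : Subring K), p ≠ ⊤ →
      (⟨f, hLA.mem⟩ : (A ⊓ B : Subring K)) ∉ p ∨ (⟨g, hLB.mem⟩ : (A ⊓ B : Subring K)) ∉ p := by
    intro p hp
    by_contra hcon
    push Not at hcon
    apply hp
    rw [Ideal.eq_top_iff_one, ← hfgR]
    exact Ideal.add_mem _ hcon.1 hcon.2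
  -- one-dimensionality
  have h1 : OneDim (A ⊓ B : Subring K) := by
    intro p hp0 hp
    obtain ⟨m, hm, hpm⟩ := Ideal.exists_le_maximal p hp.ne_top
    have key : ∀ {C : Subring K} {e : K} (hL : IsLoc (A ⊓ B) e C), OneDim C →
        (⟨e, hL.mem⟩ : (A ⊓ B : Subring K)) ∉ m → p = m := by
      intro C e hL hC he
      have hep : (⟨e, hL.mem⟩ : (A ⊓ B : Subring K)) ∉ p := fun h => he (hpm h)
      have hm0 : m ≠ ⊥ := fun h => hp0 (le_bot_iff.mp (h ▸ hpm))
      have hpmax := hL.map_maximal hC p hp hp0 hep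
      obtain ⟨hmprime, hmcomap⟩ := hL.map_prime m hm.isPrime he
      obtain ⟨-, hpcomap⟩ := hL.map_prime p hp hep
      have heq : p.map (Subring.inclusion hL.le) = m.map (Subring.inclusion hL.le) :=
        hpmax.eq_of_le hmprime.ne_top (Ideal.map_mono hpm)
      rw [← hpcomap, heq, hmcomap]
    rcases hcases m hm.ne_top with hfm | hgm
    · rw [key hLA hA.oneDim hfm]; exact hm
    · rw [key hLB hB.oneDim hgm]; exact hm
  refine ⟨?_, ?_, ringKrullDim_eq_one_of_oneDim h1 hnf, ?_⟩
  · -- Noetherian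
    refine isNoetherianRing_of_away
      ({⟨f, hLA.mem⟩, ⟨g, hLB.mem⟩} : Finset (A ⊓ B : Subring K)) ?_ ?_
    · rw [Ideal.eq_top_iff_one, ← hfgR]
      refine Ideal.add_mem _ (Ideal.subset_span ?_) (Ideal.subset_span ?_)
      · simp
      · simp
    · rintro ⟨s, hs⟩
      rw [Finset.mem_insert, Finset.mem_singleton] at hs
      rcases hs with rfl | rfl
      · letI := (Subring.inclusion hLA.le).toAlgebra
        haveI := hLA.isLocalization
        haveI := hA.noeth
        exact isNoetherianRing_of_ringEquiv A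
          (IsLocalization.algEquiv (Submonoid.powers (⟨f, hLA.mem⟩ : (A ⊓ B : Subring K))) A
            (Localization.Away (⟨f, hLA.mem⟩ : (A ⊓ B : Subring K)))).toRingEquiv
      · letI := (Subring.inclusion hLB.le).toAlgebra
        haveI := hLB.isLocalization
        haveI := hB.noeth
        exact isNoetherianRing_of_ringEquiv B
          (IsLocalization.algEquiv (Submonoid.powers (⟨g, hLB.mem⟩ : (A ⊓ B : Subring K))) B
            (Localization.Away (⟨g, hLB.mem⟩ : (A ⊓ B : Subring K)))).toRingEquiv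
  · -- fraction field
    haveI := hA.frac
    refine IsFractionRing.of_field (A ⊓ B : Subring K) K ?_
    intro z
    obtain ⟨a, s, hs, rfl⟩ := IsFractionRing.div_surjective (A := A) z
    obtain ⟨n, hn⟩ := hLA.exists_pow a a.2
    obtain ⟨m, hm⟩ := hLA.exists_pow s s.2
    have hfm : f ^ m ∈ (A ⊓ B : Subring K) := Subring.pow_mem _ hLA.mem m
    have hfn : f ^ n ∈ (A ⊓ B : Subring K) := Subring.pow_mem _ hLA.mem n
    refine ⟨⟨f ^ m * (f ^ n * a), Subring.mul_mem _ hfm hn⟩,
      ⟨f ^ n * (f ^ m * s), Subring.mul_mem _ hfn hm⟩, ?_⟩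
    have hs0 : (s : K) ≠ 0 := fun h => nonZeroDivisors.ne_zero hs (Subtype.ext h)
    have hf0 := hLA.ne_zero
    show (a : K) / (s : K) = (f ^ m * (f ^ n * a)) / (f ^ n * (f ^ m * s))
    field_simp
  · -- finitely many maximal ideals
    haveI := hA.fin
    haveI := hB.fin
    have hsub : Set.range (fun m : MaximalSpectrum (A ⊓ B : Subring K) => m.asIdeal) ⊆
        Set.range (fun m : MaximalSpectrum A => m.asIdeal.comap (Subring.inclusion hLA.le)) ∪
        Set.range (fun m : MaximalSpectrum B => m.asIdeal.comap (Subring.inclusion hLB.le)) := by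
      rintro _ ⟨m, rfl⟩
      have hm0 : m.asIdeal ≠ ⊥ := Ring.ne_bot_of_isMaximal_of_not_isField m.isMaximal hnf
      rcases hcases m.asIdeal m.isMaximal.ne_top with hfm | hgm
      · left
        exact ⟨⟨_, hLA.map_maximal hA.oneDim _ m.isMaximal.isPrime hm0 hfm⟩,
          (hLA.map_prime _ m.isMaximal.isPrime hfm).2⟩
      · right
        exact ⟨⟨_, hLB.map_maximal hB.oneDim _ m.isMaximal.isPrime hm0 hgm⟩,
          (hLB.map_prime _ m.isMaximal.isPrime hgm).2⟩
    haveI : Finite (Set.range (fun m : MaximalSpectrum (A ⊓ B : Subring K) => m.asIdeal)) :=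
      Set.finite_coe_iff.mpr (((Set.finite_range _).union (Set.finite_range _)).subset hsub)
    exact Finite.of_injective_finite_range
      (f := fun m : MaximalSpectrum (A ⊓ B : Subring K) => m.asIdeal)
      (fun m m' h => MaximalSpectrum.ext h)

/-- two nice subrings generating `K`: their intersection is nice and glues them. -/
theorem nice_glue {A B : Subring K} (hA : Nice A) (hB : Nice B) (hAB : A ⊔ B = ⊤) :
    ∃ f g : K, f + g = 1 ∧ IsLoc (A ⊓ B) f A ∧ IsLoc (A ⊓ B) g B ∧ Nice (A ⊓ B) := by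
  haveI := hA.frac
  haveI := hB.frac
  haveI := hB.noeth
  obtain ⟨g, hgA, hgB, hg0, hg1⟩ := exists_glue A B hA.dim hB.dim hA.fin hB.fin hAB
  obtain ⟨hLA, hLB⟩ := isLoc_of_glue hA.oneDim hB.oneDim hgA hgB hg0 hg1
  exact ⟨1 - g, g, by ring, hLA, hLB, nice_inf hA hB hLA hLB (by ring)⟩

end Groth.Agent.Helper12.SemiGlue
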