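import Groth.Agent.Lib.Helper12.SemiGlue5

/-!
# Gluing semi-local one-dimensional subrings of a field, part 6

Finite families of nice subrings of `K` which pairwise generate `K`.
-/

set_option autoImplicit false
universe u
open AlgebraicGeometry

namespace Groth.Agent.Helper12.SemiGlue

variable {K : Type u} [Field K]

/-- `T[1/f]` as a subring of `K`. -/
def locSubring (T : Subring K) (f : K) (hf : f ∈ T) : Subring K where
  carrier := {z | ∃ n : ℕ, f ^ n * z ∈ T}
  mul_mem' := by
    rintro a b ⟨n, hn⟩ ⟨m, hm⟩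
    refine ⟨n + m, ?_⟩
    have : f ^ (n + m) * (a * b) = (f ^ n * a) * (f ^ m * b) := by rw [pow_add]; ring
    rw [this]
    exact T.mul_mem hn hm
  one_mem' := ⟨0, by simp⟩
  add_mem' := by
    rintro a b ⟨n, hn⟩ ⟨m, hm⟩
    refine ⟨n + m, ?_⟩
    have : f ^ (n + m) * (a + b) = f ^ m * (f ^ n * a) + f ^ n * (f ^ m * b) := by
      rw [pow_add]; ring
    rw [this]
    exact T.add_mem (T.mul_mem (T.pow_mem hf m) hn) (T.mul_mem (T.pow_mem hf n) hm)
  zero_mem' := ⟨0, by simp⟩
  neg_mem' := by
    rintro a ⟨n, hn⟩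
    refine ⟨n, ?_⟩
    rw [mul_neg]
    exact T.neg_mem hn

theorem mem_locSubring {T : Subring K} {f : K} {hf : f ∈ T} {z : K} :
    z ∈ locSubring T f hf ↔ ∃ n : ℕ, f ^ n * z ∈ T := Iff.rfl

theorem le_locSubring (T : Subring K) (f : K) (hf : f ∈ T) : T ≤ locSubring T f hf :=
  fun z hz => ⟨0, by simpa using hz⟩

theorem IsLoc.le_locSubring {R A T : Subring K} {f : K} (h : IsLoc R f A) (hRT : R ≤ T) :
    A ≤ locSubring T f (hRT h.mem) := by
  intro a ha
  obtain ⟨n, hn⟩ := h.exists_pow a ha
  exact ⟨n, hRT hn⟩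

theorem IsLoc.refl (A : Subring K) : IsLoc A 1 A :=
  ⟨le_rfl, A.one_mem, one_ne_zero, by simp, fun a ha => ⟨0, by simpa using ha⟩⟩

/-- transitivity of localisations inside `K`. -/
theorem IsLoc.trans {R R' A : Subring K} {f f' : K} (h : IsLoc R f R') (h' : IsLoc R' f' A) :
    ∃ e : K, IsLoc R e A := by
  obtain ⟨m, hm⟩ := h.exists_pow f' h'.mem
  refine ⟨f * (f ^ m * f'), h.le.trans h'.le, R.mul_mem h.mem hm,
    mul_ne_zero h.ne_zero (mul_ne_zero (pow_ne_zero _ h.ne_zero) h'.ne_zero), ?_, ?_⟩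
  · rw [mul_inv, mul_inv, ← inv_pow]
    exact A.mul_mem (h'.le h.inv_mem) (A.mul_mem (A.pow_mem (h'.le h.inv_mem) m) h'.inv_mem)
  · intro a ha
    obtain ⟨n, hn⟩ := h'.exists_pow a ha
    obtain ⟨k, hk⟩ := h.exists_pow _ hn
    refine ⟨n + k, ?_⟩
    have : (f * (f ^ m * f')) ^ (n + k) * a =
        (f ^ m * f') ^ k * (f ^ n * (f ^ m) ^ n * (f ^ k * (f' ^ n * a))) := by
      rw [pow_add]
      ring
    rw [this]
    exact R.mul_mem (R.pow_mem hm k) (R.mul_mem (R.mul_mem (R.pow_mem h.mem n)
      (R.pow_mem (R.pow_mem h.mem m) n)) hk)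

variable {ι : Type*} (A : ι → Subring K)

/-- the invariant carried along the induction. -/
def Inv (s : Finset ι) : Prop :=
  ∀ R : Subring K, R = s.inf A → Nice R ∧ (∀ i ∈ s, ∃ f : K, IsLoc R f (A i)) ∧
    ∀ p : PrimeSpectrum R, ∃ i ∈ s, ∃ (h : R ≤ A i) (q : PrimeSpectrum (A i)),
      PrimeSpectrum.comap (Subring.inclusion h) q = p

theorem inv_of_pairwise [DecidableEq ι] (hA : ∀ i, Nice (A i))
    (hgen : ∀ i j, i ≠ j → A i ⊔ A j = ⊤) (s : Finset ι) (hs : s.Nonempty) : Inv A s := by
  induction hs using Finset.Nonempty.cons_induction with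
  | singleton a =>
    intro R hR
    rw [Finset.inf_singleton] at hR
    subst hR
    refine ⟨hA a, ?_, ?_⟩
    · intro i hi
      rw [Finset.mem_singleton] at hi
      subst hi
      exact ⟨1, IsLoc.refl _⟩
    · intro p
      refine ⟨a, Finset.mem_singleton_self a, le_rfl, p, ?_⟩
      apply PrimeSpectrum.ext
      ext x
      rfl
  | cons a s ha hs ih =>
    intro R hR
    rw [Finset.inf_cons] at hR
    subst hR
    obtain ⟨hN', hloc', hcov'⟩ := ih (s.inf A) rfl
    -- `A a` and `R' = s.inf A` generate `K`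
    have hsup : A a ⊔ s.inf A = ⊤ := by
      rw [eq_top_iff]
      intro z _
      -- the ideal of denominators
      let T : Subring K := A a ⊔ s.inf A
      have hR'T : s.inf A ≤ T := le_sup_right
      let I : Ideal (s.inf A : Subring K) :=
        { carrier := {r | (r : K) * z ∈ T}
          add_mem' := by
            intro r r' hr hr'
            show ((r + r' : (s.inf A : Subring K)) : K) * z ∈ T
            rw [Subring.coe_add, add_mul]
            exact T.add_mem hr hr'
          zero_mem' := by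
            show ((0 : (s.inf A : Subring K)) : K) * z ∈ T
            rw [Subring.coe_zero, zero_mul]
            exact T.zero_mem
          smul_mem' := by
            intro c r hr
            show ((c • r : (s.inf A : Subring K)) : K) * z ∈ T
            rw [smul_eq_mul, Subring.coe_mul, mul_assoc]
            exact T.mul_mem (hR'T c.2) hr }
      have hItop : I = ⊤ := by
        by_contra hI
        obtain ⟨m, hm, hIm⟩ := Ideal.exists_le_maximal I hI
        obtain ⟨i, hi, hle, q, hq⟩ := hcov' ⟨m, hm.isPrime⟩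
        obtain ⟨f, hf⟩ := hloc' i hi
        have hia : i ≠ a := fun h => ha (h ▸ hi)
        have h1 : A i ≤ locSubring T f (hR'T hf.mem) := hf.le_locSubring hR'T
        have h2 : A a ≤ locSubring T f (hR'T hf.mem) :=
          le_sup_left.trans (le_locSubring T f _)
        have h3 : (⊤ : Subring K) ≤ locSubring T f (hR'T hf.mem) := by
          rw [← hgen i a hia]
          exact sup_le h1 h2
        obtain ⟨n, hn⟩ := h3 (Subring.mem_top z)
        have h4 : (⟨f, hf.mem⟩ : (s.inf A : Subring K)) ^ n ∈ I := by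
          show (((⟨f, hf.mem⟩ : (s.inf A : Subring K)) ^ n : (s.inf A : Subring K)) : K) * z ∈ T
          rw [Subring.coe_pow]
          exact hn
        have h5 : (⟨f, hf.mem⟩ : (s.inf A : Subring K)) ∈ m := hm.isPrime.mem_of_pow_mem n (hIm h4)
        have h6 := hf.unit_notMem q.asIdeal q.isPrime.ne_top
        apply h6
        have h7 : q.asIdeal.comap (Subring.inclusion hle) = m :=
          congrArg PrimeSpectrum.asIdeal hq
        rw [h7]
        exact h5
      have h1 : (1 : (s.inf A : Subring K)) ∈ I := by rw [hItop]; exact Submodule.mem_top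
      have h2 : ((1 : (s.inf A : Subring K)) : K) * z ∈ T := h1
      rwa [Subring.coe_one, one_mul] at h2
    obtain ⟨f, g, hfg, hLa, hLR', hN⟩ := nice_glue (hA a) hN' hsup
    refine ⟨hN, ?_, ?_⟩
    · intro i hi
      rw [Finset.mem_cons] at hi
      rcases hi with rfl | hi
      · exact ⟨f, hLa⟩
      · obtain ⟨f', hf'⟩ := hloc' i hi
        exact hLR'.trans hf'
    · intro p
      by_cases hfp : (⟨f, hLa.mem⟩ : (A a ⊓ s.inf A : Subring K)) ∈ p.asIdeal
      · -- then `g ∉ p`
        have hgp : (⟨g, hLR'.mem⟩ : (A a ⊓ s.inf A : Subring K)) ∉ p.asIdeal := by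
          intro hgp
          have h3 := Ideal.add_mem _ hfp hgp
          have h4 : (⟨f, hLa.mem⟩ : (A a ⊓ s.inf A : Subring K)) + ⟨g, hLR'.mem⟩ = 1 :=
            Subtype.ext hfg
          rw [h4] at h3
          exact p.isPrime.ne_top ((Ideal.eq_top_iff_one _).mpr h3)
        obtain ⟨hp1, hp2⟩ := hLR'.map_prime p.asIdeal p.isPrime hgp
        obtain ⟨i, hi, hle, q, hq⟩ := hcov' ⟨_, hp1⟩
        refine ⟨i, Finset.mem_cons.mpr (Or.inr hi), hLR'.le.trans hle, q, ?_⟩
        apply PrimeSpectrum.ext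
        have h7 : q.asIdeal.comap (Subring.inclusion hle) =
            p.asIdeal.map (Subring.inclusion hLR'.le) := congrArg PrimeSpectrum.asIdeal hq
        show q.asIdeal.comap (Subring.inclusion (hLR'.le.trans hle)) = p.asIdeal
        rw [← hp2, ← h7]
        rfl
      · obtain ⟨hp1, hp2⟩ := hLa.map_prime p.asIdeal p.isPrime hfp
        exact ⟨a, Finset.mem_cons_self a s, hLa.le, ⟨_, hp1⟩, PrimeSpectrum.ext hp2⟩

end Groth.Agent.Helper12.SemiGlue
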