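import Mathlib
import Groth.Agent.Lib.Helper16.Sch.FibStalk
import Groth.Agent.Lib.Helper3.SmoothRegSch

/-!
# Local rings at points with a smooth neighbourhood (helper12)
For `f : X ⟶ Y` smooth on an open neighbourhood of `x`: the stalk map `𝒪_{Y,f x} → 𝒪_{X,x}` is flat
and the fibre ring `𝒪_{X,x} ⧸ 𝔪_{f x} 𝒪_{X,x}` is a regular local ring.
-/

set_option autoImplicit false
universe u

open AlgebraicGeometry CategoryTheory Limits IsLocalRing

namespace Groth.Agent.Helper12.SmoothNhd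

open Groth.Agent.Helper16.FibStalk

variable {X Y : Scheme.{u}}

/-- the fibre ring of a smooth morphism is regular. -/
theorem isRegularLocalRing_fibre_of_smooth {W : Scheme.{u}} (g : W ⟶ Y) [Smooth g] (w : W) :
    IsRegularLocalRing (W.presheaf.stalk w ⧸ fibIdeal g w) := by
  let κ : Type u := Y.residueField (g w)
  letI : (g.fiber (g w)).Over (Spec (CommRingCat.of κ)) := ⟨g.fiberToSpecResidueField (g w)⟩
  haveI : Smooth ((g.fiber (g w)) ↘ (Spec (CommRingCat.of κ))) := by
    change Smooth (pullback.snd g (Y.fromSpecResidueField (g w)))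
    infer_instance
  have h := Groth.Agent.Helper3.SmoothRegSch.main κ (g.fiber (g w)) (g.asFiber w)
  exact IsRegularLocalRing.of_ringEquiv (fibStalkEquiv g w).symm

theorem flat_of_comp_equiv {A B C : Type*} [CommRing A] [CommRing B] [CommRing C]
    (φ : A →+* B) (ε : B ≃+* C) (h : (ε.toRingHom.comp φ).Flat) : φ.Flat := by
  have h1 : φ = ε.symm.toRingHom.comp (ε.toRingHom.comp φ) := by
    ext a
    simp
  rw [h1]
  exact RingHom.Flat.comp h (RingHom.Flat.of_bijective ε.symm.bijective)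

variable (f : X ⟶ Y)

/-- the comparison of stalks `𝒪_{X,x} ≃ 𝒪_{U,x}`. -/
noncomputable def stalkEquiv (x : X) (U : X.Opens) (hxU : x ∈ U) :
    X.presheaf.stalk x ≃+* (U : Scheme.{u}).presheaf.stalk ⟨x, hxU⟩ :=
  (asIso (U.ι.stalkMap ⟨x, hxU⟩)).commRingCatIsoToRingEquiv

theorem stalkEquiv_comp (x : X) (U : X.Opens) (hxU : x ∈ U) :
    (stalkEquiv x U hxU).toRingHom.comp (f.stalkMap x).hom =
      ((U.ι ≫ f).stalkMap ⟨x, hxU⟩).hom := by
  have h2 : (U.ι ≫ f).stalkMap ⟨x, hxU⟩ = f.stalkMap x ≫ U.ι.stalkMap ⟨x, hxU⟩ :=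
    Scheme.Hom.stalkMap_comp U.ι f ⟨x, hxU⟩
  rw [h2]
  rfl

/-- the stalk map of a morphism which is flat near `x` is flat. -/
theorem flat_stalkMap_of_nhd (x : X) (U : X.Opens) (hxU : x ∈ U) [Flat (U.ι ≫ f)] :
    (f.stalkMap x).hom.Flat := by
  apply flat_of_comp_equiv _ (stalkEquiv x U hxU)
  rw [stalkEquiv_comp]
  exact Flat.stalkMap (U.ι ≫ f) ⟨x, hxU⟩

/-- the fibre ring at a point with a smooth neighbourhood is regular. -/
theorem isRegularLocalRing_fibre_of_nhd (x : X) (U : X.Opens) (hxU : x ∈ U) [Smooth (U.ι ≫ f)] :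
    IsRegularLocalRing (X.presheaf.stalk x ⧸
      (maximalIdeal (Y.presheaf.stalk (f x))).map (f.stalkMap x).hom) := by
  have h := isRegularLocalRing_fibre_of_smooth (U.ι ≫ f) ⟨x, hxU⟩
  have hI : fibIdeal (U.ι ≫ f) ⟨x, hxU⟩ =
      ((maximalIdeal (Y.presheaf.stalk (f x))).map (f.stalkMap x).hom).map
        (stalkEquiv x U hxU) := by
    have h1 : ((maximalIdeal (Y.presheaf.stalk (f x))).map (f.stalkMap x).hom).map
        (stalkEquiv x U hxU) = ((maximalIdeal (Y.presheaf.stalk (f x))).map (f.stalkMap x).hom).map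
        (stalkEquiv x U hxU).toRingHom := rfl
    rw [h1, Ideal.map_map, stalkEquiv_comp]
    rfl
  exact IsRegularLocalRing.of_ringEquiv (Ideal.quotientEquiv _ _ (stalkEquiv x U hxU) hI).symm

end Groth.Agent.Helper12.SmoothNhd
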