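import Mathlib
import Groth.Agent.Lib.Helper12.Lech
import Groth.Agent.Lib.Helper12.KoszEuler19

/-!
# `χ(x; M) ≤ ℓ(M/(x)M)` via `ℓ(M/(x₁ⁿ,…,x_dⁿ)M) ≤ n^d ℓ(M/(x)M)` and Lech's formula
-/

set_option autoImplicit false
universe u

open Filter Topology

namespace Groth.Agent.Helper12.SopLength

open Groth.Agent.Helper12.KoszEuler

variable {A : Type u} [CommRing A]

theorem length_quot_le_add {M : Type*} [AddCommGroup M] [Module A M]
    (P₁ Pn Pn1 : Submodule A M) (y : A)
    (h1 : Pn1 ≤ Pn) (hmul : ∀ m ∈ P₁, y • m ∈ Pn1)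
    (hgen : ∀ m ∈ Pn, ∃ m' : M, m - y • m' ∈ Pn1) :
    Module.length A (M ⧸ Pn1) ≤ Module.length A (M ⧸ P₁) + Module.length A (M ⧸ Pn) := by
  set f : (M ⧸ P₁) →ₗ[A] (M ⧸ Pn1) := P₁.mapQ Pn1 (LinearMap.lsmul A M y) (fun m hm => hmul m hm)
  set g : (M ⧸ Pn1) →ₗ[A] (M ⧸ Pn) := Submodule.factor h1
  have hker : LinearMap.ker g ≤ LinearMap.range f := by
    intro z hz
    obtain ⟨m, rfl⟩ := Submodule.Quotient.mk_surjective _ z
    rw [LinearMap.mem_ker] at hz
    have hm : m ∈ Pn := by
      have : g (Submodule.Quotient.mk m) = Submodule.Quotient.mk m := rfl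
      rw [this, Submodule.Quotient.mk_eq_zero] at hz
      exact hz
    obtain ⟨m', hm'⟩ := hgen m hm
    refine ⟨Submodule.Quotient.mk m', ?_⟩
    show Submodule.Quotient.mk (y • m') = Submodule.Quotient.mk m
    rw [eq_comm, Submodule.Quotient.eq]
    exact hm'
  rw [length_eq_ker_add_range g]
  refine add_le_add ?_ ?_
  · calc Module.length A (LinearMap.ker g) ≤ Module.length A (LinearMap.range f) :=
          Module.length_le_of_injective (Submodule.inclusion hker) (Submodule.inclusion_injective hker)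
      _ ≤ Module.length A (M ⧸ P₁) :=
          Module.length_le_of_surjective f.rangeRestrict f.surjective_rangeRestrict
  · exact Module.length_le_of_injective (LinearMap.range g).subtype (Submodule.subtype_injective _)

/-- `ℓ(M/(J + xⁿ)M) ≤ n · ℓ(M/(J + x)M)` -/
theorem length_quot_sup_pow_le {M : Type*} [AddCommGroup M] [Module A M] (J : Ideal A) (x : A)
    (n : ℕ) :
    Module.length A (M ⧸ ((J ⊔ Ideal.span {x ^ n}) • (⊤ : Submodule A M))) ≤
      n * Module.length A (M ⧸ ((J ⊔ Ideal.span {x}) • (⊤ : Submodule A M))) := by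
  induction n with
  | zero =>
    have : (J ⊔ Ideal.span {x ^ 0}) • (⊤ : Submodule A M) = ⊤ := by
      rw [pow_zero, Ideal.span_singleton_one, sup_top_eq, Submodule.top_smul]
    rw [this]
    have : Subsingleton (M ⧸ (⊤ : Submodule A M)) := Submodule.Quotient.subsingleton_iff.mpr rfl
    simp [Module.length_eq_zero]
  | succ n ih =>
    have key := length_quot_le_add (M := M) ((J ⊔ Ideal.span {x}) • (⊤ : Submodule A M))
      ((J ⊔ Ideal.span {x ^ n}) • (⊤ : Submodule A M))
      ((J ⊔ Ideal.span {x ^ (n + 1)}) • (⊤ : Submodule A M)) (x ^ n) ?_ ?_ ?_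
    · calc _ ≤ _ := key
        _ ≤ Module.length A (M ⧸ ((J ⊔ Ideal.span {x}) • (⊤ : Submodule A M))) +
            n * Module.length A (M ⧸ ((J ⊔ Ideal.span {x}) • (⊤ : Submodule A M))) :=
          add_le_add le_rfl ih
        _ = _ := by push_cast; ring
    · refine Submodule.smul_mono (sup_le_sup le_rfl ?_) le_rfl
      rw [Ideal.span_singleton_le_span_singleton]
      exact ⟨x, pow_succ x n⟩
    · intro m hm
      rw [Submodule.sup_smul] at hm ⊢
      obtain ⟨a, ha, b, hb, rfl⟩ := Submodule.mem_sup.mp hm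
      rw [smul_add]
      refine Submodule.add_mem_sup (Submodule.smul_mem _ _ ha) ?_
      rw [Submodule.ideal_span_singleton_smul, Submodule.mem_smul_pointwise_iff_exists] at hb ⊢
      obtain ⟨c, -, rfl⟩ := hb
      refine ⟨c, trivial, ?_⟩
      rw [smul_smul, pow_succ]
    · intro m hm
      rw [Submodule.sup_smul] at hm
      obtain ⟨a, ha, b, hb, rfl⟩ := Submodule.mem_sup.mp hm
      rw [Submodule.ideal_span_singleton_smul, Submodule.mem_smul_pointwise_iff_exists] at hb
      obtain ⟨c, -, rfl⟩ := hb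
      refine ⟨c, ?_⟩
      rw [add_sub_cancel_right]
      rw [Submodule.sup_smul]
      exact Submodule.mem_sup_left ha

/-- the ideal `(x_i^{e_i})` -/
def Iof {d : ℕ} (x : Fin d → A) (e : Fin d → ℕ) : Ideal A :=
  Ideal.span (Set.range fun i => x i ^ e i)

theorem Iof_update {d : ℕ} (x : Fin d → A) (e : Fin d → ℕ) (a : Fin d) (k : ℕ) :
    Iof x (Function.update e a k) =
      Ideal.span ((fun i => x i ^ e i) '' {i | i ≠ a}) ⊔ Ideal.span {x a ^ k} := by
  unfold Iof
  rw [← Ideal.span_union]
  congr 1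
  ext y
  constructor
  · rintro ⟨i, rfl⟩
    by_cases hi : i = a
    · subst hi
      right
      simp
    · left
      exact ⟨i, hi, by simp [Function.update_of_ne hi]⟩
  · rintro (⟨i, hi, rfl⟩ | hy)
    · exact ⟨i, by simp [Function.update_of_ne hi]⟩
    · rw [Set.mem_singleton_iff] at hy
      exact ⟨a, by simp [hy]⟩

theorem length_quot_Iof_le {d : ℕ} (x : Fin d → A) (M : Type*) [AddCommGroup M] [Module A M]
    (n : ℕ) (S : Finset (Fin d)) :
    Module.length A (M ⧸ (Iof x (fun i => if i ∈ S then n else 1) • (⊤ : Submodule A M))) ≤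
      (n ^ S.card : ℕ) * Module.length A (M ⧸ (Iof x (fun _ => 1) • (⊤ : Submodule A M))) := by
  classical
  induction S using Finset.induction_on with
  | empty =>
    have : (fun i : Fin d => if i ∈ (∅ : Finset (Fin d)) then n else 1) = fun _ => 1 := by
      ext i; simp
    rw [this]
    simp
  | insert a S ha ih =>
    have e1 : (fun i => if i ∈ insert a S then n else 1) =
        Function.update (fun i => if i ∈ S then n else 1) a n := by
      ext i
      by_cases hi : i = a
      · subst hi; simp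
      · simp [Function.update_of_ne hi, Finset.mem_insert, hi]
    have e2 : (fun i => if i ∈ S then n else 1) =
        Function.update (fun i => if i ∈ S then n else 1) a 1 := by
      ext i
      by_cases hi : i = a
      · subst hi; simp [ha]
      · simp [Function.update_of_ne hi]
    rw [e1, Iof_update]
    refine (length_quot_sup_pow_le _ _ n).trans ?_
    have e3 : Ideal.span ((fun i => x i ^ (fun i => if i ∈ S then n else 1) i) '' {i | i ≠ a}) ⊔
        Ideal.span {x a} = Iof x (fun i => if i ∈ S then n else 1) := by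
      conv_rhs => rw [e2, Iof_update, pow_one]
    rw [e3, Finset.card_insert_of_notMem ha, pow_succ]
    calc (n : ℕ∞) * Module.length A (M ⧸ (Iof x (fun i => if i ∈ S then n else 1) • (⊤ : Submodule A M)))
        ≤ n * ((n ^ S.card : ℕ) * Module.length A (M ⧸ (Iof x (fun _ => 1) • (⊤ : Submodule A M)))) :=
          mul_le_mul_right ih _
      _ = _ := by push_cast; ring

/-- `ℓ(M/(x₁ⁿ,…,x_dⁿ)M) ≤ n^d · ℓ(M/(x)M)` -/
theorem length_quot_pow_le {d : ℕ} (x : Fin d → A) (M : Type*) [AddCommGroup M] [Module A M]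
    (n : ℕ) :
    Module.length A (M ⧸ (Ideal.span (Set.range fun i => x i ^ n) • (⊤ : Submodule A M))) ≤
      (n ^ d : ℕ) * Module.length A (M ⧸ (Ideal.span (Set.range x) • (⊤ : Submodule A M))) := by
  have h := length_quot_Iof_le x M n Finset.univ
  have e1 : (fun i : Fin d => if i ∈ (Finset.univ : Finset (Fin d)) then n else 1) = fun _ => n := by
    ext i; simp
  rw [e1, Finset.card_univ, Fintype.card_fin] at h
  unfold Iof at h
  have e2 : (fun i : Fin d => x i ^ 1) = x := by
    ext i; simp
  rw [e2] at h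
  exact_mod_cast h

variable [IsNoetherianRing A] [IsLocalRing A]

/-- `χ(x; M) ≤ ℓ(M/(x)M)` -/
theorem chi_le_length {d : ℕ} (x : Fin d → A) (M : Type u) [AddCommGroup M] [Module A M]
    [Module.Finite A M]
    (hfl : IsFiniteLength A (M ⧸ (Ideal.span (Set.range x) • (⊤ : Submodule A M)))) :
    chi M (List.ofFn x) ≤
      ((Module.length A (M ⧸ (Ideal.span (Set.range x) • (⊤ : Submodule A M)))).toNat : ℤ) := by
  have h1 := Lech.tendsto_lech x M hfl
  have hne : Module.length A (M ⧸ (Ideal.span (Set.range x) • (⊤ : Submodule A M))) ≠ ⊤ :=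
    Module.length_ne_top_iff.mpr hfl
  have h2 : ((chi M (List.ofFn x) : ℤ) : ℝ) ≤
      ((Module.length A (M ⧸ (Ideal.span (Set.range x) • (⊤ : Submodule A M)))).toNat : ℝ) := by
    refine le_of_tendsto h1 (eventually_atTop.mpr ⟨1, fun n hn => ?_⟩)
    have hnd : (0 : ℝ) < (n : ℝ) ^ d := by
      have : 0 < n := hn
      positivity
    rw [div_le_iff₀ hnd]
    have h3 := length_quot_pow_le x M n
    have h4 : (n ^ d : ℕ) * Module.length A (M ⧸ (Ideal.span (Set.range x) • (⊤ : Submodule A M)))
        ≠ ⊤ := WithTop.mul_ne_top (ENat.natCast_ne_top _) hne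
    have h5 := ENat.toNat_le_toNat h3 h4
    rw [ENat.toNat_mul, ENat.toNat_natCast] at h5
    have h6 : ((Module.length A (M ⧸ (Ideal.span (Set.range fun i => x i ^ n) •
        (⊤ : Submodule A M)))).toNat : ℝ) ≤ ((n ^ d * (Module.length A (M ⧸ (Ideal.span (Set.range x) •
          (⊤ : Submodule A M)))).toNat : ℕ) : ℝ) := by exact_mod_cast h5
    push_cast at h6
    linarith
  exact_mod_cast h2

end Groth.Agent.Helper12.SopLength
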