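import Mathlib
import Groth.Prelude

set_option autoImplicit false
set_option linter.style.haveILetI false
universe u
open CategoryTheory CategoryTheory.Limits AlgebraicGeometry Opposite TopologicalSpace Topology

noncomputable section

namespace Groth.Agent.Helper12.SqZero

/-- `Φ₁ + Φ₂ - Φ₀` is a ring homomorphism if the `Φᵢ` agree modulo an ideal of square zero. -/
def addSub {C B : Type*} [CommRing C] [CommRing B] (N : Ideal B)
    (hN : ∀ a ∈ N, ∀ b ∈ N, a * b = 0)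
    (Φ₁ Φ₂ Φ₀ : C →+* B) (h₁ : ∀ c, Φ₁ c - Φ₀ c ∈ N) (h₂ : ∀ c, Φ₂ c - Φ₀ c ∈ N) : C →+* B where
  toFun c := Φ₁ c + Φ₂ c - Φ₀ c
  map_one' := by simp
  map_zero' := by simp
  map_add' a b := by simp only [map_add]; ring
  map_mul' a b := by
    have e3 := hN _ (h₁ a) _ (h₂ b)
    have e4 := hN _ (h₂ a) _ (h₁ b)
    simp only [map_mul]
    linear_combination (-1 : B) * e3 - e4

@[simp] theorem addSub_apply {C B : Type*} [CommRing C] [CommRing B] (N : Ideal B)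
    (hN : ∀ a ∈ N, ∀ b ∈ N, a * b = 0)
    (Φ₁ Φ₂ Φ₀ : C →+* B) (h₁ : ∀ c, Φ₁ c - Φ₀ c ∈ N) (h₂ : ∀ c, Φ₂ c - Φ₀ c ∈ N) (c : C) :
    addSub N hN Φ₁ Φ₂ Φ₀ h₁ h₂ c = Φ₁ c + Φ₂ c - Φ₀ c := rfl

/-- two morphisms of schemes which agree on all `Spec 𝒪_{Y,y}` are equal. -/
theorem hom_ext_of_fromSpecStalk {Y X : Scheme.{u}} (f₁ f₂ : Y ⟶ X)
    (h : ∀ y : Y, Y.fromSpecStalk y ≫ f₁ = Y.fromSpecStalk y ≫ f₂) : f₁ = f₂ := by
  let ι := equalizer.ι f₁ f₂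
  let s : ∀ y : Y, Spec (Y.presheaf.stalk y) ⟶ equalizer f₁ f₂ := fun y => equalizer.lift _ (h y)
  have hs : ∀ y, s y ≫ ι = Y.fromSpecStalk y := fun y => equalizer.lift_ι _ _
  have hpt : ∀ y, ι (s y (IsLocalRing.closedPoint _)) = y := by
    intro y
    have : ι (s y (IsLocalRing.closedPoint _)) = (s y ≫ ι) (IsLocalRing.closedPoint _) := rfl
    rw [this, hs, Scheme.fromSpecStalk_closedPoint]
  have hsurj : Function.Surjective ι := fun y => ⟨_, hpt y⟩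
  have hemb : IsEmbedding ι := ι.isEmbedding
  have hoe : IsOpenEmbedding ι := ⟨hemb, by rw [hsurj.range_eq]; exact isOpen_univ⟩
  haveI : ∀ e, IsIso (ι.stalkMap e) := by
    intro e
    have he : s (ι e) (IsLocalRing.closedPoint _) = e := hemb.injective (hpt (ι e))
    rw [← he]
    set c := IsLocalRing.closedPoint (Y.presheaf.stalk (ι e)) with hc
    have h1 : (s (ι e) ≫ ι).stalkMap c = ι.stalkMap (s (ι e) c) ≫ (s (ι e)).stalkMap c :=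
      Scheme.Hom.stalkMap_comp _ _ _
    have h2 : IsIso ((s (ι e) ≫ ι).stalkMap c) := by
      rw [hs]
      have h3 := Scheme.stalkClosedPointTo_fromSpecStalk (X := Y) (ι e)
      unfold Scheme.stalkClosedPointTo at h3
      have h4 : (Y.fromSpecStalk (ι e)).stalkMap c =
          (Y.presheaf.stalkCongr (by rw [Scheme.fromSpecStalk_closedPoint]; rfl)).hom ≫
            (stalkClosedPointIso (Y.presheaf.stalk (ι e))).inv := by
        rw [← h3, Category.assoc, Iso.hom_inv_id, Category.comp_id]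
      rw [h4]
      infer_instance
    rw [ConcreteCategory.isIso_iff_bijective]
    refine ⟨?_, ι.stalkMap_surjective _⟩
    rw [h1] at h2
    have := (ConcreteCategory.isIso_iff_bijective _).mp h2
    exact Function.Injective.of_comp (f := ((s (ι e)).stalkMap c).hom) this.1
  haveI : IsOpenImmersion ι := IsOpenImmersion.of_isIso_stalkMap ι hoe
  haveI : Epi ι.base := (TopCat.epi_iff_surjective _).mpr hsurj
  haveI : IsIso ι := IsOpenImmersion.isIso ι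
  rw [← cancel_epi ι]
  exact equalizer.condition f₁ f₂


theorem exists_factor {X : Scheme.{u}} {B : CommRingCat.{u}} [IsLocalRing B] (f : Spec B ⟶ X)
    (x : X) (hx : f (IsLocalRing.closedPoint B) = x) :
    ∃ φ : X.presheaf.stalk x ⟶ B, Spec.map φ ≫ X.fromSpecStalk x = f := by
  subst hx
  exact ⟨Scheme.stalkClosedPointTo f, Scheme.Spec_stalkClosedPointTo_fromSpecStalk f⟩

theorem factor_injective {X : Scheme.{u}} {B : CommRingCat.{u}} (x : X)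
    (φ ψ : X.presheaf.stalk x ⟶ B)
    (h : Spec.map φ ≫ X.fromSpecStalk x = Spec.map ψ ≫ X.fromSpecStalk x) : φ = ψ :=
  Spec.map_injective ((cancel_mono _).mp h)

theorem comp_factor {P X : Scheme.{u}} {B : CommRingCat.{u}} (p : P ⟶ X) (z : P)
    (Θ : P.presheaf.stalk z ⟶ B) :
    (Spec.map Θ ≫ P.fromSpecStalk z) ≫ p =
      Spec.map (p.stalkMap z ≫ Θ) ≫ X.fromSpecStalk (p z) := by
  rw [Spec.map_comp, Category.assoc, Category.assoc, Scheme.SpecMap_stalkMap_fromSpecStalk]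

section Core

variable {B : Type u} [CommRing B] [IsLocalRing B] (N : Ideal B)

/-- the closed subscheme `Spec (B/N) ⟶ Spec B`. -/
abbrev jN : Spec (CommRingCat.of (B ⧸ N)) ⟶ Spec (CommRingCat.of B) :=
  Spec.map (CommRingCat.ofHom (Ideal.Quotient.mk N))

variable (hN : ∀ a ∈ N, ∀ b ∈ N, a * b = 0)

include hN in
theorem closedPoint_mem_range : IsLocalRing.closedPoint B ∈ Set.range (jN N) := by
  have hne : N ≠ ⊤ := by
    intro h
    have h1 : (1 : B) ∈ N := h ▸ Submodule.mem_top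
    have := hN 1 h1 1 h1
    rw [one_mul] at this
    exact one_ne_zero this
  have h2 : Set.range (PrimeSpectrum.comap (Ideal.Quotient.mk N)) =
      PrimeSpectrum.zeroLocus (RingHom.ker (Ideal.Quotient.mk N)) :=
    range_comap_of_surjective _ _ Ideal.Quotient.mk_surjective
  have h3 : IsLocalRing.closedPoint B ∈ Set.range (PrimeSpectrum.comap (Ideal.Quotient.mk N)) := by
    rw [h2, Ideal.mk_ker, PrimeSpectrum.mem_zeroLocus]
    exact IsLocalRing.le_maximalIdeal hne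
  exact h3

include hN in
theorem closedPoint_eq {P : Scheme.{u}} (F F' : Spec (CommRingCat.of B) ⟶ P)
    (h : jN N ≫ F = jN N ≫ F') :
    F (IsLocalRing.closedPoint B) = F' (IsLocalRing.closedPoint B) := by
  obtain ⟨p, hp⟩ := closedPoint_mem_range N hN
  rw [← hp]
  show (jN N ≫ F) p = (jN N ≫ F') p
  rw [h]

omit [IsLocalRing B] in
theorem sub_mem_of_eq {P : Scheme.{u}} (z : P) (φ φ' : P.presheaf.stalk z ⟶ CommRingCat.of B)
    (h : jN N ≫ Spec.map φ ≫ P.fromSpecStalk z = jN N ≫ Spec.map φ' ≫ P.fromSpecStalk z)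
    (c : P.presheaf.stalk z) : φ.hom c - φ'.hom c ∈ N := by
  rw [← Category.assoc, ← Category.assoc, ← Spec.map_comp, ← Spec.map_comp] at h
  have h1 := factor_injective z _ _ h
  have h2 := congrArg (fun f => f.hom c) h1
  exact Ideal.Quotient.eq.mp h2

include hN in
theorem core {P X₁ X₂ Q : Scheme.{u}} (p₁ : P ⟶ X₁) (p₂ : P ⟶ X₂)
    (hmono : ∀ a b : Spec (CommRingCat.of B) ⟶ P, a ≫ p₁ = b ≫ p₁ → a ≫ p₂ = b ≫ p₂ → a = b)
    (m : P ⟶ Q) (F₁₁ F₁₀ F₀₁ F₀₀ : Spec (CommRingCat.of B) ⟶ P)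
    (h₁₀ : jN N ≫ F₁₀ = jN N ≫ F₀₀) (h₀₁ : jN N ≫ F₀₁ = jN N ≫ F₀₀)
    (e1 : F₁₁ ≫ p₁ = F₁₀ ≫ p₁) (e2 : F₀₁ ≫ p₁ = F₀₀ ≫ p₁)
    (e3 : F₁₁ ≫ p₂ = F₀₁ ≫ p₂) (e4 : F₁₀ ≫ p₂ = F₀₀ ≫ p₂) :
    ∃ (α β γ δ : Q.presheaf.stalk (m (F₀₀ (IsLocalRing.closedPoint B))) ⟶ CommRingCat.of B),
      Spec.map α ≫ Q.fromSpecStalk _ = F₁₀ ≫ m ∧ Spec.map β ≫ Q.fromSpecStalk _ = F₀₁ ≫ m ∧
      Spec.map γ ≫ Q.fromSpecStalk _ = F₀₀ ≫ m ∧ Spec.map δ ≫ Q.fromSpecStalk _ = F₁₁ ≫ m ∧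
      ∀ a, δ.hom a = α.hom a + β.hom a - γ.hom a := by
  set z := F₀₀ (IsLocalRing.closedPoint B) with hz
  obtain ⟨Φ₀₀, hΦ₀₀⟩ := exists_factor F₀₀ z rfl
  obtain ⟨Φ₁₀, hΦ₁₀⟩ := exists_factor F₁₀ z (closedPoint_eq N hN _ _ h₁₀)
  obtain ⟨Φ₀₁, hΦ₀₁⟩ := exists_factor F₀₁ z (closedPoint_eq N hN _ _ h₀₁)
  have d10 : ∀ c, Φ₁₀.hom c - Φ₀₀.hom c ∈ N :=
    sub_mem_of_eq N z _ _ (by rw [hΦ₁₀, hΦ₀₀]; exact h₁₀)
  have d01 : ∀ c, Φ₀₁.hom c - Φ₀₀.hom c ∈ N :=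
    sub_mem_of_eq N z _ _ (by rw [hΦ₀₁, hΦ₀₀]; exact h₀₁)
  let Ψ : P.presheaf.stalk z ⟶ CommRingCat.of B :=
    CommRingCat.ofHom (addSub N hN Φ₁₀.hom Φ₀₁.hom Φ₀₀.hom d10 d01)
  have hΨ : ∀ c, Ψ.hom c = Φ₁₀.hom c + Φ₀₁.hom c - Φ₀₀.hom c := fun c => rfl
  have hψ1 : (Spec.map Ψ ≫ P.fromSpecStalk z) ≫ p₁ = F₁₁ ≫ p₁ := by
    rw [e1, ← hΦ₁₀, comp_factor, comp_factor]
    congr 2
    ext a
    have h2 : p₁.stalkMap z ≫ Φ₀₁ = p₁.stalkMap z ≫ Φ₀₀ := by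
      apply factor_injective
      rw [← comp_factor, ← comp_factor, hΦ₀₁, hΦ₀₀, e2]
    have h3 := congrArg (fun f => f.hom a) h2
    show Ψ.hom ((p₁.stalkMap z).hom a) = Φ₁₀.hom ((p₁.stalkMap z).hom a)
    rw [hΨ]
    have h3' : Φ₀₁.hom ((p₁.stalkMap z).hom a) = Φ₀₀.hom ((p₁.stalkMap z).hom a) := h3
    rw [h3']
    ring
  have hψ2 : (Spec.map Ψ ≫ P.fromSpecStalk z) ≫ p₂ = F₁₁ ≫ p₂ := by
    rw [e3, ← hΦ₀₁, comp_factor, comp_factor]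
    congr 2
    ext a
    have h2 : p₂.stalkMap z ≫ Φ₁₀ = p₂.stalkMap z ≫ Φ₀₀ := by
      apply factor_injective
      rw [← comp_factor, ← comp_factor, hΦ₁₀, hΦ₀₀, e4]
    have h3 := congrArg (fun f => f.hom a) h2
    show Ψ.hom ((p₂.stalkMap z).hom a) = Φ₀₁.hom ((p₂.stalkMap z).hom a)
    rw [hΨ]
    have h3' : Φ₁₀.hom ((p₂.stalkMap z).hom a) = Φ₀₀.hom ((p₂.stalkMap z).hom a) := h3
    rw [h3']
    ring
  have hψ : Spec.map Ψ ≫ P.fromSpecStalk z = F₁₁ := hmono _ _ hψ1 hψ2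
  refine ⟨m.stalkMap z ≫ Φ₁₀, m.stalkMap z ≫ Φ₀₁, m.stalkMap z ≫ Φ₀₀, m.stalkMap z ≫ Ψ,
    ?_, ?_, ?_, ?_, fun a => ?_⟩
  · rw [← comp_factor, hΦ₁₀]
  · rw [← comp_factor, hΦ₀₁]
  · rw [← comp_factor, hΦ₀₀]
  · rw [← comp_factor, hψ]
  · exact hΨ _

end Core

end Groth.Agent.Helper12.SqZero
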