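import Mathlib
import Groth.Prelude
import Groth.Agent.Lib.Helper12.SqZeroA

set_option autoImplicit false
set_option linter.style.haveILetI false
universe u
open CategoryTheory CategoryTheory.Limits AlgebraicGeometry Opposite TopologicalSpace Topology
  MonoidalCategory CartesianMonoidalCategory MonObj GrpObj

noncomputable section

namespace Groth.Agent.Helper12.SqZero

variable {S : Scheme.{u}} (X : Over S) [GrpObj X]

theorem comm_local {B : Type u} [CommRing B] [IsLocalRing B]
    (N : Ideal B) (hN : ∀ a ∈ N, ∀ b ∈ N, a * b = 0)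
    (t : Spec (CommRingCat.of B) ⟶ S) (a a' : Over.mk t ⟶ X)
    (ha : jN N ≫ a.left = jN N ≫ (1 : Over.mk t ⟶ X).left)
    (ha' : jN N ≫ a'.left = jN N ≫ (1 : Over.mk t ⟶ X).left) :
    a * a' = a' * a := by
  let e : Over.mk t ⟶ X := 1
  have hmono : ∀ {W : Scheme.{u}} (u v : W ⟶ (X ⊗ X).left),
      u ≫ (fst X X).left = v ≫ (fst X X).left → u ≫ (snd X X).left = v ≫ (snd X X).left →
      u = v := by
    intro W u v h1 h2
    exact pullback.hom_ext h1 h2
  have hl1 : ∀ b c : Over.mk t ⟶ X, (lift b c).left ≫ (fst X X).left = b.left := by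
    intro b c
    rw [← Over.comp_left, lift_fst]
  have hl2 : ∀ b c : Over.mk t ⟶ X, (lift b c).left ≫ (snd X X).left = c.left := by
    intro b c
    rw [← Over.comp_left, lift_snd]
  have hlm : ∀ b c : Over.mk t ⟶ X, (lift b c).left ≫ μ[X].left = (b * c).left := by
    intro b c
    rw [← Over.comp_left, Hom.mul_def]
  have hj : ∀ b c : Over.mk t ⟶ X, jN N ≫ b.left = jN N ≫ e.left → jN N ≫ c.left = jN N ≫ e.left →
      jN N ≫ (lift b c).left = jN N ≫ (lift e e).left := by
    intro b c hb hc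
    apply hmono
    · rw [Category.assoc, Category.assoc, hl1, hl1, hb]
    · rw [Category.assoc, Category.assoc, hl2, hl2, hc]
  obtain ⟨α, β, gam, δ, hα, hβ, hgam, hδ, hsum⟩ := core N hN (fst X X).left (snd X X).left
    (fun u v => hmono u v) μ[X].left (lift a a').left (lift a e).left (lift e a').left
    (lift e e).left (hj a e ha rfl) (hj e a' rfl ha')
    (by rw [hl1, hl1]) (by rw [hl1, hl1]) (by rw [hl2, hl2]) (by rw [hl2, hl2])
  obtain ⟨α', β', gam', δ', hα', hβ', hgam', hδ', hsum'⟩ := core N hN (fst X X).left (snd X X).left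
    (fun u v => hmono u v) μ[X].left (lift a' a).left (lift a' e).left (lift e a).left
    (lift e e).left (hj a' e ha' rfl) (hj e a rfl ha)
    (by rw [hl1, hl1]) (by rw [hl1, hl1]) (by rw [hl2, hl2]) (by rw [hl2, hl2])
  rw [hlm, _root_.mul_one] at hα hα'
  rw [hlm, _root_.one_mul] at hβ hβ'
  rw [hlm] at hδ hδ'
  have e1 : α' = β := factor_injective _ _ _ (hα'.trans hβ.symm)
  have e2 : β' = α := factor_injective _ _ _ (hβ'.trans hα.symm)
  have e3 : gam' = gam := factor_injective _ _ _ (hgam'.trans hgam.symm)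
  have e4 : δ' = δ := by
    ext x
    rw [hsum, hsum', e1, e2, e3]
    ring
  ext1
  rw [← hδ, ← hδ', e4]


theorem comm_of_reduction (R : Type u) [CommRing R] (J : Ideal R) (hJ : J * J = ⊥)
    (X : Over (Spec (CommRingCat.of R))) [GrpObj X] (Y : Over (Spec (CommRingCat.of R)))
    (g g' : Y ⟶ X)
    (hg : pullback.fst Y.hom (Spec.map (CommRingCat.ofHom (Ideal.Quotient.mk J))) ≫ g.left =
      pullback.fst Y.hom (Spec.map (CommRingCat.ofHom (Ideal.Quotient.mk J))) ≫
        (1 : Y ⟶ X).left)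
    (hg' : pullback.fst Y.hom (Spec.map (CommRingCat.ofHom (Ideal.Quotient.mk J))) ≫ g'.left =
      pullback.fst Y.hom (Spec.map (CommRingCat.ofHom (Ideal.Quotient.mk J))) ≫
        (1 : Y ⟶ X).left) :
    g * g' = g' * g := by
  ext1
  apply hom_ext_of_fromSpecStalk
  intro y
  let B : Type u := Y.left.presheaf.stalk y
  let t : Spec (CommRingCat.of B) ⟶ Spec (CommRingCat.of R) := Y.left.fromSpecStalk y ≫ Y.hom
  let τ : Over.mk t ⟶ Y := Over.homMk (Y.left.fromSpecStalk y) rfl
  let ρ : CommRingCat.of R ⟶ CommRingCat.of B := Spec.preimage t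
  have hρ : Spec.map ρ = t := Spec.map_preimage t
  let N : Ideal B := Ideal.map ρ.hom J
  have hN : ∀ a ∈ N, ∀ b ∈ N, a * b = 0 := by
    intro a ha b hb
    have h1 : a * b ∈ N * N := Ideal.mul_mem_mul ha hb
    rw [← Ideal.map_mul, hJ, Ideal.map_bot] at h1
    exact h1
  have hle : J ≤ Ideal.comap ρ.hom N := Ideal.le_comap_map
  let ρbar : R ⧸ J →+* B ⧸ N := Ideal.quotientMap N ρ.hom hle
  have hcomm : (jN N ≫ Y.left.fromSpecStalk y) ≫ Y.hom =
      Spec.map (CommRingCat.ofHom ρbar) ≫ Spec.map (CommRingCat.ofHom (Ideal.Quotient.mk J)) := by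
    rw [Category.assoc]
    show jN N ≫ t = _
    rw [← hρ, ← Spec.map_comp, ← Spec.map_comp]
    congr 1
  let l : Spec (CommRingCat.of (B ⧸ N)) ⟶
      pullback Y.hom (Spec.map (CommRingCat.ofHom (Ideal.Quotient.mk J))) :=
    pullback.lift (jN N ≫ Y.left.fromSpecStalk y) (Spec.map (CommRingCat.ofHom ρbar)) hcomm
  have hl : l ≫ pullback.fst _ _ = jN N ≫ Y.left.fromSpecStalk y := pullback.lift_fst _ _ _
  have h1 : (1 : Over.mk t ⟶ X) = τ ≫ (1 : Y ⟶ X) := (MonObj.comp_one τ).symm
  have key : ∀ f : Y ⟶ X,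
      pullback.fst Y.hom (Spec.map (CommRingCat.ofHom (Ideal.Quotient.mk J))) ≫ f.left =
        pullback.fst Y.hom (Spec.map (CommRingCat.ofHom (Ideal.Quotient.mk J))) ≫
          (1 : Y ⟶ X).left →
      jN N ≫ (τ ≫ f).left = jN N ≫ (1 : Over.mk t ⟶ X).left := by
    intro f hf
    rw [h1]
    show jN N ≫ Y.left.fromSpecStalk y ≫ f.left = jN N ≫ Y.left.fromSpecStalk y ≫ _
    rw [← Category.assoc, ← Category.assoc, ← hl, Category.assoc, Category.assoc, hf]
  have h2 := comm_local X N hN t (τ ≫ g) (τ ≫ g') (key g hg) (key g' hg')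
  rw [← MonObj.comp_mul, ← MonObj.comp_mul] at h2
  exact congrArg (fun f => f.left) h2

end Groth.Agent.Helper12.SqZero
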