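import Mathlib
import Groth.Agent.Lib.Helper18.StalkBC2
import Groth.Agent.Lib.Helper7.GeomRegFG2
import Groth.Agent.Lib.Helper5.RegPS
import Groth.Prelude.Def_Curv2

/-!
# Geometric regularity at a point via the local ring (helper12; regular analogue of helper7's
`StalkNormal`, itself adapted from helper18's `StalkBC`)
-/

set_option autoImplicit false
set_option linter.unusedSectionVars false
set_option linter.style.haveILetI false
universe u
open CategoryTheory CategoryTheory.Limits AlgebraicGeometry
open scoped TensorProduct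

namespace Groth.Agent.Helper12.StalkReg

open Groth.Agent.Helper18.StalkBC

/-- Regularity of stalks is equivalent along a flat preimmersion. -/
theorem reg_stalk_iff {Z X : Scheme.{u}} (j : Z ⟶ X) [Flat j] [IsPreimmersion j] (z : Z) :
    IsRegularLocalRing (Z.presheaf.stalk z) ↔ IsRegularLocalRing (X.presheaf.stalk (j z)) := by
  let e : X.presheaf.stalk (j z) ≃+* Z.presheaf.stalk z :=
    RingEquiv.ofBijective (j.stalkMap z).hom (bijective_stalkMap j z)
  exact ⟨fun h => IsRegularLocalRing.of_ringEquiv e.symm,
    fun h => IsRegularLocalRing.of_ringEquiv e⟩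

/-- the stalk of `Spec B` at a prime is regular iff the localization is -/
lemma reg_stalk_Spec_iff (B : Type u) [CommRing B] (y : PrimeSpectrum B) :
    IsRegularLocalRing ((Spec (CommRingCat.of B)).presheaf.stalk y) ↔
      IsRegularLocalRing (Localization.AtPrime y.asIdeal) := by
  letI : Algebra B ((Spec (CommRingCat.of B)).presheaf.stalk y) :=
    StructureSheaf.stalkAlgebra B y
  haveI : IsLocalization.AtPrime ((Spec (CommRingCat.of B)).presheaf.stalk y) y.asIdeal :=
    StructureSheaf.IsLocalization.to_stalk B y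
  let e : Localization.AtPrime y.asIdeal ≃ₐ[B] (Spec (CommRingCat.of B)).presheaf.stalk y :=
    IsLocalization.algEquiv y.asIdeal.primeCompl _ _
  exact ⟨fun h => IsRegularLocalRing.of_ringEquiv e.symm.toRingEquiv,
    fun h => IsRegularLocalRing.of_ringEquiv e.toRingEquiv⟩

section Field

variable {k : Type u} [Field k] {X : Scheme.{u}} (f : X ⟶ Spec (CommRingCat.of k))
  (K : Type u) [Field K] [Algebra k K]

section Generic

variable {A : Type u} [CommRing A] [Algebra k A] (j : Spec (CommRingCat.of A) ⟶ X)
  (hj : j ≫ f = Spec.map (CommRingCat.ofHom (algebraMap k A)))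

include hj in
/-- If `A ⊗_k K` is regular and `j : Spec A ⟶ X` is a flat preimmersion, the local rings of
`X_K` at all points over points in the range of `j` are regular. -/
theorem reg_stalk_of_isRegularRing_tensor_gen [Flat j] [IsPreimmersion j]
    (h : IsRegularRing (A ⊗[k] K))
    (x' : ↥(FBase.bc f K)) (hx' : (FBase.bcπ f K).base x' ∈ Set.range j) :
    IsRegularLocalRing ((FBase.bc f K).presheaf.stalk x') := by
  obtain ⟨a, ha⟩ := hx'
  obtain ⟨z, -, hz⟩ := Scheme.Pullback.exists_preimage_pullback
    (f := j) (g := FBase.bcπ f K) a x' ha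
  let e := isoW f K j hj
  have h0 : IsRegularLocalRing
      ((Spec (CommRingCat.of (A ⊗[k] K))).presheaf.stalk (e.hom z)) := by
    refine (reg_stalk_Spec_iff (A ⊗[k] K) (e.hom z)).mpr ?_
    exact h.isRegularLocalRing_localization _
  have h1 : IsRegularLocalRing ((pullback j (FBase.bcπ f K)).presheaf.stalk z) :=
    (reg_stalk_iff e.hom z).mpr h0
  have h2 := (reg_stalk_iff (pullback.snd j (FBase.bcπ f K)) z).mp h1
  rw [show (pullback.snd j (FBase.bcπ f K)) z = x' from hz] at h2
  exact h2

include hj in
/-- If `K/k` is integral, `A` is local, `A ⊗_k K` Noetherian and `j : Spec A ⟶ X` is a flat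
preimmersion, then `A ⊗_k K` is regular as soon as the local rings of `X_K` at the points over
the image of the closed point are regular. -/
theorem isRegularRing_tensor_of_reg_stalk_gen [Flat j] [IsPreimmersion j] [IsLocalRing A]
    [Algebra.IsIntegral k K] [IsNoetherianRing (A ⊗[k] K)]
    (h : ∀ x' : ↥(FBase.bc f K), (FBase.bcπ f K).base x' = j (IsLocalRing.closedPoint A) →
      IsRegularLocalRing ((FBase.bc f K).presheaf.stalk x')) :
    IsRegularRing (A ⊗[k] K) := by
  apply Groth.Agent.Helper5.RegPS.isRegularRing_of_maximal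
  intro m hm
  let y₀ : PrimeSpectrum (A ⊗[k] K) := ⟨m, hm.isPrime⟩
  let y : Spec (CommRingCat.of (A ⊗[k] K)) := y₀
  refine (reg_stalk_Spec_iff (A ⊗[k] K) y₀).mp ?_
  show IsRegularLocalRing ((Spec (CommRingCat.of (A ⊗[k] K))).presheaf.stalk y)
  let e := isoW f K j hj
  let z := e.inv y
  have hz1 : (pullback.fst j (FBase.bcπ f K)) z = IsLocalRing.closedPoint A := by
    have h1 : (pullback.fst j (FBase.bcπ f K)) z =
        (Spec.map (CommRingCat.ofHom
          (Algebra.TensorProduct.includeLeftRingHom (R := k) (A := A) (B := K)))) y := by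
      rw [← isoW_hom_fst f K j hj]
      show (e.hom ≫ _) (e.inv y) = _
      rw [Scheme.Hom.comp_apply, ← Scheme.Hom.comp_apply e.inv e.hom, e.inv_hom_id]
      rfl
    rw [h1]
    haveI : (Ideal.comap (algebraMap A (A ⊗[k] K)) m).IsMaximal :=
      Ideal.isMaximal_comap_of_isIntegral_of_isMaximal m
    apply PrimeSpectrum.ext
    show Ideal.comap (algebraMap A (A ⊗[k] K)) m = IsLocalRing.maximalIdeal A
    exact IsLocalRing.eq_maximalIdeal inferInstance
  have hz2 : (FBase.bcπ f K).base ((pullback.snd j (FBase.bcπ f K)) z) =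
      j (IsLocalRing.closedPoint A) := by
    rw [← hz1]
    have hc := pullback.condition (f := j) (g := FBase.bcπ f K)
    have := congrArg (fun φ : pullback j (FBase.bcπ f K) ⟶ X => φ z) hc
    simp only [Scheme.Hom.comp_apply] at this
    exact this.symm
  have h3 := h _ hz2
  have h4 := (reg_stalk_iff (pullback.snd j (FBase.bcπ f K)) z).mpr h3
  exact (reg_stalk_iff e.inv y).mpr h4

end Generic

end Field

section Main

variable {k : Type u} [Field k] {X : Scheme.{u}} (f : X ⟶ Spec (CommRingCat.of k)) (x : X)
  (K : Type u) [Field K] [Algebra k K]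

/-- Theorem A. -/
theorem reg_stalk_of_isRegularRing_tensor
    (h : letI := stalkAlg f x; IsRegularRing ((X.presheaf.stalk x) ⊗[k] K))
    (x' : ↥(FBase.bc f K)) (hx' : (FBase.bcπ f K).base x' ⤳ x) :
    IsRegularLocalRing ((FBase.bc f K).presheaf.stalk x') := by
  letI := stalkAlg f x
  let j : Spec (CommRingCat.of (X.presheaf.stalk x)) ⟶ X := X.fromSpecStalk x
  haveI : Flat j := inferInstanceAs (Flat (X.fromSpecStalk x))
  haveI : IsPreimmersion j := inferInstanceAs (IsPreimmersion (X.fromSpecStalk x))
  have hj : j ≫ f = Spec.map (CommRingCat.ofHom (algebraMap k (X.presheaf.stalk x))) :=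
    fromSpecStalk_comp f x
  refine reg_stalk_of_isRegularRing_tensor_gen f K j hj h x' ?_
  show (FBase.bcπ f K).base x' ∈ Set.range (X.fromSpecStalk x)
  rw [Scheme.range_fromSpecStalk]; exact hx'

/-- Theorem B. -/
theorem isRegularRing_tensor_of_reg_stalk [Algebra.IsIntegral k K]
    (hN : letI := stalkAlg f x; IsNoetherianRing ((X.presheaf.stalk x) ⊗[k] K))
    (h : ∀ x' : ↥(FBase.bc f K), (FBase.bcπ f K).base x' = x →
      IsRegularLocalRing ((FBase.bc f K).presheaf.stalk x')) :
    letI := stalkAlg f x; IsRegularRing ((X.presheaf.stalk x) ⊗[k] K) := by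
  letI := stalkAlg f x
  haveI := hN
  let j : Spec (CommRingCat.of (X.presheaf.stalk x)) ⟶ X := X.fromSpecStalk x
  haveI : Flat j := inferInstanceAs (Flat (X.fromSpecStalk x))
  haveI : IsPreimmersion j := inferInstanceAs (IsPreimmersion (X.fromSpecStalk x))
  have hj : j ≫ f = Spec.map (CommRingCat.ofHom (algebraMap k (X.presheaf.stalk x))) :=
    fromSpecStalk_comp f x
  refine isRegularRing_tensor_of_reg_stalk_gen f K j hj ?_
  intro x' hx'
  refine h x' ?_
  rw [hx']
  exact Scheme.fromSpecStalk_closedPoint

end Main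

end Groth.Agent.Helper12.StalkReg
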