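import Mathlib
import Groth.Agent.Lib.Helper12.StalkReg

/-!
# Geometric regularity at a point: finite purely inseparable extensions and the local ring
(helper12)
-/

set_option autoImplicit false
set_option linter.unusedSectionVars false
set_option linter.style.haveILetI false
universe u
open CategoryTheory CategoryTheory.Limits AlgebraicGeometry
open scoped TensorProduct

namespace Groth.Agent.Helper12.StalkReg

open Groth.Agent.Helper18.StalkBC

attribute [local instance] Curv2.stalkAlgebra

theorem s7606 (k : Type u) [Field k] (X : Scheme.{u}) [X.Over (Spec (CommRingCat.of k))]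
    [IsLocallyNoetherian X] (x : ↥X) :
    (Curv2.IsGeomRegularAt k X x ↔
      ∀ (k' : Type u) [Field k'] [Algebra k k'] [FiniteDimensional k k'] [IsPurelyInseparable k k']
        (x' : ↥(Curv2.bc k X k')),
        Curv2.bcFst k X k' x' = x → IsRegularLocalRing ↥((Curv2.bc k X k').presheaf.stalk x')) ∧
    ((∀ (k' : Type u) [Field k'] [Algebra k k'] [FiniteDimensional k k'] [IsPurelyInseparable k k']
        (x' : ↥(Curv2.bc k X k')),
        Curv2.bcFst k X k' x' = x → IsRegularLocalRing ↥((Curv2.bc k X k').presheaf.stalk x')) ↔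
      CAlg.IsGeometricallyRegular k ↥(X.presheaf.stalk x)) := by
  haveI hN : IsNoetherianRing (X.presheaf.stalk x) := inferInstance
  have h12 : Curv2.IsGeomRegularAt k X x →
      ∀ (k' : Type u) [Field k'] [Algebra k k'] [FiniteDimensional k k'] [IsPurelyInseparable k k']
        (x' : ↥(Curv2.bc k X k')),
        Curv2.bcFst k X k' x' = x →
          IsRegularLocalRing ↥((Curv2.bc k X k').presheaf.stalk x') := by
    intro h k' _ _ _ _ x' hx'
    exact h k' (IntermediateField.fg_top_iff.mpr inferInstance) x' hx'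
  have h23 : (∀ (k' : Type u) [Field k'] [Algebra k k'] [FiniteDimensional k k']
      [IsPurelyInseparable k k'] (x' : ↥(Curv2.bc k X k')),
        Curv2.bcFst k X k' x' = x →
          IsRegularLocalRing ↥((Curv2.bc k X k').presheaf.stalk x')) →
      CAlg.IsGeometricallyRegular k ↥(X.presheaf.stalk x) := by
    intro h
    apply (Groth.Agent.Helper7.GeomRegFG.s2672 k ↥(X.presheaf.stalk x)).1.mpr
    intro k' _ _ hf hpi
    haveI := hf
    haveI := hpi
    haveI : Algebra.IsIntegral k k' := inferInstance
    have hE : Algebra.EssFiniteType ↥(X.presheaf.stalk x) (↥(X.presheaf.stalk x) ⊗[k] k') :=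
      inferInstance
    have hN' : IsNoetherianRing (↥(X.presheaf.stalk x) ⊗[k] k') :=
      Algebra.EssFiniteType.isNoetherianRing ↥(X.presheaf.stalk x) _
    have h1 : IsRegularRing (↥(X.presheaf.stalk x) ⊗[k] k') :=
      isRegularRing_tensor_of_reg_stalk (X ↘ Spec (CommRingCat.of k)) x k' hN'
        (fun x' hx' => h k' x' hx')
    exact IsRegularRing.of_ringEquiv (Algebra.TensorProduct.comm k _ k').toRingEquiv
  have h31 : CAlg.IsGeometricallyRegular k ↥(X.presheaf.stalk x) →
      Curv2.IsGeomRegularAt k X x := by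
    intro h k' _ _ hfg x' hx'
    haveI : Algebra.EssFiniteType k k' := IntermediateField.fg_top_iff.mp hfg
    have h1 : IsRegularRing (k' ⊗[k] ↥(X.presheaf.stalk x)) :=
      (Groth.Agent.Helper7.GeomRegFG.s2672 k ↥(X.presheaf.stalk x)).2.mp h k' inferInstance
    have h2 : IsRegularRing (↥(X.presheaf.stalk x) ⊗[k] k') :=
      IsRegularRing.of_ringEquiv (Algebra.TensorProduct.comm k k' _).toRingEquiv
    exact reg_stalk_of_isRegularRing_tensor (X ↘ Spec (CommRingCat.of k)) x k' h2 x'
      (hx' ▸ specializes_rfl)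
  exact ⟨⟨h12, fun h => h31 (h23 h)⟩, ⟨h23, fun h => h12 (h31 h)⟩⟩

theorem s1669 (k : Type u) [Field k] (X : Scheme.{u}) [X.Over (Spec (CommRingCat.of k))]
    [IsLocallyNoetherian X]
    (h : ∀ (k' : Type u) [Field k'] [Algebra k k'] [FiniteDimensional k k']
      [IsPurelyInseparable k k']
      (x' : Curv2.bc k X k'), IsRegularLocalRing ((Curv2.bc k X k').presheaf.stalk x'))
    (x : X) : Curv2.IsGeomRegularAt k X x :=
  (s7606 k X x).1.mpr (fun k' _ _ _ _ x' _ => h k' x')

end Groth.Agent.Helper12.StalkReg
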