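import Mathlib
import Groth.Agent.Lib.Helper12.Strat1
import Groth.Agent.Lib.Helper12.PISmooth2
import Groth.Agent.Lib.Helper15.SchReduced

/-!
# Stratification by smooth pieces after a finite purely inseparable extension (helper12)
-/

set_option autoImplicit false
set_option linter.style.haveILetI false
set_option linter.unusedSectionVars false
universe u
open CategoryTheory CategoryTheory.Limits AlgebraicGeometry TopologicalSpace

noncomputable section

namespace Groth.Agent.Helper12.Strat

open Groth.Agent.Helper4.BCTower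

/-- a common finite purely inseparable extension -/
theorem exists_compositum_pi (k K₁ K₂ : Type u) [Field k] [Field K₁] [Field K₂] [Algebra k K₁]
    [Algebra k K₂] [FiniteDimensional k K₁] [FiniteDimensional k K₂] [IsPurelyInseparable k K₁]
    [IsPurelyInseparable k K₂] :
    ∃ (L : Type u) (_ : Field L) (_ : Algebra k L) (_ : Algebra K₁ L) (_ : Algebra K₂ L),
      IsScalarTower k K₁ L ∧ IsScalarTower k K₂ L ∧ FiniteDimensional k L ∧
        IsPurelyInseparable k L := by
  let Ω := AlgebraicClosure k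
  let φ₁ : K₁ →ₐ[k] Ω := IsAlgClosed.lift
  let φ₂ : K₂ →ₐ[k] Ω := IsAlgClosed.lift
  let e₁ := AlgEquiv.ofInjectiveField φ₁
  let e₂ := AlgEquiv.ofInjectiveField φ₂
  haveI : FiniteDimensional k φ₁.fieldRange := e₁.toLinearEquiv.finiteDimensional
  haveI : FiniteDimensional k φ₂.fieldRange := e₂.toLinearEquiv.finiteDimensional
  haveI : IsPurelyInseparable k φ₁.fieldRange := e₁.isPurelyInseparable
  haveI : IsPurelyInseparable k φ₂.fieldRange := e₂.isPurelyInseparable
  let E : IntermediateField k Ω := φ₁.fieldRange ⊔ φ₂.fieldRange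
  let ψ₁ : K₁ →ₐ[k] E := (IntermediateField.inclusion le_sup_left).comp e₁.toAlgHom
  let ψ₂ : K₂ →ₐ[k] E := (IntermediateField.inclusion le_sup_right).comp e₂.toAlgHom
  exact ⟨E, inferInstance, inferInstance, ψ₁.toRingHom.toAlgebra, ψ₂.toRingHom.toAlgebra,
    IsScalarTower.of_algHom ψ₁, IsScalarTower.of_algHom ψ₂, inferInstance, inferInstance⟩

variable {k : Type u} [Field k] {X : Scheme.{u}} (f : X ⟶ Spec (CommRingCat.of k))

/-- one step: a dense open part of a closed subset becomes smooth -/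
theorem step [LocallyOfFiniteType f] [QuasiCompact f] (Z : Closeds X)
    (hZ : (Z : Set X).Nonempty) :
    ∃ Z' : Closeds X, Z' < Z ∧ ∃ (k' : Type u) (_ : Field k') (_ : Algebra k k')
      (_ : FiniteDimensional k k') (_ : IsPurelyInseparable k k'),
      SmStr f k' ((Z : Set X) \ (Z' : Set X)) := by
  let IZ := Scheme.IdealSheafData.vanishingIdeal Z
  let ιZ : IZ.subscheme ⟶ X := IZ.subschemeι
  have hrange : Set.range ιZ = (Z : Set X) := by
    rw [Scheme.IdealSheafData.range_subschemeι,
      Scheme.IdealSheafData.coe_support_vanishingIdeal]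
  obtain ⟨U, hUd, k', hF, hA, hfin, hpi, R, hRred, i, hicl, hisurj, hism⟩ :=
    Groth.Agent.Helper12.PISmooth.main k (ιZ ≫ f)
  have hinj : Function.Injective ιZ := ιZ.isClosedEmbedding.injective
  let Z' : Closeds X := ⟨ιZ '' ((U : Set IZ.subscheme)ᶜ),
    ιZ.isClosedEmbedding.isClosedMap _ U.isOpen.isClosed_compl⟩
  have hdiff : (Z : Set X) \ (Z' : Set X) = Set.range (U.ι ≫ ιZ) := by
    rw [Scheme.Hom.comp_base, TopCat.coe_comp, Set.range_comp, Scheme.Opens.range_ι]
    show (Z : Set X) \ ιZ '' ((U : Set IZ.subscheme)ᶜ) = _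
    rw [← hrange, ← Set.image_univ, ← Set.image_diff hinj, Set.diff_compl, Set.univ_inter]
  have hne : Nonempty IZ.subscheme := by
    obtain ⟨z, hz⟩ := hZ
    rw [← hrange] at hz
    obtain ⟨w, -⟩ := hz
    exact ⟨w⟩
  obtain ⟨u, hu⟩ := hUd.nonempty
  refine ⟨Z', ?_, k', hF, hA, hfin, hpi, ?_⟩
  · refine lt_of_le_of_ne ?_ ?_
    · rintro x ⟨w, -, rfl⟩
      show ιZ w ∈ (Z : Set X)
      rw [← hrange]; exact ⟨w, rfl⟩
    · intro heq
      have h1 : ιZ u ∈ (Z : Set X) := by rw [← hrange]; exact ⟨u, rfl⟩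
      have h2 : ιZ u ∈ (Z' : Set X) := by rw [heq]; exact h1
      obtain ⟨w, hw, hwu⟩ := h2
      rw [hinj hwu] at hw
      exact hw hu
  · let g := yK (k := k) k'
    let m : pullback (U.ι ≫ ιZ ≫ f) g ⟶ pullback f g :=
      pullback.map _ _ _ _ (U.ι ≫ ιZ) (𝟙 _) (𝟙 _) (by simp) (by simp)
    have hm1 : m ≫ pullback.fst f g = pullback.fst (U.ι ≫ ιZ ≫ f) g ≫ (U.ι ≫ ιZ) :=
      pullback.lift_fst _ _ _
    have hm2 : m ≫ pullback.snd f g = pullback.snd (U.ι ≫ ιZ ≫ f) g :=
      (pullback.lift_snd _ _ _).trans (Category.comp_id _)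
    have hpb : IsPullback m (pullback.fst (U.ι ≫ ιZ ≫ f) g) (pullback.fst f g) (U.ι ≫ ιZ) := by
      refine IsPullback.of_right ?_ hm1 (IsPullback.of_hasPullback f g).flip
      rw [hm2]
      have := (IsPullback.of_hasPullback (U.ι ≫ ιZ ≫ f) g).flip
      simpa only [Category.assoc] using this
    haveI : IsImmersion m :=
      MorphismProperty.of_isPullback (P := @IsImmersion) hpb.flip inferInstance
    haveI := hicl
    refine ⟨R, i ≫ m, inferInstance, ?_, ?_⟩
    · rw [hdiff, Scheme.Hom.comp_base, TopCat.coe_comp, Set.range_comp, hisurj.range_eq,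
        Set.image_univ]
      have := Scheme.Pullback.range_map (U.ι ≫ ιZ ≫ f) g f g (U.ι ≫ ιZ) (𝟙 _) (𝟙 _)
        (by simp) (by simp)
      rw [this]
      simp
      rfl
    · rw [Category.assoc, hm2]
      exact hism

/-- the inductive statement -/
def HasStrat (Z : Closeds X) : Prop :=
  ∃ (k' : Type u) (_ : Field k') (_ : Algebra k k') (_ : FiniteDimensional k k')
    (_ : IsPurelyInseparable k k') (t : ℕ) (C : ℕ → Closeds X),
    Antitone C ∧ C 0 = Z ∧ C t = ⊥ ∧
      ∀ i < t, SmStr f k' ((C i : Set X) \ (C (i + 1) : Set X))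

theorem hasStrat [LocallyOfFiniteType f] [QuasiCompact f] (Z : Closeds X) : HasStrat f Z := by
  haveI : IsLocallyNoetherian X := LocallyOfFiniteType.isLocallyNoetherian f
  haveI : CompactSpace X := QuasiCompact.compactSpace_of_compactSpace f
  haveI : IsNoetherian X := {}
  induction Z using WellFoundedLT.induction with
  | ind Z ih =>
    by_cases hZ : (Z : Set X).Nonempty
    · obtain ⟨Z', hlt, k₁, hF₁, hA₁, hfin₁, hpi₁, hsm₁⟩ := step f Z hZ
      obtain ⟨k₂, hF₂, hA₂, hfin₂, hpi₂, t, C, hanti, hC0, hCt, hsm₂⟩ := ih Z' hlt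
      obtain ⟨L, hFL, hAL, hA1L, hA2L, ht1, ht2, hfinL, hpiL⟩ := exists_compositum_pi k k₁ k₂
      let C' : ℕ → Closeds X := fun n => Nat.casesOn n Z C
      refine ⟨L, hFL, hAL, hfinL, hpiL, t + 1, C', ?_, rfl, hCt, ?_⟩
      · apply antitone_nat_of_succ_le
        intro n
        cases n with
        | zero =>
          show C 0 ≤ Z
          rw [hC0]; exact hlt.le
        | succ n =>
          show C (n + 1) ≤ C n
          exact hanti (Nat.le_succ n)
      · intro i hi
        cases i with
        | zero =>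
          show SmStr f L ((Z : Set X) \ (C 0 : Set X))
          rw [hC0]
          exact SmStr.baseChange k₁ L hsm₁
        | succ j =>
          show SmStr f L ((C j : Set X) \ (C (j + 1) : Set X))
          exact SmStr.baseChange k₂ L (hsm₂ j (by omega))
    · have hbot : Z = ⊥ := by
        apply Closeds.ext
        rw [Set.not_nonempty_iff_eq_empty] at hZ
        rw [hZ]; rfl
      refine ⟨k, inferInstance, inferInstance, inferInstance, inferInstance, 0, fun _ => ⊥,
        fun _ _ _ => le_rfl, hbot.symm, rfl, fun i hi => absurd hi (Nat.not_lt_zero i)⟩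

end Groth.Agent.Helper12.Strat
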