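import Mathlib
import Groth.Agent.Lib.Helper12.Strat2
import Groth.Prelude.Def_Curv2

/-!
# Stratification by smooth pieces after a finite purely inseparable extension: the statement
(helper12)
-/

set_option autoImplicit false
set_option linter.style.haveILetI false
set_option linter.unusedSectionVars false
universe u
open CategoryTheory CategoryTheory.Limits AlgebraicGeometry TopologicalSpace

noncomputable section

namespace Groth.Agent.Helper12.Strat

open Groth.Agent.Helper4.BCTower Groth.Agent.Helper15

theorem main (k : Type u) [Field k] (X : Scheme.{u}) [X.Over (Spec (CommRingCat.of k))]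
    [LocallyOfFiniteType (X ↘ (Spec (CommRingCat.of k)))]
    [QuasiCompact (X ↘ (Spec (CommRingCat.of k)))] :
    ∃ (k' : Type u) (_ : Field k') (_ : Algebra k k') (_ : FiniteDimensional k k')
      (_ : IsPurelyInseparable k k')
      (t : ℕ) (I : Fin (t + 1) → (Curv2.bc k X k').IdealSheafData),
      Monotone I ∧ I 0 = Scheme.IdealSheafData.vanishingIdeal ⊤ ∧ I (Fin.last t) = ⊤ ∧
        ∀ i : Fin t,
          Smooth (((I i.castSucc).subschemeι ⁻¹ᵁ (I i.succ).support.compl).ι ≫
            (I i.castSucc).subschemeι ≫ Curv2.bcSnd k X k') := by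
  set f : X ⟶ Spec (CommRingCat.of k) := X ↘ Spec (CommRingCat.of k) with hf
  obtain ⟨k', hF, hA, hfin, hpi, t, C, hanti, hC0, hCt, hsm⟩ := hasStrat f ⊤
  let π : pullback f (yK (k := k) k') ⟶ X := pullback.fst f (yK k')
  let pre : Closeds X → Closeds ↥(pullback f (yK (k := k) k')) := fun Z =>
    ⟨π ⁻¹' (Z : Set X), Z.isClosed.preimage π.continuous⟩
  let I : Fin (t + 1) → (pullback f (yK (k := k) k')).IdealSheafData := fun i =>
    Scheme.IdealSheafData.vanishingIdeal (pre (C i))
  refine ⟨k', hF, hA, hfin, hpi, t, I, ?_, ?_, ?_, ?_⟩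
  · intro i j hij
    apply Scheme.IdealSheafData.vanishingIdeal_antimono
    intro x hx
    exact hanti (Fin.le_iff_val_le_val.mp hij) hx
  · show Scheme.IdealSheafData.vanishingIdeal (pre (C ((0 : Fin (t + 1)) : ℕ))) = _
    congr 1
    rw [Fin.val_zero, hC0]
    rfl
  · show Scheme.IdealSheafData.vanishingIdeal (pre (C ((Fin.last t : Fin (t + 1)) : ℕ))) = _
    rw [Fin.val_last, hCt]
    have : pre ⊥ = ⊥ := rfl
    rw [this, Scheme.IdealSheafData.vanishingIdeal_bot]
  · intro i
    have h := hsm i i.2
    haveI : IsReduced (I i.castSucc).subscheme := isReduced_vanishingIdeal_subscheme _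
    let V : (I i.castSucc).subscheme.Opens :=
      (I i.castSucc).subschemeι ⁻¹ᵁ (I i.succ).support.compl
    haveI : IsReduced V.toScheme := isReduced_of_isOpenImmersion V.ι
    have hr : Set.range (V.ι ≫ (I i.castSucc).subschemeι) =
        π ⁻¹' ((C i : Set X) \ (C (i + 1) : Set X)) := by
      rw [Scheme.Hom.comp_base, TopCat.coe_comp, Set.range_comp, Scheme.Opens.range_ι]
      show (I i.castSucc).subschemeι '' ((I i.castSucc).subschemeι ⁻¹'
        (((I i.succ).support : Set _)ᶜ)) = _
      rw [Set.image_preimage_eq_inter_range, Scheme.IdealSheafData.range_subschemeι,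
        Scheme.IdealSheafData.coe_support_vanishingIdeal,
        Scheme.IdealSheafData.coe_support_vanishingIdeal]
      ext x
      simp only [Set.mem_inter_iff, Set.mem_compl_iff, Set.mem_preimage, Set.mem_diff]
      exact ⟨fun ⟨a, b⟩ => ⟨b, a⟩, fun ⟨a, b⟩ => ⟨b, a⟩⟩
    have := h.smooth_of_range (V.ι ≫ (I i.castSucc).subschemeι) hr
    rwa [Category.assoc] at this

end Groth.Agent.Helper12.Strat
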