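import Groth.Agent.Lib.Helper12.Comod
import Mathlib.LinearAlgebra.Dimension.Free
import Mathlib.LinearAlgebra.FiniteDimensional.Lemmas

/-!
Finite-dimensional subcoalgebras (helper12).
-/

set_option autoImplicit false
universe u v w

open scoped TensorProduct

namespace Groth.Agent.Helper12

variable {k : Type u} [Field k] {A : Type v} [AddCommGroup A] [Module k A] [Coalgebra k A]

/-- `B` is a subcoalgebra: `Δ B ⊆ B ⊗ B`. -/
def IsSubcoalg (B : Submodule k A) : Prop :=
  ∀ b ∈ B, Coalgebra.comul (R := k) b ∈ LinearMap.range (TensorProduct.map B.subtype B.subtype)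

theorem range_map_mono {B B' : Submodule k A} (h : B ≤ B') :
    LinearMap.range (TensorProduct.map B.subtype B.subtype) ≤
      LinearMap.range (TensorProduct.map B'.subtype B'.subtype) := by
  rintro _ ⟨y, rfl⟩
  refine ⟨TensorProduct.map (Submodule.inclusion h) (Submodule.inclusion h) y, ?_⟩
  rw [← LinearMap.comp_apply, ← TensorProduct.map_comp]
  rfl

theorem isSubcoalg_sup {B B' : Submodule k A} (h : IsSubcoalg B) (h' : IsSubcoalg B') :
    IsSubcoalg (B ⊔ B') := by
  intro x hx
  obtain ⟨b, hb, b', hb', rfl⟩ := Submodule.mem_sup.mp hx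
  rw [map_add]
  exact Submodule.add_mem _ (range_map_mono le_sup_left (h b hb))
    (range_map_mono le_sup_right (h' b' hb'))

theorem isSubcoalg_bot : IsSubcoalg (⊥ : Submodule k A) := by
  intro b hb
  rw [(Submodule.mem_bot k).mp hb, map_zero]
  exact Submodule.zero_mem _

/-- the coefficient coalgebra of a finite-dimensional right coideal -/
theorem exists_finite_subcoalg_of_coideal (W : Submodule k A) [Module.Finite k W]
    (hW : ∀ w ∈ W, Coalgebra.comul (R := k) w ∈ LinearMap.range (W.subtype.rTensor A)) :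
    ∃ B : Submodule k A, Module.Finite k B ∧ W ≤ B ∧ IsSubcoalg B := by
  classical
  set n := Module.finrank k W
  let b : Module.Basis (Fin n) k W := Module.finBasis k W
  choose y hy using fun j => hW (b j) (b j).2
  let c : Fin n → Fin n → A := fun i j => TensorProduct.equivFinsuppOfBasisLeft b (y j) i
  have hyj : ∀ j, y j = ∑ i, b i ⊗ₜ[k] c i j := by
    intro j
    have h1 : y j = (TensorProduct.equivFinsuppOfBasisLeft b).symm
        (TensorProduct.equivFinsuppOfBasisLeft b (y j)) := by simp
    rw [h1, TensorProduct.equivFinsuppOfBasisLeft_symm_apply, Finsupp.sum_fintype]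
    · simp
  have hΔ : ∀ j, Coalgebra.comul (R := k) ((b j : W) : A) = ∑ i, ((b i : W) : A) ⊗ₜ[k] c i j := by
    intro j
    rw [← hy j, hyj j, map_sum]
    simp
  -- dual functionals
  have hφ : ∀ l, ∃ φ : A →ₗ[k] k, ∀ m, φ ((b m : W) : A) = if l = m then 1 else 0 := by
    intro l
    obtain ⟨g, hg⟩ := LinearMap.exists_extend (b.coord l)
    refine ⟨g, fun m => ?_⟩
    have := LinearMap.congr_fun hg (b m)
    simp only [LinearMap.comp_apply, Submodule.subtype_apply] at this
    rw [this]
    simp [Finsupp.single_apply, eq_comm]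
  choose φ hφ using hφ
  have hc : ∀ l j, Coalgebra.comul (R := k) (c l j) = ∑ i, c l i ⊗ₜ[k] c i j := by
    intro l j
    have h := Coalgebra.coassoc_apply (R := k) ((b j : W) : A)
    rw [hΔ j] at h
    simp only [map_sum, LinearMap.rTensor_tmul, LinearMap.lTensor_tmul] at h
    have h2 := congrArg (fun z => (TensorProduct.lid k (A ⊗[k] A))
      (LinearMap.rTensor (A ⊗[k] A) (φ l) z)) h
    simp only [map_sum, hΔ, TensorProduct.sum_tmul, TensorProduct.assoc_tmul,
      LinearMap.rTensor_tmul, TensorProduct.lid_tmul, hφ] at h2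
    simp only [ite_smul, one_smul, zero_smul, Finset.sum_ite_eq, Finset.mem_univ, if_true] at h2
    exact h2.symm
  let B : Submodule k A := Submodule.span k (Set.range fun p : Fin n × Fin n => c p.1 p.2)
  have hcB : ∀ i j, c i j ∈ B := fun i j => Submodule.subset_span ⟨(i, j), rfl⟩
  refine ⟨B, Module.Finite.span_of_finite k (Set.finite_range _), ?_, ?_⟩
  · intro w hw
    have hbj : ∀ j, ((b j : W) : A) ∈ B := by
      intro j
      have h := Coalgebra.rTensor_counit_comul (R := k) ((b j : W) : A)
      rw [hΔ j] at h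
      have h2 := congrArg (TensorProduct.lid k A) h
      simp only [map_sum, LinearMap.rTensor_tmul, TensorProduct.lid_tmul, one_smul] at h2
      rw [← h2]
      exact Submodule.sum_mem _ fun i _ => Submodule.smul_mem _ _ (hcB i j)
    have h := congrArg Subtype.val (b.sum_repr ⟨w, hw⟩)
    simp only [Submodule.coe_sum, Submodule.coe_smul] at h
    rw [← h]
    exact Submodule.sum_mem _ fun j _ => Submodule.smul_mem _ _ (hbj j)
  · intro x hx
    refine Submodule.span_induction (p := fun x _ => Coalgebra.comul (R := k) x ∈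
      LinearMap.range (TensorProduct.map B.subtype B.subtype)) ?_ ?_ ?_ ?_ hx
    · rintro _ ⟨⟨l, j⟩, rfl⟩
      simp only
      rw [hc l j]
      refine Submodule.sum_mem _ fun i _ => ?_
      exact ⟨(⟨c l i, hcB l i⟩ : B) ⊗ₜ[k] (⟨c i j, hcB i j⟩ : B), by simp⟩
    · simp
    · intro a b' _ _ ha hb'
      rw [map_add]; exact Submodule.add_mem _ ha hb'
    · intro r a _ ha
      rw [map_smul]; exact Submodule.smul_mem _ r ha

/-- every element lies in a finite-dimensional subcoalgebra -/
theorem exists_finite_subcoalg_mem (a : A) :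
    ∃ B : Submodule k A, Module.Finite k B ∧ a ∈ B ∧ IsSubcoalg B := by
  haveI := gen_finite (k := k) (C := A) (V := A) a
  obtain ⟨B, hB, hWB, hsub⟩ := exists_finite_subcoalg_of_coideal (gen (k := k) (C := A) (V := A) a)
    (gen_isSubcomod (k := k) (C := A) (V := A) a)
  exact ⟨B, hB, hWB (mem_gen a), hsub⟩

theorem exists_finite_subcoalg_finset (s : Finset A) :
    ∃ B : Submodule k A, Module.Finite k B ∧ (↑s : Set A) ⊆ B ∧ IsSubcoalg B := by
  classical
  induction s using Finset.induction_on with
  | empty => exact ⟨⊥, inferInstance, by simp, isSubcoalg_bot⟩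
  | insert a s _ ih =>
    obtain ⟨B, hB, hsB, hBs⟩ := ih
    obtain ⟨B', hB', haB', hBs'⟩ := exists_finite_subcoalg_mem (k := k) a
    refine ⟨B ⊔ B', inferInstance, ?_, isSubcoalg_sup hBs hBs'⟩
    intro x hx
    rw [Finset.coe_insert, Set.mem_insert_iff] at hx
    rcases hx with rfl | hx
    · exact (le_sup_right : B' ≤ B ⊔ B') haB'
    · exact (le_sup_left : B ≤ B ⊔ B') (hsB hx)

end Groth.Agent.Helper12
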