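import Mathlib
import Groth.Prelude.Def_CohB1
import Groth.Agent.Lib.Helper13.FinAffine2
import Groth.Agent.Lib.Helper13.QCohStalk
import Groth.Agent.Lib.Helper13.DiscSupp

/-!
# Finite-type quasi-coherent modules supported in `V(I₀)` are killed by a power of `I₀` (helper12)
-/

set_option autoImplicit false
set_option linter.unusedSectionVars false
universe u
open CategoryTheory CategoryTheory.Limits AlgebraicGeometry Opposite TopologicalSpace

namespace Groth.Agent.Helper12.SuppIdeal

open Groth.Agent.Helper13.QCoh Groth.Agent.Helper13.FinType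

variable {X : Scheme.{u}} (F : X.Modules)

/-- sections over an open disjoint from the support vanish. -/
lemma eq_zero_of_disjoint_support (W : X.Opens) (hW : ∀ x ∈ W, x ∉ CohB1.support F)
    (m : Γ(F, W)) : m = 0 := by
  haveI := Groth.Agent.Helper13.DiscSupp.subsingleton_of_disjoint_support F W hW
  exact Subsingleton.elim (α := (Coh.toAb F).obj.obj (op W)) m 0

variable [F.IsQuasicoherent]

/-- **affine-local step**: over an affine open `U`, a power of `I₀(U)` kills `F(U)`. -/
theorem exists_pow_annihilates (I₀ : X.IdealSheafData)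
    (hsupp : CohB1.support F ⊆ (I₀.support : Set X)) (hF : CohB1.IsFT F)
    (U : X.affineOpens) (hfg : (I₀.ideal U).FG) :
    ∃ N : ℕ, ∀ a ∈ (I₀.ideal U) ^ N, ∀ m : Γ(F, U.1), a • m = 0 := by
  haveI : SheafOfModules.IsFiniteType (R := X.ringCatSheaf) F := hF
  haveI hfin : Module.Finite Γ(X, U.1) Γ(F, U.1) := finite_sections_of_isFiniteType F U.2
  set J : Ideal Γ(X, U.1) := Module.annihilator Γ(X, U.1) Γ(F, U.1) with hJ
  have hrad : I₀.ideal U ≤ J.radical := by
    intro a ha
    -- `a ^ n` kills each of finitely many generators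
    have hzero : ∀ m : Γ(F, U.1), ∃ n : ℕ, a ^ n • m = 0 := by
      intro m
      apply exists_pow_smul_eq_zero F U.2 a m
      apply eq_zero_of_disjoint_support
      intro x hx hxs
      have hx' : x ∈ I₀.support := hsupp hxs
      have hxU : x ∈ U.1 := X.basicOpen_le a hx
      rw [Scheme.IdealSheafData.mem_support_iff_of_mem hxU] at hx'
      exact (X.mem_zeroLocus_iff _ x).mp hx' a ha hx
    obtain ⟨S, hS⟩ := hfin.fg_top
    choose n hn using hzero
    refine ⟨S.sup n, ?_⟩
    rw [hJ, Module.mem_annihilator]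
    intro m
    have hm : m ∈ Submodule.span Γ(X, U.1) (S : Set Γ(F, U.1)) := by rw [hS]; trivial
    induction hm using Submodule.span_induction with
    | mem x hx =>
      have hle : n x ≤ S.sup n := Finset.le_sup hx
      obtain ⟨c, hc⟩ := Nat.exists_eq_add_of_le hle
      rw [hc, pow_add, mul_comm, mul_smul, hn x, smul_zero]
    | zero => simp
    | add x y _ _ hx hy => rw [smul_add, hx, hy, add_zero]
    | smul r x _ hx => rw [smul_comm, hx, smul_zero]
  obtain ⟨N, hN⟩ := Ideal.exists_pow_le_of_le_radical_of_fg hrad hfg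
  refine ⟨N, fun a ha m => ?_⟩
  exact Module.mem_annihilator.mp (hN ha) m


/-- **passage to basic opens**: if `I₀(U)^N` kills `F(U)` for an affine `U`, then the extension of
`I₀(U)^N` to `D(g)` kills `F(D(g))` for every `g ∈ Γ(X, U)`. -/
theorem annihilates_basicOpen (I₀ : X.IdealSheafData) (U : X.affineOpens) (N : ℕ)
    (h : ∀ a ∈ (I₀.ideal U) ^ N, ∀ m : Γ(F, U.1), a • m = 0) (g : Γ(X, U.1)) :
    ∀ a ∈ Ideal.map (X.presheaf.map (homOfLE (X.basicOpen_le g)).op).hom ((I₀.ideal U) ^ N),
      ∀ m : Γ(F, X.basicOpen g), a • m = 0 := by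
  intro a ha s
  obtain ⟨n, t, ht⟩ := exists_pow_smul_eq_res F U.2 g s
  have hunit : IsUnit (X.presheaf.map (homOfLE (X.basicOpen_le g)).op g) :=
    RingedSpace.isUnit_res_basicOpen _ g
  induction ha using Submodule.span_induction with
  | mem x hx =>
    obtain ⟨b, hb, rfl⟩ := hx
    have h1 : (X.presheaf.map (homOfLE (X.basicOpen_le g)).op g) ^ n •
        ((X.presheaf.map (homOfLE (X.basicOpen_le g)).op).hom b • s) = 0 := by
      rw [smul_comm, ← ht]
      have := Scheme.Modules.map_smul F (homOfLE (X.basicOpen_le g)) b t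
      rw [h b hb t, map_zero] at this
      exact this.symm
    exact (hunit.pow n).smul_left_cancel.mp (h1.trans (smul_zero _).symm)
  | zero => simp
  | add x y _ _ hx hy => rw [add_smul, hx, hy, add_zero]
  | smul r x _ hx => rw [smul_eq_mul, mul_smul, hx, smul_zero]

/-- **globalization**: if finitely many affine opens `U i` cover `X` and `I₀(U i)^N` kills `F(U i)`
for all `i`, then `I₀(V)^N` kills `F(V)` for every affine open `V`. -/
theorem annihilates_of_cover (I₀ : X.IdealSheafData) {ι : Type*} (U : ι → X.affineOpens)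
    (hcov : ∀ x : X, ∃ i, x ∈ (U i).1) (N : ℕ)
    (h : ∀ i, ∀ a ∈ (I₀.ideal (U i)) ^ N, ∀ m : Γ(F, (U i).1), a • m = 0)
    (V : X.affineOpens) : ∀ a ∈ (I₀.ideal V) ^ N, ∀ m : Γ(F, V.1), a • m = 0 := by
  intro a ha m
  apply TopCat.Presheaf.section_ext ⟨F.presheaf, F.isSheaf⟩ V.1
  intro x hxV
  rw [map_zero]
  obtain ⟨i, hxi⟩ := hcov x
  obtain ⟨g, hgW, hxg⟩ := (U i).2.exists_basicOpen_le (V := V.1 ⊓ (U i).1) ⟨x, ⟨hxV, hxi⟩⟩ hxi
  have hWV : X.basicOpen g ≤ V.1 := hgW.trans inf_le_left
  have hle : X.affineBasicOpen g ≤ V := hWV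
  have key : Ideal.map (X.presheaf.map (homOfLE hWV).op).hom ((I₀.ideal V) ^ N) ≤
      Ideal.map (X.presheaf.map (homOfLE (X.basicOpen_le g)).op).hom ((I₀.ideal (U i)) ^ N) := by
    rw [Ideal.map_pow, Ideal.map_pow]
    refine Ideal.pow_right_mono ?_ N
    rw [I₀.map_ideal_basicOpen (U i) g]
    exact Ideal.map_le_iff_le_comap.mpr (I₀.ideal_le_comap_ideal hle)
  have ha' := key (Ideal.mem_map_of_mem _ ha)
  have h0 := annihilates_basicOpen F I₀ (U i) N (h i) g _ ha' (F.presheaf.map (homOfLE hWV).op m)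
  have h3 := Scheme.Modules.map_smul F (homOfLE hWV) a m
  change F.presheaf.germ V.1 x hxV (a • m) = 0
  rw [← TopCat.Presheaf.germ_res_apply F.presheaf (homOfLE hWV) x hxg, h3]
  change F.presheaf.germ _ x hxg ((X.presheaf.map (homOfLE hWV).op).hom a •
    F.presheaf.map (homOfLE hWV).op m) = 0
  rw [h0, map_zero]

end Groth.Agent.Helper12.SuppIdeal
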