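import Mathlib

/-!
# The symmetric algebra of a finite projective module is a smooth algebra (helper12)
-/

set_option autoImplicit false
universe u

namespace Groth.Agent.Helper12.SymSmooth

variable {R : Type u} [CommRing R]

/-- a retract of a polynomial algebra in finitely many variables is finitely presented -/
theorem finitePresentation_of_retract {n : ℕ} {A : Type u} [CommRing A] [Algebra R A]
    (π : MvPolynomial (Fin n) R →ₐ[R] A) (σ : A →ₐ[R] MvPolynomial (Fin n) R)
    (h : π.comp σ = AlgHom.id R A) : Algebra.FinitePresentation R A := by
  have hsurj : Function.Surjective π := fun a => ⟨σ a, congrArg (fun f => f a) h⟩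
  refine Algebra.FinitePresentation.of_surjective hsurj ?_
  let e : MvPolynomial (Fin n) R →ₐ[R] MvPolynomial (Fin n) R := σ.comp π
  let J : Ideal (MvPolynomial (Fin n) R) :=
    Ideal.span (Set.range fun i : Fin n => (MvPolynomial.X i - e (MvPolynomial.X i)))
  have hπe : ∀ f, π (e f) = π f := fun f => congrArg (fun g => g (π f)) h
  have key : ∀ f : MvPolynomial (Fin n) R, f - e f ∈ J := by
    intro f
    induction f using MvPolynomial.induction_on with
    | C r =>
      have : e (MvPolynomial.C r) = MvPolynomial.C r := by
        rw [← MvPolynomial.algebraMap_eq, AlgHom.commutes]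
      rw [this, sub_self]
      exact J.zero_mem
    | add p q hp hq =>
      have : p + q - e (p + q) = (p - e p) + (q - e q) := by rw [map_add]; ring
      rw [this]
      exact J.add_mem hp hq
    | mul_X p i hp =>
      have : p * MvPolynomial.X i - e (p * MvPolynomial.X i) =
          (p - e p) * MvPolynomial.X i + e p * (MvPolynomial.X i - e (MvPolynomial.X i)) := by
        rw [map_mul]; ring
      rw [this]
      exact J.add_mem (J.mul_mem_right _ hp)
        (J.mul_mem_left _ (Ideal.subset_span ⟨i, rfl⟩))
  have hker : RingHom.ker π.toRingHom = J := by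
    apply le_antisymm
    · intro f hf
      have hf0 : π f = 0 := hf
      have : e f = 0 := by
        show σ (π f) = 0
        rw [hf0, map_zero]
      have h2 := key f
      rw [this, sub_zero] at h2
      exact h2
    · rw [Ideal.span_le]
      rintro _ ⟨i, rfl⟩
      show π (MvPolynomial.X i - e (MvPolynomial.X i)) = 0
      rw [map_sub, hπe, sub_self]
  rw [hker]
  exact Submodule.fg_span (Set.finite_range _)

variable (M : Type u) [AddCommGroup M] [Module R M]

/-- the symmetric algebra of a projective module is formally smooth -/
theorem formallySmooth_symmetricAlgebra [Module.Projective R M] :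
    Algebra.FormallySmooth R (SymmetricAlgebra R M) := by
  apply Algebra.FormallySmooth.of_comp_surjective
  intro B _ _ I _ f
  obtain ⟨g, hg⟩ := Module.projective_lifting_property (Ideal.Quotient.mkₐ R I).toLinearMap
    (f.toLinearMap ∘ₗ SymmetricAlgebra.ι R M) Ideal.Quotient.mk_surjective
  refine ⟨SymmetricAlgebra.lift g, ?_⟩
  apply SymmetricAlgebra.algHom_ext
  ext m
  have := congrArg (fun t => t m) hg
  simpa using this

/-- the symmetric algebra of a finite projective module is finitely presented -/
theorem finitePresentation_symmetricAlgebra [Module.Finite R M] [Module.Projective R M] :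
    Algebra.FinitePresentation R (SymmetricAlgebra R M) := by
  obtain ⟨n, p, hp⟩ := Module.Finite.exists_fin' R M
  obtain ⟨s, hs⟩ := Module.projective_lifting_property p LinearMap.id hp
  let b := Pi.basisFun R (Fin n)
  let eq := SymmetricAlgebra.equivMvPolynomial b
  let π : MvPolynomial (Fin n) R →ₐ[R] SymmetricAlgebra R M :=
    (SymmetricAlgebra.lift (SymmetricAlgebra.ι R M ∘ₗ p)).comp eq.symm.toAlgHom
  let σ : SymmetricAlgebra R M →ₐ[R] MvPolynomial (Fin n) R :=
    eq.toAlgHom.comp (SymmetricAlgebra.lift (SymmetricAlgebra.ι R (Fin n → R) ∘ₗ s))
  refine finitePresentation_of_retract π σ ?_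
  apply SymmetricAlgebra.algHom_ext
  ext m
  have h1 : p (s m) = m := congrArg (fun t => t m) hs
  simp [π, σ, h1]

/-- the symmetric algebra of a finite projective module is smooth -/
theorem smooth_symmetricAlgebra [Module.Finite R M] [Module.Projective R M] :
    Algebra.Smooth R (SymmetricAlgebra R M) :=
  { formallySmooth := formallySmooth_symmetricAlgebra M
    finitePresentation := finitePresentation_symmetricAlgebra M }

end Groth.Agent.Helper12.SymSmooth
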