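import Mathlib

/-!
# Finitely generated torsion-free modules over a domain embed into finite free modules (helper12)
-/

set_option autoImplicit false
universe u

namespace Groth.Agent.Helper12.TFEmbed

open TensorProduct

theorem exists_embedding_of_torsionFree (O : Type u) (K : Type u) [CommRing O] [IsDomain O]
    [Field K] [Algebra O K] [IsFractionRing O K] (M : Type u) [AddCommGroup M] [Module O M]
    [Module.Finite O M] [NoZeroSMulDivisors O M] :
    ∃ (n : ℕ) (ι : M →ₗ[O] (Fin n → O)), Function.Injective ι := by
  classical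
  let b : Module.Basis (Fin (Module.finrank K (K ⊗[O] M))) K (K ⊗[O] M) :=
    Module.finBasis K (K ⊗[O] M)
  let j : M →ₗ[O] (K ⊗[O] M) := TensorProduct.mk O K M 1
  have hj : Function.Injective j := by
    rw [injective_iff_map_eq_zero]
    intro m hm
    obtain ⟨c, hc⟩ := (IsLocalizedModule.eq_zero_iff (nonZeroDivisors O) j).mp hm
    exact (smul_eq_zero.mp hc).resolve_left (nonZeroDivisors.coe_ne_zero c)
  let φ : M →ₗ[O] (Fin (Module.finrank K (K ⊗[O] M)) → K) :=
    (b.equivFun.restrictScalars O).toLinearMap ∘ₗ j
  have hφ : Function.Injective φ := (b.equivFun.restrictScalars O).injective.comp hj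
  obtain ⟨s, hs⟩ := Module.Finite.fg_top (R := O) (M := M)
  obtain ⟨d, hd⟩ := IsLocalization.exist_integer_multiples (nonZeroDivisors O)
    (s ×ˢ (Finset.univ : Finset (Fin (Module.finrank K (K ⊗[O] M)))))
    (fun p => φ p.1 p.2)
  have hall : ∀ (m : M) (i : Fin (Module.finrank K (K ⊗[O] M))),
      IsLocalization.IsInteger O ((d : O) • φ m i) := by
    intro m i
    have hm : m ∈ Submodule.span O (s : Set M) := hs ▸ Submodule.mem_top
    induction hm using Submodule.span_induction with
    | mem x hx =>
      exact hd (x, i) (Finset.mem_product.mpr ⟨Finset.mem_coe.mp hx, Finset.mem_univ i⟩)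
    | zero =>
      rw [map_zero, Pi.zero_apply, smul_zero]
      exact IsLocalization.isInteger_zero
    | add x y _ _ hx hy =>
      rw [map_add, Pi.add_apply, smul_add]
      exact IsLocalization.isInteger_add hx hy
    | smul a x _ hx =>
      rw [map_smul, Pi.smul_apply, smul_comm]
      exact IsLocalization.isInteger_smul hx
  let A : (Fin (Module.finrank K (K ⊗[O] M)) → O) →ₗ[O]
      (Fin (Module.finrank K (K ⊗[O] M)) → K) :=
    (Algebra.linearMap O K).compLeft (Fin (Module.finrank K (K ⊗[O] M)))
  have hA : Function.Injective A := (IsFractionRing.injective O K).comp_left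
  have hmem : ∀ m, ((d : O) • φ) m ∈ LinearMap.range A := by
    intro m
    choose c hc using fun i => hall m i
    exact ⟨c, funext fun i => hc i⟩
  let ψ : M →ₗ[O] LinearMap.range A := LinearMap.codRestrict _ ((d : O) • φ) hmem
  have hψ : Function.Injective ψ := by
    intro x y hxy
    have h1 : ((d : O) • φ) x = ((d : O) • φ) y := congrArg Subtype.val hxy
    rw [LinearMap.smul_apply, LinearMap.smul_apply] at h1
    apply hφ
    funext i
    have h2 := congrFun h1 i
    rw [Pi.smul_apply, Pi.smul_apply, Algebra.smul_def, Algebra.smul_def] at h2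
    exact mul_left_cancel₀ ((map_ne_zero_iff _ (IsFractionRing.injective O K)).mpr
      (nonZeroDivisors.coe_ne_zero d)) h2
  exact ⟨_, (LinearEquiv.ofInjective A hA).symm.toLinearMap ∘ₗ ψ,
    (LinearEquiv.ofInjective A hA).symm.injective.comp hψ⟩

end Groth.Agent.Helper12.TFEmbed
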