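import Mathlib
import Groth.Prelude
import Groth.Agent.Lib.Helper12.TanE
import Groth.Agent.Lib.Helper4.GrpConn
import Groth.Agent.Lib.Helper16.Sch.EtFibCrit

set_option autoImplicit false
set_option linter.style.haveILetI false
universe u
open CategoryTheory CategoryTheory.Limits AlgebraicGeometry Opposite TopologicalSpace Topology
  MonoidalCategory CartesianMonoidalCategory MonObj GrpObj

noncomputable section

namespace Groth.Agent.Helper12.Tan

open Groth.Agent.Helper16

variable {S : Scheme.{u}} (X : Over S) [GrpObj X]

theorem pullback_map_zpow {T : Scheme.{u}} (c : T ⟶ S) (n : ℤ) :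
    (Over.pullback c).map (𝟙 X ^ n) = (𝟙 ((Over.pullback c).obj X)) ^ n := by
  have := _root_.map_zpow ((Over.pullback c).homMonoidHom (X := X) (M := X)) (𝟙 X) n
  simpa using this

variable [IsProper X.hom] [GeometricallyReduced X.hom] [GeometricallyConnected X.hom]

omit [IsProper X.hom] in
/-- the fibres of an abelian scheme are integral. -/
theorem isIntegral_fibre (s : S) :
    IsIntegral ((Over.pullback (S.fromSpecResidueField s)).obj X).left := by
  haveI : IsReduced ((Over.pullback (S.fromSpecResidueField s)).obj X).left :=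
    inferInstanceAs (IsReduced (X.hom.fiber s))
  haveI : ConnectedSpace ((Over.pullback (S.fromSpecResidueField s)).obj X).left :=
    inferInstanceAs (ConnectedSpace (X.hom.fiber s))
  haveI : IrreducibleSpace ((Over.pullback (S.fromSpecResidueField s)).obj X).left :=
    Groth.Agent.Helper4.GrpConn.irreducibleSpace_of_connectedSpace (k := S.residueField s)
      ((Over.pullback (S.fromSpecResidueField s)).obj X)
  exact (isIntegral_iff_irreducibleSpace_and_isReduced _).mpr ⟨inferInstance, inferInstance⟩

theorem fibre_etale_zpow (n : ℤ) (s : S) (hn : (n : S.residueField s) ≠ 0) :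
    Etale ((Over.pullback (S.fromSpecResidueField s)).map (𝟙 X ^ n)).left ∧
      IsFinite ((Over.pullback (S.fromSpecResidueField s)).map (𝟙 X ^ n)).left ∧
      Surjective ((Over.pullback (S.fromSpecResidueField s)).map (𝟙 X ^ n)).left := by
  rw [pullback_map_zpow]
  haveI : IsProper ((Over.pullback (S.fromSpecResidueField s)).obj X).hom :=
    inferInstanceAs (IsProper (pullback.snd _ _))
  haveI := isIntegral_fibre X s
  exact etale_zpow (k := S.residueField s) ((Over.pullback (S.fromSpecResidueField s)).obj X) n hn

theorem intCast_residueField_ne_zero (n : ℤ) (hn : IsUnit (n : Γ(S, ⊤))) (s : S) :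
    (n : S.residueField s) ≠ 0 := by
  have h := hn.map (S.Γevaluation s).hom
  rw [map_intCast] at h
  exact h.ne_zero

/-- multiplication by `n` on an abelian scheme is finite étale (and surjective) when `n` is
invertible on the base. -/
theorem main_zpow [Flat X.hom] [LocallyOfFinitePresentation X.hom] (n : ℤ)
    (hn : IsUnit (n : Γ(S, ⊤))) :
    IsFinite (𝟙 X ^ n).left ∧ Etale (𝟙 X ^ n).left := by
  haveI : LocallyOfFinitePresentation ((𝟙 X ^ n).left ≫ X.hom) := by
    rw [Over.w]; infer_instance
  haveI : Flat ((𝟙 X ^ n).left ≫ X.hom) := by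
    rw [Over.w]; infer_instance
  haveI het : Etale (𝟙 X ^ n).left :=
    EtFibCrit.etale_of_fibres X.hom (𝟙 X ^ n).left (fun s => by
      rw [← Isog.prop_map_iff @Etale]
      exact (fibre_etale_zpow X n s (intCast_residueField_ne_zero n hn s)).1)
  haveI : IsProper ((𝟙 X ^ n).left ≫ X.hom) := by
    rw [Over.w]; infer_instance
  haveI : IsProper (𝟙 X ^ n).left := IsProper.of_comp _ X.hom
  haveI : LocallyQuasiFinite (𝟙 X ^ n).left := locallyQuasiFinite_of_unramified _
  exact ⟨IsFinite.of_isProper_of_locallyQuasiFinite _, het⟩

end Groth.Agent.Helper12.Tan
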