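import Mathlib
import Groth.Prelude
import Groth.Agent.Lib.Helper12.TanF
import Groth.Agent.Lib.Helper12.IsogFib

set_option autoImplicit false
set_option linter.style.haveILetI false
universe u
open CategoryTheory CategoryTheory.Limits AlgebraicGeometry Opposite TopologicalSpace Topology
  MonoidalCategory CartesianMonoidalCategory MonObj GrpObj

noncomputable section

namespace Groth.Agent.Helper12.Tan

open Groth.Agent.Helper16

variable {S : Scheme.{u}} (X : Over S) [GrpObj X]

/-- the fibres of a smooth group scheme with geometrically connected fibres are integral. -/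
theorem isIntegral_fibre_of_smooth [Smooth X.hom] [GeometricallyConnected X.hom] (s : S) :
    IsIntegral ((Over.pullback (S.fromSpecResidueField s)).obj X).left := by
  haveI : Smooth ((Over.pullback (S.fromSpecResidueField s)).obj X).hom :=
    inferInstanceAs (Smooth (pullback.snd _ _))
  haveI : IsReduced ((Over.pullback (S.fromSpecResidueField s)).obj X).left :=
    GenGS.isReduced_of_smooth ((Over.pullback (S.fromSpecResidueField s)).obj X).hom
  haveI : ConnectedSpace ((Over.pullback (S.fromSpecResidueField s)).obj X).left :=
    inferInstanceAs (ConnectedSpace (X.hom.fiber s))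
  haveI : IrreducibleSpace ((Over.pullback (S.fromSpecResidueField s)).obj X).left :=
    Groth.Agent.Helper4.GrpConn.irreducibleSpace_of_connectedSpace (k := S.residueField s)
      ((Over.pullback (S.fromSpecResidueField s)).obj X)
  exact (isIntegral_iff_irreducibleSpace_and_isReduced _).mpr ⟨inferInstance, inferInstance⟩

variable [IsProper X.hom]

theorem fibre_etale_zpow_aux
    (hint : ∀ s : S, IsIntegral ((Over.pullback (S.fromSpecResidueField s)).obj X).left)
    (n : ℤ) (s : S) (hn : (n : S.residueField s) ≠ 0) :
    Etale ((Over.pullback (S.fromSpecResidueField s)).map (𝟙 X ^ n)).left ∧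
      IsFinite ((Over.pullback (S.fromSpecResidueField s)).map (𝟙 X ^ n)).left ∧
      Surjective ((Over.pullback (S.fromSpecResidueField s)).map (𝟙 X ^ n)).left := by
  rw [pullback_map_zpow]
  haveI : IsProper ((Over.pullback (S.fromSpecResidueField s)).obj X).hom :=
    inferInstanceAs (IsProper (pullback.snd _ _))
  haveI := hint s
  exact etale_zpow (k := S.residueField s) ((Over.pullback (S.fromSpecResidueField s)).obj X) n hn

/-- multiplication by `n` on a proper flat finitely presented group scheme with integral fibres
is finite étale surjective when `n` is invertible on the base. -/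
theorem main_zpow_aux [Flat X.hom] [LocallyOfFinitePresentation X.hom]
    (hint : ∀ s : S, IsIntegral ((Over.pullback (S.fromSpecResidueField s)).obj X).left)
    (n : ℤ) (hn : IsUnit (n : Γ(S, ⊤))) :
    IsFinite (𝟙 X ^ n).left ∧ Etale (𝟙 X ^ n).left ∧ Surjective (𝟙 X ^ n).left := by
  haveI : LocallyOfFinitePresentation ((𝟙 X ^ n).left ≫ X.hom) := by
    rw [Over.w]; infer_instance
  haveI : Flat ((𝟙 X ^ n).left ≫ X.hom) := by
    rw [Over.w]; infer_instance
  haveI het : Etale (𝟙 X ^ n).left :=
    EtFibCrit.etale_of_fibres X.hom (𝟙 X ^ n).left (fun s => by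
      rw [← Isog.prop_map_iff @Etale]
      exact (fibre_etale_zpow_aux X hint n s (intCast_residueField_ne_zero n hn s)).1)
  haveI : IsProper ((𝟙 X ^ n).left ≫ X.hom) := by
    rw [Over.w]; infer_instance
  haveI : IsProper (𝟙 X ^ n).left := IsProper.of_comp _ X.hom
  haveI : LocallyQuasiFinite (𝟙 X ^ n).left := locallyQuasiFinite_of_unramified _
  refine ⟨IsFinite.of_isProper_of_locallyQuasiFinite _, het, ?_⟩
  rw [Groth.Agent.Helper12.IsogFib.surjective_iff_fibres]
  intro s
  exact (fibre_etale_zpow_aux X hint n s (intCast_residueField_ne_zero n hn s)).2.2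

end Groth.Agent.Helper12.Tan
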