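import Groth.Agent.Lib.Helper12.MinimalDepthMain
import Groth.Agent.Lib.Helper18.Tor.Low
import Groth.Agent.Lib.Helper6.TorBalance
import Groth.Agent.Lib.Helper10.TorSymm
import Mathlib.LinearAlgebra.TensorProduct.Pi
import Mathlib.Algebra.Module.Torsion.Basic
import Mathlib.RingTheory.KrullDimension.Field

/-!
# Tor_1 against a torsion-free module, for lattices of finite colength (helper12)
-/

set_option autoImplicit false
universe u

open CategoryTheory Limits MonoidalCategory TensorProduct

namespace Groth.Agent.Helper12.TorTF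

section Lin

variable {O : Type*} [CommRing O]
variable {X Y : Type*} [AddCommGroup X] [Module O X] [AddCommGroup Y] [Module O Y]

/-- an injective map whose image contains `a • Y` has a quasi-inverse up to `a`. -/
theorem exists_quasi_inverse (j : X →ₗ[O] Y) (hj : Function.Injective j) (a : O)
    (h : ∀ y, a • y ∈ LinearMap.range j) :
    ∃ g : Y →ₗ[O] X, g ∘ₗ j = a • LinearMap.id ∧ j ∘ₗ g = a • LinearMap.id := by
  let c : Y →ₗ[O] LinearMap.range j := LinearMap.codRestrict _ (a • LinearMap.id) h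
  let g : Y →ₗ[O] X := (LinearEquiv.ofInjective j hj).symm.toLinearMap ∘ₗ c
  have h2 : j ∘ₗ g = a • LinearMap.id := by
    apply LinearMap.ext
    intro y
    have := LinearEquiv.apply_symm_apply (LinearEquiv.ofInjective j hj) (c y)
    have h3 : j (g y) = ((LinearEquiv.ofInjective j hj) ((LinearEquiv.ofInjective j hj).symm (c y)) :
        LinearMap.range j) := rfl
    rw [LinearMap.comp_apply, h3, this]
    rfl
  refine ⟨g, ?_, h2⟩
  apply LinearMap.ext
  intro x
  apply hj
  have := LinearMap.congr_fun h2 (j x)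
  simpa using this

theorem smul_mem_range_of_mem_annihilator (j : X →ₗ[O] Y) (a : O)
    (ha : a ∈ Module.annihilator O (Y ⧸ LinearMap.range j)) (y : Y) :
    a • y ∈ LinearMap.range j := by
  have := Module.mem_annihilator.mp ha (Submodule.Quotient.mk y)
  rwa [← Submodule.Quotient.mk_smul, Submodule.Quotient.mk_eq_zero] at this

variable [IsDomain O] (N : Type*) [AddCommGroup N] [Module O N] [NoZeroSMulDivisors O N]

theorem eq_zero_of_smul_pi_tensor (n : ℕ) (a : O) (ha : a ≠ 0) (z : (Fin n → O) ⊗[O] N)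
    (hz : a • z = 0) : z = 0 := by
  let e : (Fin n → O) ⊗[O] N ≃ₗ[O] (Fin n → N) :=
    (TensorProduct.comm O _ _).trans (TensorProduct.piScalarRight O O N (Fin n))
  apply e.injective
  rw [map_zero]
  have h1 : a • e z = 0 := by rw [← map_smul, hz, map_zero]
  funext i
  have h2 : a • (e z i) = 0 := congrFun h1 i
  exact (smul_eq_zero.mp h2).resolve_left ha

/-- if `j : O^n → Y` is injective with `a • Y ⊆ range j`, `a ≠ 0`, then `j ⊗ N` is injective for
torsion-free `N`. -/
theorem rTensor_injective (n : ℕ) (j : (Fin n → O) →ₗ[O] Y) (hj : Function.Injective j) (a : O)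
    (ha : a ≠ 0) (h : ∀ y, a • y ∈ LinearMap.range j) :
    Function.Injective (j.rTensor N) := by
  obtain ⟨g, hg, -⟩ := exists_quasi_inverse j hj a h
  rw [← LinearMap.ker_eq_bot, Submodule.eq_bot_iff]
  intro z hz
  apply eq_zero_of_smul_pi_tensor N n a ha
  have h1 : (g.rTensor N) ((j.rTensor N) z) = a • z := by
    rw [← LinearMap.comp_apply, ← LinearMap.rTensor_comp, hg, LinearMap.rTensor_smul,
      LinearMap.rTensor_id]
    rfl
  rw [← h1, LinearMap.mem_ker.mp hz, map_zero]

/-- if `g : M → O^n` is injective with `a • O^n ⊆ range g`, `a ≠ 0`, then the kernel of `g ⊗ N` is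
the torsion submodule of `M ⊗ N` for torsion-free `N`. -/
theorem ker_rTensor_eq_torsion (n : ℕ) (g : X →ₗ[O] (Fin n → O)) (hg : Function.Injective g)
    (a : O) (ha : a ≠ 0) (h : ∀ y, a • y ∈ LinearMap.range g) :
    LinearMap.ker (g.rTensor N) = Submodule.torsion O (X ⊗[O] N) := by
  obtain ⟨k, hk, -⟩ := exists_quasi_inverse g hg a h
  ext z
  rw [LinearMap.mem_ker, Submodule.mem_torsion_iff]
  constructor
  · intro hz
    refine ⟨⟨a, mem_nonZeroDivisors_of_ne_zero ha⟩, ?_⟩
    have h1 : (k.rTensor N) ((g.rTensor N) z) = a • z := by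
      rw [← LinearMap.comp_apply, ← LinearMap.rTensor_comp, hk, LinearMap.rTensor_smul,
        LinearMap.rTensor_id]
      rfl
    change a • z = 0
    rw [← h1, hz, map_zero]
  · rintro ⟨b, hb⟩
    apply eq_zero_of_smul_pi_tensor N n (b : O) (nonZeroDivisors.ne_zero b.2)
    rw [← map_smul]
    have : (b : O) • z = 0 := hb
    rw [this, map_zero]

/-- torsion submodules of isomorphic modules are isomorphic. -/
noncomputable def torsionCongr {A B : Type*} [AddCommGroup A] [Module O A] [AddCommGroup B]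
    [Module O B] (e : A ≃ₗ[O] B) : Submodule.torsion O A ≃ₗ[O] Submodule.torsion O B :=
  LinearEquiv.ofSubmodules e _ _ (by
    ext y
    constructor
    · rintro ⟨x, hx, rfl⟩
      obtain ⟨b, hb⟩ := (Submodule.mem_torsion_iff x).mp hx
      refine (Submodule.mem_torsion_iff _).mpr ⟨b, ?_⟩
      have : (b : O) • x = 0 := hb
      change (b : O) • e x = 0
      rw [← map_smul, this, map_zero]
    · intro hy
      obtain ⟨b, hb⟩ := (Submodule.mem_torsion_iff y).mp hy
      refine ⟨e.symm y, (Submodule.mem_torsion_iff _).mpr ⟨b, ?_⟩, e.apply_symm_apply y⟩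
      have : (b : O) • y = 0 := hb
      change (b : O) • e.symm y = 0
      rw [← map_smul, this, map_zero])

end Lin

section TorPart

open Groth.Agent.Helper18.TorLib

variable {O : Type u} [CommRing O] [IsDomain O]
variable (N : Type u) [AddCommGroup N] [Module O N] [NoZeroSMulDivisors O N]

/-- the short complex `0 → X → Y → Y / range j → 0`. -/
noncomputable def sc {X Y : Type u} [AddCommGroup X] [Module O X] [AddCommGroup Y] [Module O Y]
    (j : X →ₗ[O] Y) : ShortComplex (ModuleCat.{u} O) :=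
  ShortComplex.mk (ModuleCat.ofHom j) (ModuleCat.ofHom (LinearMap.range j).mkQ) (by
    ext x
    change (LinearMap.range j).mkQ (j x) = 0
    rw [Submodule.mkQ_apply, Submodule.Quotient.mk_eq_zero]
    exact ⟨x, rfl⟩)

theorem sc_shortExact {X Y : Type u} [AddCommGroup X] [Module O X] [AddCommGroup Y] [Module O Y]
    (j : X →ₗ[O] Y) (hj : Function.Injective j) : (sc j).ShortExact := by
  refine ShortComplex.ShortExact.mk' ?_ ?_ ?_
  · rw [ShortComplex.ShortExact.moduleCat_exact_iff_function_exact]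
    intro y
    change (LinearMap.range j).mkQ y = 0 ↔ y ∈ Set.range j
    rw [Submodule.mkQ_apply, Submodule.Quotient.mk_eq_zero]
    rfl
  · exact (ModuleCat.mono_iff_injective _).2 hj
  · exact (ModuleCat.epi_iff_surjective _).2 (Submodule.mkQ_surjective _)

/-- `Tor₁(N, M) ≅ Tor₁(N, M / O^n)` for a lattice `O^n ⊆ M` of torsion colength and torsion-free `N`. -/
theorem tor_one_iso_quotient (M : Type u) [AddCommGroup M] [Module O M]
    (n : ℕ) (f : (Fin n → O) →ₗ[O] M) (hf : Function.Injective f) (a : O) (ha : a ≠ 0)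
    (h : ∀ y, a • y ∈ LinearMap.range f) :
    Nonempty (((Tor (ModuleCat.{u} O) 1).obj (ModuleCat.of O N)).obj (ModuleCat.of O M) ≅
      ((Tor (ModuleCat.{u} O) 1).obj (ModuleCat.of O N)).obj
        (ModuleCat.of O (M ⧸ LinearMap.range f))) := by
  have hS := sc_shortExact f hf
  let Nn : ModuleCat.{u} O := ModuleCat.of O N
  have hflat : Module.Flat O (sc f).X₁ := (inferInstance : Module.Flat O (Fin n → O))
  have hz : IsZero (((Tor (ModuleCat.{u} O) (0 + 1)).obj (sc f).X₁).obj Nn) :=
    isZero_tor_succ_of_flat_left (sc f).X₁ Nn 0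
  have hmono : Mono (((Tor (ModuleCat.{u} O) (0 + 1)).map (sc f).g).app Nn) :=
    (tor_exact₂ hS Nn (0 + 1)).mono_g (hz.eq_of_src _ _)
  have hinj : Function.Injective ((sc f).f.hom.rTensor Nn) := rTensor_injective N n f hf a ha h
  have hm0 : Mono (((Tor (ModuleCat.{u} O) 0).map (sc f).f).app Nn) :=
    (mono_tor0_map_iff (sc f).f Nn).2 ((mono_whiskerRight_iff (sc f).f Nn).2 hinj)
  have hδ : torδ hS Nn 0 = 0 := by
    rw [← cancel_mono (((Tor (ModuleCat.{u} O) 0).map (sc f).f).app Nn), torδ_comp, zero_comp]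
  have hepi : Epi (((Tor (ModuleCat.{u} O) (0 + 1)).map (sc f).g).app Nn) :=
    (tor_exact₃ hS Nn 0).epi_f hδ
  have hiso : IsIso (((Tor (ModuleCat.{u} O) (0 + 1)).map (sc f).g).app Nn) :=
    isIso_of_mono_of_epi _
  obtain ⟨e1⟩ := Groth.Agent.Helper10.TorSymm.nonempty_tor_symm Nn (ModuleCat.of O M) 1
  obtain ⟨e3⟩ := Groth.Agent.Helper10.TorSymm.nonempty_tor_symm
    (ModuleCat.of O (M ⧸ LinearMap.range f)) Nn 1
  exact ⟨e1 ≪≫ @asIso _ _ _ _ (((Tor (ModuleCat.{u} O) (0 + 1)).map (sc f).g).app Nn) hiso ≪≫ e3⟩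

/-- the torsion of `N ⊗ M` is `Tor₁(N, O^n / M)` for a lattice `M ⊆ O^n` of torsion colength and
torsion-free `N`. -/
theorem torsion_equiv_tor_one (M : Type u) [AddCommGroup M] [Module O M]
    (n : ℕ) (g : M →ₗ[O] (Fin n → O)) (hg : Function.Injective g) (a : O) (ha : a ≠ 0)
    (h : ∀ y, a • y ∈ LinearMap.range g) :
    Nonempty (Submodule.torsion O (N ⊗[O] M) ≃ₗ[O]
      ↑(((Tor (ModuleCat.{u} O) 1).obj (ModuleCat.of O N)).obj
        (ModuleCat.of O ((Fin n → O) ⧸ LinearMap.range g)))) := by
  have hS := sc_shortExact g hg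
  let Nn : ModuleCat.{u} O := ModuleCat.of O N
  have hflat : Module.Flat O (sc g).X₂ := (inferInstance : Module.Flat O (Fin n → O))
  obtain ⟨e1⟩ := Groth.Agent.Helper6.TorBalance.tor_one_iso_ker hS Nn
  obtain ⟨e2⟩ := Groth.Agent.Helper10.TorSymm.nonempty_tor_symm Nn
    (ModuleCat.of O ((Fin n → O) ⧸ LinearMap.range g)) 1
  have hker : LinearMap.ker ((sc g).f.hom.rTensor Nn) = Submodule.torsion O (M ⊗[O] N) :=
    ker_rTensor_eq_torsion N n g hg a ha h
  exact ⟨(torsionCongr (TensorProduct.comm O N M)).trans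
    ((LinearEquiv.ofEq _ _ hker.symm).trans (e1.symm.toLinearEquiv.trans e2.symm.toLinearEquiv))⟩

/-- a nonzero element killing a finite length module over a one-dimensional local domain. -/
theorem exists_ne_zero_mem_annihilator [IsLocalRing O] (hdim : ringKrullDim O = 1)
    (T : Type*) [AddCommGroup T] [Module O T] (hT : IsFiniteLength O T) :
    ∃ a : O, a ≠ 0 ∧ a ∈ Module.annihilator O T := by
  obtain ⟨k, hk⟩ := Groth.Agent.Helper12.MinimalDepth.exists_pow_le_annihilator hT
  have hm : IsLocalRing.maximalIdeal O ≠ ⊥ := by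
    intro hbot
    have hfield : IsField O := IsLocalRing.isField_iff_maximalIdeal_eq.mpr hbot
    have := ringKrullDim_eq_zero_of_isField hfield
    rw [hdim] at this
    exact absurd this (by norm_num)
  obtain ⟨x, hx, hx0⟩ := Submodule.exists_mem_ne_zero_of_ne_bot hm
  exact ⟨x ^ k, pow_ne_zero k hx0, hk (Ideal.pow_mem_pow hx k)⟩

end TorPart

end Groth.Agent.Helper12.TorTF

namespace Groth.Agent.Helper12.TorTF

theorem noZeroSMulDivisors_subalgebra (O K : Type*) [CommRing O] [IsDomain O] [Field K]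
    [Algebra O K] [IsFractionRing O K] (S : Subalgebra O K) : NoZeroSMulDivisors O S := by
  refine ⟨fun {c x} h => ?_⟩
  have h1 : algebraMap O K c * (x : K) = 0 := by
    have := congrArg (Subtype.val) h
    simpa [Algebra.smul_def] using this
  rcases mul_eq_zero.mp h1 with h2 | h2
  · left
    exact (IsFractionRing.injective O K) (by rw [h2, map_zero])
  · right
    exact Subtype.ext h2

end Groth.Agent.Helper12.TorTF
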