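import Groth.Agent.Lib.Helper12.TwFinC
import Groth.Agent.S0084

/-!
# Open and closed subschemes of a twisted constant scheme with preconnected image and one finite
fibre are finite (locally noetherian base, not necessarily connected) (helper12)
-/

set_option autoImplicit false
set_option linter.style.haveILetI false
universe u
open CategoryTheory CategoryTheory.Limits AlgebraicGeometry

namespace Groth.Agent.Helper12.TwFin

open Groth.Agent.Helper12.ConstSch Groth.Agent.Helper18.ConstPts

section main

variable {S : Scheme.{u}} [IsLocallyNoetherian S]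
  (P : Over S) (hP : TwC.IsTwConst TwC.Topology.etale P)
  {Z : Scheme.{u}} (z : Z ⟶ P.left) [IsOpenImmersion z] [IsClosedImmersion z]

include hP in
theorem all_fib_finite' (hpre : _root_.IsPreconnected (Set.range (z ≫ P.hom).base))
    (hs : ∃ s ∈ Set.range (z ≫ P.hom).base, Set.Finite ((z ≫ P.hom).base ⁻¹' {s})) :
    ∀ s : S, Set.Finite ((z ≫ P.hom).base ⁻¹' {s}) := by
  have key : ∀ s : S, ∃ O : Set S, IsOpen O ∧ s ∈ O ∧ ∀ s₁ ∈ O,
      (Set.Finite ((z ≫ P.hom).base ⁻¹' {s₁}) ↔ Set.Finite ((z ≫ P.hom).base ⁻¹' {s})) := by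
    intro s
    obtain ⟨S', f, hf, ⟨s', hs'⟩, I, ⟨φ⟩⟩ := hP s
    haveI : IsLocallyNoetherian S' := LocallyOfFiniteType.isLocallyNoetherian f
    haveI : LocallyConnectedSpace S' := locallyConnectedSpace_of_isLocallyNoetherian S'
    refine ⟨f.base '' connectedComponent s', f.isOpenMap _ isOpen_connectedComponent,
      ⟨s', mem_connectedComponent, hs'⟩, ?_⟩
    rintro _ ⟨t, ht, rfl⟩
    have := finite_iff_of_isPreconnected P z f I φ isPreconnected_connectedComponent ht
      (mem_connectedComponent (x := s'))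
    rw [← hs']
    exact this
  let A : Set S := {s | Set.Finite ((z ≫ P.hom).base ⁻¹' {s})}
  have hA : IsClopen A := by
    constructor
    · rw [← isOpen_compl_iff, isOpen_iff_forall_mem_open]
      intro s hsA
      obtain ⟨O, hO, hsO, hOA⟩ := key s
      exact ⟨O, fun s₁ hs₁ h => hsA ((hOA s₁ hs₁).1 h), hO, hsO⟩
    · rw [isOpen_iff_forall_mem_open]
      intro s hsA
      obtain ⟨O, hO, hsO, hOA⟩ := key s
      exact ⟨O, fun s₁ hs₁ => (hOA s₁ hs₁).2 hsA, hO, hsO⟩
  obtain ⟨s₀, hs₀r, hs₀⟩ := hs
  have hsub : Set.range (z ≫ P.hom).base ⊆ A := hpre.subset_isClopen hA ⟨s₀, hs₀r, hs₀⟩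
  intro s
  by_cases hsr : s ∈ Set.range (z ≫ P.hom).base
  · exact hsub hsr
  · have : (z ≫ P.hom).base ⁻¹' {s} = ∅ := by
      ext a
      simp only [Set.mem_preimage, Set.mem_singleton_iff, Set.mem_empty_iff_false, iff_false]
      intro ha
      exact hsr ⟨a, ha⟩
    rw [this]
    exact Set.finite_empty

include hP in
/-- an open and closed subscheme of a quasi-isotrivial twisted constant scheme over a locally
noetherian base, with preconnected image and one finite (nonempty) fibre, is finite over the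
base. -/
theorem isFinite_of_fib' (hpre : _root_.IsPreconnected (Set.range (z ≫ P.hom).base))
    (hs : ∃ s ∈ Set.range (z ≫ P.hom).base, Set.Finite ((z ≫ P.hom).base ⁻¹' {s})) :
    IsFinite (z ≫ P.hom) := by
  have hall := all_fib_finite' P hP z hpre hs
  haveI : MorphismProperty.DescendsAlong @QuasiCompact
      (@Surjective ⊓ @Flat ⊓ @QuasiCompact : MorphismProperty Scheme.{u}) :=
    Groth.Agent.S0079.result
  haveI : MorphismProperty.DescendsAlong @IsFinite
      (@Surjective ⊓ @Flat ⊓ @QuasiCompact : MorphismProperty Scheme.{u}) :=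
    Groth.Agent.S0084.result
  haveI hqc : QuasiCompact (z ≫ P.hom) := by
    refine Groth.Agent.Helper12.TwEt.descends_pointwise @QuasiCompact (z ≫ P.hom) fun s => ?_
    obtain ⟨S', f, hf, ⟨s', hs'⟩, I, ⟨φ⟩⟩ := hP s
    haveI : IsLocallyNoetherian S' := LocallyOfFiniteType.isLocallyNoetherian f
    haveI : LocallyConnectedSpace S' := locallyConnectedSpace_of_isLocallyNoetherian S'
    have hJ : (JJ P z f I φ s').Finite := by
      rw [← finite_fib_iff P z f I φ, finite_fib_iff_base, hs']
      exact hall s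
    let C : S'.Opens := ⟨connectedComponent s', isOpen_connectedComponent⟩
    refine ⟨C, C.ι ≫ f, inferInstance, inferInstance, ⟨⟨s', mem_connectedComponent⟩, hs'⟩, ?_⟩
    exact quasiCompact_loc P z f I φ s' hJ C rfl
  refine Groth.Agent.Helper12.TwEt.descends_pointwise @IsFinite (z ≫ P.hom) fun s => ?_
  obtain ⟨S', f, hf, hs', I, ⟨φ⟩⟩ := hP s
  refine ⟨S', f, inferInstance, inferInstance, hs', ?_⟩
  exact isFinite_of_isPullback P z f I φ _ _ (IsPullback.of_hasPullback (z ≫ P.hom) f)

end main

end Groth.Agent.Helper12.TwFin
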