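import Groth.Agent.Lib.Helper12.TwFinD

/-!
# Comparing fibres without quasi-separatedness of the base; finiteness of clopen pieces of
twisted constant schemes over bases whose étale covers are locally connected (helper12)
-/

set_option autoImplicit false
set_option linter.style.haveILetI false
universe u
open CategoryTheory CategoryTheory.Limits AlgebraicGeometry

namespace Groth.Agent.Helper12.TwFin

open Groth.Agent.Helper12.ConstSch Groth.Agent.Helper18.ConstPts

section cmp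

/-- finite fibres of the base change of an étale map from an affine scheme landing in an affine
open -/
theorem finite_preimage_fst {Z S W : Scheme.{u}} (g : Z ⟶ S) (fW : W ⟶ S) [Etale fW]
    [IsAffine W] (U₀ : S.Opens) (hU₀ : IsAffineOpen U₀) (hW : Set.range fW ⊆ (U₀ : Set S))
    (z₀ : Z) : ((pullback.fst g fW) ⁻¹' {z₀}).Finite := by
  let Z₀ : Z.Opens := g ⁻¹ᵁ U₀
  let fW₀ : W ⟶ (U₀ : Scheme.{u}) :=
    IsOpenImmersion.lift U₀.ι fW (by rw [Scheme.Opens.range_ι]; exact hW)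
  have hfW₀ : fW₀ ≫ U₀.ι = fW := IsOpenImmersion.lift_fac _ _ _
  have hrange : Set.range (pullback.fst g fW) ⊆ (Z₀ : Set Z) := by
    rintro _ ⟨a, rfl⟩
    show g (pullback.fst g fW a) ∈ U₀
    rw [← Scheme.Hom.comp_apply, pullback.condition, Scheme.Hom.comp_apply]
    exact hW ⟨_, rfl⟩
  let p' : pullback g fW ⟶ (Z₀ : Scheme.{u}) :=
    IsOpenImmersion.lift Z₀.ι (pullback.fst g fW) (by rw [Scheme.Opens.range_ι]; exact hrange)
  have hp' : p' ≫ Z₀.ι = pullback.fst g fW := IsOpenImmersion.lift_fac _ _ _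
  have hsq : IsPullback p' (pullback.snd g fW) (g ∣_ U₀) fW₀ := by
    refine IsPullback.of_right ?_ ?_ (isPullback_morphismRestrict g U₀).flip
    · rw [hp', hfW₀]
      exact IsPullback.of_hasPullback g fW
    · rw [← cancel_mono U₀.ι, Category.assoc, Category.assoc, morphismRestrict_ι,
        ← Category.assoc, hp', hfW₀, pullback.condition]
  haveI : IsAffine (U₀ : Scheme.{u}) := hU₀
  haveI : QuasiCompact fW₀ := inferInstance
  haveI : Etale (fW₀ ≫ U₀.ι) := by rw [hfW₀]; infer_instance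
  haveI : Etale fW₀ := Etale.of_comp fW₀ U₀.ι
  haveI : QuasiCompact p' :=
    MorphismProperty.of_isPullback (P := @QuasiCompact) hsq.flip inferInstance
  haveI : Etale p' := MorphismProperty.of_isPullback (P := @Etale) hsq.flip inferInstance
  haveI : LocallyQuasiFinite p' := locallyQuasiFinite_of_etale p'
  by_cases hz : z₀ ∈ Z₀
  · refine (p'.finite_preimage_singleton ⟨z₀, hz⟩).subset ?_
    intro a ha
    have ha' : pullback.fst g fW a = z₀ := ha
    show p' a = ⟨z₀, hz⟩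
    apply Subtype.ext
    show Z₀.ι (p' a) = z₀
    rw [← Scheme.Hom.comp_apply, hp']
    exact ha'
  · have : (pullback.fst g fW) ⁻¹' {z₀} = ∅ := by
      ext a
      simp only [Set.mem_preimage, Set.mem_singleton_iff, Set.mem_empty_iff_false, iff_false]
      intro ha
      exact hz (ha ▸ hrange ⟨a, rfl⟩)
    rw [this]
    exact Set.finite_empty

variable {S Z S' : Scheme.{u}} (g : Z ⟶ S) (f : S' ⟶ S)

theorem finite_fib_of_finite_base' [Etale f] (t : S')
    (h : (g.base ⁻¹' {f t}).Finite) : ((pullback.snd g f).base ⁻¹' {t}).Finite := by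
  obtain ⟨_, ⟨U₀', hU₀', rfl⟩, htU₀', -⟩ :=
    S.isBasis_affineOpens.exists_subset_of_mem_open (Set.mem_univ (f t)) isOpen_univ
  obtain ⟨U₀, hU₀, htU₀⟩ : ∃ U₀ : S.Opens, IsAffineOpen U₀ ∧ f t ∈ U₀ := ⟨U₀', hU₀', htU₀'⟩
  clear hU₀' htU₀'
  obtain ⟨_, ⟨W₀, hW₀, rfl⟩, htW₀, hWU₀⟩ :=
    S'.isBasis_affineOpens.exists_subset_of_mem_open (show t ∈ (f ⁻¹ᵁ U₀ : Set S') from htU₀)
      (f ⁻¹ᵁ U₀).2
  obtain ⟨W, hW, htW, hWU⟩ : ∃ W : S'.Opens, IsAffineOpen W ∧ t ∈ W ∧ W ≤ f ⁻¹ᵁ U₀ :=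
    ⟨W₀, hW₀, htW₀, hWU₀⟩
  clear hW₀ htW₀ hWU₀
  let fW : (W : Scheme.{u}) ⟶ S := W.ι ≫ f
  haveI : IsAffine (W : Scheme.{u}) := hW
  haveI : Etale fW := inferInstance
  have hfWr : Set.range fW ⊆ (U₀ : Set S) := by
    rintro _ ⟨w, rfl⟩
    exact hWU w.2
  let m : pullback g fW ⟶ pullback g f :=
    pullback.lift (pullback.fst g fW) (pullback.snd g fW ≫ W.ι)
      (by rw [pullback.condition, Category.assoc])
  have hm1 : m ≫ pullback.fst g f = pullback.fst g fW := pullback.lift_fst _ _ _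
  have hm2 : m ≫ pullback.snd g f = pullback.snd g fW ≫ W.ι := pullback.lift_snd _ _ _
  have hm : IsPullback m (pullback.snd g fW) (pullback.snd g f) W.ι := by
    refine IsPullback.of_right ?_ hm2 (IsPullback.of_hasPullback g f)
    rw [hm1]
    exact IsPullback.of_hasPullback g fW
  have hfin : ((pullback.fst g fW).base ⁻¹' (g.base ⁻¹' {f t})).Finite :=
    h.preimage' fun z₀ _ => finite_preimage_fst g fW U₀ hU₀ hfWr z₀
  refine (hfin.image m).subset ?_
  intro y hy
  have hy' : pullback.snd g f y = t := hy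
  obtain ⟨w, hw1, hw2⟩ := exists_of_isPullback hm y (⟨t, htW⟩ : W) (by rw [hy']; rfl)
  refine ⟨w, ?_, hw1⟩
  show g (pullback.fst g fW w) = f t
  rw [← hm1, Scheme.Hom.comp_apply, hw1, ← Scheme.Hom.comp_apply, pullback.condition,
    Scheme.Hom.comp_apply, hy']

theorem finite_fib_iff_base' [Etale f] (t : S') :
    ((pullback.snd g f).base ⁻¹' {t}).Finite ↔ (g.base ⁻¹' {f t}).Finite :=
  ⟨finite_base_of_finite_fib g f t, finite_fib_of_finite_base' g f t⟩

end cmp

section loc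

variable {S : Scheme.{u}} (P : Over S) {Z : Scheme.{u}} (z : Z ⟶ P.left)
  [IsOpenImmersion z] [IsClosedImmersion z]
variable {S' : Scheme.{u}} (f : S' ⟶ S) (I : Type u) (φ : Red.bc f P ≅ TwC.const S' I)

include φ in
theorem finite_iff_of_isPreconnected' [Etale f] {C : Set S'}
    (hC : _root_.IsPreconnected C) {t t' : S'} (ht : t ∈ C) (ht' : t' ∈ C) :
    ((z ≫ P.hom).base ⁻¹' {f t}).Finite ↔ ((z ≫ P.hom).base ⁻¹' {f t'}).Finite := by
  rw [← finite_fib_iff_base', ← finite_fib_iff_base', finite_fib_iff P z f I φ,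
    finite_fib_iff P z f I φ, JJ_eq_of_isPreconnected P z f I φ hC ht ht']

end loc

section main

variable {S : Scheme.{u}}
  (hlc : ∀ (S' : Scheme.{u}) (f : S' ⟶ S), Etale f → LocallyConnectedSpace S')
  (P : Over S) (hP : TwC.IsTwConst TwC.Topology.etale P)
  {Z : Scheme.{u}} (z : Z ⟶ P.left) [IsOpenImmersion z] [IsClosedImmersion z]

include hlc hP in
theorem all_fib_finite'' (hpre : _root_.IsPreconnected (Set.range (z ≫ P.hom).base))
    (hs : ∃ s ∈ Set.range (z ≫ P.hom).base, Set.Finite ((z ≫ P.hom).base ⁻¹' {s})) :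
    ∀ s : S, Set.Finite ((z ≫ P.hom).base ⁻¹' {s}) := by
  have key : ∀ s : S, ∃ O : Set S, IsOpen O ∧ s ∈ O ∧ ∀ s₁ ∈ O,
      (Set.Finite ((z ≫ P.hom).base ⁻¹' {s₁}) ↔ Set.Finite ((z ≫ P.hom).base ⁻¹' {s})) := by
    intro s
    obtain ⟨S', f, hf, ⟨s', hs'⟩, I, ⟨φ⟩⟩ := hP s
    haveI : LocallyConnectedSpace S' := hlc S' f hf
    refine ⟨f.base '' connectedComponent s', f.isOpenMap _ isOpen_connectedComponent,
      ⟨s', mem_connectedComponent, hs'⟩, ?_⟩
    rintro _ ⟨t, ht, rfl⟩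
    have := finite_iff_of_isPreconnected' P z f I φ isPreconnected_connectedComponent ht
      (mem_connectedComponent (x := s'))
    rw [← hs']
    exact this
  let A : Set S := {s | Set.Finite ((z ≫ P.hom).base ⁻¹' {s})}
  have hA : IsClopen A := by
    constructor
    · rw [← isOpen_compl_iff, isOpen_iff_forall_mem_open]
      intro s hsA
      obtain ⟨O, hO, hsO, hOA⟩ := key s
      exact ⟨O, fun s₁ hs₁ h => hsA ((hOA s₁ hs₁).1 h), hO, hsO⟩
    · rw [isOpen_iff_forall_mem_open]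
      intro s hsA
      obtain ⟨O, hO, hsO, hOA⟩ := key s
      exact ⟨O, fun s₁ hs₁ => (hOA s₁ hs₁).2 hsA, hO, hsO⟩
  obtain ⟨s₀, hs₀r, hs₀⟩ := hs
  have hsub : Set.range (z ≫ P.hom).base ⊆ A := hpre.subset_isClopen hA ⟨s₀, hs₀r, hs₀⟩
  intro s
  by_cases hsr : s ∈ Set.range (z ≫ P.hom).base
  · exact hsub hsr
  · have : (z ≫ P.hom).base ⁻¹' {s} = ∅ := by
      ext a
      simp only [Set.mem_preimage, Set.mem_singleton_iff, Set.mem_empty_iff_false, iff_false]
      intro ha
      exact hsr ⟨a, ha⟩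
    rw [this]
    exact Set.finite_empty

include hlc hP in
theorem isFinite_of_fib'' (hpre : _root_.IsPreconnected (Set.range (z ≫ P.hom).base))
    (hs : ∃ s ∈ Set.range (z ≫ P.hom).base, Set.Finite ((z ≫ P.hom).base ⁻¹' {s})) :
    IsFinite (z ≫ P.hom) := by
  have hall := all_fib_finite'' hlc P hP z hpre hs
  haveI : MorphismProperty.DescendsAlong @QuasiCompact
      (@Surjective ⊓ @Flat ⊓ @QuasiCompact : MorphismProperty Scheme.{u}) :=
    Groth.Agent.S0079.result
  haveI : MorphismProperty.DescendsAlong @IsFinite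
      (@Surjective ⊓ @Flat ⊓ @QuasiCompact : MorphismProperty Scheme.{u}) :=
    Groth.Agent.S0084.result
  haveI hqc : QuasiCompact (z ≫ P.hom) := by
    refine Groth.Agent.Helper12.TwEt.descends_pointwise @QuasiCompact (z ≫ P.hom) fun s => ?_
    obtain ⟨S', f, hf, ⟨s', hs'⟩, I, ⟨φ⟩⟩ := hP s
    haveI : LocallyConnectedSpace S' := hlc S' f hf
    have hJ : (JJ P z f I φ s').Finite := by
      rw [← finite_fib_iff P z f I φ, finite_fib_iff_base', hs']
      exact hall s
    let C : S'.Opens := ⟨connectedComponent s', isOpen_connectedComponent⟩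
    refine ⟨C, C.ι ≫ f, inferInstance, inferInstance, ⟨⟨s', mem_connectedComponent⟩, hs'⟩, ?_⟩
    exact quasiCompact_loc P z f I φ s' hJ C rfl
  refine Groth.Agent.Helper12.TwEt.descends_pointwise @IsFinite (z ≫ P.hom) fun s => ?_
  obtain ⟨S', f, hf, hs', I, ⟨φ⟩⟩ := hP s
  refine ⟨S', f, inferInstance, inferInstance, hs', ?_⟩
  exact isFinite_of_isPullback P z f I φ _ _ (IsPullback.of_hasPullback (z ≫ P.hom) f)

end main

end Groth.Agent.Helper12.TwFin
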