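import Groth.Agent.Lib.Helper12.TwIsoA

/-!
# Base change of constant schemes; restriction of trivialisations (helper12)
-/

set_option autoImplicit false
set_option linter.style.haveILetI false
universe u
open CategoryTheory CategoryTheory.Limits AlgebraicGeometry

namespace Groth.Agent.Helper12.TwHens

open Groth.Agent.Helper12.TwFin Groth.Agent.Helper18.ConstPts

/-- The base change of a constant scheme is constant. -/
theorem nonempty_bc_const_iso {S T : Scheme.{u}} (g : T ⟶ S) (I : Type u) :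
    Nonempty (Red.bc g (TwC.const S I) ≅ TwC.const T I) := by
  let d : (∐ fun _ : I => S) ⟶ S := Sigma.desc fun _ : I => 𝟙 S
  let fi : ∀ i : I, T ⟶ pullback d g := fun i =>
    pullback.lift (g ≫ Sigma.ι (fun _ : I => S) i) (𝟙 T) (by simp [d])
  have hpb : ∀ i, IsPullback (fi i) g (pullback.fst d g) (Sigma.ι (fun _ : I => S) i) := by
    intro i
    refine IsPullback.of_right ?_ (pullback.lift_fst _ _ _) (IsPullback.of_hasPullback d g).flip
    have e1 : fi i ≫ pullback.snd d g = 𝟙 T := pullback.lift_snd _ _ _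
    have e2 : Sigma.ι (fun _ : I => S) i ≫ d = 𝟙 S := by simp [d]
    rw [e1, e2]
    exact IsPullback.of_horiz_isIso ⟨by simp⟩
  haveI : ∀ i, IsOpenImmersion (fi i) := fun i =>
    MorphismProperty.of_isPullback (P := @IsOpenImmersion) (hpb i).flip inferInstance
  have hcov : ⨆ i, (fi i).opensRange = ⊤ := by
    rw [eq_top_iff]
    intro p _
    obtain ⟨i, s, hs⟩ := exists_idx I (pullback.fst d g p)
    obtain ⟨t, -, ht⟩ := exists_of_isPullback (hpb i).flip s p hs
    simp only [TopologicalSpace.Opens.iSup_mk, TopologicalSpace.Opens.mem_mk, Set.mem_iUnion]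
    exact ⟨i, t, ht⟩
  have hdisj : Pairwise (Function.onFun Disjoint fun i => (fi i).opensRange) := by
    intro i j hij
    rw [Function.onFun_apply, ← TopologicalSpace.Opens.coe_disjoint, Set.disjoint_left]
    rintro p ⟨t, ht⟩ ⟨t', ht'⟩
    have h1 : pullback.fst d g p ∈ (Sigma.ι (fun _ : I => S) i).opensRange := by
      refine ⟨g t, ?_⟩
      rw [← ht, ← Scheme.Hom.comp_apply, ← Scheme.Hom.comp_apply, (hpb i).w]
    have h2 : pullback.fst d g p ∈ (Sigma.ι (fun _ : I => S) j).opensRange := by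
      refine ⟨g t', ?_⟩
      rw [← ht', ← Scheme.Hom.comp_apply, ← Scheme.Hom.comp_apply, (hpb j).w]
    exact (hij (idx_unique I h1 h2)).elim
  obtain ⟨hc⟩ := nonempty_isColimit_cofanMk_of fi hcov hdisj
  let e : (∐ fun _ : I => T) ≅ pullback d g :=
    (colimit.isColimit _).coconePointUniqueUpToIso hc
  have he : ∀ i, Sigma.ι (fun _ : I => T) i ≫ e.hom = fi i := fun i =>
    (colimit.isColimit _).comp_coconePointUniqueUpToIso_hom hc ⟨i⟩
  refine ⟨(Over.isoMk e ?_).symm⟩
  refine Sigma.hom_ext _ _ fun i => ?_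
  rw [← Category.assoc, he]
  simpa using pullback.lift_snd _ _ _

/-- Restriction of a trivialisation along a further base change. -/
theorem nonempty_triv_comp {S S₁ T : Scheme.{u}} (X : Over S) (f₁ : S₁ ⟶ S) (g : T ⟶ S₁)
    (I : Type u) (e₁ : Red.bc f₁ X ≅ TwC.const S₁ I) :
    Nonempty (Red.bc (g ≫ f₁) X ≅ TwC.const T I) := by
  obtain ⟨e₂⟩ := nonempty_bc_const_iso g I
  exact ⟨(Over.pullbackComp g f₁).app X ≪≫ (Over.pullback g).mapIso e₁ ≪≫ e₂⟩

end Groth.Agent.Helper12.TwHens
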