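import Groth.Agent.Lib.Helper12.TwHensA

/-!
# Local schemes: generic lemmas (helper12)
-/

set_option autoImplicit false
set_option linter.style.haveILetI false
universe u
open CategoryTheory CategoryTheory.Limits AlgebraicGeometry

namespace Groth.Agent.Helper12.TwHens

/-- A morphism to a local scheme with open range containing the closed point is surjective. -/
theorem surjective_of_isOpen_range (R : Type u) [CommRing R] [IsLocalRing R] {Y : Scheme.{u}}
    (f : Y ⟶ Spec (CommRingCat.of R))
    (ho : IsOpen (Set.range f)) (hs : IsLocalRing.closedPoint R ∈ Set.range f) :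
    Surjective f := by
  constructor
  intro t
  exact (IsLocalRing.specializes_closedPoint (R := R) t).mem_open ho hs

/-- Over a local base, every point of a finite scheme specializes to a point of the closed
fibre. -/
theorem exists_specializes_of_isFinite (R : Type u) [CommRing R] [IsLocalRing R] {W : Scheme.{u}}
    (q : W ⟶ Spec (CommRingCat.of R)) [IsFinite q] (w : W) :
    ∃ w₀ : W, w ⤳ w₀ ∧ q w₀ = IsLocalRing.closedPoint R := by
  have hcl : IsClosed (q '' closure {w}) := q.isClosedMap _ isClosed_closure
  have hmem : q w ∈ q '' closure {w} := ⟨w, subset_closure rfl, rfl⟩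
  have hs : IsLocalRing.closedPoint R ∈ q '' closure {w} :=
    (IsLocalRing.specializes_closedPoint (R := R) (q w)).mem_closed hcl hmem
  obtain ⟨w₀, hw₀, h⟩ := hs
  exact ⟨w₀, specializes_iff_mem_closure.2 hw₀, h⟩

/-- If an affine open `D` of `X` consists of generizations of `x ∈ D`, then
`Spec O_{X,x} ⟶ X` is an open immersion (with range `D`). -/
theorem isOpenImmersion_fromSpecStalk {X : Scheme.{u}} (x : X) (D : X.Opens) (hD : IsAffineOpen D)
    (hxD : x ∈ D) (hgen : ∀ y ∈ D, y ⤳ x) : IsOpenImmersion (X.fromSpecStalk x) := by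
  rw [← hD.fromSpecStalk_eq_fromSpecStalk hxD]
  unfold IsAffineOpen.fromSpecStalk
  suffices IsIso (X.presheaf.germ D x hxD) by infer_instance
  letI : Algebra Γ(X, D) (X.presheaf.stalk x) :=
    TopCat.Presheaf.algebra_section_stalk X.presheaf ⟨x, hxD⟩
  haveI hloc : IsLocalization.AtPrime (X.presheaf.stalk x)
      (hD.primeIdealOf ⟨x, hxD⟩).asIdeal := hD.isLocalization_stalk ⟨x, hxD⟩
  have hu : (hD.primeIdealOf ⟨x, hxD⟩).asIdeal.primeCompl ≤ IsUnit.submonoid Γ(X, D) := by
    intro a ha
    have h1 : IsUnit (algebraMap Γ(X, D) (X.presheaf.stalk x) a) :=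
      IsLocalization.map_units (X.presheaf.stalk x) ⟨a, ha⟩
    have h2 : x ∈ X.basicOpen a := (X.mem_basicOpen a x hxD).2 h1
    refine RingedSpace.isUnit_of_isUnit_germ (X := X.toRingedSpace) D a fun y hy => ?_
    have h3 : y ∈ X.basicOpen a := (hgen y hy).mem_open (X.basicOpen a).2 h2
    exact (X.mem_basicOpen a y hy).1 h3
  let e := IsLocalization.atUnits Γ(X, D) (hD.primeIdealOf ⟨x, hxD⟩).asIdeal.primeCompl
    (S := X.presheaf.stalk x) hu
  have hb : Function.Bijective (X.presheaf.germ D x hxD).hom := by
    have : ((X.presheaf.germ D x hxD).hom : Γ(X, D) → X.presheaf.stalk x) = e := by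
      funext a
      exact (e.commutes a).symm
    rw [this]
    exact e.bijective
  exact (ConcreteCategory.isIso_iff_bijective _).2 hb

end Groth.Agent.Helper12.TwHens
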