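import Groth.Agent.Lib.Helper12.TwHensB
import Groth.Agent.Lib.Helper26.FinPartH2
import Groth.Agent.S19144

/-!
# Quasi-isotrivial twisted constant schemes over a henselian local base (helper12)
-/

set_option autoImplicit false
set_option linter.style.haveILetI false
universe u
open CategoryTheory CategoryTheory.Limits AlgebraicGeometry

namespace Groth.Agent.Helper12.TwHens

open Groth.Agent.Helper12.TwFin

variable (R : Type u) [CommRing R] [HenselianLocalRing R]

/-- Over a henselian local base a quasi-isotrivial twisted constant scheme is isotrivial. -/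
theorem exists_finite_etale_triv (X : Over (Spec (CommRingCat.of R)))
    (hX : TwC.IsTwConst TwC.Topology.etale X) :
    ∃ (W : Scheme.{u}) (h : W ⟶ Spec (CommRingCat.of R)) (I : Type u),
      IsFinite h ∧ Etale h ∧ Surjective h ∧ Nonempty (Red.bc h X ≅ TwC.const W I) := by
  obtain ⟨S₁, f₁, hf₁, ⟨s₁, hs₁⟩, I, ⟨e₁⟩⟩ := hX (IsLocalRing.closedPoint R)
  obtain ⟨v, hv⟩ := S₁.affineCover.covers s₁
  let ι := S₁.affineCover.f (S₁.affineCover.idx s₁)
  let g : S₁.affineCover.X (S₁.affineCover.idx s₁) ⟶ Spec (CommRingCat.of R) := ι ≫ f₁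
  haveI : Etale g := inferInstance
  haveI : LocallyQuasiFinite g := locallyQuasiFinite_of_etale g
  obtain ⟨W, ⟨hWc, hWf, hWs⟩, -⟩ := Groth.Agent.Helper26.FinPartH2.main R g
  have hgv : g v = IsLocalRing.closedPoint R := by
    show f₁ (ι v) = _
    rw [hv, hs₁]
  haveI : Etale (W.ι ≫ g) := inferInstance
  refine ⟨W, W.ι ≫ g, I, hWf, inferInstance, ?_, ?_⟩
  · refine surjective_of_isOpen_range R _ (W.ι ≫ g).isOpenMap.isOpen_range ?_
    exact ⟨⟨v, hWs v hgv⟩, hgv⟩
  · have := nonempty_triv_comp X f₁ (W.ι ≫ ι) I e₁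
    rwa [Category.assoc] at this

/-- Every point has an open and closed neighbourhood finite over the base. -/
theorem exists_clopen_finite_hens (X : Over (Spec (CommRingCat.of R)))
    (hX : TwC.IsTwConst TwC.Topology.etale X) (y : X.left) :
    ∃ U : X.left.Opens, y ∈ U ∧ IsClosed (U : Set X.left) ∧ IsFinite (U.ι ≫ X.hom) := by
  obtain ⟨W, h, I, hfin, het, hsurj, ⟨e⟩⟩ := exists_finite_etale_triv R X hX
  obtain ⟨hsep, het', -⟩ := Groth.Agent.S19144.result X hX
  exact Groth.Agent.Helper12.TwIso.exists_clopen_finite X h I e y (hsurj.surj _)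

/-- Every point specializes to a point of the closed fibre. -/
theorem exists_specializes_closedFibre (X : Over (Spec (CommRingCat.of R)))
    (hX : TwC.IsTwConst TwC.Topology.etale X) (y : X.left) :
    ∃ x : X.left, X.hom x = IsLocalRing.closedPoint R ∧ y ⤳ x := by
  obtain ⟨U, hyU, -, hUfin⟩ := exists_clopen_finite_hens R X hX y
  obtain ⟨w₀, hw, hw₀⟩ := exists_specializes_of_isFinite R (U.ι ≫ X.hom) ⟨y, hyU⟩
  exact ⟨U.ι w₀, hw₀, hw.map U.ι.continuous⟩

set_option maxHeartbeats 1000000 in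
/-- The generizations of a point of the closed fibre form an open and closed subscheme, finite
over the base. -/
theorem exists_clopen_generization (X : Over (Spec (CommRingCat.of R)))
    (hX : TwC.IsTwConst TwC.Topology.etale X) (x : X.left)
    (hx : X.hom x = IsLocalRing.closedPoint R) :
    ∃ D : X.left.Opens, IsClosed (D : Set X.left) ∧ IsFinite (D.ι ≫ X.hom) ∧ x ∈ D ∧
      ∀ y ∈ D, y ⤳ x := by
  obtain ⟨hsep, het, -⟩ := Groth.Agent.S19144.result X hX
  obtain ⟨C, hxC, hCcl, hCfin⟩ := exists_clopen_finite_hens R X hX x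
  let fC : (C : Scheme.{u}) ⟶ Spec (CommRingCat.of R) := C.ι ≫ X.hom
  haveI : IsFinite fC := hCfin
  let s : Spec (CommRingCat.of R) := IsLocalRing.closedPoint R
  let x' : (C : Scheme.{u}) := ⟨x, hxC⟩
  have hAcl : IsClosed (fC ⁻¹' {s}) :=
    (IsLocalRing.isClosed_singleton_closedPoint R).preimage fC.continuous
  have hAd : _root_.IsDiscrete (fC ⁻¹' {s}) := fC.isDiscrete_preimage_singleton s
  have hFcl : IsClosed ((fC ⁻¹' {s}) \ {x'}) := by
    have h1 : (fC ⁻¹' {s}) \ {x'} =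
        Subtype.val '' {a : ↥(fC ⁻¹' {s}) | (a : (C : Scheme.{u})) ≠ x'} := by
      ext c
      constructor
      · rintro ⟨hc1, hc2⟩
        exact ⟨⟨c, hc1⟩, hc2, rfl⟩
      · rintro ⟨a, ha, rfl⟩
        exact ⟨a.2, ha⟩
    rw [h1]
    haveI : DiscreteTopology ↥(fC ⁻¹' {s}) := hAd.to_subtype
    exact hAcl.isClosedEmbedding_subtypeVal.isClosedMap _ (isClosed_discrete _)
  let U : (C : Scheme.{u}).Opens := ⟨((fC ⁻¹' {s}) \ {x'})ᶜ, hFcl.isOpen_compl⟩
  have hxU : x' ∈ U := fun h => h.2 rfl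
  let f : (U : Scheme.{u}) ⟶ Spec (CommRingCat.of R) := U.ι ≫ fC
  have hfib : ∀ u : (U : Scheme.{u}), f u = s → u = ⟨x', hxU⟩ := by
    intro u hu
    by_contra hne
    exact u.2 ⟨hu, fun h => hne (Subtype.ext h)⟩
  have hF : (f ⁻¹' {IsLocalRing.closedPoint R}).Finite :=
    Set.Subsingleton.finite (fun a ha b hb => (hfib a ha).trans (hfib b hb).symm)
  haveI : IsAffine (C : Scheme.{u}) := isAffine_of_isAffineHom fC
  let iso := (C : Scheme.{u}).isoSpec
  let ψ : CommRingCat.of R ⟶ Γ((C : Scheme.{u}), ⊤) := Spec.preimage (iso.inv ≫ fC)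
  have hψ' : Spec.map ψ = iso.inv ≫ fC := Spec.map_preimage _
  have hψ : ψ.hom.IsIntegral := by
    haveI : IsFinite (Spec.map ψ) := by rw [hψ']; infer_instance
    exact ((IsFinite.SpecMap_iff ψ).1 this).to_isIntegral
  obtain ⟨W, hWcl, hWfin, hWs⟩ := Groth.Agent.Helper26.FinPartH2.exists_of_factor R f hF
    Γ((C : Scheme.{u}), ⊤) ψ hψ (U.ι ≫ iso.hom)
    (by rw [Category.assoc, hψ', Iso.hom_inv_id_assoc])
  let k : (W : Scheme.{u}) ⟶ X.left := W.ι ≫ U.ι ≫ C.ι
  haveI : IsFinite (k ≫ X.hom) := by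
    have : k ≫ X.hom = W.ι ≫ f := by simp [k, f, fC]
    rw [this]; exact hWfin
  haveI : IsFinite k := IsFinite.of_comp k X.hom
  let wx : (W : Scheme.{u}) := ⟨⟨x', hxU⟩, hWs _ hx⟩
  refine ⟨k.opensRange, k.isClosedMap.isClosed_range, ?_, ⟨wx, rfl⟩, ?_⟩
  · have h2 : k.opensRange.ι ≫ X.hom = k.isoOpensRange.inv ≫ (k ≫ X.hom) := by
      rw [← Category.assoc]
      congr 1
      rw [Iso.eq_inv_comp]
      exact k.isoOpensRange_hom_ι
    rw [h2]
    infer_instance
  · rintro y ⟨w, rfl⟩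
    obtain ⟨w₀, hw, hw₀⟩ := exists_specializes_of_isFinite R (k ≫ X.hom) w
    have h3 : W.ι w₀ = ⟨x', hxU⟩ := hfib _ hw₀
    have h4 : k w₀ = x := by
      show C.ι (U.ι (W.ι w₀)) = x
      rw [h3]
      rfl
    rw [← h4]
    exact hw.map k.continuous

end Groth.Agent.Helper12.TwHens
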