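import Groth.Agent.Lib.Helper12.TwFinA
import Mathlib.AlgebraicGeometry.ZariskisMainTheorem
import Mathlib.AlgebraicGeometry.Morphisms.Proper

/-!
# Isotrivial twisted constant schemes are unions of open and closed finite pieces (helper12)
-/

set_option autoImplicit false
set_option linter.style.haveILetI false
universe u
open CategoryTheory CategoryTheory.Limits AlgebraicGeometry

namespace Groth.Agent.Helper12.TwIso

open Groth.Agent.Helper12.ConstSch Groth.Agent.Helper18.ConstPts Groth.Agent.Helper12.TwFin

/-- the range of a coprojection is closed -/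
theorem isClosed_range_inc (U : Scheme.{u}) (M : Type u) (m : M) :
    IsClosed (Set.range (inc U M m).base) := by
  rw [← isOpen_compl_iff]
  have : (Set.range (inc U M m).base)ᶜ = ⋃ n : {n : M // n ≠ m}, Set.range (inc U M n.1).base := by
    ext c
    rw [Set.mem_compl_iff, Set.mem_iUnion]
    constructor
    · intro hc
      obtain ⟨n, hn⟩ := exists_idx M c
      refine ⟨⟨n, ?_⟩, hn⟩
      rintro rfl
      exact hc hn
    · rintro ⟨⟨n, hn⟩, hc⟩ hc'
      exact hn (idx_unique M hc hc')
  rw [this]
  exact isOpen_iUnion fun n => (inc U M n.1).isOpenEmbedding.isOpen_range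

/-- if `R` becomes constant over a finite etale `h : U' ⟶ S`, every point of `R` over the image of
`h` has an open and closed neighbourhood which is finite over `S`. -/
theorem exists_clopen_finite {S : Scheme.{u}} (R : Over S) [IsSeparated R.hom] [Etale R.hom]
    {U' : Scheme.{u}} (h : U' ⟶ S) [IsFinite h] [Etale h] (M : Type u)
    (e : Red.bc h R ≅ TwC.const U' M) (x : R.left) (hx : R.hom x ∈ Set.range h.base) :
    ∃ U : R.left.Opens, x ∈ U ∧ IsClosed (U : Set R.left) ∧ IsFinite (U.ι ≫ R.hom) := by
  obtain ⟨s', hs'⟩ := hx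
  obtain ⟨xh, hx1, hx2⟩ := Scheme.Pullback.exists_preimage_pullback (f := R.hom) (g := h) x s'
    hs'.symm
  let c : pullback R.hom h ⟶ ∐ fun _ : M => U' := e.hom.left
  let m : M := idx M (c xh)
  obtain ⟨u, hu⟩ := mem_idx M (c xh)
  let j : U' ⟶ pullback R.hom h := inc U' M m ≫ e.inv.left
  have hjc : j ≫ c = inc U' M m := by
    show (inc U' M m ≫ e.inv.left) ≫ e.hom.left = _
    rw [Category.assoc, ← Over.comp_left, e.inv_hom_id, Over.id_left]
    exact Category.comp_id _
  have hju : j u = xh := by
    have hci : Function.Injective c := by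
      haveI : IsIso c := inferInstanceAs (IsIso e.hom.left)
      exact c.isOpenEmbedding.injective
    apply hci
    rw [← Scheme.Hom.comp_apply, hjc]
    exact hu
  have hjsnd : j ≫ pullback.snd R.hom h = 𝟙 U' := by
    have h1 : e.inv.left ≫ (Red.bc h R).hom = (TwC.const U' M).hom := Over.w e.inv
    show (inc U' M m ≫ e.inv.left) ≫ pullback.snd R.hom h = _
    rw [Category.assoc]
    erw [h1]
    exact inc_sg U' M m
  have hjR : (j ≫ pullback.fst R.hom h) ≫ R.hom = h := by
    rw [Category.assoc, pullback.condition, ← Category.assoc, hjsnd, Category.id_comp]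
  haveI : IsIso e.inv.left := inferInstance
  haveI : Etale (j ≫ pullback.fst R.hom h) := inferInstance
  have hopen : IsOpen (Set.range (j ≫ pullback.fst R.hom h).base) :=
    (j ≫ pullback.fst R.hom h).isOpenMap.isOpen_range
  have hclosed : IsClosed (Set.range (j ≫ pullback.fst R.hom h).base) := by
    have h1 : IsClosed (Set.range j.base) := by
      have : Set.range j.base = e.inv.left.base '' Set.range (inc U' M m).base := by
        rw [← Set.range_comp]; rfl
      rw [this]
      exact e.inv.left.homeomorph.isClosedMap _ (isClosed_range_inc U' M m)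
    have : Set.range (j ≫ pullback.fst R.hom h).base =
        (pullback.fst R.hom h).base '' Set.range j.base := by
      rw [← Set.range_comp]; rfl
    rw [this]
    exact (pullback.fst R.hom h).isClosedMap _ h1
  let U : R.left.Opens := ⟨Set.range (j ≫ pullback.fst R.hom h).base, hopen⟩
  refine ⟨U, ⟨u, ?_⟩, hclosed, ?_⟩
  · show (j ≫ pullback.fst R.hom h) u = x
    rw [Scheme.Hom.comp_apply, hju, hx1]
  have hr : Set.range (j ≫ pullback.fst R.hom h).base ⊆ Set.range U.ι.base := by
    rw [Scheme.Opens.range_ι]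
    exact subset_rfl
  let ρ : U' ⟶ (U : Scheme.{u}) := IsOpenImmersion.lift U.ι (j ≫ pullback.fst R.hom h) hr
  have hρ : ρ ≫ U.ι = j ≫ pullback.fst R.hom h := IsOpenImmersion.lift_fac _ _ _
  haveI : Surjective ρ := by
    refine ⟨fun w => ?_⟩
    have hw : U.ι w ∈ Set.range U.ι.base := ⟨w, rfl⟩
    rw [Scheme.Opens.range_ι] at hw
    obtain ⟨y, hy⟩ : U.ι w ∈ Set.range (j ≫ pullback.fst R.hom h).base := hw
    refine ⟨y, ?_⟩
    apply U.ι.isOpenEmbedding.injective
    rw [← Scheme.Hom.comp_apply, hρ]
    exact hy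
  have hρg : ρ ≫ (U.ι ≫ R.hom) = h := by rw [← Category.assoc, hρ, hjR]
  haveI : IsFinite (ρ ≫ (U.ι ≫ R.hom)) := by rw [hρg]; infer_instance
  haveI : UniversallyClosed (U.ι ≫ R.hom) := UniversallyClosed.of_comp_surjective ρ _
  haveI : IsProper (U.ι ≫ R.hom) := {}
  haveI : LocallyQuasiFinite (U.ι ≫ R.hom) := locallyQuasiFinite_of_etale _
  exact IsFinite.of_isProper_of_locallyQuasiFinite _

end Groth.Agent.Helper12.TwIso
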