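import Groth.Agent.Lib.Helper12.TwUniA

/-!
# Schemes étale over an irreducible geometrically unibranch base are locally irreducible
(helper12)
-/

set_option autoImplicit false
set_option linter.style.haveILetI false
universe u
open CategoryTheory CategoryTheory.Limits AlgebraicGeometry TopologicalSpace

namespace Groth.Agent.Helper12.TwUni

variable {Y : Scheme.{u}}

/-- every point of an open `V` with finitely many irreducible components has an open
neighbourhood with a generic point which is a maximal point -/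
theorem exists_open_maximal_of_finite
    (hY : ∀ y : Y, (nilradical (Y.presheaf.stalk y)).IsPrime) (V : Y.Opens)
    (hfin : (irreducibleComponents ↥V).Finite) (y : Y) (hyV : y ∈ V) :
    ∃ (N : Set Y) (ξ : Y), IsOpen N ∧ y ∈ N ∧ ξ ∈ N ∧ (∀ v ∈ N, ξ ⤳ v) ∧
      ∀ ρ : Y, ρ ⤳ ξ → ρ = ξ := by
  haveI : QuasiSober ↥V := inferInstanceAs (QuasiSober ↥(V : Scheme.{u}))
  have hind : Topology.IsInducing (Subtype.val : ↥V → Y) := Topology.IsInducing.subtypeVal
  have hmax : ∀ T ∈ irreducibleComponents ↥V, ∀ τ : ↥V, IsGenericPoint τ T →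
      ∀ ρ : Y, ρ ⤳ τ.1 → ρ = τ.1 := by
    intro T hT τ hτ ρ hρ
    have hρV : ρ ∈ V := hρ.mem_open V.2 τ.2
    have h1 : (⟨ρ, hρV⟩ : ↥V) ⤳ τ := hind.specializes_iff.1 hρ
    exact congrArg Subtype.val (eq_of_specializes_genericPoint hT hτ h1)
  let y' : ↥V := ⟨y, hyV⟩
  let T : Set ↥V := irreducibleComponent y'
  have hTmem : T ∈ irreducibleComponents ↥V := irreducibleComponent_mem_irreducibleComponents y'
  have hTirr : IsIrreducible T := isIrreducible_irreducibleComponent
  have hTcl : IsClosed T := isClosed_irreducibleComponent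
  let τ : ↥V := hTirr.genericPoint
  have hτ : IsGenericPoint τ T := hTirr.isGenericPoint_genericPoint hTcl
  have hTo : IsOpen T := by
    have hO : IsClosed (⋃₀ (irreducibleComponents ↥V \ {T})) := by
      rw [Set.sUnion_eq_biUnion]
      exact hfin.sdiff.isClosed_biUnion fun W hW => isClosed_of_mem_irreducibleComponents W hW.1
    have hT : T = (⋃₀ (irreducibleComponents ↥V \ {T}))ᶜ := by
      ext v
      constructor
      · rintro hvT ⟨T', ⟨hT', hne⟩, hvT'⟩
        apply hne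
        have hT'irr : IsIrreducible T' := hT'.1
        have hT'cl : IsClosed T' := isClosed_of_mem_irreducibleComponents T' hT'
        have hτ' : IsGenericPoint hT'irr.genericPoint T' := hT'irr.isGenericPoint_genericPoint hT'cl
        obtain ⟨ξ, -, hξ⟩ := exists_generic_generization v.1 (hY v.1)
        have e1 : τ ⤳ v := hτ.specializes hvT
        have e2 : hT'irr.genericPoint ⤳ v := hτ'.specializes hvT'
        have e3 : ξ = τ.1 := hmax T hTmem τ hτ ξ (hξ _ (e1.map continuous_subtype_val))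
        have e4 : ξ = (hT'irr.genericPoint).1 :=
          hmax T' hT' _ hτ' ξ (hξ _ (e2.map continuous_subtype_val))
        have e5 : hT'irr.genericPoint = τ := Subtype.ext (e4.symm.trans e3)
        rw [Set.mem_singleton_iff, ← hτ'.def, e5, hτ.def]
      · intro hv
        by_contra hvT
        apply hv
        refine ⟨irreducibleComponent v, ⟨irreducibleComponent_mem_irreducibleComponents v, ?_⟩,
          mem_irreducibleComponent⟩
        intro h
        rw [Set.mem_singleton_iff] at h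
        exact hvT (h ▸ mem_irreducibleComponent)
    rw [hT]
    exact hO.isOpen_compl
  refine ⟨Subtype.val '' T, τ.1, V.2.isOpenMap_subtype_val _ hTo, ⟨y', mem_irreducibleComponent, rfl⟩,
    ⟨τ, hτ.mem, rfl⟩, ?_, hmax T hTmem τ hτ⟩
  rintro _ ⟨w, hw, rfl⟩
  exact (hτ.specializes hw).map continuous_subtype_val

/-- The property of having, around every point, an open neighbourhood with a maximal generic
point. -/
def LocIrr (Y : Scheme.{u}) : Prop :=
  ∀ y : Y, ∃ (N : Set Y) (ξ : Y), IsOpen N ∧ y ∈ N ∧ ξ ∈ N ∧ (∀ v ∈ N, ξ ⤳ v) ∧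
    ∀ ρ : Y, ρ ⤳ ξ → ρ = ξ

theorem LocIrr.locallyConnectedSpace (h : LocIrr Y) : LocallyConnectedSpace Y := by
  rw [locallyConnectedSpace_iff_connected_subsets]
  intro y O hO
  obtain ⟨N, ξ, hNo, hyN, hξN, hN, -⟩ := h y
  obtain ⟨O', hO'O, hO'o, hyO'⟩ := mem_nhds_iff.1 hO
  refine ⟨N ∩ O', (hNo.inter hO'o).mem_nhds ⟨hyN, hyO'⟩, ?_, Set.inter_subset_right.trans hO'O⟩
  have hξO' : ξ ∈ O' := (hN y hyN).mem_open hO'o hyO'
  intro u v hu hv _ ⟨a, ha, hau⟩ ⟨b, hb, hbv⟩
  exact ⟨ξ, ⟨hξN, hξO'⟩, (hN a ha.1).mem_open hu hau, (hN b hb.1).mem_open hv hbv⟩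

/-- if `ξ` is a maximal point, its closure is open -/
theorem LocIrr.isOpen_closure (h : LocIrr Y) {ξ : Y} (hξmax : ∀ ρ : Y, ρ ⤳ ξ → ρ = ξ) :
    IsOpen (closure ({ξ} : Set Y)) := by
  rw [isOpen_iff_forall_mem_open]
  intro y hy
  have hξy : ξ ⤳ y := specializes_iff_mem_closure.2 hy
  obtain ⟨N', ν, hN'o, hyN', hνN', hN', -⟩ := h y
  have hξN' : ξ ∈ N' := hξy.mem_open hN'o hyN'
  have hν : ν = ξ := hξmax ν (hN' ξ hξN')
  refine ⟨N', fun v hv => ?_, hN'o, hyN'⟩
  exact specializes_iff_mem_closure.1 (hν ▸ hN' v hv)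

section etale

variable {S : Scheme.{u}} [IrreducibleSpace S] (g : Y ⟶ S) [Etale g]

/-- points over the generic point are maximal points -/
theorem maximal_of_generic {l : Y} (hl : g l = genericPoint S) : ∀ ρ : Y, ρ ⤳ l → ρ = l := by
  intro ρ hρ
  haveI : LocallyQuasiFinite g := Groth.Agent.Helper12.TwFin.locallyQuasiFinite_of_etale g
  have h1 : g ρ ⤳ g l := hρ.map g.continuous
  have h2 : g ρ = genericPoint S := by
    rw [hl] at h1
    exact (h1.antisymm (genericPoint_specializes _)).eq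
  exact (eq_of_specializes_of_fibre g (ξ := ρ) (c := l) hρ (by rw [hl, h2]))  ▸ rfl

/-- maximal points lie over the generic point -/
theorem generic_of_maximal {τ : Y} (hτ : ∀ ρ : Y, ρ ⤳ τ → ρ = τ) : g τ = genericPoint S := by
  have hgen : GeneralizingMap g.base := Flat.generalizingMap g
  obtain ⟨ρ, hρ, hρg⟩ := hgen (genericPoint_specializes (g τ))
  rw [← hτ ρ hρ]
  exact hρg

include g in
theorem locIrr_of_etale (hS : ∀ s : S, CAlg2.IsGeomUnibranch (S.presheaf.stalk s)) : LocIrr Y := by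
  haveI : LocallyQuasiFinite g := Groth.Agent.Helper12.TwFin.locallyQuasiFinite_of_etale g
  have hY : ∀ y : Y, (nilradical (Y.presheaf.stalk y)).IsPrime := fun y =>
    nilradical_isPrime_of_isGeomUnibranch _
      (Groth.Agent.Helper1.GU.stalk_geomUnibranch_of_etale g y (hS _)).1
  intro y
  obtain ⟨_, ⟨U₀', hU₀', rfl⟩, hyU₀', -⟩ :=
    S.isBasis_affineOpens.exists_subset_of_mem_open (Set.mem_univ (g y)) isOpen_univ
  obtain ⟨U₀, hU₀, hyU₀⟩ : ∃ U₀ : S.Opens, IsAffineOpen U₀ ∧ g y ∈ U₀ := ⟨U₀', hU₀', hyU₀'⟩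
  clear hU₀' hyU₀'
  obtain ⟨_, ⟨V', hV', rfl⟩, hyV', hVU'⟩ :=
    Y.isBasis_affineOpens.exists_subset_of_mem_open (show y ∈ (g ⁻¹ᵁ U₀ : Set Y) from hyU₀)
      (g ⁻¹ᵁ U₀).2
  obtain ⟨V, hV, hyV, hVU⟩ : ∃ V : Y.Opens, IsAffineOpen V ∧ y ∈ V ∧ V ≤ g ⁻¹ᵁ U₀ :=
    ⟨V', hV', hyV', hVU'⟩
  clear hV' hyV' hVU'
  refine exists_open_maximal_of_finite hY V ?_ y hyV
  haveI : QuasiSober ↥V := inferInstanceAs (QuasiSober ↥(V : Scheme.{u}))
  -- the generic fibre of V → U₀ is finite
  let gV : (V : Scheme.{u}) ⟶ (U₀ : Scheme.{u}) := g.resLE U₀ V hVU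
  haveI : IsAffine (V : Scheme.{u}) := hV
  haveI : IsAffine (U₀ : Scheme.{u}) := hU₀
  haveI : Etale gV := inferInstance
  haveI : LocallyQuasiFinite gV := Groth.Agent.Helper12.TwFin.locallyQuasiFinite_of_etale gV
  have hηU₀ : genericPoint S ∈ U₀ := (genericPoint_specializes (g y)).mem_open U₀.2 hyU₀
  have hF : (gV ⁻¹' {⟨genericPoint S, hηU₀⟩}).Finite := gV.finite_preimage_singleton _
  have hgV : ∀ v : (V : Scheme.{u}), (gV v).1 = g v.1 := by
    intro v
    have := congrArg (fun φ : (V : Scheme.{u}) ⟶ S => φ v) (Scheme.Hom.resLE_comp_ι g hVU)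
    exact this
  refine (hF.image fun v => closure ({v} : Set ↥V)).subset ?_
  intro T hT
  have hTirr : IsIrreducible T := hT.1
  have hTcl : IsClosed T := isClosed_of_mem_irreducibleComponents T hT
  have hτ : IsGenericPoint hTirr.genericPoint T := hTirr.isGenericPoint_genericPoint hTcl
  refine ⟨hTirr.genericPoint, ?_, hτ.def⟩
  have hmax : ∀ ρ : Y, ρ ⤳ (hTirr.genericPoint).1 → ρ = (hTirr.genericPoint).1 := by
    intro ρ hρ
    have hρV : ρ ∈ V := hρ.mem_open V.2 (hTirr.genericPoint).2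
    have h1 : (⟨ρ, hρV⟩ : ↥V) ⤳ hTirr.genericPoint :=
      Topology.IsInducing.subtypeVal.specializes_iff.1 hρ
    exact congrArg Subtype.val (eq_of_specializes_genericPoint hT hτ h1)
  have := generic_of_maximal g hmax
  show gV hTirr.genericPoint = ⟨genericPoint S, hηU₀⟩
  exact Subtype.ext ((hgV _).trans this)

end etale

end Groth.Agent.Helper12.TwUni
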