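import Groth.Agent.Lib.Helper12.TwUniB
import Groth.Agent.Lib.Helper12.TwFinE
import Groth.Agent.Lib.Helper26.HensSec2
import Groth.Agent.S19144
import Mathlib.AlgebraicGeometry.Morphisms.FlatRank
import Mathlib.AlgebraicGeometry.Morphisms.FlatMono

/-!
# Quasi-isotrivial twisted constant schemes over an irreducible geometrically unibranch base
(helper12)
-/

set_option autoImplicit false
set_option linter.style.haveILetI false
universe u
open CategoryTheory CategoryTheory.Limits AlgebraicGeometry TopologicalSpace

namespace Groth.Agent.Helper12.TwUni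

set_option backward.isDefEq.respectTransparency false in
theorem isClosedImmersion_equalizer_ι_left {S : Scheme.{u}} {X Y : Over S}
    [IsClosedImmersion (pullback.diagonal Y.hom)]
    (f g : X ⟶ Y) : IsClosedImmersion (equalizer.ι f g).left := by
  refine MorphismProperty.of_isPullback (P := @IsClosedImmersion)
    ((Limits.isPullback_equalizer_prod f g).map (Over.forget _)).flip ?_
  rw [← MorphismProperty.cancel_right_of_respectsIso @IsClosedImmersion _
    (Over.prodLeftIsoPullback Y Y).hom]
  convert! (inferInstance : IsClosedImmersion (pullback.diagonal Y.hom))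
  ext1 <;> simp [← Over.comp_left]

/-- two sections of a separated unramified morphism over an irreducible base which agree at the
generic point are equal -/
theorem sec_unique_irreducible {S X : Scheme.{u}} [IrreducibleSpace S] (f : X ⟶ S)
    [FormallyUnramified f] [LocallyOfFiniteType f] [IsSeparated f]
    (s s' : S ⟶ X) (hs : s ≫ f = s' ≫ f)
    (h : S.fromSpecResidueField (genericPoint S) ≫ s =
      S.fromSpecResidueField (genericPoint S) ≫ s') : s = s' := by
  let r := S.fromSpecResidueField (genericPoint S)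
  let X' : Over S := Over.mk (s ≫ f)
  let Y' : Over S := Over.mk f
  let K' : Over S := Over.mk (r ≫ s ≫ f)
  let a : X' ⟶ Y' := Over.homMk s rfl
  let b : X' ⟶ Y' := Over.homMk s' hs.symm
  let c : K' ⟶ X' := Over.homMk r rfl
  have hc : c ≫ a = c ≫ b := by
    ext1
    exact h
  have : IsOpenImmersion (pullback.diagonal Y'.hom) :=
    inferInstanceAs (IsOpenImmersion (pullback.diagonal f))
  have : IsClosedImmersion (pullback.diagonal Y'.hom) :=
    inferInstanceAs (IsClosedImmersion (pullback.diagonal f))
  have hopen : IsOpenImmersion (equalizer.ι a b).left :=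
    Groth.Agent.Helper26.HensSec.isOpenImmersion_equalizer_ι_left a b
  have hclosed : IsClosedImmersion (equalizer.ι a b).left :=
    isClosedImmersion_equalizer_ι_left a b
  let l : K' ⟶ equalizer a b := equalizer.lift c hc
  have hl : l.left ≫ (equalizer.ι a b).left = r := by
    rw [← Over.comp_left, equalizer.lift_ι]
    rfl
  have hmem : genericPoint S ∈ Set.range (equalizer.ι a b).left := by
    let pt : Spec (S.residueField (genericPoint S)) := IsLocalRing.closedPoint _
    refine ⟨l.left pt, ?_⟩
    rw [← Scheme.Hom.comp_apply, hl]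
    exact Scheme.fromSpecResidueField_apply _ _
  have hcl : IsClosed (Set.range (equalizer.ι a b).left) :=
    (equalizer.ι a b).left.isClosedEmbedding.isClosed_range
  have htop : (equalizer.ι a b).left.opensRange = ⊤ := by
    rw [eq_top_iff]
    intro t _
    have ht : genericPoint S ⤳ (show ↥S from t) := genericPoint_specializes _
    exact ht.mem_closed hcl hmem
  have hiso : IsIso (equalizer.ι a b).left :=
    isIso_of_isOpenImmersion_of_opensRange_eq_top _ htop
  have heq : (equalizer.ι a b).left ≫ s = (equalizer.ι a b).left ≫ s' := by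
    have := congrArg (fun φ => φ.left) (equalizer.condition a b)
    exact this
  exact (cancel_epi _).mp heq

section main

variable {S : Scheme.{u}} [IrreducibleSpace S]
  (hS : ∀ s : S, CAlg2.IsGeomUnibranch (S.presheaf.stalk s))
  (X : Over S) (hX : TwC.IsTwConst TwC.Topology.etale X)

include hS hX in
theorem existsUnique_generic (x : X.left) :
    ∃! l : X.left, X.hom.base l = genericPoint S ∧ x ∈ closure ({l} : Set X.left) := by
  obtain ⟨hsep, het, -⟩ := Groth.Agent.S19144.result X hX
  have hgen : GeneralizingMap X.hom.base := Flat.generalizingMap X.hom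
  obtain ⟨l, hl, hlg⟩ := hgen (genericPoint_specializes (X.hom x))
  refine ⟨l, ⟨hlg, specializes_iff_mem_closure.1 hl⟩, ?_⟩
  rintro l' ⟨hl'g, hl'x⟩
  have hl' : l' ⤳ x := specializes_iff_mem_closure.2 hl'x
  have hY : (nilradical (X.left.presheaf.stalk x)).IsPrime :=
    nilradical_isPrime_of_isGeomUnibranch _
      (Groth.Agent.Helper1.GU.stalk_geomUnibranch_of_etale X.hom x (hS _)).1
  obtain ⟨ξ, -, hξ⟩ := exists_generic_generization x hY
  have e1 : ξ = l := maximal_of_generic X.hom hlg ξ (hξ l hl)
  have e2 : ξ = l' := maximal_of_generic X.hom hl'g ξ (hξ l' hl')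
  exact e2.symm.trans e1

include hS hX in
theorem closure_generic (l : X.left) (hl : X.hom.base l = genericPoint S) :
    ∃ U : X.left.Opens, (U : Set X.left) = closure ({l} : Set X.left) ∧ IsClosed (U : Set X.left) ∧
      IsFinite (U.ι ≫ X.hom) ∧ Etale (U.ι ≫ X.hom) ∧ Surjective (U.ι ≫ X.hom) ∧
      ((U.ι ≫ X.hom).base ⁻¹' {genericPoint S}).Subsingleton := by
  obtain ⟨hsep, het, -⟩ := Groth.Agent.S19144.result X hX
  haveI : LocallyQuasiFinite X.hom := Groth.Agent.Helper12.TwFin.locallyQuasiFinite_of_etale X.hom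
  have hLI : LocIrr X.left := locIrr_of_etale X.hom hS
  let U : X.left.Opens :=
    ⟨closure ({l} : Set X.left), hLI.isOpen_closure (maximal_of_generic X.hom hl)⟩
  haveI : IsClosedImmersion U.ι :=
    IsClosedImmersion.of_isPreimmersion _ (by rw [Scheme.Opens.range_ι]; exact isClosed_closure)
  have hsub : ((U.ι ≫ X.hom).base ⁻¹' {genericPoint S}).Subsingleton := by
    intro a ha b hb
    have ha' : X.hom.base a.1 = X.hom.base l := by rw [hl]; exact ha
    have hb' : X.hom.base b.1 = X.hom.base l := by rw [hl]; exact hb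
    have e1 : a.1 = l :=
      eq_of_specializes_of_fibre X.hom (specializes_iff_mem_closure.2 a.2) ha'
    have e2 : b.1 = l :=
      eq_of_specializes_of_fibre X.hom (specializes_iff_mem_closure.2 b.2) hb'
    exact Subtype.ext (e1.trans e2.symm)
  have hrange : Set.range (U.ι ≫ X.hom).base = X.hom.base '' closure ({l} : Set X.left) := by
    ext s
    constructor
    · rintro ⟨u, rfl⟩
      exact ⟨u.1, u.2, rfl⟩
    · rintro ⟨c, hc, rfl⟩
      exact ⟨⟨c, hc⟩, rfl⟩
  have hmem : genericPoint S ∈ Set.range (U.ι ≫ X.hom).base := ⟨⟨l, subset_closure rfl⟩, hl⟩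
  have hfin : IsFinite (U.ι ≫ X.hom) := by
    refine Groth.Agent.Helper12.TwFin.isFinite_of_fib''
      (fun S' f hf => (locIrr_of_etale f hS).locallyConnectedSpace) X hX U.ι ?_ ?_
    · rw [hrange]
      exact (isPreconnected_singleton.closure).image _ X.hom.continuous.continuousOn
    · exact ⟨genericPoint S, hmem, hsub.finite⟩
  refine ⟨U, rfl, isClosed_closure, hfin, inferInstance, ?_, hsub⟩
  constructor
  intro s
  have hcl : IsClosed (Set.range (U.ι ≫ X.hom).base) := (U.ι ≫ X.hom).isClosedMap.isClosed_range
  exact (genericPoint_specializes s).mem_closed hcl hmem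

include hS hX in
/-- the closure of a rational point of the generic fibre maps isomorphically to the base -/
theorem exists_section (τ : Spec (S.residueField (genericPoint S)) ⟶ X.left)
    (hτ : τ ≫ X.hom = S.fromSpecResidueField (genericPoint S)) :
    ∃ σ : S ⟶ X.left, σ ≫ X.hom = 𝟙 S ∧ S.fromSpecResidueField (genericPoint S) ≫ σ = τ := by
  obtain ⟨hsep, het, -⟩ := Groth.Agent.S19144.result X hX
  let η := genericPoint S
  let r := S.fromSpecResidueField η
  let pt : Spec (S.residueField η) := IsLocalRing.closedPoint _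
  let l : X.left := τ pt
  have hl : X.hom.base l = η := by
    show X.hom (τ pt) = η
    rw [← Scheme.Hom.comp_apply, hτ]
    exact Scheme.fromSpecResidueField_apply _ _
  obtain ⟨U, hU, hUcl, hUfin, hUet, hUsurj, hUsub⟩ := closure_generic hS X hX l hl
  let p : (U : Scheme.{u}) ⟶ S := U.ι ≫ X.hom
  -- τ factors through U
  have hτU : Set.range τ ⊆ Set.range U.ι := by
    rintro _ ⟨a, rfl⟩
    rw [Scheme.Opens.range_ι, hU]
    have : a = pt := Subsingleton.elim (α := PrimeSpectrum _) _ _
    rw [this]
    exact subset_closure rfl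
  let τ' : Spec (S.residueField η) ⟶ (U : Scheme.{u}) := IsOpenImmersion.lift U.ι τ hτU
  have hτ' : τ' ≫ U.ι = τ := IsOpenImmersion.lift_fac _ _ _
  have hτ'p : τ' ≫ p = r := by
    show τ' ≫ U.ι ≫ X.hom = r
    rw [← Category.assoc, hτ', hτ]
  -- the fibre of p over η
  let q : p.fiber η ⟶ Spec (S.residueField η) := p.fiberToSpecResidueField η
  let σ₀ : Spec (S.residueField η) ⟶ p.fiber η := pullback.lift τ' (𝟙 _) (by rw [hτ'p]; simp [r])
  have hσ₀ : σ₀ ≫ q = 𝟙 _ := pullback.lift_snd _ _ _
  haveI : Etale q := inferInstanceAs (Etale (pullback.snd p (S.fromSpecResidueField η)))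
  haveI : Etale (σ₀ ≫ q) := by rw [hσ₀]; infer_instance
  haveI : Etale σ₀ := Etale.of_comp σ₀ q
  haveI : Mono σ₀ := mono_of_mono_fac hσ₀
  haveI : IsOpenImmersion σ₀ := IsOpenImmersion.of_flat_of_mono σ₀
  haveI : Subsingleton ↥(p.fiber η) := by
    have : Subsingleton ↥(p.base ⁻¹' {η}) := (Set.subsingleton_coe _).2 hUsub
    exact (p.fiberHomeo η).injective.subsingleton
  have hsurj : σ₀.opensRange = ⊤ := by
    rw [eq_top_iff]
    intro y _
    exact ⟨pt, Subsingleton.elim _ _⟩
  haveI : IsIso σ₀ := isIso_of_isOpenImmersion_of_opensRange_eq_top _ hsurj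
  haveI : IsIso q := by
    have : q = inv σ₀ := by rw [← cancel_epi σ₀, hσ₀, IsIso.hom_inv_id]
    rw [this]; infer_instance
  -- rank one
  haveI : IsFinite p := hUfin
  haveI : Etale p := hUet
  have hrank : Scheme.Hom.finrank p = 1 := by
    ext s
    have hlc : IsLocallyConstant (Scheme.Hom.finrank p) := Scheme.Hom.isLocallyConstant_finrank p
    rw [hlc.apply_eq_of_preconnectedSpace s η, Pi.one_apply]
    have h1 := Scheme.Hom.finrank_pullback_snd p (S.fromSpecResidueField η) pt
    have h2 : S.fromSpecResidueField η pt = η := Scheme.fromSpecResidueField_apply _ _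
    rw [h2] at h1
    rw [← h1]
    have h3 : Scheme.Hom.finrank q = 1 := Scheme.Hom.finrank_eq_one_of_isIso q
    exact congrFun h3 pt
  haveI : IsIso p := (Scheme.Hom.isIso_iff_finrank_eq p).2 hrank
  refine ⟨inv p ≫ U.ι, ?_, ?_⟩
  · show inv p ≫ U.ι ≫ X.hom = 𝟙 S
    exact IsIso.inv_hom_id p
  · have : r ≫ inv p = τ' := by rw [← hτ'p, Category.assoc, IsIso.hom_inv_id, Category.comp_id]
    rw [← Category.assoc, this, hτ']

end main

end Groth.Agent.Helper12.TwUni
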