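import Groth.Agent.Lib.Helper12.ComodQuot
import Mathlib.LinearAlgebra.Dimension.RankNullity
import Mathlib.LinearAlgebra.Dimension.Finite
import Mathlib.LinearAlgebra.FiniteDimensional.Lemmas
import Mathlib.Tactic

/-!
Unipotent Hopf algebras: flags with trivial graded pieces (helper12).
-/

set_option autoImplicit false
universe u v w

open scoped TensorProduct

namespace Groth.Agent.Helper12

section Bialg

variable {k : Type u} [CommRing k] {A : Type v} [Ring A] [Bialgebra k A]
variable {V : Type w} [AddCommGroup V] [Module k V] [HopfRep.Comod k A V]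

theorem fixedPts_isSubcomod :
    HopfRep.IsSubcomod (k := k) (A := A) (HopfRep.fixedPts k A V) := by
  intro w hw
  have h : HopfRep.Comod.coact (k := k) (A := A) w = w ⊗ₜ[k] (1 : A) := hw
  rw [h]
  exact ⟨(⟨w, hw⟩ : HopfRep.fixedPts k A V) ⊗ₜ[k] (1 : A), by simp⟩

variable (k A V) in
/-- existence of a flag of subcomodules with trivial graded pieces -/
def HasTrivFlag : Prop :=
  ∃ (m : ℕ) (F : ℕ → Submodule k V), Monotone F ∧ F 0 = ⊥ ∧ F m = ⊤ ∧
    (∀ i, HopfRep.IsSubcomod (k := k) (A := A) (F i)) ∧
    ∀ i, ∀ v ∈ F (i + 1),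
      HopfRep.Comod.coact (k := k) (A := A) v - v ⊗ₜ[k] (1 : A) ∈
        LinearMap.range ((F i).subtype.rTensor A)

end Bialg

theorem hasTrivFlag_of_isUnipotent (k : Type u) (A : Type v) [Field k] [CommRing A]
    [Bialgebra k A] (hU : HopfRep.IsUnipotent k A) :
    ∀ (n : ℕ) (V : Type v) [AddCommGroup V] [Module k V] [HopfRep.Comod k A V]
      [Module.Finite k V], Module.finrank k V = n → HasTrivFlag k A V := by
  intro n
  induction n using Nat.strong_induction_on with
  | _ n ih =>
    intro V _ _ _ _ hn
    rcases subsingleton_or_nontrivial V with hs | hnt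
    · exact ⟨0, fun _ => ⊤, monotone_const, Subsingleton.elim _ _, rfl,
        fun _ => isSubcomod_top, fun i v _ => mem_range_rTensor_top _⟩
    · have hW : HopfRep.fixedPts k A V ≠ ⊥ := hU V inferInstance hnt
      have hWsub : HopfRep.IsSubcomod (k := k) (A := A) (HopfRep.fixedPts k A V) :=
        fixedPts_isSubcomod
      letI := quotComod (HopfRep.fixedPts k A V) hWsub
      have hlt : Module.finrank k (V ⧸ HopfRep.fixedPts k A V) < n := by
        have h1 := Submodule.finrank_quotient_add_finrank (HopfRep.fixedPts k A V)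
        have h2 : 1 ≤ Module.finrank k (HopfRep.fixedPts k A V) :=
          Submodule.one_le_finrank_iff.2 hW
        omega
      obtain ⟨m', F', hmono, h0, hm', hsub, htriv⟩ :=
        ih _ hlt (V ⧸ HopfRep.fixedPts k A V) rfl
      refine ⟨m' + 1, fun i => Nat.casesOn i ⊥
        (fun j => (F' j).comap (HopfRep.fixedPts k A V).mkQ), ?_, rfl, ?_, ?_, ?_⟩
      · apply monotone_nat_of_le_succ
        intro i
        cases i with
        | zero => exact bot_le
        | succ j => exact Submodule.comap_mono (hmono (Nat.le_succ j))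
      · show (F' m').comap (HopfRep.fixedPts k A V).mkQ = ⊤
        rw [hm', Submodule.comap_top]
      · intro i
        cases i with
        | zero => exact isSubcomod_bot
        | succ j => exact comap_mkQ_isSubcomod _ hWsub (F' j) (hsub j)
      · intro i v hv
        cases i with
        | zero =>
          have hv' : (HopfRep.fixedPts k A V).mkQ v ∈ F' 0 := hv
          rw [h0, Submodule.mem_bot, Submodule.mkQ_apply, Submodule.Quotient.mk_eq_zero] at hv'
          have : HopfRep.Comod.coact (k := k) (A := A) v = v ⊗ₜ[k] (1 : A) := hv'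
          rw [this, sub_self]; exact zero_mem _
        | succ j =>
          have hv' : (HopfRep.fixedPts k A V).mkQ v ∈ F' (j + 1) := hv
          have h := htriv j ((HopfRep.fixedPts k A V).mkQ v) hv'
          apply mem_range_rTensor_comap (HopfRep.fixedPts k A V).mkQ (F' j)
          rw [map_sub, LinearMap.rTensor_tmul]
          have e : @HopfRep.Comod.coact k A _ _ _ _ (V ⧸ HopfRep.fixedPts k A V) _ _
              (quotComod (HopfRep.fixedPts k A V) hWsub) ((HopfRep.fixedPts k A V).mkQ v) =
              (HopfRep.fixedPts k A V).mkQ.rTensor A (HopfRep.Comod.coact (k := k) (A := A) v) :=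
            quotCoact_mkQ _ hWsub v
          rw [← e]; exact h

theorem isUnipotent_of_hasTrivFlag (k : Type u) (A : Type v) [Field k] [CommRing A]
    [Bialgebra k A]
    (h : ∀ (V : Type v) [AddCommGroup V] [Module k V] [HopfRep.Comod k A V],
      Module.Finite k V → HasTrivFlag k A V) : HopfRep.IsUnipotent k A := by
  classical
  intro V _ _ _ hfin hnt
  obtain ⟨m, F, hmono, h0, hm, hsub, htriv⟩ := h V hfin
  have hex : ∃ i, F i ≠ ⊥ := ⟨m, by rw [hm]; exact top_ne_bot⟩
  have hfind := Nat.find_spec hex
  have hmin := fun j => Nat.find_min hex (m := j)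
  rcases Nat.eq_zero_or_eq_succ_pred (Nat.find hex) with h1 | h1
  · rw [h1] at hfind; exact absurd h0 hfind
  · have hj : F (Nat.find hex - 1) = ⊥ := by
      by_contra hne
      exact hmin _ (by omega) hne
    rw [h1] at hfind
    intro hbot
    apply hfind
    rw [eq_bot_iff]
    intro v hv
    have h2 := htriv _ v hv
    have h3 := range_rTensor_bot _ hj _ h2
    have h4 : v ∈ HopfRep.fixedPts k A V := sub_eq_zero.1 h3
    rw [hbot] at h4
    exact h4

end Groth.Agent.Helper12
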