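import Mathlib
import Groth.Prelude.Def_RelSpec
import Groth.Agent.Lib.Helper12.RelProjGlue
import Groth.Agent.Lib.Helper12.RelConeBasic
import Groth.Agent.Lib.Helper13.EpiStalk
import Groth.Agent.Lib.Helper13.QCohStalk

/-!
# Vector bundles `V(E) = Spec Sym(E)`: general lemmas

* `specMap_of_chartwise`: a target-local property of `RelSpec.QCAlg.specMap φ` can be checked on
  the charts `Spec.map (φ_U)`.
* `π_of_chartwise`: a source-local property of `A.π` can be checked on the charts.
* `app_surjective_of_epi`: an epimorphism of quasi-coherent modules is surjective on sections over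
  affine opens.
* `SymmetricAlgebra` of a finite module is an algebra of finite type.
-/

set_option autoImplicit false
universe u
open CategoryTheory CategoryTheory.Limits AlgebraicGeometry TopologicalSpace Opposite

namespace Groth.Agent.Helper12.VecBun

variable {S : Scheme.{u}}

/-- A property local at the target holds for `specMap φ` if it holds on all charts. -/
theorem specMap_of_chartwise {P : MorphismProperty Scheme.{u}} [IsZariskiLocalAtTarget P]
    {A B : RelSpec.QCAlg S} (φ : A ⟶ B)
    (H : ∀ (U : S.Opens) (_ : IsAffineOpen U), P (Spec.map (φ.hom.app (op U)))) :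
    P (RelSpec.QCAlg.specMap φ) := by
  refine Groth.Agent.Helper12.RelProjGlue.of_local_squares (RelSpec.QCAlg.specMap φ)
    (fun U : S.affineOpens => (A.ι U.1 U.2).opensRange)
    (Groth.Agent.Helper12.RelConeBasic.iSup_opensRange_ι A)
    (fun U => Spec (B.presheaf.obj (op U.1))) (fun U => B.ι U.1 U.2)
    (fun U => Spec.map (φ.hom.app (op U.1)) ≫ (A.ι U.1 U.2).isoOpensRange.hom) ?_ ?_ ?_
  · intro U
    rw [Category.assoc, Scheme.Hom.isoOpensRange_hom_ι]
    exact RelSpec.QCAlg.ι_specMap U.1 U.2 φ
  · intro U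
    rw [← A.π_preimage U.1 U.2, ← Scheme.Hom.comp_preimage, RelSpec.QCAlg.specMap_π,
      B.π_preimage U.1 U.2]
  · intro U
    rw [P.cancel_right_of_respectsIso]
    exact H U.1 U.2

/-- A property local at the source holds for `A.π` if it holds on all charts. -/
theorem π_of_chartwise {P : MorphismProperty Scheme.{u}} [IsZariskiLocalAtSource P]
    (A : RelSpec.QCAlg S)
    (H : ∀ (U : S.Opens) (hU : IsAffineOpen U), P (Spec.map (A.str.app (op U)) ≫ hU.fromSpec)) :
    P A.π := by
  refine IsZariskiLocalAtSource.of_openCover (P := P) A.glueData.cover ?_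
  intro U
  have h := A.ι_π U.1 U.2
  change P (A.ι U.1 U.2 ≫ A.π)
  rw [h]
  exact H U.1 U.2

open Groth.Agent.Helper13.QCoh Groth.Agent.Helper13.FinType in
/-- An epimorphism of quasi-coherent modules is surjective on sections over affine opens. -/
theorem app_surjective_of_epi {X : Scheme.{u}} {E F : X.Modules} [E.IsQuasicoherent]
    [F.IsQuasicoherent] (φ : E ⟶ F) [Epi φ] {U : X.Opens} (hU : IsAffineOpen U) :
    Function.Surjective (φ.app U) := by
  intro t
  -- the ideal of functions multiplying `t` into the image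
  let I : Ideal Γ(X, U) :=
    { carrier := {r | ∃ s : Γ(E, U), φ.app U s = r • t}
      add_mem' := by
        rintro a b ⟨s, hs⟩ ⟨s', hs'⟩
        exact ⟨s + s', by rw [map_add, hs, hs', add_smul]⟩
      zero_mem' := ⟨0, by rw [map_zero, zero_smul]⟩
      smul_mem' := by
        rintro c a ⟨s, hs⟩
        exact ⟨c • s, by rw [Scheme.Modules.Hom.app_smul, hs, smul_smul, smul_eq_mul]⟩ }
  have hcov : U ≤ ⨆ f : (I : Set Γ(X, U)), X.basicOpen (f : Γ(X, U)) := by
    intro x hx
    obtain ⟨m, hm⟩ := stalkMap_surjective_of_epi φ x (F.presheaf.germ U x hx t)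
    obtain ⟨g₁, hxg₁, s, hs⟩ := exists_germ_smul_eq E hU x hx m
    have h1 : F.presheaf.germ U x hx (φ.app U s - g₁ • t) = 0 := by
      rw [map_sub, ← stalkMap_germ, ← hs, stalkMap_smul, hm, germ_smul, sub_self]
    obtain ⟨g₂, hxg₂, hg₂⟩ := exists_smul_eq_zero_of_germ_eq_zero F hU x hx _ h1
    have hmem : g₂ * g₁ ∈ I := by
      refine ⟨g₂ • s, ?_⟩
      rw [Scheme.Modules.Hom.app_smul, mul_smul]
      rw [smul_sub, sub_eq_zero] at hg₂
      exact hg₂
    rw [Opens.mem_iSup]
    refine ⟨⟨g₂ * g₁, hmem⟩, ?_⟩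
    change x ∈ X.basicOpen (g₂ * g₁)
    rw [Scheme.basicOpen_mul]
    exact ⟨hxg₂, hxg₁⟩
  have hspan : Ideal.span (I : Set Γ(X, U)) = ⊤ := hU.self_le_iSup_basicOpen_iff.mp hcov
  rw [Ideal.span_eq] at hspan
  have h1 : (1 : Γ(X, U)) ∈ I := by rw [hspan]; exact Submodule.mem_top
  obtain ⟨s, hs⟩ := h1
  exact ⟨s, by rw [hs, one_smul]⟩

/-- The symmetric algebra of a finite module is of finite type. -/
theorem finiteType_symmetricAlgebra (R M : Type*) [CommRing R] [AddCommGroup M] [Module R M]
    [Module.Finite R M] : Algebra.FiniteType R (SymmetricAlgebra R M) := by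
  classical
  obtain ⟨s, hs⟩ := (Module.Finite.fg_top : (⊤ : Submodule R M).FG)
  refine ⟨⟨s.image (SymmetricAlgebra.ι R M), ?_⟩⟩
  rw [eq_top_iff]
  intro a _
  have hι : ∀ x : M, SymmetricAlgebra.ι R M x ∈
      Algebra.adjoin R ((s.image (SymmetricAlgebra.ι R M) : Finset _) : Set (SymmetricAlgebra R M)) := by
    intro x
    have hx : x ∈ Submodule.span R (s : Set M) := by rw [hs]; exact Submodule.mem_top
    refine Submodule.span_induction ?_ ?_ ?_ ?_ hx
    · intro y hy
      apply Algebra.subset_adjoin
      rw [Finset.coe_image]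
      exact ⟨y, hy, rfl⟩
    · rw [map_zero]; exact Subalgebra.zero_mem _
    · intro y z _ _ hy hz
      rw [map_add]; exact Subalgebra.add_mem _ hy hz
    · intro r y _ hy
      rw [map_smul]; exact Subalgebra.smul_mem _ hy r
  induction a using SymmetricAlgebra.induction with
  | algebraMap r => exact Subalgebra.algebraMap_mem _ r
  | ι x => exact hι x
  | mul a b ha hb => exact Subalgebra.mul_mem _ (ha trivial) (hb trivial)
  | add a b ha hb => exact Subalgebra.add_mem _ (ha trivial) (hb trivial)

end Groth.Agent.Helper12.VecBun
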